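import Mathlib
import Cfsg.Agent.H0.LP2

/-!
# Fischer spaces with unitary residues: the `μ`-set as a set of vectors
-/

set_option autoImplicit false
set_option linter.unusedSectionVars false

namespace H20
namespace FU

open H0 H15 H15.Form

/-- the standard hermitian form over `F4`, computably -/
def bf {n : ℕ} (u v : Fin n → F4) : F4 := ∑ i, v i * (u i * u i)

theorem B_eq {n : ℕ} (u v : Fin n → F4) : (unForm F4.card n).B u v = bf u v := by
  simp only [unForm_B', F4.frob_eq, bf]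

/-- a product of transvections -/
def tl {n : ℕ} : List (Fin n → F4) → (Fin n → F4) → Fin n → F4
  | [], v => v
  | p :: l, v => tl l v + bf p (tl l v) • p

theorem bf_smul_right {n : ℕ} (c : F4) (u v : Fin n → F4) : bf u (c • v) = c * bf u v := by
  rw [← B_eq, ← B_eq, map_smul, smul_eq_mul]

theorem bf_smul_left {n : ℕ} (c : F4) (u v : Fin n → F4) : bf (c • u) v = c * c * bf u v := by
  rw [← B_eq, ← B_eq, LinearMap.map_smulₛₗ₂, F4.frob_eq, smul_eq_mul]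

theorem cube : ∀ c : F4, c ≠ 0 → c * c * c = 1 := by decide

theorem tl_smul {n : ℕ} (l : List (Fin n → F4)) (c : F4) (v : Fin n → F4) :
    tl l (c • v) = c • tl l v := by
  induction l with
  | nil => rfl
  | cons p l ih => simp only [tl, ih, bf_smul_right, smul_add, smul_smul]

theorem t_smul {n : ℕ} {c : F4} (hc : c ≠ 0) (p v : Fin n → F4) :
    bf (c • p) v • c • p = bf p v • p := by
  rw [bf_smul_left, smul_smul, mul_right_comm, cube c hc, one_mul]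

/-- the properties of the set of vectors of a `μ`-set -/
structure Hy {n : ℕ} (S : Set (Fin n → F4)) : Prop where
  pt : ∀ v ∈ S, v ≠ 0 ∧ bf v v = 0
  smul : ∀ v ∈ S, ∀ c : F4, c ≠ 0 → c • v ∈ S
  cj : ∀ v ∈ S, ∀ w ∈ S, w + bf v w • v ∈ S
  ex : ∀ y ∈ S, ∀ z, bf z z = 0 → bf y z = 0 → (∀ c : F4, z ≠ c • y) → ∃ c : F4, z + c • y ∈ S
  uniq : ∀ y ∈ S, ∀ z ∈ S, bf y z = 0 → (∀ c : F4, z ≠ c • y) → ∀ c : F4, z + c • y ∈ S → c = 0
  stab : ∀ y ∈ S, ∀ l : List (Fin n → F4), (∀ p ∈ l, p ≠ 0 ∧ bf p p = 0) → tl l y = y →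
    (∀ v ∈ S, bf y v = 0 → tl l v ∈ S) → ∀ v ∈ S, tl l v ∈ S

variable {G : Type*} [Group G] [Finite G] {D E : Set G} {n : ℕ}

/-- the vectors of the points of `H` commuting with `a` -/
def SS (H : Set G) (φ : G → Fin n → F4) (a : G) : Set (Fin n → F4) :=
  {v | ∃ x ∈ H, Commute x a ∧ ∃ c : F4, c ≠ 0 ∧ v = c • φ x}

theorem model_isom {H : Set G} {φ : G → Fin n → F4} (M : Model H (unForm F4.card n) φ)
    (g : (unForm F4.card n).Isom) : Model H (unForm F4.card n) fun x => g.1 (φ x) := by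
  refine ⟨fun x hx z hz => by rw [Isom.map_B]; exact M.1 x hx z hz, fun p hp => ?_⟩
  obtain ⟨x, hx, c, hc, e⟩ := M.2 _ (hp.map g⁻¹)
  exact ⟨x, hx, c, hc, by rw [← map_smul, ← e, Isom.apply_inv_apply]⟩

theorem SS_isom {H : Set G} {φ : G → Fin n → F4} {a : G} (g : (unForm F4.card n).Isom)
    {v : Fin n → F4} (hv : v ∈ SS H φ a) : g.1 v ∈ SS H (fun x => g.1 (φ x)) a := by
  obtain ⟨x, hx, h1, c, hc, rfl⟩ := hv
  exact ⟨x, hx, h1, c, hc, map_smul _ _ _⟩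

theorem lift {H : Set G} (h : LP D H) {φ : G → Fin n → F4} (M : Model H (unForm F4.card n) φ)
    (l : List (Fin n → F4)) (hl : ∀ p ∈ l, p ≠ 0 ∧ bf p p = 0) :
    ∃ g ∈ Subgroup.closure H, ∀ x ∈ H, ∃ c : F4, c ≠ 0 ∧ φ (cj g x) = c • tl l (φ x) := by
  have hΦ := tf_un F4.card n
  induction l with
  | nil => exact ⟨1, one_mem _, fun x _ => ⟨1, one_ne_zero, by simp [tl]⟩⟩
  | cons p l ih =>
    obtain ⟨g, hg, h1⟩ := ih fun q hq => hl q (List.mem_cons_of_mem _ hq)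
    obtain ⟨h2, h3⟩ := hl p List.mem_cons_self
    obtain ⟨x0, hx0, s, hs, e⟩ := h.model_surj hΦ (fun _ => rfl) M h2 (by rw [B_eq, h3])
    refine ⟨x0 * g, mul_mem (Subgroup.subset_closure hx0) hg, fun x hx => ?_⟩
    obtain ⟨c, hc, e1⟩ := h1 x hx
    obtain ⟨c', hc', e2⟩ := h.model_cj hΦ (fun _ => rfl) M (h.thick_of_MU ⟨φ, M⟩) hx0
      (h.conj hx hg)
    refine ⟨c' * c, mul_ne_zero hc' hc, ?_⟩
    rw [← cj_cj, e2, B_eq, e, t_smul hs, e1, bf_smul_right, tl, mul_smul c', smul_add c, smul_smul c]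

theorem hy_SS (h : LP D E) (hr : ∀ d ∈ E, LP D (Dx E d) ∧ MU (Dx E d) n) {d a : G} (hd : d ∈ E)
    (ha : a ∈ E) (hda : ¬ Commute d a) {φ : G → Fin n → F4}
    (M : Model (Dx E d) (unForm F4.card n) φ) : Hy (SS (Dx E d) φ a) := by
  have hΦ := tf_un F4.card n
  have hQ : ∀ v, (unForm F4.card n).Q v = (unForm F4.card n).τ := fun _ => rfl
  have H := (hr d hd).1
  have hr' : ∀ d ∈ E, LP D (Dx E d) ∧ Thick (Dx E d) := fun d hd =>
    ⟨(hr d hd).1, (hr d hd).1.thick_of_MU (hr d hd).2⟩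
  have hcomm : ∀ x ∈ Dx E d, ∀ z ∈ Dx E d, Commute x z ↔ bf (φ x) (φ z) = 0 := fun x hx z hz => by
    rw [M.1 x hx z hz, B_eq]
  have hpt : ∀ x ∈ Dx E d, φ x ≠ 0 := fun x hx => (H.model_pt hΦ hQ M hx).1
  refine ⟨?_, ?_, ?_, ?_, ?_, ?_⟩
  · rintro _ ⟨x, hx, -, c, hc, rfl⟩
    refine ⟨smul_ne_zero hc (hpt x hx), ?_⟩
    rw [bf_smul_left, bf_smul_right, (hcomm x hx x hx).1 (Commute.refl x), mul_zero, mul_zero]
  · rintro _ ⟨x, hx, h1, c, hc, rfl⟩ s hs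
    exact ⟨x, hx, h1, s * c, mul_ne_zero hs hc, smul_smul _ _ _⟩
  · rintro _ ⟨x, hx, h1, c, hc, rfl⟩ _ ⟨z, hz, h2, s, hs, rfl⟩
    obtain ⟨k, hk, e⟩ := H.model_cj hΦ hQ M (hr' d hd).2 hx hz
    refine ⟨cj x z, H.cj_mem hx hz, (TT.commute_cj_of h1.symm h2.symm).symm, s * k⁻¹,
      mul_ne_zero hs (inv_ne_zero hk), ?_⟩
    rw [t_smul hc, e, B_eq, smul_smul, inv_mul_cancel_right₀ hk, bf_smul_right, smul_add, smul_smul]
  · rintro _ ⟨y, hy, h1, s, hs, rfl⟩ z hz hyz hne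
    obtain ⟨z0, hz0, c, hc, e⟩ := H.model_surj hΦ hQ M (p := z)
      (fun e => hne 0 (by rw [e, zero_smul])) (by rw [B_eq, hz])
    have hc0 : Commute y z0 := (hcomm y hy z0 hz0).2 (by
      rw [bf_smul_left, mul_eq_zero] at hyz
      rw [e, bf_smul_right, hyz.resolve_left (mul_ne_zero hs hs), mul_zero])
    have hzy : z0 ≠ y := by
      rintro rfl
      exact hne (c⁻¹ * s⁻¹) (by
        rw [smul_smul, inv_mul_cancel_right₀ hs, e, smul_smul, inv_mul_cancel₀ hc, one_smul])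
    obtain ⟨m, ⟨hm, hmy, hma⟩, -⟩ := h.sect hr' hd ha hda hy h1 ⟨hz0, hzy, hc0⟩
    obtain ⟨α, β, e1⟩ := H.model_span hΦ hQ M hy hz0 hc0 hm
    have hβ : β ≠ 0 := by
      rintro rfl
      exact hmy (H.model_inj hΦ hQ M hm.1 hy (c := α) (by rw [e1, zero_smul, add_zero]))
    refine ⟨(β * c)⁻¹ * α * s⁻¹, m, hm.1, hma, (β * c)⁻¹, inv_ne_zero (mul_ne_zero hβ hc), ?_⟩
    rw [e1, e, smul_add, smul_smul, smul_smul, smul_smul, smul_smul, inv_mul_cancel_right₀ hs,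
      mul_assoc, inv_mul_cancel₀ (mul_ne_zero hβ hc), one_smul, add_comm]
  · rintro _ ⟨y, hy, h1, s, hs, rfl⟩ _ ⟨z, hz, h2, s', hs', rfl⟩ hyz hne c ⟨m, hm, h3, k, hk, e⟩
    have hc0 : Commute y z := (hcomm y hy z hz).2 (by
      rw [bf_smul_left, bf_smul_right] at hyz
      simpa [hs, hs'] using hyz)
    have hzy : z ≠ y := by
      rintro rfl
      exact hne (s' * s⁻¹) (by rw [smul_smul, inv_mul_cancel_right₀ hs])
    have hmy : m ≠ y := by
      rintro rfl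
      exact hne (k * s⁻¹ - c) (by
        rw [sub_smul, smul_smul, inv_mul_cancel_right₀ hs, ← e, add_sub_cancel_right])
    have hmL : m ∈ Ln (Dx E d) y z := H.model_Ln hΦ hQ M hy hz hm (a := k⁻¹ * (c * s))
      (b := k⁻¹ * s') (by
        rw [mul_smul, mul_smul, mul_smul, ← smul_add, add_comm, e, smul_smul, inv_mul_cancel₀ hk,
          one_smul])
    obtain rfl : m = z := (h.sect hr' hd ha hda hy h1 ⟨hz, hzy, hc0⟩).unique ⟨hmL, hmy, h3⟩
      ⟨right_mem_Ln hz, hzy, h2⟩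
    by_contra hc
    refine hzy (H.model_inj hΦ hQ M hy hz (c := (c * s)⁻¹ * (k - s')) ?_).symm
    rw [mul_smul, sub_smul, ← e, add_sub_cancel_left, smul_smul, smul_smul, mul_assoc,
      inv_mul_cancel₀ (mul_ne_zero hc hs), one_smul]
  · rintro _ ⟨y, hy, h1, s, hs, rfl⟩ l hl hly hS
    obtain ⟨g, hg, hφ⟩ := lift H M l hl
    have hgE : g ∈ Subgroup.closure E := Subgroup.closure_mono (Dx_subset E d) hg
    have hgd : Commute g d := by
      refine Subgroup.closure_induction (p := fun g _ => Commute g d) (fun x hx => hx.2.2.symm)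
        (Commute.one_left _) (fun _ _ _ _ => Commute.mul_left) (fun _ _ => Commute.inv_left) hg
    have hgy : cj g y = y := by
      obtain ⟨c, -, e⟩ := hφ y hy
      rw [tl_smul, smul_right_inj hs] at hly
      exact H.model_inj hΦ hQ M (H.conj hy hg) hy (c := c) (by rw [e, hly])
    have hd' : d ∈ Dx E y := ⟨hd, hy.2.1.symm, hy.2.2.symm⟩
    have ha' : a ∈ Dx E y := ⟨ha, fun e => hda (e ▸ hy.2.2), h1⟩
    have hL : cj g⁻¹ a ∈ Ln (Dx E y) d a := by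
      refine ⟨(h.mem_Dx_cj hgE).1 (by rwa [cj_cj_inv, hgy]), fun w hw h2 h3 => ?_⟩
      have hwH : w ∈ Dx E d := ⟨hw.1, fun e => hda (e ▸ h3), h2.symm⟩
      obtain ⟨x', hx', h4, c', -, e1⟩ := hS (φ w) ⟨w, hwH, h3, 1, one_ne_zero, (one_smul _ _).symm⟩
        (by rw [bf_smul_left, (hcomm y hy w hwH).1 hw.2.2, mul_zero])
      obtain ⟨c, -, e⟩ := hφ w hwH
      have := H.model_inj hΦ hQ M (H.conj hwH hg) hx' (c := c * c') (by rw [e, e1, smul_smul])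
      rw [← commute_cj (g := g), cj_cj_inv, this]
      exact h4
    rintro _ ⟨x, hx, h2, k, hk, rfl⟩
    obtain ⟨c, hc, e⟩ := hφ x hx
    refine ⟨cj g x, H.conj hx hg, ?_, k * c⁻¹, mul_ne_zero hk (inv_ne_zero hc), by
      rw [e, smul_smul, inv_mul_cancel_right₀ hc, tl_smul]⟩
    rw [← cj_cj_inv g a, commute_cj]
    rcases (hr' y hy.1).1.hyp_line (hr' y hy.1).2 hd' ha' hda hL with e1 | e1 | e1
    · exfalso
      apply hda
      rw [← cj_cj_inv g a, e1, cj_of_commute hgd]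
    · rw [e1]; exact h2
    · rw [e1]; exact TT.commute_cj_of hx.2.2.symm h2

/-- every isotropic vector lies in a `μ`-set -/
theorem exists_SS (h : LP D E) (hr : ∀ d ∈ E, LP D (Dx E d) ∧ MU (Dx E d) n) {y : Fin n → F4}
    (hy : y ≠ 0) (hyy : bf y y = 0) :
    ∃ d ∈ E, ∃ a ∈ E, ¬ Commute d a ∧ ∃ φ : G → Fin n → F4,
      Model (Dx E d) (unForm F4.card n) φ ∧ y ∈ SS (Dx E d) φ a := by
  obtain ⟨d, hd⟩ := h.nonempty
  obtain ⟨H, φ, M⟩ := hr d hd
  obtain ⟨x, hx, c, hc, e⟩ := H.model_surj (tf_un F4.card n) (fun _ => rfl) M hy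
    (by rw [B_eq, hyy])
  obtain ⟨a, ha, had⟩ := h.sep hx.1 hd hx.2.1
  exact ⟨d, hd, a, ha.1, fun e => had e.symm, φ, M, x, hx, ha.2.2, c⁻¹, inv_ne_zero hc, by
    rw [e, smul_smul, inv_mul_cancel₀ hc, one_smul]⟩

end FU
end H20
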