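import Mathlib
import Cfsg.Agent.H20.FU1

/-!
# Fischer spaces with unitary residues: the computations
-/

set_option autoImplicit false
set_option linter.unusedSectionVars false

namespace H20
namespace FU

open H0 H15 H15.Form

/-- explicit vectors over `F4` -/
def vec {n : ℕ} (l : Fin n → Fin 4) : Fin n → F4 := l

/-- a primitive cube root of unity -/
def om : F4 := (2 : Fin 4)

theorem bf_append {m k : ℕ} (a a' : Fin m → F4) (b b' : Fin k → F4) :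
    bf (Fin.append a b) (Fin.append a' b') = bf a a' + bf b b' := by
  simp only [bf, Fin.sum_univ_add, Fin.append_left, Fin.append_right]

theorem append_lin {m k : ℕ} (c : F4) (a a' : Fin m → F4) (b b' : Fin k → F4) :
    Fin.append a b + c • Fin.append a' b' = Fin.append (a + c • a') (b + c • b') := by
  funext i
  refine Fin.addCases (fun j => ?_) (fun j => ?_) i <;> simp

/-- the vector `ι u + l y₀` -/
def mk (k : ℕ) (l : F4) (u : Fin 5 → F4) : Fin (2 + (5 + k)) → F4 :=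
  Fin.append (fun _ => l) (Fin.append u 0)

theorem two_zero : ∀ a : F4, a + a = 0 := by decide

theorem bf_mk (k : ℕ) (l l' : F4) (u u' : Fin 5 → F4) : bf (mk k l u) (mk k l' u') = bf u u' := by
  rw [mk, mk, bf_append, bf_append, bf, Fin.sum_univ_two, two_zero, zero_add]
  simp [bf]

theorem mk_lin (k : ℕ) (c l l' : F4) (u u' : Fin 5 → F4) :
    mk k l u + c • mk k l' u' = mk k (l + c * l') (u + c • u') := by
  rw [mk, mk, append_lin, append_lin, smul_zero, add_zero]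
  rfl

theorem mk_ne {k : ℕ} {l l' : F4} {u u' : Fin 5 → F4} (h : ∀ c : F4, u ≠ c • u') (c : F4) :
    mk k l u ≠ c • mk k l' u' := fun e => h c (funext fun i => by
  simpa [mk] using congrFun e (Fin.natAdd 2 (Fin.castAdd k i)))

theorem big {k : ℕ} {S : Set (Fin (2 + (5 + k)) → F4)} (h : Hy S) (hy : mk k 1 0 ∈ S) : False := by
  have ex : ∀ u : Fin 5 → F4, bf u u = 0 → u ≠ 0 → ∃ l, mk k l u ∈ S := fun u h1 h2 => by
    obtain ⟨c, hc⟩ := h.ex _ hy (mk k 0 u) (by rw [bf_mk, h1]) (by rw [bf_mk]; simp [bf])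
      (mk_ne fun c => by rwa [smul_zero])
    rw [mk_lin, smul_zero, add_zero] at hc
    exact ⟨_, hc⟩
  have st : ∀ {l l' : F4} {u u' : Fin 5 → F4} (c : F4) (w : Fin 5 → F4), mk k l u ∈ S →
      mk k l' u' ∈ S → bf u u' = c → u' + c • u = w → mk k (l' + c * l) w ∈ S := by
    rintro l l' u u' _ _ h1 h2 rfl rfl
    have := h.cj _ h1 _ h2
    rwa [bf_mk, mk_lin] at this
  obtain ⟨l1, h1⟩ := ex (vec ![1,3,0,3,2]) (by decide) (by decide)
  obtain ⟨l2, h2⟩ := ex (vec ![0,1,1,1,1]) (by decide) (by decide)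
  obtain ⟨l3, h3⟩ := ex (vec ![1,0,2,2,1]) (by decide) (by decide)
  obtain ⟨l4, h4⟩ := ex (vec ![0,1,2,2,2]) (by decide) (by decide)
  have h5 := st 1 (vec ![1,1,3,3,0]) h2 h3 (by decide) (by decide)
  have h6 := st (om * om) (vec ![3,3,1,3,0]) h1 h2 (by decide) (by decide)
  have h7 := st om (vec ![2,1,1,1,0]) h3 h4 (by decide) (by decide)
  have h8 := st om (vec ![3,0,3,0,0]) h6 h7 (by decide) (by decide)
  have h9 := st om (vec ![1,3,0,3,2] + (1 : F4) • vec ![0,1,2,2,2]) h5 h8 (by decide) (by decide)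
  have e : ∀ l1 l2 l3 l4 : F4, l4 + om * l3 + om * (l2 + om * om * l1) + om * (l3 + 1 * l2) =
      l1 + 1 * l4 := by decide +kernel
  rw [e, ← mk_lin] at h9
  exact one_ne_zero (h.uniq _ h4 _ h1 (by rw [bf_mk]; decide) (mk_ne (by decide)) 1 h9)

/-- the frame for `n = 5` -/
def fr (l1 l2 l3 : F4) : Fin 4 → Fin 5 → F4 :=
  ![vec ![1,1,0,0,0], vec ![0,0,1,1,0] + l1 • vec ![1,1,0,0,0],
    vec ![0,0,1,2,0] + l2 • vec ![1,1,0,0,0], vec ![0,0,0,1,1] + l3 • vec ![1,1,0,0,0]]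

theorem fr_li (l1 l2 l3 : F4) : LinearIndependent F4 (fr l1 l2 l3) := by
  rw [Fintype.linearIndependent_iff]
  intro g hg
  have key : ∀ a b c d : F4, a • vec ![1,1,0,0,0] + b • vec ![0,0,1,1,0] + c • vec ![0,0,1,2,0] +
      d • vec ![0,0,0,1,1] = 0 → a = 0 ∧ b = 0 ∧ c = 0 ∧ d = 0 := by decide +kernel
  have lin : ∀ (a b c d : F4) (y u v w : Fin 5 → F4), a • y + b • (u + l1 • y) + c • (v + l2 • y) +
      d • (w + l3 • y) = (a + b * l1 + c * l2 + d * l3) • y + b • u + c • v + d • w := by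
    intros; module
  rw [Fin.sum_univ_four] at hg
  obtain ⟨k0, k1, k2, k3⟩ := key _ _ _ _ ((lin _ _ _ _ _ _ _ _).symm.trans hg)
  rw [k1, k2, k3, zero_mul, zero_mul, zero_mul, add_zero, add_zero, add_zero] at k0
  intro i
  fin_cases i
  exacts [k0, k1, k2, k3]

theorem fr_gram : ∀ l1 l2 l3 : F4, ∀ i j, bf (fr 0 0 0 i) (fr 0 0 0 j) =
    bf (fr l1 l2 l3 i) (fr l1 l2 l3 j) := by decide +kernel

/-- the nine points of `W` -/
def W9 : List (Fin 5 → F4) := [vec ![0,0,1,1,0], vec ![0,0,1,2,0], vec ![0,0,0,1,1],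
  vec ![0,0,2,1,0], vec ![0,0,1,0,1], vec ![0,0,3,0,1], vec ![0,0,0,2,1], vec ![0,0,0,3,1],
  vec ![0,0,2,0,1]]

/-- the word in transvections -/
def wd : List (Fin 5 → F4) := [vec ![0,1,0,0,1], vec ![0,1,0,0,2], vec ![0,1,1,1,3],
  vec ![0,1,3,3,2]]

theorem W9_all : ∀ a b c : F4, (![0, 0, a, b, c] : Fin 5 → F4) ≠ 0 →
    bf ![0, 0, a, b, c] ![0, 0, a, b, c] = 0 →
    (∃ s : F4, s ≠ 0 ∧ ∃ p ∈ W9, ![0, 0, a, b, c] = s • p) ∧
    ∃ s : F4, s ≠ 0 ∧ ∃ p ∈ W9, tl wd ![0, 0, a, b, c] = s • p := by decide +kernel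

theorem small_W {S : Set (Fin 5 → F4)} (h : Hy S) (h1 : vec ![0,0,1,1,0] ∈ S)
    (h2 : vec ![0,0,1,2,0] ∈ S) (h3 : vec ![0,0,0,1,1] ∈ S) : ∀ p ∈ W9, p ∈ S := by
  have st : ∀ {u u' : Fin 5 → F4} (w : Fin 5 → F4), u ∈ S → u' ∈ S → u' + bf u u' • u = w →
      w ∈ S := by
    rintro u u' _ h1 h2 rfl
    exact h.cj _ h1 _ h2
  have h4 := st (vec ![0,0,2,1,0]) h1 h2 (by decide +kernel)
  have h5 := st (vec ![0,0,1,0,1]) h1 h3 (by decide +kernel)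
  have h6 := st (vec ![0,0,3,0,1]) h2 h3 (by decide +kernel)
  have h7 := st (vec ![0,0,0,2,1]) h2 h5 (by decide +kernel)
  have h8 := st (vec ![0,0,0,3,1]) h1 h6 (by decide +kernel)
  have h9 := st (vec ![0,0,2,0,1]) h1 h7 (by decide +kernel)
  simp only [W9, List.mem_cons, List.not_mem_nil, or_false]
  rintro _ (rfl | rfl | rfl | rfl | rfl | rfl | rfl | rfl | rfl)
  exacts [h1, h2, h3, h4, h5, h6, h7, h8, h9]

theorem perp_form : ∀ a b c d e : F4, bf (vec ![1,1,0,0,0]) ![a, b, c, d, e] = 0 →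
    ![a, b, c, d, e] = ![0, 0, c, d, e] + a • vec ![1,1,0,0,0] := by decide +kernel

theorem perp_facts : ∀ a c d e : F4, (bf (![0, 0, c, d, e] + a • vec ![1,1,0,0,0])
    (![0, 0, c, d, e] + a • vec ![1,1,0,0,0]) = bf ![0, 0, c, d, e] ![0, 0, c, d, e]) ∧
    bf (vec ![1,1,0,0,0]) ![0, 0, c, d, e] = 0 ∧ ((![0, 0, c, d, e] : Fin 5 → F4) ≠ 0 →
      ![0, 0, c, d, e] ≠ a • vec ![1,1,0,0,0]) := by decide +kernel

theorem wd_fix : tl wd (vec ![1,1,0,0,0]) = vec ![1,1,0,0,0] := by decide +kernel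

theorem wd_move : ∀ c : F4, tl wd (vec ![1,0,0,0,1] + c • vec ![0,0,1,1,0]) =
    (vec ![1,0,0,0,1] + c • vec ![0,0,1,1,0]) + (1 : F4) • vec ![0,0,1,1,0] ∧
    bf (vec ![0,0,1,1,0]) (vec ![1,0,0,0,1] + c • vec ![0,0,1,1,0]) = 0 ∧
    ∀ c' : F4, vec ![1,0,0,0,1] + c • vec ![0,0,1,1,0] ≠ c' • vec ![0,0,1,1,0] := by
  decide +kernel

theorem small_st {S : Set (Fin 5 → F4)} (h : Hy S) (h0 : vec ![1,1,0,0,0] ∈ S)
    (hW : ∀ p ∈ W9, p ∈ S) (a c d e : F4) (hv : ![0, 0, c, d, e] + a • vec ![1,1,0,0,0] ∈ S) :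
    tl wd (![0, 0, c, d, e] + a • vec ![1,1,0,0,0]) ∈ S := by
  by_cases hw : (![0, 0, c, d, e] : Fin 5 → F4) = 0
  · rw [hw, zero_add] at hv ⊢
    rwa [tl_smul, wd_fix]
  obtain ⟨⟨s, hs, p, hp, e1⟩, s', hs', p', hp', e2⟩ := W9_all _ _ _ hw
    ((perp_facts a c d e).1.symm.trans (h.pt _ hv).2)
  have h1 : ![0, 0, c, d, e] ∈ S := by rw [e1]; exact h.smul p (hW p hp) s hs
  have := h.uniq _ h0 _ h1 (perp_facts 0 c d e).2.1 (fun a => (perp_facts a c d e).2.2 hw) a hv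
  rw [this, zero_smul, add_zero, e2]
  exact h.smul p' (hW p' hp') s' hs'

theorem small {S : Set (Fin 5 → F4)} (h : Hy S) (hy : ∀ i, fr 0 0 0 i ∈ S) : False := by
  have h0 : vec ![1,1,0,0,0] ∈ S := hy 0
  have z : ∀ u y : Fin 5 → F4, u + (0 : F4) • y ∈ S → u ∈ S := fun u y e => by
    rwa [zero_smul, add_zero] at e
  have h1 : vec ![0,0,1,1,0] ∈ S := z _ _ (hy 1)
  have hW := small_W h h1 (z _ _ (hy 2)) (z _ _ (hy 3))
  have hst := h.stab _ h0 wd (by decide +kernel) wd_fix fun v hv hb => by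
    obtain ⟨a, b, c, d, e, rfl⟩ : ∃ a b c d e, v = ![a, b, c, d, e] :=
      ⟨v 0, v 1, v 2, v 3, v 4, by funext i; fin_cases i <;> rfl⟩
    rw [perp_form _ _ _ _ _ hb] at hv ⊢
    exact small_st h h0 hW _ _ _ _ hv
  obtain ⟨c, hc⟩ := h.ex _ h1 (vec ![1,0,0,0,1]) (by decide +kernel) (by decide +kernel)
    (by decide +kernel)
  have h2 := hst _ hc
  rw [(wd_move c).1] at h2
  exact one_ne_zero (h.uniq _ h1 _ hc (wd_move c).2.1 (wd_move c).2.2 1 h2)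

variable {G : Type*} [Group G] [Finite G] {D E : Set G}

theorem u_five (h : LP D E) (hr : ∀ d ∈ E, LP D (Dx E d) ∧ MU (Dx E d) 5) : False := by
  obtain ⟨d, hd, a, ha, hda, φ, M, hy⟩ := exists_SS h hr (y := vec ![1,1,0,0,0]) (by decide)
    (by decide)
  have H := hy_SS h hr hd ha hda M
  obtain ⟨l1, h1⟩ := H.ex _ hy (vec ![0,0,1,1,0]) (by decide) (by decide) (by decide)
  obtain ⟨l2, h2⟩ := H.ex _ hy (vec ![0,0,1,2,0]) (by decide) (by decide) (by decide)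
  obtain ⟨l3, h3⟩ := H.ex _ hy (vec ![0,0,0,1,1]) (by decide) (by decide) (by decide)
  obtain ⟨g, hg⟩ := (tf_un F4.card 5).nd.witt_family _ _ (fr_li l1 l2 l3) (fr_li 0 0 0)
    (fun i j => by rw [B_eq, B_eq, fr_gram l1 l2 l3]) fun _ => rfl
  refine small (hy_SS h hr hd ha hda (model_isom M g)) fun i => ?_
  rw [← hg i]
  refine SS_isom g ?_
  fin_cases i
  exacts [hy, h1, h2, h3]

theorem u_big (h : LP D E) {k : ℕ} (hr : ∀ d ∈ E, LP D (Dx E d) ∧ MU (Dx E d) (2 + (5 + k))) :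
    False := by
  obtain ⟨d, hd, a, ha, hda, φ, M, hy⟩ := exists_SS h hr (y := mk k 1 0)
    (fun e => by simpa [mk] using congrFun e (Fin.castAdd _ 0)) (by rw [bf_mk]; simp [bf])
  exact big (hy_SS h hr hd ha hda M) hy

/-- the points of the unitary space of dimension four -/
def P4 : Fin 45 → Fin 4 → Fin 4 :=
   ![![0,0,1,1], ![0,0,1,2], ![0,0,1,3], ![0,1,0,1], ![0,1,0,2], ![0,1,0,3], ![0,1,1,0],
    ![0,1,2,0], ![0,1,3,0], ![1,0,0,1], ![1,0,0,2], ![1,0,0,3], ![1,0,1,0], ![1,0,2,0],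
    ![1,0,3,0], ![1,1,0,0], ![1,1,1,1], ![1,1,1,2], ![1,1,1,3], ![1,1,2,1], ![1,1,2,2],
    ![1,1,2,3], ![1,1,3,1], ![1,1,3,2], ![1,1,3,3], ![1,2,0,0], ![1,2,1,1], ![1,2,1,2],
    ![1,2,1,3], ![1,2,2,1], ![1,2,2,2], ![1,2,2,3], ![1,2,3,1], ![1,2,3,2], ![1,2,3,3],
    ![1,3,0,0], ![1,3,1,1], ![1,3,1,2], ![1,3,1,3], ![1,3,2,1], ![1,3,2,2], ![1,3,2,3],
    ![1,3,3,1], ![1,3,3,2], ![1,3,3,3]]

/-- the corresponding norm one vectors over `F₃` -/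
def Q5 : Fin 45 → Fin 5 → ZMod 3 :=
   ![![0,0,0,0,1], ![0,1,1,1,1], ![0,1,1,1,2], ![1,0,1,2,1], ![1,2,0,1,1], ![1,1,2,0,1],
    ![1,0,1,2,2], ![1,2,0,1,2], ![1,1,2,0,2], ![1,0,2,1,2], ![1,1,0,2,2], ![1,2,1,0,2],
    ![1,0,2,1,1], ![1,1,0,2,1], ![1,2,1,0,1], ![1,0,0,0,0], ![0,1,0,0,0], ![0,1,1,2,2],
    ![0,1,2,1,1], ![0,1,1,2,1], ![0,0,1,0,0], ![0,1,2,2,1], ![0,1,2,1,2], ![0,1,2,2,2],
    ![0,0,0,1,0], ![1,2,2,2,0], ![1,1,2,1,0], ![1,0,2,2,2], ![1,2,2,0,1], ![1,0,2,2,1],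
    ![1,1,1,2,0], ![1,2,0,2,2], ![1,2,2,0,2], ![1,2,0,2,1], ![1,2,1,1,0], ![1,1,1,1,0],
    ![1,2,2,1,0], ![1,1,0,1,1], ![1,0,1,1,2], ![1,1,0,1,2], ![1,1,2,2,0], ![1,1,1,0,1],
    ![1,0,1,1,1], ![1,1,1,0,2], ![1,2,1,2,0]]

theorem P4_all : ∀ a b c d : F4, (![a, b, c, d] : Fin 4 → F4) ≠ 0 →
    bf ![a, b, c, d] ![a, b, c, d] = 0 →
    ∃ i, ∃ s : F4, s ≠ 0 ∧ ![a, b, c, d] = s • vec (P4 i) := by decide +kernel

theorem P4_pt : ∀ i, vec (P4 i) ≠ 0 ∧ bf (vec (P4 i)) (vec (P4 i)) = 0 ∧ Q5 i ⬝ᵥ Q5 i = 1 := by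
  decide +kernel

theorem P4_inj : ∀ i j, ∀ s : F4, vec (P4 i) = s • vec (P4 j) → i = j := by decide +kernel

theorem P4_comm : ∀ i j, i ≠ j → (bf (vec (P4 i)) (vec (P4 j)) = 0 ↔ Q5 i ⬝ᵥ Q5 j = 0) := by
  decide +kernel

theorem Q5_surj : ∀ a b c d e : ZMod 3, ![a, b, c, d, e] ⬝ᵥ ![a, b, c, d, e] = 1 →
    ∃ i, Q5 i = ![a, b, c, d, e] ∨ Q5 i = -![a, b, c, d, e] := by decide +kernel

theorem u4 (h : LP D E) (hu : MU E 4) : MO E := by
  classical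
  obtain ⟨φ, M⟩ := hu
  have hΦ := tf_un F4.card 4
  have hQ : ∀ v, (unForm F4.card 4).Q v = (unForm F4.card 4).τ := fun _ => rfl
  have key : ∀ x ∈ E, ∃ i, ∃ s : F4, s ≠ 0 ∧ φ x = s • vec (P4 i) := fun x hx => by
    have e1 : φ x = ![φ x 0, φ x 1, φ x 2, φ x 3] := by
      funext i; fin_cases i <;> rfl
    have hp := h.model_pt hΦ hQ M hx
    rw [e1]
    exact P4_all _ _ _ _ (e1 ▸ hp.1) (by rw [← e1, ← B_eq]; exact hp.2.1)
  choose! ix s hs e using key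
  refine ⟨Fin 5 → ZMod 3, inferInstance, inferInstance, dotProductBilin (ZMod 3) (ZMod 3),
    fun x => Q5 (ix x), by simp, fun v w => dotProduct_comm v w, fun v hv => ?_,
    fun x _ => (P4_pt _).2.2, fun x hx y hy hxy => ?_, fun v hv => ?_⟩
  · funext i
    simpa using hv (Pi.single i 1)
  · have hne : ix x ≠ ix y := fun e1 => hxy (h.model_inj hΦ hQ M hx hy (c := s x * (s y)⁻¹) (by
      rw [e x hx, e y hy, e1, smul_smul, inv_mul_cancel_right₀ (hs y hy)]))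
    rw [M.1 x hx y hy, B_eq, e x hx, e y hy, bf_smul_left, bf_smul_right]
    simp only [mul_eq_zero, hs x hx, hs y hy, or_self, false_or]
    exact P4_comm _ _ hne
  · have e1 : v = ![v 0, v 1, v 2, v 3, v 4] := by
      funext i; fin_cases i <;> rfl
    obtain ⟨i, hi⟩ := Q5_surj (v 0) (v 1) (v 2) (v 3) (v 4) (e1 ▸ hv)
    rw [← e1] at hi
    obtain ⟨x, hx, c, hc, e2⟩ := h.model_surj hΦ hQ M (P4_pt i).1 (by rw [B_eq, (P4_pt i).2.1])
    have : ix x = i := P4_inj _ _ ((s x)⁻¹ * c) (by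
      rw [mul_smul, ← e2, e x hx, smul_smul, inv_mul_cancel₀ (hs x hx), one_smul])
    exact ⟨x, hx, by simpa only [this] using hi⟩

end FU
end H20
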