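import Mathlib
import Cfsg.Agent.H3.B71Defs

/-!
# Bender 1971, step TEN, first part: abelian normal `t`-invariant subgroups are inverted
-/

set_option autoImplicit false
set_option linter.unusedSectionVars false

namespace H20
namespace BT10

open H24 Subgroup H3.B71

variable {G : Type*} [Group G] [Finite G] {D N B : Subgroup G} {I : Set G} {t s : G}

/-- the hypotheses of step TEN which do not mention `x` -/
structure TH (D : Subgroup G) (I : Set G) (t s : G) : Prop where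
  odd : Odd ♯D
  tt : t * t = 1
  tD : t ∈ N[D]
  inv : ∀ z ∈ I, Inv z
  DI : ∀ d ∈ D, ∀ z ∈ I, d * z * d⁻¹ ∈ I
  II : ∀ u ∈ I, ∀ z ∈ I, u * z * u⁻¹ ∈ I
  mul : ∀ u ∈ I, ∀ z ∈ I, u ≠ z → u * z = z * u → u * z ∈ I
  hs : s ∈ I
  tr : ∀ z ∈ I, ∃ k ∈ D, t * k * t⁻¹ = k⁻¹ ∧ z = k * s * k⁻¹
  free : ∀ k ∈ D, t * k * t⁻¹ = k⁻¹ → ∀ z ∈ I, k * z = z * k → k = 1
  V : ∀ d ∈ D, d * s = s * d ↔ d * t = t * d
  W : ∀ d ∈ D, (∀ z ∈ I, d * z = z * d) → d = 1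
  good : ∀ y ∈ D, (orderOf y).Prime → ∀ u ∈ I, ∀ z ∈ I, y * u = u * y → y * z = z * y →
    u * z = z * u

/-- the elements of `N` inverted by `t`, when they commute -/
def invSub (N : Subgroup G) (t : G)
    (hc : ∀ a ∈ N, ∀ b ∈ N, t * a * t⁻¹ = a⁻¹ → t * b * t⁻¹ = b⁻¹ → a * b = b * a) :
    Subgroup G where
  carrier := {a | a ∈ N ∧ t * a * t⁻¹ = a⁻¹}
  mul_mem' := fun {a b} ha hb => ⟨N.mul_mem ha.1 hb.1, by
    calc _ = (t * a * t⁻¹) * (t * b * t⁻¹) := by group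
      _ = (b * a)⁻¹ := by rw [ha.2, hb.2, mul_inv_rev]
      _ = _ := by rw [hc a ha.1 b hb.1 ha.2 hb.2]⟩
  one_mem' := ⟨N.one_mem, by simp⟩
  inv_mem' := fun {a} ha => ⟨N.inv_mem ha.1, by
    calc _ = (t * a * t⁻¹)⁻¹ := by group
      _ = _ := by rw [ha.2]⟩

theorem mem_invSub {hc : ∀ a ∈ N, ∀ b ∈ N, t * a * t⁻¹ = a⁻¹ → t * b * t⁻¹ = b⁻¹ → a * b = b * a}
    {a : G} : a ∈ invSub N t hc ↔ a ∈ N ∧ t * a * t⁻¹ = a⁻¹ := Iff.rfl

theorem exists_prime_pow {a : G} (h : a ≠ 1) : ∃ y ∈ zpowers a, (orderOf y).Prime := by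
  obtain ⟨p, hp, hd⟩ := exists_prime_dvd_card (H := zpowers a) (by rwa [Ne, zpowers_eq_bot])
  obtain ⟨y, hy, e⟩ := exists_orderOf_eq hp hd
  exact ⟨y, hy, e ▸ hp⟩

namespace TH

variable (h : TH D I t s)
include h

theorem eq_one {a : G} (ha : a ∈ D) (h1 : t * a = a * t) (h2 : t * a * t⁻¹ = a⁻¹) : a = 1 := by
  refine H21.eq_one_of_sq_of_mem_odd h.odd ha ?_
  rw [h1, mul_inv_cancel_right] at h2
  nth_rewrite 2 [h2]
  simp

/-- (a) -/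
theorem comm_of_inv {k f : G} (hk : k ∈ D) (h1 : t * k * t⁻¹ = k⁻¹) (h2 : t * f * t⁻¹ = f⁻¹)
    (h3 : t * (k * f * k⁻¹) * t⁻¹ = (k * f * k⁻¹)⁻¹) : k * f = f * k := by
  have e : k⁻¹ * f⁻¹ * k = k * f⁻¹ * k⁻¹ := by
    calc _ = (t * k * t⁻¹) * (t * f * t⁻¹) * (t * k * t⁻¹)⁻¹ := by rw [h1, h2, inv_inv]
      _ = t * (k * f * k⁻¹) * t⁻¹ := by group
      _ = _ := by rw [h3]; group
  have e2 : Commute (k * k) f⁻¹ := by
    calc k * k * f⁻¹ = k * (k * f⁻¹ * k⁻¹) * k := by group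
      _ = f⁻¹ * (k * k) := by rw [← e]; group
  exact (Commute.inv_right_iff.mp (H21.commute_of_commute_sq_of_odd h.odd
    (H21.pow_card_eq_one_of_mem hk) e2)).eq

theorem good' {a u z : G} (ha : a ∈ D) (h1 : a ≠ 1) (hu : u ∈ I) (hz : z ∈ I)
    (e1 : a * u = u * a) (e2 : a * z = z * a) : u * z = z * u := by
  obtain ⟨y, hy, hp⟩ := exists_prime_pow h1
  exact h.good y (zpowers_le.mpr ha hy) hp u hu z hz
    (mem_C1.mp (zpowers_le.mpr (mem_C1.mpr e1) hy)) (mem_C1.mp (zpowers_le.mpr (mem_C1.mpr e2) hy))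

theorem decomp (hN : N ≤ D) (ht : t ∈ N[N]) {n : G} (hn : n ∈ N) :
    ∃ y ∈ N, ∃ z ∈ N, t * y = y * t ∧ t * z * t⁻¹ = z⁻¹ ∧ n = y * z := by
  obtain ⟨y, z, hy, h1, hz, e⟩ := H21.exists_cent_mul_inverted h.tt (odd_of_le h.odd hN)
    (fun x hx => conj_mem ht hx) hn
  exact ⟨y, hy, z, hz.1, h1, hz.2, e⟩

/-- the involutions of `I` centralised by `B`, with `1` -/
def Tgp (B : Subgroup G) (hB : B ≤ D) (h1 : B ≠ ⊥) : Subgroup G where
  carrier := {e | e = 1 ∨ (e ∈ I ∧ B ≤ C{e})}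
  mul_mem' := by
    rintro a b (rfl | ha) (rfl | hb)
    · simp
    · rw [one_mul]; exact Or.inr hb
    · rw [mul_one]; exact Or.inr ha
    · by_cases hab : a = b
      · exact Or.inl (hab ▸ (h.inv a ha.1).2)
      · obtain ⟨c, hc, hc1⟩ := exists_ne_one h1
        refine Or.inr ⟨h.mul a ha.1 b hb.1 hab (h.good' (hB hc) hc1 ha.1 hb.1
          (mem_C1.mp (ha.2 hc)) (mem_C1.mp (hb.2 hc))), fun d hd => mem_C1_comm.mp
          (mul_mem (mem_C1_comm.mp (ha.2 hd)) (mem_C1_comm.mp (hb.2 hd)))⟩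
  one_mem' := Or.inl rfl
  inv_mem' := by
    rintro a (rfl | ha)
    · simp
    · rw [(h.inv a ha.1).inv]; exact Or.inr ha

theorem mem_Tgp {hB : B ≤ D} {h1 : B ≠ ⊥} {e : G} :
    e ∈ h.Tgp B hB h1 ↔ e = 1 ∨ (e ∈ I ∧ B ≤ C{e}) := Iff.rfl

theorem Tgp_sq {hB : B ≤ D} {h1 : B ≠ ⊥} {e : G} (he : e ∈ h.Tgp B hB h1) : e * e = 1 := by
  rcases he with rfl | he
  · simp
  · exact (h.inv e he.1).2

theorem card_A (hN : N ⊴ D) {z : G} (hz : z ∈ I) : ♯(N ⊓ C{z}) = ♯(N ⊓ C{s}) := by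
  obtain ⟨k, hk, -, rfl⟩ := h.tr z hz
  rw [← card_cj k (N ⊓ C{s}), cj_inf, cj_C1, cj_of_mem_N (hN.norm hk)]

theorem A_eq (hN : N ⊴ D) {u v : G} (hu : u ∈ I) (hv : v ∈ I) (e : N ⊓ C{u} ≤ C{v}) :
    N ⊓ C{u} = N ⊓ C{v} :=
  eq_of_card_eq (le_inf inf_le_left e) ((h.card_A hN hu).trans (h.card_A hN hv).symm)

theorem A_ne (hN : N ⊴ D) (h1 : N ⊓ C{s} ≠ ⊥) {u : G} (hu : u ∈ I) : N ⊓ C{u} ≠ ⊥ := by
  rw [Ne, ← card_eq_one', h.card_A hN hu, card_eq_one']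
  exact h1

/-- C1 -/
theorem A_eq_of_comm (hN : N ⊴ D) (hA : Abl N) (h1 : N ⊓ C{s} ≠ ⊥) {u v : G} (hu : u ∈ I)
    (hv : v ∈ I) (e : u * v = v * u) : N ⊓ C{u} = N ⊓ C{v} := by
  by_contra hne
  have huv : u ≠ v := fun e => hne (e ▸ rfl)
  have hw := h.mul u hu v hv huv e
  have iu := h.inv u hu
  have iv := h.inv v hv
  have hwv : N ⊓ C{u * v} ≠ N ⊓ C{v} := fun e2 => hne (h.A_eq hN hv hu fun a ha => by
    have h2 : u * v ∈ C{a} := mem_C1_comm.mp (e2.ge ha).2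
    have h3 : v ∈ C{a} := mem_C1_comm.mp ha.2
    exact mem_C1_comm.mp ((mul_mem_cancel_right h3).mp h2)).symm
  refine hne (h.A_eq hN hu hv fun a ha => ?_)
  -- the conjugate by `a` of an element centralising `b ∈ N` centralises `b`
  have key : ∀ z b : G, b ∈ N ⊓ C{z} → z * (a * z * a⁻¹) ∈ C{b} := fun z b hb =>
    have h2 : a ∈ C{b} := mem_C1.mpr (hA.comm ha.1 hb.1)
    have h3 : z ∈ C{b} := mem_C1_comm.mp hb.2
    mul_mem h3 (mul_mem (mul_mem h2 h3) (inv_mem h2))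
  have hva := h.DI a (hN.le ha.1) v hv
  by_contra hav
  have hne2 : v ≠ a * v * a⁻¹ := fun e2 => hav (mem_C1_iff_conj.mpr e2.symm)
  obtain ⟨c, hc, hc1⟩ := exists_ne_one (h.A_ne hN h1 hv)
  have hcomm : v * (a * v * a⁻¹) = (a * v * a⁻¹) * v := by
    refine h.good' (hN.le hc.1) hc1 hv hva (mem_C1.mp hc.2) (mem_C1.mp (mem_C1_comm.mp ?_))
    exact (mul_mem_cancel_left (mem_C1_comm.mp hc.2)).mp (key v c hc)
  have hg := h.mul v hv _ hva hne2 hcomm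
  have e3 : u * v * (a * (u * v) * a⁻¹) = v * (a * v * a⁻¹) := by
    calc _ = u * v * (a * u * a⁻¹) * (a * v * a⁻¹) := by group
      _ = v * (u * u) * (a * v * a⁻¹) := by rw [mem_C1_iff_conj.mp ha.2, e]; group
      _ = _ := by rw [iu.2, mul_one]
  refine hwv ((h.A_eq hN hw hg fun b hb => mem_C1_comm.mp (e3 ▸ key _ b hb)).trans
    (h.A_eq hN hv hg fun b hb => mem_C1_comm.mp (key _ b hb)).symm)

/-- (5.1) -/
theorem abl_inv (hN : N ⊴ D) (hA : Abl N) (ht : t ∈ N[N]) :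
    ∀ n ∈ N, t * n * t⁻¹ = n⁻¹ := by
  by_contra hcon
  set KN := invSub N t (fun a ha b hb _ _ => hA.comm ha hb) with hKN
  have hKle : KN ≤ N := fun a ha => ha.1
  have hp : IsProd (N ⊓ C{s}) KN N := ⟨inf_le_left, hKle, fun n hn => by
    obtain ⟨y, hy, z, hz, e1, e2, e3⟩ := h.decomp hN.le ht hn
    exact ⟨y, ⟨hy, mem_C1.mpr ((h.V y (hN.le hy)).mpr e1.symm)⟩, z, ⟨hz, e2⟩, e3⟩⟩
  have hi : ∀ z ∈ I, (N ⊓ C{z}) ⊓ KN = ⊥ := fun z hz => eq_bot_iff.mpr fun a ha =>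
    h.free a (hN.le ha.1.1) ha.2.2 z hz (mem_C1.mp ha.1.2)
  have hp' : ∀ z ∈ I, IsProd (N ⊓ C{z}) KN N := fun z hz => isProd_of_card inf_le_left hKle (by
    have := hp.card
    rw [hi s h.hs] at this
    rw [hi z hz, h.card_A hN hz, this])
  have h1 : N ⊓ C{s} ≠ ⊥ := fun e => hcon fun n hn => by
    obtain ⟨y, hy, z, hz, rfl⟩ := hp.mul n hn
    rw [e, mem_bot] at hy
    rw [hy, one_mul]; exact hz.2
  obtain ⟨a0, ha0, ha1⟩ := exists_ne_one h1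
  obtain ⟨z2, hz2, hz2'⟩ : ∃ z ∈ I, N ⊓ C{z} ≠ N ⊓ C{s} := by
    by_contra hc
    push Not at hc
    exact ha1 (h.W a0 (hN.le ha0.1) fun z hz => mem_C1.mp ((hc z hz).ge ha0).2)
  set E := h.Tgp (N ⊓ C{s}) (inf_le_left.trans hN.le) h1 with hE
  have hconj : ∀ e ∈ E, e * z2 * e⁻¹ ∈ I := by
    rintro e (rfl | he)
    · simpa using hz2
    · exact h.II e he.1 z2 hz2
  have hφ : ∀ e : E, ∃ k : KN, a0 * (k : G)⁻¹ ∈ N ⊓ C{e * z2 * (e : G)⁻¹} := fun e => by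
    obtain ⟨a, ha, k, hk, e1⟩ := (hp' _ (hconj e e.2)).mul a0 ha0.1
    exact ⟨⟨k, hk⟩, by rw [e1]; simpa using ha⟩
  choose φ hφ using hφ
  have hφi : Function.Injective φ := fun e e' hee => by
    have h2 := hφ e
    have h3 := hφ e'
    rw [← hee] at h3
    have h4 : a0 * (φ e : G)⁻¹ ≠ 1 := fun e1 => ha1 (mem_bot.mp (hi s h.hs ▸
      (mem_inf.mpr ⟨ha0, by rw [mul_inv_eq_one.mp e1]; exact (φ e).2⟩)))
    have h5 := h.good' (hN.le h2.1) h4 (hconj e e.2) (hconj e' e'.2) (mem_C1.mp h2.2)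
      (mem_C1.mp h3.2)
    have hf : (e' : G)⁻¹ * e ∈ E := mul_mem (inv_mem e'.2) e.2
    set f := (e' : G)⁻¹ * e with hfd
    have h6 : (f * z2 * f⁻¹) * z2 = z2 * (f * z2 * f⁻¹) := by
      calc _ = (e' : G)⁻¹ * ((e * z2 * (e : G)⁻¹) * (e' * z2 * (e' : G)⁻¹)) * e' := by
            rw [hfd]; group
        _ = _ := by rw [h5, hfd]; group
    rcases hf with hf | hf
    · exact Subtype.ext (inv_mul_eq_one.mp hf).symm
    · exfalso
      have h7 : N ⊓ C{s} = N ⊓ C{f} := h.A_eq hN h.hs hf.1 hf.2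
      have hff := (h.inv f hf.1)
      by_cases h8 : f * z2 * f⁻¹ = z2
      · exact hz2' ((h.A_eq_of_comm hN hA h1 hz2 hf.1
          (mem_C1.mp (mem_C1_iff_conj.mpr h8)).symm).trans h7.symm)
      · have hg := h.mul _ (h.II f hf.1 z2 hz2) z2 hz2 h8 h6
        refine hz2' ((h.A_eq_of_comm hN hA h1 hz2 hg ?_).trans
          ((h.A_eq_of_comm hN hA h1 hg hf.1 ?_).trans h7.symm))
        · rw [← mul_assoc, ← h6]
        · calc f * z2 * f⁻¹ * z2 * f = z2 * (f * z2 * f⁻¹) * f := by rw [h6]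
            _ = (f * f) * z2 * f * z2 := by rw [hff.2]; group
            _ = _ := by rw [hff.inv]; group
  let ψ : KN → E := fun k => ⟨k * s * (k : G)⁻¹, Or.inr ⟨h.DI k (hN.le k.2.1) s h.hs,
    fun b hb => mem_C1_comm.mp (by
      have h2 : (k : G) ∈ C{b} := mem_C1.mpr (hA.comm k.2.1 hb.1)
      exact mul_mem (mul_mem h2 (mem_C1_comm.mp hb.2)) (inv_mem h2))⟩⟩
  have hψi : Function.Injective ψ := fun k l hkl => by
    have h2 : (k : G) * s * (k : G)⁻¹ = l * s * (l : G)⁻¹ := congrArg Subtype.val hkl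
    have h3 : (l : G)⁻¹ * k ∈ KN := mul_mem (inv_mem l.2) k.2
    have h4 := h.free _ (hN.le h3.1) h3.2 s h.hs (by
      calc (l : G)⁻¹ * k * s = (l : G)⁻¹ * (k * s * (k : G)⁻¹) * k := by group
        _ = _ := by rw [h2]; group)
    exact Subtype.ext (inv_mul_eq_one.mp h4).symm
  obtain ⟨e, he⟩ := Finite.injective_iff_surjective.mp (hψi.comp hφi) 1
  have h2 : (φ e : G) * s * (φ e : G)⁻¹ = 1 := congrArg Subtype.val he
  exact (h.inv s h.hs).1 (conj_eq_one_iff'.mp h2)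

end TH

end BT10
end H20
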