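import Mathlib
import Cfsg.Agent.H20.BTen1
import Cfsg.Agent.H26.S04a
import Cfsg.Agent.H27.PF14

/-!
# Bender 1971, step TEN, second part
-/

set_option autoImplicit false
set_option linter.unusedSectionVars false

namespace H20
namespace BT10

open Cfsg H24 Subgroup H3.B71
open scoped commutatorElement

variable {G : Type*} [Group G] [Finite G] {D N B E F R : Subgroup G} {I : Set G} {t s x : G}
  {r : ℕ}

theorem relIndex_le_coset {X : Subgroup G} {e : G} (h : ∀ x ∈ X, x * e * x⁻¹ * e⁻¹ ∈ B) :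
    C{e}.relIndex X ≤ ♯B := by
  let _ : MulAction X G := MulAction.compHom G ((MulAut.conj (G := G)).comp X.subtype)
  have h1 := MulAction.index_stabilizer X e
  have h3 : MulAction.stabilizer X e = C{e}.subgroupOf X := by
    ext x
    rw [mem_subgroupOf, mem_C1_iff_conj]
    rfl
  have h4 : ((fun b => b * e) '' (B : Set G)).ncard = ♯B := by
    rw [Set.ncard_image_of_injective _ (mul_left_injective e), ← Nat.card_coe_set_eq,
      SetLike.coe_sort_coe]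
  rw [relIndex, ← h3, h1, ← h4]
  refine Set.ncard_le_ncard ?_
  rintro _ ⟨x, rfl⟩
  exact ⟨_, h x x.2, by
    change _ = (x : G) * e * (x : G)⁻¹
    simp⟩

theorem abl_of_ucn_two (hR : Nil R) (h : ucn 2 R ≤ Z[R]) : Abl R := by
  have key : ∀ n, ucn n R ≤ Z[R] := fun n => by
    induction n with
    | zero => rw [ucn_zero]; exact bot_le
    | succ n ih => exact (le_ucn_two.mpr ⟨ucn_le _ _, (ucn_comm_le n R).trans ih⟩).trans h
  obtain ⟨n, hn⟩ := nil_iff_ucn.mp hR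
  exact abl_iff.mpr ((hn.ge.trans (key n)).trans inf_le_right)

/-- the subgroup generated by the elements of `D` inverted by `t` -/
abbrev D0 (D : Subgroup G) (t : G) : Subgroup G := closure (invertedBy D t)

theorem D0_le : D0 D t ≤ D := (closure_le _).mpr fun _ ha => ha.1

namespace TH

variable (h : TH D I t s)
include h

theorem norm_D0 : D ⊔ zpowers t ≤ N[D0 D t] := by
  refine sup_le (le_N_iff.mpr fun a ha w hw => H21.conj_mem_closure_inverted h.tt h.odd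
    (fun x hx => conj_mem h.tD hx) ha hw) (zpowers_le.mpr (mem_N_of_finite fun w hw => ?_))
  induction hw using closure_induction with
  | mem a ha => rw [ha.2]; exact inv_mem (subset_closure ha)
  | one => simp
  | mul a b _ _ ha hb =>
    rw [show t * (a * b) * t⁻¹ = (t * a * t⁻¹) * (t * b * t⁻¹) by group]; exact mul_mem ha hb
  | inv a _ ha => rw [show t * a⁻¹ * t⁻¹ = (t * a * t⁻¹)⁻¹ by group]; exact inv_mem ha

theorem norm_D : D ⊔ zpowers t ≤ N[D] := sup_le (norm_self D) (zpowers_le.mpr h.tD)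

theorem D0_cent (hF : D ≤ N[F]) (hi : ∀ f ∈ F, t * f * t⁻¹ = f⁻¹) : D0 D t ≤ C[F] :=
  (closure_le _).mpr fun _ hk => mem_C'.mpr fun f hf =>
    h.comm_of_inv hk.1 hk.2 (hi f hf) (hi _ (conj_mem (hF hk.1) hf))

theorem abl_inv' (hN : N ≤ D) (hn : D ⊔ zpowers t ≤ N[N]) (hA : Abl N) :
    ∀ n ∈ N, t * n * t⁻¹ = n⁻¹ :=
  h.abl_inv ⟨hN, le_sup_left.trans hn⟩ hA (hn (mem_sup_right (mem_zpowers t)))

theorem abl_cent (hN : N ≤ D) (hn : D ⊔ zpowers t ≤ N[N]) (hA : Abl N) : D0 D t ≤ C[N] :=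
  h.D0_cent (le_sup_left.trans hn) (h.abl_inv' hN hn hA)

/-- an abelian group of elements of `K` centralised by `1 ≠ y ∈ V` is cyclic -/
theorem cyc_of_free {y : G} (hy : y ∈ D) (h1 : y ≠ 1) (hyt : t * y = y * t) (hB : B ≤ D)
    (hA : Abl B) (hi : ∀ b ∈ B, t * b * t⁻¹ = b⁻¹) (hc : B ≤ C{y}) : Cyc B := by
  by_contra hnc
  set T := h.Tgp (zpowers y) (zpowers_le.mpr hy) (by rwa [Ne, zpowers_eq_bot]) with hT
  have hTp : IsPi {2} T := isPi_iff_piElt.mpr fun e he =>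
    piElt_of_pow_eq_one (piNat_self Nat.prime_two) (by rw [pow_two]; exact h.Tgp_sq he)
  have hn : B ≤ N[T] := le_N_iff.mpr fun b hb e he => by
    rcases he with rfl | he
    · simp
    · refine Or.inr ⟨h.DI b (hB hb) e he.1, zpowers_le.mpr (mem_C1_comm.mp ?_)⟩
      exact mul_mem (mul_mem (hc hb) (mem_C1_comm.mp (he.2 (mem_zpowers y)))) (inv_mem (hc hb))
  have hcop : (♯T).Coprime ♯B := hTp.coprime ((isPi_compl_iff Nat.prime_two).mpr
    (odd_of_le h.odd hB).not_two_dvd_nat)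
  have := H26.coprime_abelian_gen_cent1 (L := ⊥) hA hnc hn hcop fun a ha ha1 e he => by
    rcases he with ⟨rfl | he, he'⟩
    · exact one_mem _
    · exact absurd (h.free a (hB ha) (hi a ha) e he.1 (mem_C1.mp he').symm) ha1
  exact (h.inv s h.hs).1 (mem_bot.mp (this (Or.inr ⟨h.hs,
    zpowers_le.mpr (mem_C1.mpr ((h.V y hy).mpr hyt.symm))⟩)))

section withx

variable (hx : x ∈ D) (hxt : x * t = t * x) (hxp : (orderOf x).Prime)
  (hxK : ∀ k ∈ D, t * k * t⁻¹ = k⁻¹ → k * x = x * k → k = 1)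
include hx hxt hxp hxK

theorem norm_le_V {X : Subgroup G} (hxX : x ∈ X) (hX : X ≤ C{t}) : D ⊓ N[X] ≤ C{t} := by
  intro n hn
  have h1 : n * t * n⁻¹ ∈ C{x} := mem_C1_comm.mp (by
    have := hX (conj_mem' hn.2 hxX)
    rw [← cj_C1, mem_cj]; exact this)
  have h2 : t ∈ C{x} := mem_C1.mpr hxt.symm
  have h3 := hxK (n * (t * n⁻¹ * t⁻¹)) (mul_mem hn.1 (conj_mem h.tD (inv_mem hn.1))) (by
    calc _ = t * n * t⁻¹ * (t * t) * n⁻¹ * (t * t)⁻¹ := by group
      _ = _ := by rw [h.tt]; group) (mem_C1.mp (by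
    have := mul_mem h1 (inv_mem h2)
    simpa only [mul_assoc] using this))
  refine mem_C1.mpr ?_
  calc n * t = n * (t * n⁻¹ * t⁻¹) * (t * n) := by group
    _ = _ := by rw [h3, one_mul]

theorem norm_of_der1 {X : Subgroup G} (h1 : ⁅D, D⁆ ≤ N[X]) (h2 : D ⊓ C{t} ≤ N[X]) :
    D ≤ N[X] := by
  have hL : ⁅D, D⁆ ⊔ zpowers x ⊴ D :=
    nml_of_der1_le le_sup_left (sup_le (der1_le D) (zpowers_le.mpr hx))
  obtain ⟨P, hP, hxP⟩ := Sylow_superset hxp (piElt_of_orderOf_prime hxp rfl).isPi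
    (le_sup_right : zpowers x ≤ ⁅D, D⁆ ⊔ zpowers x)
  have hPD := hP.le.trans hL.le
  have hx' : x ∈ P ⊓ C{t} := ⟨hxP (mem_zpowers x), mem_C1.mpr hxt⟩
  have hPV : P ⊓ C{t} = P := (hP.pi.nil hxp).eq_of_norm_le inf_le_left (le_inf inf_le_left
    ((inf_le_inf_right _ hPD).trans (h.norm_le_V hx hxt hxp hxK hx' inf_le_right)))
  rw [← (Frattini_arg hxp hL hP).sup_eq]
  refine sup_le (sup_le h1 (zpowers_le.mpr (h2 ⟨hx, mem_C1.mpr hxt⟩))) (le_trans ?_ h2)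
  exact le_inf inf_le_left (h.norm_le_V hx hxt hxp hxK hx'.1 (hPV.ge.trans inf_le_right))

theorem core (hr : r.Prime) (hE : E ≤ D0 D t) (hn : D ⊔ zpowers t ≤ N[E])
    (hexp : ∀ e ∈ E, e ^ r = 1) (hcl : ⁅E, E⁆ ≤ Z[E]) {y0 : G} (hy0 : y0 ∈ E) (hy1 : y0 ≠ 1)
    (hyt : t * y0 = y0 * t) : False := by
  have hED : E ≤ D := hE.trans D0_le
  have hEp : IsPi {r} E := isPi_iff_piElt.mpr fun e he =>
    piElt_of_pow_eq_one (piNat_self hr) (hexp e he)
  have htE : t ∈ N[E] := hn (mem_sup_right (mem_zpowers t))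
  have hZi := h.abl_inv' (inf_le_left.trans hED) (norm_Z hn) (abl_center E)
  have hc : ∀ a ∈ E, ∀ b ∈ E, a * b * a⁻¹ * b⁻¹ ∈ Z[E] := fun a ha b hb =>
    hcl (commutator_mem_commutator ha hb)
  have hy0Z : y0 ∉ Z[E] := fun e => hy1 (h.eq_one (hED hy0) hyt (hZi _ e))
  have hVV : ∀ a ∈ E, ∀ b ∈ E, t * a = a * t → t * b = b * t → a * b = b * a := by
    intro a ha b hb h1 h2
    have h3 := h.eq_one (hED (hc a ha b hb).1) (mem_C1.mp (mul_mem (mul_mem (mul_mem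
      (mem_C1.mpr h1.symm) (mem_C1.mpr h2.symm)) (inv_mem (mem_C1.mpr h1.symm)))
      (inv_mem (mem_C1.mpr h2.symm)))).symm (hZi _ (hc a ha b hb))
    calc a * b = (a * b * a⁻¹ * b⁻¹) * (b * a) := by group
      _ = _ := by rw [h3, one_mul]
  have hKK : ∀ a ∈ E, ∀ b ∈ E, t * a * t⁻¹ = a⁻¹ → t * b * t⁻¹ = b⁻¹ → a * b = b * a := by
    intro a ha b hb h1 h2
    have h4 : t * (a * b * a⁻¹ * b⁻¹) * t⁻¹ = a * b * a⁻¹ * b⁻¹ := by
      calc _ = (t * a * t⁻¹) * (t * b * t⁻¹) * (t * a * t⁻¹)⁻¹ * (t * b * t⁻¹)⁻¹ := by group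
        _ = (b * a)⁻¹ * (a * b * a⁻¹ * b⁻¹) * (b * a) := by rw [h1, h2]; group
        _ = _ := by
          rw [mem_C.mp (hc a ha b hb).2 _ (inv_mem (mul_mem hb ha))]; group
    have h3 := h.eq_one (hED (hc a ha b hb).1) (mul_inv_eq_iff_eq_mul.mp h4) (hZi _ (hc a ha b hb))
    calc a * b = (a * b * a⁻¹ * b⁻¹) * (b * a) := by group
      _ = _ := by rw [h3, one_mul]
  set KE := invSub E t hKK with hKE
  have hZK : Z[E] ≤ KE := fun z hz => ⟨hz.1, hZi z hz⟩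
  have hZ1 : Z[E] ≠ ⊥ := (hEp.nil hr).center_ne_bot (ne_bot_of_mem hy0 hy1)
  have hcyc : ∀ y ∈ E, y ≠ 1 → t * y = y * t → Z[E] = KE ⊓ C{y} ∧ ♯Z[E] = r := by
    intro y hy h1 h2
    obtain ⟨g, hg, e⟩ := (h.cyc_of_free (B := KE ⊓ C{y}) (hED hy) h1 h2 (fun a ha => hED ha.1.1)
      (abl_iff.mpr (le_C_iff.mpr fun a ha b hb => hKK a ha.1.1 b hb.1.1 ha.1.2 hb.1.2))
      (fun b hb => hb.1.2) inf_le_right).exists_gen
    have h3 : Z[E] ≤ KE ⊓ C{y} := le_inf hZK (inf_le_right.trans (C_le_C1 hy))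
    have h4 : ♯(KE ⊓ C{y}) = r := by
      refine ((Nat.dvd_prime hr).mp ?_).resolve_left fun e1 =>
        ne_bot_of_le hZ1 h3 (card_eq_one'.mp e1)
      rw [← e, card_zpowers']
      exact orderOf_dvd_of_pow_eq_one (hexp g hg.1.1)
    have h5 := prime_eq_of_le (h4 ▸ hr) h3 hZ1
    exact ⟨h5, h5 ▸ h4⟩
  obtain ⟨k0, hk0, hk0Z⟩ : ∃ k ∈ KE, k ∉ Z[E] := by
    by_contra hcon
    push Not at hcon
    refine hy0Z ⟨hy0, mem_C.mpr fun e he => ?_⟩
    obtain ⟨v, hv, k, hk, e1, e2, rfl⟩ := h.decomp hED htE he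
    exact mem_C1.mp (mul_mem (mem_C1.mpr (hVV v hv y0 hy0 e1 hyt))
      (C_le_C1 hy0 (hcon k ⟨hk, e2⟩).2))
  have hZr := (hcyc y0 hy0 hy1 hyt).2
  have hcard : ♯E ≤ r ^ 3 := by
    have h1 : (C{y0} ⊓ C{k0}) ⊓ E ≤ Z[E] := by
      rintro e ⟨⟨e1, e2⟩, he⟩
      obtain ⟨v, hv, k, hk, e3, e4, rfl⟩ := h.decomp hED htE he
      have h2 : k ∈ Z[E] := (hcyc y0 hy0 hy1 hyt).1 ▸ mem_inf.mpr ⟨⟨hk, e4⟩,
        (mul_mem_cancel_left (mem_C1.mpr (hVV v hv y0 hy0 e3 hyt))).mp e1⟩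
      have h3 : v = 1 := by
        by_contra h3
        exact hk0Z ((hcyc v hv h3 e3).1 ▸ mem_inf.mpr ⟨hk0, mem_C1_comm.mp
          ((mul_mem_cancel_right (C_le_C1 hk0.1 h2.2)).mp e2)⟩)
      rw [h3, one_mul]; exact h2
    have h2 := relIndex_le_of_le_left h1 (relIndex_ne_zero' _ E)
    rw [inf_relIndex_right] at h2
    have h3 := relIndex_le_coset (B := Z[E]) (X := E) fun a ha => hc a ha y0 hy0
    have h4 := relIndex_le_coset (B := Z[E]) (X := E) fun a ha => hc a ha k0 hk0.1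
    rw [hZr] at h3 h4
    rw [← card_mul_relIndex (inf_le_left : Z[E] ≤ E), hZr, pow_succ', pow_two]
    exact Nat.mul_le_mul_left _ (h2.trans (relIndex_inf_le.trans (Nat.mul_le_mul h3 h4)))
  have hrank : rank E ≤ 2 := by
    rw [H25.rank_pgroup hr hEp]
    by_contra hcon
    obtain ⟨A, hA⟩ := (H25.prank_geP hr).mp (not_le.mp hcon)
    have h1 : A = E := eq_of_card_ge hA.le (hA.card ▸ hcard)
    have h2 : Abl E := h1 ▸ hA.elem.1
    exact hy0Z (h2.center_eq.ge hy0)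
  have hDE : D ≤ N[E] := le_sup_left.trans hn
  have hX : ⁅E, ⁅D, D⁆⁆ ≤ Z[E] := by
    obtain ⟨P, hP⟩ := Sylow_exists hr ⁅D, D⁆
    have hPE : P ≤ N[E] := hP.le.trans ((der1_le D).trans hDE)
    have h1 := hP.isProd_of_idx (B := ⁅D, D⁆ ⊓ C[E]) inf_le_left (by
      rw [inf_relIndex_left]
      exact H26.der1_Aut_rank2_pgroup hr hEp (odd_of_le h.odd hED) hrank hDE h.odd)
    have h2 : ⁅E, ⁅D, D⁆⁆ ≤ ⁅E, P⁆ := commutator_le.mpr fun e he d hd => by
      obtain ⟨a, ha, b, hb, rfl⟩ := h1.mul d hd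
      have : ⁅e, a * b⁆ = ⁅e, a⁆ := by
        rw [commutatorElement_def, commutatorElement_def]
        calc _ = e * a * (b * e⁻¹) * b⁻¹ * a⁻¹ := by group
          _ = _ := by rw [← mem_C.mp hb.2 _ (inv_mem he)]; group
      rw [this]; exact commutator_mem_commutator he ha
    have h3 : ⁅E, ⁅D, D⁆⁆ < E := h2.trans_lt (nil_comm_properl ((hEp.sup hP.pi hPE).nil hr)
      le_sup_left (ne_bot_of_mem hy0 hy1) le_sup_right hPE)
    have h4 : Abl ⁅E, ⁅D, D⁆⁆ := by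
      refine H25.abl_of_card_dvd_sq hr ?_
      obtain ⟨j, hj⟩ := (hEp.of_le h3.le).card_eq_pow hr
      have h5 := (card_lt h3).trans_le hcard
      rw [hj] at h5 ⊢
      exact pow_dvd_pow r (Nat.lt_succ_iff.mp ((Nat.pow_lt_pow_iff_right hr.one_lt).mp h5))
    exact le_inf h3.le (cents_symm (hE.trans (h.abl_cent (h3.le.trans hED)
      (norm_comm hn (norm_der1 h.norm_D)) h4)))
  have hN1E : (E ⊓ C{t}) ⊔ Z[E] ≤ E := sup_le inf_le_left inf_le_left
  have hV : (D ⊓ C{t}) ⊔ zpowers t ≤ N[(E ⊓ C{t}) ⊔ Z[E]] := by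
    have h1 : (D ⊓ C{t}) ⊔ zpowers t ≤ N[E] := (sup_le_sup_right inf_le_left _).trans hn
    exact norm_sup (norm_inf h1 (norm_C1 (sup_le inf_le_right (zpowers_le_C1 t)))) (norm_Z h1)
  have hN1 : D ≤ N[(E ⊓ C{t}) ⊔ Z[E]] := h.norm_of_der1 hx hxt hxp hxK
    (norm_of_comm_le_left ((comm_mono_left hN1E).trans (hX.trans le_sup_right)))
    (le_sup_left.trans hV)
  have hA : Abl ((E ⊓ C{t}) ⊔ Z[E]) := Abl.sup
    (abl_iff.mpr (le_C_iff.mpr fun a ha b hb =>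
      hVV a ha.1 b hb.1 (mem_C1.mp ha.2).symm (mem_C1.mp hb.2).symm))
    (abl_center E) (inf_le_left.trans (le_C_center E))
  exact hy1 (h.eq_one (hED hy0) hyt (h.abl_inv' (hN1E.trans hED)
    (sup_le hN1 (le_sup_right.trans hV)) hA y0 (mem_sup_left ⟨hy0, mem_C1.mpr hyt.symm⟩)))

theorem pgroup_cent (hr : r.Prime) (hR : R ≤ D0 D t) (hn : D ⊔ zpowers t ≤ N[R])
    (hp : IsPi {r} R) : D0 D t ≤ C[R] := by
  have hRD := hR.trans D0_le
  by_contra hcon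
  have hna : ¬ Abl R := fun e => hcon (h.abl_cent hRD hn e)
  have hn2 := norm_ucn 2 hn
  have h2D := (ucn_le 2 R).trans hRD
  obtain ⟨y, hy, hy1, hyt⟩ : ∃ y ∈ ucn 2 R, y ≠ 1 ∧ t * y = y * t := by
    by_contra hc
    push Not at hc
    refine hna (abl_of_ucn_two (hp.nil hr) (le_inf (ucn_le 2 R) (cents_symm (hR.trans
      (h.D0_cent (le_sup_left.trans hn2) fun f hf => ?_)))))
    obtain ⟨v, hv, k, hk, e1, e2, rfl⟩ := h.decomp h2D (hn2 (mem_sup_right (mem_zpowers t))) hf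
    have : v = 1 := by_contra fun e => hc v hv e e1
    rw [this, one_mul]; exact e2
  obtain ⟨y', hy', hyp⟩ := exists_prime_pow hy1
  have hy2 : y' ∈ ucn 2 R := zpowers_le.mpr hy hy'
  have hyr : orderOf y' = r := hp.piElt (ucn_le 2 R hy2) _ hyp dvd_rfl
  have hEle := H25.omegaOne_le r (ucn 2 R)
  refine h.core hx hxt hxp hxK hr (E := omegaOne r (ucn 2 R)) (hEle.trans ((ucn_le 2 R).trans hR))
    (H25.norm_omegaOne r hn2) (H26.Ohm1_ucn2_pow hr hp (odd_of_le h.odd hRD))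
    (le_inf (der1_le _) ?_) (H25.mem_omegaOne hy2 (hyr ▸ pow_orderOf_eq_one y'))
    (ne_one_of_orderOf_prime hyp) (mem_C1.mp (zpowers_le.mpr (mem_C1.mpr hyt.symm) hy')).symm
  exact ((commutator_mono hEle (hEle.trans (ucn_le 2 R))).trans ((ucn_two_comm_le R).trans
    inf_le_right)).trans (C_anti (hEle.trans (ucn_le 2 R)))

theorem abl_D0 : Abl (D0 D t) := by
  have h1 : F[D0 D t] ≤ C[D0 D t] := Fitting_le_of_pcore_le fun p hp _ =>
    cents_symm (h.pgroup_cent hx hxt hxp hxK hp (pcore_le _ _) (norm_pcore _ h.norm_D0)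
      (pcore_pi _ _))
  exact abl_iff.mpr ((le_Fitting_of_cent (H27.Feit_Thompson _ (odd_of_le h.odd D0_le)) le_rfl
    (cents_symm h1)).trans h1)

end withx

end TH

end BT10
end H20
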