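import Mathlib

/-!
# Linear algebra lemmas for strongly closed abelian 2-subgroups, I

A finite group `Γ` acts on a finite elementary abelian `2`-group `V`, written additively.
-/

set_option autoImplicit false
set_option linter.unusedSectionVars false

namespace H20
namespace LA

open Pointwise

variable {Γ V : Type*} [Group Γ] [Finite Γ] [AddCommGroup V] [Finite V] [DistribMulAction Γ V]

theorem mem_sm {g : Γ} {B : AddSubgroup V} {x : V} : x ∈ g • B ↔ g⁻¹ • x ∈ B :=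
  AddSubgroup.mem_pointwise_smul_iff_inv_smul_mem

theorem sm_mem {g : Γ} {B : AddSubgroup V} {x : V} : g • x ∈ g • B ↔ x ∈ B :=
  AddSubgroup.smul_mem_pointwise_smul_iff

theorem card_sm (g : Γ) (B : AddSubgroup V) : Nat.card ↥(g • B) = Nat.card B := by
  have h1 := AddSubgroup.card_mul_index (g • B)
  have h2 := AddSubgroup.card_mul_index B
  rw [AddSubgroup.index_smul] at h1
  exact Nat.eq_of_mul_eq_mul_right (Nat.pos_of_ne_zero AddSubgroup.index_ne_zero_of_finite)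
    (h1.trans h2.symm)

theorem sm_inf (g : Γ) (B C : AddSubgroup V) : g • (B ⊓ C) = g • B ⊓ g • C := by
  ext x; simp only [mem_sm, AddSubgroup.mem_inf]

theorem sm_bot (g : Γ) : g • (⊥ : AddSubgroup V) = ⊥ := by
  ext x; simp only [mem_sm, AddSubgroup.mem_bot, smul_eq_zero_iff_eq]

theorem sm_eq_of_fix {g : Γ} {B : AddSubgroup V} (h : ∀ b ∈ B, g • b = b) : g • B = B := by
  ext x
  rw [mem_sm]
  constructor
  · intro hx
    have := h _ hx
    rw [smul_inv_smul] at this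
    rwa [← this] at hx
  · intro hx
    have := h _ hx
    rwa [← this, inv_smul_smul]

theorem card_inf_mul (H K : AddSubgroup V) :
    Nat.card ↥(H ⊓ K) * H.relIndex K = Nat.card K := by
  rw [← AddSubgroup.inf_relIndex_right, AddSubgroup.relIndex,
    ← Nat.card_congr (AddSubgroup.addSubgroupOfEquivOfLe (inf_le_right : H ⊓ K ≤ K)).toEquiv]
  exact AddSubgroup.card_mul_index _

theorem relIndex_of_sup {H K : AddSubgroup V} (h : H ⊔ K = ⊤) : H.relIndex K = H.index := by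
  rw [← AddSubgroup.relIndex_sup_left K H, h, AddSubgroup.relIndex_top_right]

theorem index_inf_of_sup {H K : AddSubgroup V} (h : H ⊔ K = ⊤) :
    (H ⊓ K).index = H.index * K.index := by
  rw [← AddSubgroup.relIndex_mul_index (inf_le_right : H ⊓ K ≤ K), AddSubgroup.inf_relIndex_right,
    relIndex_of_sup h]

theorem sup_eq_top_of {H K : AddSubgroup V} (h : ∀ x, ∃ p ∈ K, x - p ∈ H) : H ⊔ K = ⊤ := by
  rw [eq_top_iff]
  intro x _
  obtain ⟨p, hp, hx⟩ := h x
  exact AddSubgroup.mem_sup.2 ⟨x - p, hx, p, hp, sub_add_cancel x p⟩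

theorem exists_of_sup {H K : AddSubgroup V} (h : H ⊔ K = ⊤) (x : V) : ∃ p ∈ K, x - p ∈ H := by
  have : x ∈ H ⊔ K := h ▸ AddSubgroup.mem_top x
  obtain ⟨a, ha, b, hb, rfl⟩ := AddSubgroup.mem_sup.1 this
  exact ⟨b, hb, by rwa [add_sub_cancel_right]⟩

theorem sup_of_card {H K : AddSubgroup V} (h : H ⊓ K = ⊥) (hc : H.index ≤ Nat.card K) :
    H ⊔ K = ⊤ := by
  have h1 := card_inf_mul H K
  rw [h, AddSubgroup.card_bot, one_mul, ← AddSubgroup.relIndex_sup_left K H] at h1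
  have h2 := AddSubgroup.relIndex_mul_index (le_sup_left : H ≤ H ⊔ K)
  rw [← AddSubgroup.index_eq_one]
  have h3 : 0 < Nat.card K := Nat.card_pos
  have h4 : (H ⊔ K).index ≠ 0 := AddSubgroup.index_ne_zero_of_finite
  rw [h1] at h2
  by_contra h5
  have : 2 ≤ (H ⊔ K).index := by omega
  nlinarith

theorem card_le_index {H K : AddSubgroup V} (h : H ⊓ K = ⊥) : Nat.card K ≤ H.index := by
  have h1 := card_inf_mul H K
  rw [h, AddSubgroup.card_bot, one_mul] at h1
  rw [← h1, ← AddSubgroup.relIndex_top_right]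
  exact AddSubgroup.relIndex_le_of_le_right le_top
    (by rw [AddSubgroup.relIndex_top_right]; exact AddSubgroup.index_ne_zero_of_finite)

theorem eq_zero_of_inf {H K : AddSubgroup V} (h : H ⊓ K = ⊥) {x : V} (h1 : x ∈ H) (h2 : x ∈ K) :
    x = 0 := by
  have : x ∈ H ⊓ K := ⟨h1, h2⟩
  rwa [h, AddSubgroup.mem_bot] at this

theorem exists_ne_zero {H : AddSubgroup V} (h : H ≠ ⊥) : ∃ x ∈ H, x ≠ 0 := by
  by_contra hc
  push Not at hc
  exact h ((AddSubgroup.eq_bot_iff_forall H).2 hc)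

theorem inf_ne_bot {H K : AddSubgroup V} {x : V} (h1 : x ∈ H) (h2 : x ∈ K) (h0 : x ≠ 0) :
    H ⊓ K ≠ ⊥ := fun h => h0 (eq_zero_of_inf h h1 h2)

theorem exists_not_mem {B : AddSubgroup V} (h : 2 ≤ B.index) : ∃ x, x ∉ B := by
  by_contra hc
  push Not at hc
  have : B = ⊤ := (AddSubgroup.eq_top_iff' B).2 hc
  rw [this, AddSubgroup.index_top] at h
  omega

theorem exists_third {B : AddSubgroup V} (h : 3 ≤ B.index) {x : V} (hx : x ∉ B) :
    ∃ y, y ∉ B ∧ x - y ∉ B := by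
  by_contra hc
  push Not at hc
  have : B.index ∣ 2 := by
    rw [AddSubgroup.index_dvd_two_iff]
    refine ⟨-x, fun b => ?_⟩
    by_cases hb : b ∈ B
    · exact Or.inr hb
    · left
      have := B.neg_mem (hc b hb)
      rwa [neg_sub, sub_eq_add_neg] at this
  have := Nat.le_of_dvd (by norm_num) this
  omega

/-- `U` centralises `B` and is transitive on the nonzero elements of `V / B` -/
structure Tr (B : AddSubgroup V) (U : Subgroup Γ) : Prop where
  four : 4 ≤ B.index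
  cent : ∀ u ∈ U, ∀ b ∈ B, u • b = b
  trans : ∀ x, x ∉ B → ∀ y, y ∉ B → ∃ u ∈ U, Odd (orderOf u) ∧ u • x - y ∈ B
  two : ∀ u ∈ U, ∃ n, Odd n ∧ ∀ x, (u ^ n) • x - x ∈ B

/-- `[V, U]` -/
def PP (V : Type*) [AddCommGroup V] [DistribMulAction Γ V] (U : Subgroup Γ) : AddSubgroup V :=
  AddSubgroup.closure {z | ∃ u ∈ U, ∃ x : V, z = u • x - x}

theorem mem_PP {U : Subgroup Γ} {u : Γ} (hu : u ∈ U) (x : V) : u • x - x ∈ PP V U :=
  AddSubgroup.subset_closure ⟨u, hu, x, rfl⟩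

theorem PP_le {U : Subgroup Γ} {X : AddSubgroup V} (h : ∀ u ∈ U, ∀ x, u • x - x ∈ X) :
    PP V U ≤ X := by
  rw [PP, AddSubgroup.closure_le]
  rintro z ⟨u, hu, x, rfl⟩
  exact h u hu x

theorem smul_mem_PP {U : Subgroup Γ} {u : Γ} (hu : u ∈ U) {x : V} (hx : x ∈ PP V U) :
    u • x ∈ PP V U := by
  have := (PP V U).add_mem (mem_PP hu x) hx
  rwa [sub_add_cancel] at this

theorem Tr.smul_mem {B : AddSubgroup V} {U : Subgroup Γ} (h : Tr B U) {u : Γ} (hu : u ∈ U) {x : V} :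
    u • x ∈ B ↔ x ∈ B := by
  constructor
  · intro hx
    have := h.cent u⁻¹ (U.inv_mem hu) _ hx
    rw [inv_smul_smul] at this
    rwa [this]
  · intro hx
    rwa [h.cent u hu x hx]

theorem Tr.exists_dec {B : AddSubgroup V} {U : Subgroup Γ} (h : Tr B U) (x : V) :
    ∃ u ∈ U, ∃ y, x - (u • y - y) ∈ B := by
  by_cases hx : x ∈ B
  · exact ⟨1, U.one_mem, 0, by simpa using hx⟩
  · have hx' : -x ∉ B := fun h' => hx (by simpa using B.neg_mem h')
    obtain ⟨y, hy, hxy⟩ := exists_third (le_trans (by norm_num) h.four) hx'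
    have : x + y ∉ B := fun h' => hxy (by
      have := B.neg_mem h'
      rwa [neg_add, ← sub_eq_add_neg] at this)
    obtain ⟨u, hu, -, h1⟩ := h.trans y hy (x + y) this
    refine ⟨u, hu, y, ?_⟩
    have := B.neg_mem h1
    convert this using 1
    abel

theorem Tr.sup {B : AddSubgroup V} {U : Subgroup Γ} (h : Tr B U) : B ⊔ PP V U = ⊤ :=
  sup_eq_top_of fun x => by
    obtain ⟨u, hu, y, h1⟩ := h.exists_dec x
    exact ⟨_, mem_PP hu y, h1⟩

theorem Tr.card_PP {B : AddSubgroup V} {U : Subgroup Γ} (h : Tr B U) :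
    Nat.card ↥(B ⊓ PP V U) * B.index = Nat.card (PP V U) := by
  rw [← relIndex_of_sup h.sup]; exact card_inf_mul _ _

theorem Tr.index_le {B : AddSubgroup V} {U : Subgroup Γ} (h : Tr B U) :
    B.index ≤ Nat.card (PP V U) := by
  rw [← h.card_PP]
  exact Nat.le_mul_of_pos_left _ Nat.card_pos

theorem Tr.ne_top {B : AddSubgroup V} {U : Subgroup Γ} (h : Tr B U) : B ≠ ⊤ := by
  intro e
  have := h.four
  rw [e, AddSubgroup.index_top] at this
  omega

theorem eq_of_sq {α : Type*} [MulAction Γ α] {u : Γ} (hu : Odd (orderOf u)) {a : α}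
    (h : (u * u) • a = a) : u • a = a := by
  obtain ⟨k, hk⟩ := hu
  have h1 : ∀ n : ℕ, ((u * u) ^ n) • a = a := fun n =>
    (MulAction.stabilizer Γ a).pow_mem (MulAction.mem_stabilizer_iff.2 h) n
  have h2 : u = (u * u) ^ (k + 1) := by
    rw [← pow_two, ← pow_mul, show 2 * (k + 1) = (2 * k + 1) + 1 by ring, pow_succ, ← hk,
      pow_orderOf_eq_one, one_mul]
  rw [h2]; exact h1 _

/-- LA2, abstract form -/
theorem la2_abs {𝓑 : Set (AddSubgroup V)} {q : ℕ} (hq : 2 ≤ q)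
    (irr : ∀ X : AddSubgroup V, (∀ g : Γ, ∀ x ∈ X, g • x ∈ X) → X = ⊥ ∨ X = ⊤)
    (hne : 𝓑.Nonempty) (hs : ∀ B ∈ 𝓑, ∀ g : Γ, g • B ∈ 𝓑) (hi : ∀ B ∈ 𝓑, B.index = q)
    (orth : ∀ B ∈ 𝓑, ∀ x, ∃ p, (∀ B1 ∈ 𝓑, B1 ≠ B → p ∈ B1) ∧ x - p ∈ B)
    {B' : AddSubgroup V} {U' : Subgroup Γ} (hT : Tr B' U') (hle : B'.index ≤ q) :
    ∃ B ∈ 𝓑, B ≤ B' := by
  have ha : ∀ u ∈ U', Odd (orderOf u) → ∀ B ∈ 𝓑, u • B = B := by
    intro u hu ho B hB
    by_contra hne1
    have h2 : (u * u) • B ≠ B := fun e => hne1 (eq_of_sq ho e)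
    have h3 : (u * u) • B ≠ u • B := fun e => hne1 (by
      rw [mul_smul] at e; exact MulAction.injective u e)
    have hB1 := hs B hB u
    have hB2 := hs B hB (u * u)
    have i1 : (u • B ⊓ B).index = q * q := by
      rw [index_inf_of_sup, hi _ hB1, hi _ hB]
      refine sup_eq_top_of fun x => ?_
      obtain ⟨p, hp, hx⟩ := orth _ hB1 x
      exact ⟨p, hp B hB (Ne.symm hne1), hx⟩
    have i2 : ((u * u) • B ⊓ (u • B ⊓ B)).index = q * (q * q) := by
      rw [index_inf_of_sup, hi _ hB2, i1]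
      refine sup_eq_top_of fun x => ?_
      obtain ⟨p, hp, hx⟩ := orth _ hB2 x
      exact ⟨p, ⟨hp _ hB1 h3.symm, hp B hB h2.symm⟩, hx⟩
    have i3 : B' ⊓ B ≤ (u * u) • B ⊓ (u • B ⊓ B) := by
      intro x hx
      refine ⟨?_, ?_, hx.2⟩
      · rw [← hT.cent _ (U'.mul_mem hu hu) x hx.1]; exact sm_mem.2 hx.2
      · rw [← hT.cent _ hu x hx.1]; exact sm_mem.2 hx.2
    have i4 := AddSubgroup.index_antitone i3
    have i5 : (B' ⊓ B).index ≤ B'.index * B.index := AddSubgroup.index_inf_le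
    rw [hi B hB] at i5
    rw [i2] at i4
    have : B'.index * q ≤ q * q := Nat.mul_le_mul_right _ hle
    have : 2 * (q * q) ≤ q * (q * q) := Nat.mul_le_mul_right _ hq
    have : 0 < q * q := by positivity
    omega
  by_contra hc
  push Not at hc
  have hb : ∀ u ∈ U', Odd (orderOf u) → ∀ x, ∀ B ∈ 𝓑, u • x - x ∈ B := by
    intro u hu ho x B hB
    obtain ⟨x0, hx0, hx0'⟩ := SetLike.not_le_iff_exists.1 (hc B hB)
    have : ∃ b ∈ B, x - b ∈ B' := by
      by_cases hx : x ∈ B'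
      · exact ⟨0, B.zero_mem, by simpa using hx⟩
      · obtain ⟨v, hv, hvo, h1⟩ := hT.trans x0 hx0' x hx
        refine ⟨v • x0, ?_, by simpa using B'.neg_mem h1⟩
        rw [← ha v hv hvo B hB]; exact sm_mem.2 hx0
    obtain ⟨b, hb, h1⟩ := this
    have h2 := hT.cent u hu _ h1
    have h3 : u • b ∈ B := by rw [← ha u hu ho B hB]; exact sm_mem.2 hb
    have : u • x - x = u • b - b := by
      rw [smul_sub] at h2
      linear_combination (norm := abel) h2
    rw [this]; exact B.sub_mem h3 hb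
  have hI : sInf 𝓑 = ⊥ := by
    rcases irr (sInf 𝓑) (fun g x hx => by
      rw [AddSubgroup.mem_sInf] at hx ⊢
      intro B hB
      exact AddSubgroup.mem_inv_pointwise_smul_iff.1 (hx _ (hs B hB g⁻¹))) with h | h
    · exact h
    · obtain ⟨B, hB⟩ := hne
      have : B = ⊤ := top_le_iff.1 (h ▸ sInf_le hB)
      have h1 := hi B hB
      rw [this, AddSubgroup.index_top] at h1
      omega
  obtain ⟨x, hx⟩ := exists_not_mem (le_trans (by norm_num) hT.four)
  obtain ⟨y, hy, hxy⟩ := exists_third (le_trans (by norm_num) hT.four) hx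
  obtain ⟨u, hu, ho, h1⟩ := hT.trans x hx y hy
  have : u • x - x ∈ sInf 𝓑 := AddSubgroup.mem_sInf.2 (hb u hu ho x)
  rw [hI, AddSubgroup.mem_bot, sub_eq_zero] at this
  rw [this] at h1
  exact hxy h1

end LA
end H20
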