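import Mathlib
import Cfsg.Agent.H20.GoldLA1

/-!
# Linear algebra lemmas for strongly closed abelian 2-subgroups, II: the odd case
-/

set_option autoImplicit false
set_option linter.unusedSectionVars false

namespace H20
namespace LA

open Pointwise

variable {Γ V : Type*} [Group Γ] [Finite Γ] [AddCommGroup V] [Finite V] [DistribMulAction Γ V]

/-- the hypotheses of LA1 for the whole family of conjugates -/
structure Fam (𝓑 : Set (AddSubgroup V)) (U : AddSubgroup V → Subgroup Γ) : Prop where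
  two2 : ∀ x : V, x + x = 0
  faith : ∀ g : Γ, (∀ x : V, g • x = x) → g = 1
  irr : ∀ X : AddSubgroup V, (∀ g : Γ, ∀ x ∈ X, g • x ∈ X) → X = ⊥ ∨ X = ⊤
  noidx : ∀ L : Subgroup Γ, L.index ≠ 2
  nonempty : 𝓑.Nonempty
  smul : ∀ B ∈ 𝓑, ∀ g : Γ, g • B ∈ 𝓑
  tr : ∀ B ∈ 𝓑, ∀ B' ∈ 𝓑, ∃ g : Γ, g • B = B'
  ne : ∀ B ∈ 𝓑, B ≠ ⊥
  trs : ∀ B ∈ 𝓑, Tr B (U B)
  equiv : ∀ B ∈ 𝓑, ∀ g : Γ, ∀ u ∈ U B, g * u * g⁻¹ ∈ U (g • B)
  n2 : ∀ B ∈ 𝓑, ∀ B' ∈ 𝓑, B ≠ B' → B ⊓ B' ≠ ⊥ → PP V (U B') ≤ B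

variable {𝓑 : Set (AddSubgroup V)} {U : AddSubgroup V → Subgroup Γ} {B B' B'' : AddSubgroup V}

theorem sm_ne {g : Γ} {x : V} (hx : x ≠ 0) : g • x ≠ 0 := fun e => hx (smul_eq_zero_iff_eq g |>.1 e)

theorem Fam.neg (h : Fam 𝓑 U) (x : V) : -x = x := neg_eq_of_add_eq_zero_left (h.two2 x)

theorem Fam.index_eq (h : Fam 𝓑 U) (hB : B ∈ 𝓑) (hB' : B' ∈ 𝓑) : B'.index = B.index := by
  obtain ⟨g, rfl⟩ := h.tr B hB B' hB'
  exact AddSubgroup.index_smul g B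

theorem Fam.card_eq (h : Fam 𝓑 U) (hB : B ∈ 𝓑) (hB' : B' ∈ 𝓑) : Nat.card B' = Nat.card B := by
  obtain ⟨g, rfl⟩ := h.tr B hB B' hB'
  exact card_sm g B

theorem Fam.sm_PP_le (h : Fam 𝓑 U) (hB : B ∈ 𝓑) (g : Γ) {x : V} (hx : x ∈ PP V (U B)) :
    g • x ∈ PP V (U (g • B)) := by
  have : PP V (U B) ≤ g⁻¹ • PP V (U (g • B)) := PP_le fun u hu y => by
    rw [AddSubgroup.mem_inv_pointwise_smul_iff]
    have := mem_PP (V := V) (h.equiv B hB g u hu) (g • y)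
    rwa [mul_smul, inv_smul_smul, mul_smul, ← smul_sub] at this
  exact AddSubgroup.mem_inv_pointwise_smul_iff.1 (this hx)

theorem Fam.sm_PP (h : Fam 𝓑 U) (hB : B ∈ 𝓑) (g : Γ) {x : V} :
    g • x ∈ PP V (U (g • B)) ↔ x ∈ PP V (U B) := by
  refine ⟨fun hx => ?_, h.sm_PP_le hB g⟩
  have := h.sm_PP_le (h.smul B hB g) g⁻¹ hx
  rwa [inv_smul_smul, inv_smul_smul] at this

theorem Fam.sInf_eq (h : Fam 𝓑 U) : sInf 𝓑 = ⊥ := by
  rcases h.irr (sInf 𝓑) (fun g x hx => by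
    rw [AddSubgroup.mem_sInf] at hx ⊢
    intro B hB
    exact AddSubgroup.mem_inv_pointwise_smul_iff.1 (hx _ (h.smul B hB g⁻¹))) with e | e
  · exact e
  · obtain ⟨B, hB⟩ := h.nonempty
    exact absurd (top_le_iff.1 (e ▸ sInf_le hB)) (h.trs B hB).ne_top

/-- if no two members intersect trivially then all intersections have order at least `4` -/
theorem Fam.four_le (h : Fam 𝓑 U) (hn : ∀ B ∈ 𝓑, ∀ B' ∈ 𝓑, B ⊓ B' ≠ ⊥) (hB : B ∈ 𝓑)
    (hB' : B' ∈ 𝓑) : 4 ≤ Nat.card ↥(B ⊓ B') := by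
  by_cases h3 : ∃ B'' ∈ 𝓑, B ≠ B'' ∧ B' ≠ B''
  · obtain ⟨B'', hB'', h1, h2⟩ := h3
    have : PP V (U B'') ≤ B ⊓ B' :=
      le_inf (h.n2 B hB B'' hB'' h1 (hn _ hB _ hB'')) (h.n2 B' hB' B'' hB'' h2 (hn _ hB' _ hB''))
    exact (h.trs _ hB'').four.trans ((h.trs _ hB'').index_le.trans (AddSubgroup.card_le_of_le this))
  · push Not at h3
    exfalso
    apply hn B hB B' hB'
    rw [eq_bot_iff, ← h.sInf_eq]
    refine le_sInf fun B'' hB'' => ?_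
    by_cases e : B = B''
    · exact e ▸ inf_le_left
    · exact h3 B'' hB'' e ▸ inf_le_right

/-- trivial intersections -/
def TI (𝓑 : Set (AddSubgroup V)) : Prop := ∀ B ∈ 𝓑, ∀ B' ∈ 𝓑, B ≠ B' → B ⊓ B' = ⊥

theorem Fam.ti (h : Fam 𝓑 U) (hn : ¬ ∀ B ∈ 𝓑, ∀ B' ∈ 𝓑, B ⊓ B' ≠ ⊥) : TI 𝓑 := by
  push Not at hn
  obtain ⟨B1, h1, B2, h2, h12⟩ := hn
  intro B hB B' hB' hne
  by_contra hc
  have hP : PP V (U B) ≤ B' := h.n2 B' hB' B hB hne.symm (by rwa [inf_comm])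
  have c1 := card_le_index h12
  rw [h.index_eq hB h1, h.card_eq hB' h2] at c1
  have c2 := (h.trs B hB).index_le
  have e : PP V (U B) = B' := AddSubgroup.eq_of_le_of_card_ge hP (c1.trans c2)
  have c3 := (h.trs B hB).card_PP
  rw [e] at c3
  have c4 : 1 < Nat.card ↥(B ⊓ B') := (AddSubgroup.one_lt_card_iff_ne_bot _).2 hc
  have c5 := (h.trs B hB).four
  nlinarith

theorem TI.eq (ht : TI 𝓑) (hB : B ∈ 𝓑) (hB' : B' ∈ 𝓑) {x : V} (h1 : x ∈ B) (h2 : x ∈ B')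
    (h0 : x ≠ 0) : B = B' := by
  by_contra hne
  exact h0 (eq_zero_of_inf (ht B hB B' hB' hne) h1 h2)

theorem Fam.exists_ne (h : Fam 𝓑 U) (hB : B ∈ 𝓑) : ∃ B' ∈ 𝓑, B' ≠ B := by
  by_contra hc
  push Not at hc
  apply h.ne B hB
  rw [eq_bot_iff, ← h.sInf_eq]
  exact le_sInf fun B' hB' => (hc B' hB').ge

theorem Fam.exists_third (h : Fam 𝓑 U) (hB : B ∈ 𝓑) (hB' : B' ∈ 𝓑) (hne : B' ≠ B) :
    ∃ B'' ∈ 𝓑, B'' ≠ B ∧ B'' ≠ B' := by
  by_contra hc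
  push Not at hc
  apply h.noidx (MulAction.stabilizer Γ B)
  rw [MulAction.index_stabilizer]
  have : MulAction.orbit Γ B = {B, B'} := by
    ext X
    constructor
    · rintro ⟨g, rfl⟩
      by_cases e : g • B = B
      · exact Or.inl e
      · exact Or.inr (hc _ (h.smul B hB g) e)
    · rintro (rfl | rfl)
      · exact MulAction.mem_orbit_self _
      · exact h.tr B hB _ hB'
  rw [this, Set.ncard_pair hne.symm]

theorem Fam.even_card (h : Fam 𝓑 U) {X : AddSubgroup V} (hX : X ≠ ⊥) : Even (Nat.card X) := by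
  obtain ⟨x, hx, h0⟩ := exists_ne_zero hX
  have h2 : addOrderOf x = 2 := addOrderOf_eq_prime (by rw [two_nsmul, h.two2]) h0
  rw [even_iff_two_dvd, ← h2]
  exact AddSubgroup.addOrderOf_dvd_natCard X hx

/-- the case in which the groups `U B` act faithfully on `V / B` -/
def Odc (𝓑 : Set (AddSubgroup V)) (U : AddSubgroup V → Subgroup Γ) : Prop :=
  ∀ B ∈ 𝓑, ∀ u ∈ U B, (∀ x, u • x - x ∈ B) → u = 1

section odd

theorem Fam.odd_card (h : Fam 𝓑 U) (ho : Odc 𝓑 U) (hB : B ∈ 𝓑) : Odd (Nat.card (U B)) := by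
  rw [← Nat.not_even_iff_odd, even_iff_two_dvd]
  intro h2
  have : Fact (Nat.Prime 2) := ⟨Nat.prime_two⟩
  obtain ⟨x, hx⟩ := exists_prime_orderOf_dvd_card' 2 h2
  obtain ⟨n, hn, h1⟩ := (h.trs B hB).two x x.2
  have h3 := ho B hB _ ((U B).pow_mem x.2 n) h1
  have h4 : orderOf (x : Γ) = 2 := by rw [Subgroup.orderOf_coe, hx]
  have := orderOf_dvd_of_pow_eq_one h3
  rw [h4] at this
  exact (Nat.not_even_iff_odd.2 hn) (even_iff_two_dvd.2 this)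

theorem Fam.inf_PP (h : Fam 𝓑 U) (ho : Odc 𝓑 U) (hB : B ∈ 𝓑) : B ⊓ PP V (U B) = ⊥ := by
  classical
  have := Fintype.ofFinite (U B)
  let N : V →+ V := ∑ u : U B, DistribSMul.toAddMonoidHom V (u : Γ)
  have hN : ∀ x, N x = ∑ u : U B, (u : Γ) • x := fun x => by
    simp [N]
  have h1 : PP V (U B) ≤ N.ker := PP_le fun v hv x => by
    rw [AddMonoidHom.mem_ker, map_sub, hN, hN, sub_eq_zero]
    exact Fintype.sum_equiv (Equiv.mulRight (⟨v, hv⟩ : U B)) _ _ fun u => by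
      simp [mul_smul]
  rw [eq_bot_iff]
  intro b hb
  have h2 := h1 hb.2
  rw [AddMonoidHom.mem_ker, hN, Finset.sum_congr rfl fun (u : U B) _ => (h.trs B hB).cent u u.2 b hb.1,
    Finset.sum_const, Finset.card_univ, ← Nat.card_eq_fintype_card] at h2
  obtain ⟨k, hk⟩ := h.odd_card ho hB
  rw [hk, add_nsmul, mul_nsmul, two_nsmul, h.two2, nsmul_zero, zero_add, one_nsmul] at h2
  exact h2

theorem Fam.card_PP (h : Fam 𝓑 U) (ho : Odc 𝓑 U) (hB : B ∈ 𝓑) :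
    Nat.card (PP V (U B)) = B.index := by
  have := (h.trs B hB).card_PP
  rw [h.inf_PP ho hB, AddSubgroup.card_bot, one_mul] at this
  exact this.symm

theorem Fam.index_PP (h : Fam 𝓑 U) (ho : Odc 𝓑 U) (hB : B ∈ 𝓑) :
    (PP V (U B)).index = Nat.card B := by
  have h1 := AddSubgroup.card_mul_index B
  have h2 := AddSubgroup.card_mul_index (PP V (U B))
  rw [h.card_PP ho hB, mul_comm] at h2
  exact Nat.eq_of_mul_eq_mul_right (Nat.pos_of_ne_zero AddSubgroup.index_ne_zero_of_finite)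
    (h2.trans h1.symm)

theorem Fam.trans_PP (h : Fam 𝓑 U) (ho : Odc 𝓑 U) (hB : B ∈ 𝓑) {x y : V} (hx : x ∈ PP V (U B))
    (hx0 : x ≠ 0) (hy : y ∈ PP V (U B)) (hy0 : y ≠ 0) : ∃ u ∈ U B, u • x = y := by
  obtain ⟨u, hu, -, h1⟩ := (h.trs B hB).trans x (fun e => hx0 (eq_zero_of_inf (h.inf_PP ho hB) e hx))
    y (fun e => hy0 (eq_zero_of_inf (h.inf_PP ho hB) e hy))
  exact ⟨u, hu, sub_eq_zero.1 (eq_zero_of_inf (h.inf_PP ho hB) h1
    (AddSubgroup.sub_mem _ (smul_mem_PP hu hx) hy))⟩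

theorem Fam.trans_coset (h : Fam 𝓑 U) (ho : Odc 𝓑 U) (hB : B ∈ 𝓑) {x y : V} (hx : x ∉ B)
    (hy : y ∉ B) (hxy : x - y ∈ PP V (U B)) : ∃ u ∈ U B, u • x = y := by
  obtain ⟨u, hu, -, h1⟩ := (h.trs B hB).trans x hx y hy
  refine ⟨u, hu, sub_eq_zero.1 (eq_zero_of_inf (h.inf_PP ho hB) h1 ?_)⟩
  have := AddSubgroup.add_mem _ (mem_PP hu x) hxy
  rwa [sub_add_sub_cancel] at this

theorem Fam.le_or (h : Fam 𝓑 U) (ht : TI 𝓑) (ho : Odc 𝓑 U) (hB : B ∈ 𝓑) (hB' : B' ∈ 𝓑)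
    (hne : B' ≠ B) : B' ≤ PP V (U B) ∨ B' ⊓ PP V (U B) = ⊥ := by
  by_contra hc
  push Not at hc
  obtain ⟨z, hz, hzP⟩ := SetLike.not_le_iff_exists.1 hc.1
  have hz0 : z ≠ 0 := fun e => hzP (e ▸ AddSubgroup.zero_mem _)
  let S : Subgroup Γ := U B ⊓ MulAction.stabilizer Γ B'
  have hS : Odd (Nat.card S) := Odd.of_dvd_nat (h.odd_card ho hB) (Subgroup.card_dvd_of_le inf_le_left)
  have horb : MulAction.orbit S z = (fun p => z + p) '' (↑(B' ⊓ PP V (U B)) : Set V) := by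
    ext w
    constructor
    · rintro ⟨s, rfl⟩
      have h1 : (s : Γ) • z ∈ B' := by
        have : (s : Γ) • B' = B' := s.2.2
        rw [← this]; exact sm_mem.2 hz
      exact ⟨(s : Γ) • z - z, ⟨B'.sub_mem h1 hz, mem_PP s.2.1 z⟩, add_sub_cancel z _⟩
    · rintro ⟨p, hp, rfl⟩
      have hw : z + p ∈ B' := B'.add_mem hz hp.1
      have hw0 : z + p ≠ 0 := fun e => hzP (by
        rw [add_eq_zero_iff_eq_neg] at e
        rw [e]; exact AddSubgroup.neg_mem _ hp.2)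
      obtain ⟨u, hu, h1⟩ := h.trans_coset ho hB (x := z) (y := z + p)
        (fun e => hne (ht.eq hB' hB hz e hz0)) (fun e => hne (ht.eq hB' hB hw e hw0))
        (by simpa using AddSubgroup.neg_mem _ hp.2)
      have h2 : u • B' = B' := ht.eq (h.smul _ hB' u) hB' (h1 ▸ sm_mem.2 hz) hw hw0
      exact ⟨⟨u, hu, h2⟩, h1⟩
  have h1 := MulAction.index_stabilizer S z
  rw [horb, Set.ncard_image_of_injective _ (add_right_injective z), ← Nat.card_coe_set_eq,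
    SetLike.coe_sort_coe] at h1
  have h2 := h.even_card hc.2
  rw [← h1] at h2
  exact (Nat.not_even_iff_odd.2 (Odd.of_dvd_nat hS (Subgroup.index_dvd_card _))) h2

theorem Fam.cover_of (h : Fam 𝓑 U) (ht : TI 𝓑) (ho : Odc 𝓑 U) (hB : B ∈ 𝓑) (hB' : B' ∈ 𝓑)
    (hne : B' ≠ B) (hi : B' ⊓ PP V (U B) = ⊥) {x : V} (hx : x ∉ PP V (U B)) (hxB : x ∉ B) :
    ∃ u ∈ U B, x ∈ u • B' := by
  have hs : PP V (U B) ⊔ B' = ⊤ :=
    sup_of_card (by rwa [inf_comm]) (by rw [h.index_PP ho hB, h.card_eq hB hB'])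
  obtain ⟨b, hb, h1⟩ := exists_of_sup hs x
  have hb0 : b ≠ 0 := fun e => hx (by simpa [e] using h1)
  obtain ⟨u, hu, h2⟩ := h.trans_coset ho hB (x := b) (y := x)
    (fun e => hne (ht.eq hB' hB hb e hb0)) hxB (by simpa using AddSubgroup.neg_mem _ h1)
  exact ⟨u, hu, h2 ▸ sm_mem.2 hb⟩

theorem Fam.exists_disj (h : Fam 𝓑 U) (ht : TI 𝓑) (ho : Odc 𝓑 U) (hB : B ∈ 𝓑) :
    ∃ B' ∈ 𝓑, B' ≠ B ∧ B' ⊓ PP V (U B) = ⊥ := by
  by_contra hc
  push Not at hc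
  have hall : ∀ B1 ∈ 𝓑, ∀ B2 ∈ 𝓑, B2 ≠ B1 → B2 ≤ PP V (U B1) := by
    intro B1 h1 B2 h2 hne
    obtain ⟨g, rfl⟩ := h.tr B hB B1 h1
    have h3 := h.smul B2 h2 g⁻¹
    have h4 : g⁻¹ • B2 ≠ B := fun e => hne (by rw [← e, smul_inv_smul])
    have h5 := (h.le_or ht ho hB h3 h4).resolve_right (hc _ h3 h4)
    intro x hx
    have := (h.sm_PP hB g).2 (h5 (sm_mem (g := g⁻¹).2 hx))
    rwa [smul_inv_smul] at this
  obtain ⟨B2, h2, hne2⟩ := h.exists_ne hB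
  obtain ⟨B3, h3, hne3, hne23⟩ := h.exists_third hB h2 hne2
  obtain ⟨b, hb, hb0⟩ := exists_ne_zero (h.ne B hB)
  obtain ⟨c, hc3, hc0⟩ := exists_ne_zero (h.ne B3 h3)
  have hbc : b + c ∉ B := fun e => hne3 (ht.eq h3 hB hc3 ((B.add_mem_cancel_left hb).1 e) hc0)
  have hbP := hall B2 h2 B hB hne2.symm hb
  obtain ⟨u, hu, h4⟩ := h.trans_PP ho h2 hbP hb0
    (AddSubgroup.add_mem _ hbP (hall B2 h2 B3 h3 hne23 hc3)) (fun e => hbc (e ▸ B.zero_mem))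
  have h5 : b + c ∈ u • B := h4 ▸ sm_mem.2 hb
  have h6 := hall B hB _ (h.smul B hB u) (fun e => hbc (e ▸ h5)) h5
  rw [AddSubgroup.add_mem_cancel_right _ (hall B hB B3 h3 hne3 hc3)] at h6
  exact hb0 (eq_zero_of_inf (h.inf_PP ho hB) hb h6)

theorem Fam.cover (h : Fam 𝓑 U) (ht : TI 𝓑) (ho : Odc 𝓑 U) {x : V} (hx : x ≠ 0) :
    ∃ B ∈ 𝓑, x ∈ B := by
  have : ∃ B ∈ 𝓑, x ∉ PP V (U B) := by
    by_contra hc
    push Not at hc
    rcases h.irr (⨅ B ∈ 𝓑, PP V (U B)) (fun g y hy => by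
      simp only [AddSubgroup.mem_iInf] at hy ⊢
      intro B hB
      have := (h.sm_PP (h.smul B hB g⁻¹) g).2 (hy _ (h.smul B hB g⁻¹))
      rwa [smul_inv_smul] at this) with e | e
    · apply hx
      rw [← AddSubgroup.mem_bot, ← e]
      simpa only [AddSubgroup.mem_iInf] using hc
    · obtain ⟨B, hB⟩ := h.nonempty
      have h1 : PP V (U B) = ⊤ := top_le_iff.1 (e ▸ iInf₂_le B hB)
      have h2 := h.inf_PP ho hB
      rw [h1, inf_top_eq] at h2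
      exact h.ne B hB h2
  obtain ⟨B, hB, hP⟩ := this
  by_cases hxB : x ∈ B
  · exact ⟨B, hB, hxB⟩
  · obtain ⟨B', hB', hne, hi⟩ := h.exists_disj ht ho hB
    obtain ⟨u, -, h1⟩ := h.cover_of ht ho hB hB' hne hi hP hxB
    exact ⟨_, h.smul B' hB' u, h1⟩

theorem Fam.le_PP (h : Fam 𝓑 U) (ht : TI 𝓑) (ho : Odc 𝓑 U) (hB : B ∈ 𝓑) (hB' : B' ∈ 𝓑) {x : V}
    (hx : x ∈ B') (hP : x ∈ PP V (U B)) (h0 : x ≠ 0) : B' ≤ PP V (U B) :=
  (h.le_or ht ho hB hB' (fun e => h0 (eq_zero_of_inf (h.inf_PP ho hB) (e ▸ hx) hP))).resolve_right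
    (inf_ne_bot hx hP h0)

theorem Fam.PP_ne (h : Fam 𝓑 U) (hB : B ∈ 𝓑) : PP V (U B) ≠ ⊥ := by
  rw [← AddSubgroup.one_lt_card_iff_ne_bot]
  have := (h.trs B hB).four
  have := (h.trs B hB).index_le
  omega

theorem Fam.transitive (h : Fam 𝓑 U) (ht : TI 𝓑) (ho : Odc 𝓑 U) {x y : V} (hx : x ≠ 0)
    (hy : y ≠ 0) : ∃ g : Γ, g • x = y := by
  obtain ⟨B, hB⟩ := h.nonempty
  obtain ⟨p, hp, hp0⟩ := exists_ne_zero (h.PP_ne hB)
  obtain ⟨B', hB', hp'⟩ := h.cover ht ho hp0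
  have hle := h.le_PP ht ho hB hB' hp' hp hp0
  have key : ∀ z : V, z ≠ 0 → ∃ g : Γ, g • z ∈ PP V (U B) := fun z hz => by
    obtain ⟨B1, h1, hz1⟩ := h.cover ht ho hz
    obtain ⟨g, rfl⟩ := h.tr B1 h1 B' hB'
    exact ⟨g, hle (sm_mem.2 hz1)⟩
  obtain ⟨g1, h1⟩ := key x hx
  obtain ⟨g2, h2⟩ := key y hy
  obtain ⟨u, -, h3⟩ := h.trans_PP ho hB h1 (sm_ne hx) h2 (sm_ne hy)
  exact ⟨g2⁻¹ * u * g1, by rw [mul_smul, mul_smul, h3, inv_smul_smul]⟩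

theorem odd_ncard_diff {X : AddSubgroup V} (hX : Even (Nat.card X)) :
    Odd ((X : Set V) \ {0}).ncard := by
  rw [Set.ncard_sdiff_singleton_of_mem X.zero_mem, ← Nat.card_coe_set_eq, SetLike.coe_sort_coe]
  exact Nat.Even.sub_odd Nat.card_pos hX odd_one

theorem Fam.not_symm (h : Fam 𝓑 U) (ht : TI 𝓑) (ho : Odc 𝓑 U) :
    ∃ B ∈ 𝓑, ∃ B' ∈ 𝓑, B' ≤ PP V (U B) ∧ ¬ B ≤ PP V (U B') := by
  classical
  by_contra hc
  push Not at hc
  have := Fintype.ofFinite V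
  let Gr : SimpleGraph V :=
    { Adj := fun x y => x ≠ 0 ∧ y ≠ 0 ∧ ∃ B ∈ 𝓑, x ∈ B ∧ y ∈ PP V (U B)
      symm := ⟨fun x y ⟨hx, hy, B, hB, h1, h2⟩ => by
        obtain ⟨B', hB', h3⟩ := h.cover ht ho hy
        exact ⟨hy, hx, B', hB', h3, hc B hB B' hB' (h.le_PP ht ho hB hB' h3 h2 hy) h1⟩⟩
      loopless := ⟨fun x ⟨hx, _, B, hB, h1, h2⟩ => hx (eq_zero_of_inf (h.inf_PP ho hB) h1 h2)⟩ }
  have hdeg : ∀ x, Odd (Gr.degree x) ↔ x ≠ 0 := by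
    intro x
    rw [← SimpleGraph.card_neighborSet_eq_degree, ← Nat.card_eq_fintype_card,
      Nat.card_coe_set_eq]
    by_cases hx : x = 0
    · have : Gr.neighborSet x = ∅ := by
        ext y; simp [Gr, hx]
      rw [this]; simp [hx]
    · obtain ⟨B, hB, h1⟩ := h.cover ht ho hx
      have : Gr.neighborSet x = (PP V (U B) : Set V) \ {0} := by
        ext y
        constructor
        · rintro ⟨-, hy, B', hB', h2, h3⟩
          exact ⟨ht.eq hB' hB h2 h1 hx ▸ h3, hy⟩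
        · rintro ⟨h2, h3⟩
          exact ⟨hx, h3, B, hB, h1, h2⟩
      rw [this]
      exact iff_of_true (odd_ncard_diff (h.even_card (h.PP_ne hB))) hx
  have h1 := Gr.even_card_odd_degree_vertices
  simp only [hdeg] at h1
  obtain ⟨B, hB⟩ := h.nonempty
  have h2 := odd_ncard_diff (h.even_card (X := ⊤) (ne_bot_of_le_ne_bot (h.ne B hB) le_top))
  rw [← Set.ncard_coe_finset] at h1
  apply Nat.not_even_iff_odd.2 h2
  convert h1 using 2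
  ext y; simp

theorem Fam.anti (h : Fam 𝓑 U) (ht : TI 𝓑) (ho : Odc 𝓑 U) (hB : B ∈ 𝓑) (hB' : B' ∈ 𝓑)
    (hle : B' ≤ PP V (U B)) : ¬ B ≤ PP V (U B') := by
  obtain ⟨B1, h1, B2, h2, h12, h21⟩ := h.not_symm ht ho
  obtain ⟨g, rfl⟩ := h.tr B1 h1 B hB
  obtain ⟨y, hy, hy0⟩ := exists_ne_zero (h.ne B2 h2)
  obtain ⟨z, hz, hz0⟩ := exists_ne_zero (h.ne B' hB')
  obtain ⟨u, hu, h3⟩ := h.trans_PP ho hB ((h.sm_PP h1 g).2 (h12 hy)) (sm_ne hy0) (hle hz) hz0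
  have h4 : (u * g) • B2 = B' :=
    ht.eq (h.smul _ h2 _) hB' (by rw [← h3, ← mul_smul]; exact sm_mem.2 hy) hz hz0
  intro h5
  apply h21
  intro x hx
  rw [← h.sm_PP h2 (u * g), h4, mul_smul, (h.trs _ hB).cent u hu _ (sm_mem.2 hx)]
  exact h5 (sm_mem.2 hx)

theorem Fam.total (h : Fam 𝓑 U) (ht : TI 𝓑) (ho : Odc 𝓑 U) (hB : B ∈ 𝓑) (hB' : B' ∈ 𝓑)
    (hne : B' ≠ B) (hn : ¬ B' ≤ PP V (U B)) : B ≤ PP V (U B') := by
  obtain ⟨B1, h1, B2, h2, h12, -⟩ := h.not_symm ht ho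
  obtain ⟨g, rfl⟩ := h.tr B2 h2 B hB
  have h3 := h.smul B1 h1 g
  have h4 : g • B2 ≤ PP V (U (g • B1)) := fun x hx => by
    have := (h.sm_PP h1 g).2 (h12 (mem_sm.1 hx))
    rwa [smul_inv_smul] at this
  have h5 : g • B1 ≠ g • B2 := fun e => h.ne _ hB (by
    rw [eq_bot_iff, ← h.inf_PP ho h3]
    exact le_inf e.ge h4)
  have h6 := (h.le_or ht ho hB h3 h5).resolve_left (h.anti ht ho h3 hB h4)
  obtain ⟨z, hz, hzP⟩ := SetLike.not_le_iff_exists.1 hn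
  have hz0 : z ≠ 0 := fun e => hzP (e ▸ AddSubgroup.zero_mem _)
  obtain ⟨u, hu, h7⟩ := h.cover_of ht ho hB h3 h5 h6 hzP (fun e => hne (ht.eq hB' hB hz e hz0))
  have h8 : u • g • B1 = B' := ht.eq (h.smul _ h3 u) hB' h7 hz hz0
  intro x hx
  rw [← h8, ← (h.trs _ hB).cent u hu x hx, h.sm_PP h3]
  exact h4 hx

theorem Fam.eq_of_mem (h : Fam 𝓑 U) (ht : TI 𝓑) (ho : Odc 𝓑 U) (hB : B ∈ 𝓑) {a c : V}
    (ha : a ∈ B) (ha0 : a ≠ 0) (hc : c ∈ B) (hc0 : c ≠ 0) : a = c := by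
  obtain ⟨p, hp, hp0⟩ := exists_ne_zero (h.PP_ne hB)
  obtain ⟨Bp, hBp, hp'⟩ := h.cover ht ho hp0
  have hle := h.le_PP ht ho hB hBp hp' hp hp0
  have hne : B ≠ Bp := fun e => hp0 (eq_zero_of_inf (h.inf_PP ho hB) (e ▸ hp') hp)
  have hi := (h.le_or ht ho hBp hB hne).resolve_left (h.anti ht ho hB hBp hle)
  have key : ∀ a ∈ B, a ≠ 0 → a + p ∈ PP V (U Bp) := by
    intro a ha ha0
    have h1 : a + p ∉ PP V (U B) := fun e =>
      ha0 (eq_zero_of_inf (h.inf_PP ho hB) ha ((AddSubgroup.add_mem_cancel_right _ hp).1 e))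
    have h0 : a + p ≠ 0 := fun e => h1 (e ▸ AddSubgroup.zero_mem _)
    obtain ⟨B', hB', h2⟩ := h.cover ht ho h0
    have h3 : B' ≠ B := fun e => hp0 (eq_zero_of_inf (h.inf_PP ho hB)
      ((B.add_mem_cancel_left ha).1 (e ▸ h2)) hp)
    have h4 := h.total ht ho hB hB' h3 (fun e => h1 (e h2))
    have h5 : Bp ≠ B' := fun e => h1 (hle (e ▸ h2))
    by_contra h6
    have h7 := h.total ht ho hBp hB' h5.symm (fun e => h6 (e h2))
    exact h0 (eq_zero_of_inf (h.inf_PP ho hB') h2 (AddSubgroup.add_mem _ (h4 ha) (h7 hp')))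
  have h1 := AddSubgroup.sub_mem _ (key a ha ha0) (key c hc hc0)
  rw [add_sub_add_right_eq_sub] at h1
  exact sub_eq_zero.1 (eq_zero_of_inf hi (B.sub_mem ha hc) h1)

theorem Fam.card_two (h : Fam 𝓑 U) (ht : TI 𝓑) (ho : Odc 𝓑 U) (hB : B ∈ 𝓑) : Nat.card B = 2 := by
  obtain ⟨a, ha, ha0⟩ := exists_ne_zero (h.ne B hB)
  rw [Nat.card_eq_two_iff' (0 : B)]
  refine ⟨⟨a, ha⟩, fun e => ha0 (congrArg Subtype.val e), fun y hy => Subtype.ext ?_⟩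
  exact h.eq_of_mem ht ho hB y.2 (fun e => hy (Subtype.ext e)) ha ha0

theorem Fam.not_mem_PP (h : Fam 𝓑 U) (ht : TI 𝓑) (ho : Odc 𝓑 U) (hB : B ∈ 𝓑) (hB' : B' ∈ 𝓑)
    {x z : V} (hx : x ∈ B) (hx0 : x ≠ 0) (hz : z ∈ B') (hz0 : z ≠ 0) (hP : z ∈ PP V (U B)) :
    x ∉ PP V (U B') := fun e =>
  h.anti ht ho hB hB' (h.le_PP ht ho hB hB' hz hP hz0) (h.le_PP ht ho hB' hB hx e hx0)

theorem Fam.card_eight (h : Fam 𝓑 U) (ht : TI 𝓑) (ho : Odc 𝓑 U) : Nat.card V = 8 := by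
  obtain ⟨B1, h1⟩ := h.nonempty
  obtain ⟨B2, h2, hne⟩ := h.exists_ne h1
  obtain ⟨x, hx, hx0⟩ := exists_ne_zero (h.ne B1 h1)
  obtain ⟨y, hy, hy0⟩ := exists_ne_zero (h.ne B2 h2)
  have hxy : x + y ≠ 0 := fun e => hne (ht.eq h2 h1 hy (by
    rw [add_eq_zero_iff_neg_eq] at e
    rw [← e]; exact B1.neg_mem hx) hy0)
  obtain ⟨B3, h3, hz⟩ := h.cover ht ho hxy
  have hi : ∀ B ∈ 𝓑, (PP V (U B)).index = 2 := fun B hB => by
    rw [h.index_PP ho hB, h.card_two ht ho hB]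
  have hb : PP V (U B1) ⊓ (PP V (U B2) ⊓ PP V (U B3)) = ⊥ := by
    rw [eq_bot_iff]
    intro z hz'
    by_contra hz0
    rw [AddSubgroup.mem_bot] at hz0
    obtain ⟨B, hB, h4⟩ := h.cover ht ho hz0
    have k1 := h.not_mem_PP ht ho h1 hB hx hx0 h4 hz0 hz'.1
    have k2 := h.not_mem_PP ht ho h2 hB hy hy0 h4 hz0 hz'.2.1
    have k3 := h.not_mem_PP ht ho h3 hB hz hxy h4 hz0 hz'.2.2
    exact k3 ((AddSubgroup.add_mem_iff_of_index_two (hi B hB)).2 (iff_of_false k1 k2))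
  have c1 : (PP V (U B1) ⊓ (PP V (U B2) ⊓ PP V (U B3))).index ≤ 2 * (2 * 2) := by
    refine AddSubgroup.index_inf_le.trans ?_
    rw [hi B1 h1]
    refine Nat.mul_le_mul_left _ (AddSubgroup.index_inf_le.trans ?_)
    rw [hi B2 h2, hi B3 h3]
  rw [hb, AddSubgroup.index_bot] at c1
  have c2 := AddSubgroup.card_mul_index B1
  rw [h.card_two ht ho h1] at c2
  have := (h.trs B1 h1).four
  omega

theorem Fam.no_inv (h : Fam 𝓑 U) (ht : TI 𝓑) (ho : Odc 𝓑 U) {s : Γ} (hs : s * s = 1) : s = 1 := by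
  refine h.faith s fun a => ?_
  by_contra ha
  have ha0 : a ≠ 0 := fun e => ha (by rw [e, smul_zero])
  obtain ⟨B, hB, h1⟩ := h.cover ht ho ha0
  have hB' := h.smul B hB s
  have hss : s • s • B = B := by rw [← mul_smul, hs, one_smul]
  have hne : s • B ≠ B := fun e =>
    ha (h.eq_of_mem ht ho hB (e ▸ sm_mem.2 h1) (sm_ne ha0) h1 ha0)
  have k : s • B ≤ PP V (U B) ↔ B ≤ PP V (U (s • B)) := by
    constructor
    · intro e x hx
      have := (h.sm_PP hB s).2 (e (sm_mem.2 hx))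
      rwa [← mul_smul, hs, one_smul] at this
    · intro e x hx
      have := (h.sm_PP hB' s).2 (e (mem_sm.1 hx))
      rwa [smul_inv_smul, hss] at this
  by_cases e : s • B ≤ PP V (U B)
  · exact h.anti ht ho hB hB' e (k.1 e)
  · exact e (k.2 (h.total ht ho hB hB' hne e))

end odd

end LA
end H20
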