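import Mathlib
import Cfsg.Agent.H20.GoldLA2
import Cfsg.Agent.H26.GBase

/-!
# Linear algebra lemmas for strongly closed abelian 2-subgroups, III: the even case
-/

set_option autoImplicit false
set_option linter.unusedSectionVars false

namespace H20
namespace LA

open Pointwise

section four
open H24 Subgroup H26 H26.Gold

variable {Γ : Type*} [Group Γ] [Finite Γ]

/-- the four-group generated by two commuting involutions -/
def four (a b : Γ) (ha : a * a = 1) (hb : b * b = 1) (hab : a * b = b * a) : Subgroup Γ where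
  carrier := {x | x = 1 ∨ x = a ∨ x = b ∨ x = a * b}
  one_mem' := Or.inl rfl
  mul_mem' := by
    have h1 : ∀ x, a * (a * x) = x := fun x => by rw [← mul_assoc, ha, one_mul]
    have h2 : ∀ x, b * (b * x) = x := fun x => by rw [← mul_assoc, hb, one_mul]
    have h3 : ∀ x, b * (a * x) = a * (b * x) := fun x => by rw [← mul_assoc, ← hab, mul_assoc]
    rintro x y (rfl | rfl | rfl | rfl) (rfl | rfl | rfl | rfl) <;>
      simp [mul_assoc, ha, hb, ← hab, h1, h2, h3]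
  inv_mem' := by
    have h1 : a⁻¹ = a := inv_eq_of_mul_eq_one_right ha
    have h2 : b⁻¹ = b := inv_eq_of_mul_eq_one_right hb
    rintro x (rfl | rfl | rfl | rfl) <;> simp [h1, h2, hab]

theorem mem_four {a b : Γ} {ha : a * a = 1} {hb : b * b = 1} {hab : a * b = b * a} {x : Γ} :
    x ∈ four a b ha hb hab ↔ x = 1 ∨ x = a ∨ x = b ∨ x = a * b := Iff.rfl

theorem four_ea {a b : Γ} (ha : a * a = 1) (hb : b * b = 1) (hab : a * b = b * a) :
    EA (four a b ha hb hab) := by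
  refine ea_of_sq ?_
  rintro x (rfl | rfl | rfl | rfl)
  · exact one_mul 1
  · exact ha
  · exact hb
  · rw [mul_assoc, ← mul_assoc b, ← hab, mul_assoc, hb, mul_one, ha]

theorem eq_of_cyc {A : Subgroup Γ} (hA : EA A) (hc : Cyc A) {a b : Γ} (ha : a ∈ A) (hb : b ∈ A)
    (h1 : a ≠ 1) (h2 : b ≠ 1) : a = b := by
  obtain ⟨g, hg, e⟩ := hc.exists_gen
  have key : ∀ x ∈ A, x ≠ 1 → x = g := by
    intro x hx hx1
    rw [← e] at hx
    obtain ⟨n, rfl⟩ := mem_powers_iff_mem_zpowers.2 hx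
    have hg2 : g ^ 2 = 1 := by rw [pow_two]; exact hA.sq hg
    rcases Nat.even_or_odd' n with ⟨k, rfl | rfl⟩
    · exact absurd (by simp [pow_mul, hg2]) hx1
    · simp [pow_succ, pow_mul, hg2]
  rw [key a ha h1, key b hb h2]

theorem four_gen {X K L : Subgroup Γ} {a b : Γ} (hX : X ≤ N[K]) (hKL : K ≤ L) (hL : L ≤ N[K])
    (ha : a ∈ N[K]) (hb : b ∈ N[K]) (haX : a ∈ N[X]) (hbX : b ∈ N[X])
    (ha2 : a * a = 1) (hb2 : b * b = 1) (hab : a * b = b * a)
    (h1 : a ∉ K) (h2 : b ∉ K) (h3 : a * b ∉ K)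
    (hodd : ∀ u ∈ X, ∃ n, Odd n ∧ u ^ n ∈ K)
    (hc : ∀ u ∈ X, ∀ t, (t = a ∨ t = b ∨ t = a * b) → (u * t)⁻¹ * (t * u) ∈ K → u ∈ L) :
    X ≤ L := by
  set E := four a b ha2 hb2 hab with hE
  have hEN : E ≤ N[K] := by
    rintro x (rfl | rfl | rfl | rfl)
    exacts [one_mem _, ha, hb, mul_mem ha hb]
  have hEX : E ≤ N[X] := by
    rintro x (rfl | rfl | rfl | rfl)
    exacts [one_mem _, haX, hbX, mul_mem haX hbX]
  have hea : EA (quo E K) := by
    refine ea_of_sq fun z hz => ?_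
    obtain ⟨x, hx, hxN, rfl⟩ := mem_quo.1 hz
    rw [← ap_mul _ hxN hxN, (four_ea ha2 hb2 hab).sq hx, ap_one]
  have hnc : ¬ Cyc (quo E K) := fun hcy => by
    have := eq_of_cyc hea hcy (cs_mem_quo (x := a) (Or.inr (Or.inl rfl)) ha)
      (cs_mem_quo (x := b) (Or.inr (Or.inr (Or.inl rfl))) hb)
      (fun e => h1 ((cs_eq_one ha).1 e)) (fun e => h2 ((cs_eq_one hb).1 e))
    rw [cs_eq_cs ha hb, inv_eq_of_mul_eq_one_right ha2] at this
    exact h3 this
  have hO : OddG (quo X K) := by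
    rw [OddG, isPi_iff_piElt]
    intro z hz
    obtain ⟨x, hx, hxN, rfl⟩ := mem_quo.1 hz
    obtain ⟨n, hn, h4⟩ := hodd x hx
    refine piElt_of_pow_eq_one (n := n) ?_ ?_
    · rw [piNat_compl_singleton Nat.prime_two, ← even_iff_two_dvd, Nat.not_even_iff_odd]
      exact hn
    · rw [← ap_pow _ hxN]; exact cs_of_mem h4
  refine le_of_quo_le hX ⟨hKL, hL⟩ (coprime_abelian_gen_cent1 hea.abl hnc (quo_norm K hEX)
    (cop hO hea.two) ?_)
  intro z hz hz1 w hw
  obtain ⟨t, ht, htN, rfl⟩ := mem_quo.1 hz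
  obtain ⟨u, hu, huN, rfl⟩ := mem_quo.1 hw.1
  have h4 := mem_C1.1 hw.2
  rw [← ap_mul _ huN htN, ← ap_mul _ htN huN] at h4
  have h5 := (cs_eq_cs (mul_mem huN htN) (mul_mem htN huN)).1 h4
  refine cs_mem_quo (hc u hu t ?_ h5) huN
  rcases ht with rfl | ht
  · exact absurd (ap_one _) hz1
  · exact ht

end four

variable {Γ V : Type*} [Group Γ] [Finite Γ] [AddCommGroup V] [Finite V] [DistribMulAction Γ V]

variable {𝓑 : Set (AddSubgroup V)} {U : AddSubgroup V → Subgroup Γ} {B B' B'' : AddSubgroup V}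

/-- elements acting trivially on `V / B` -/
def Kr (Γ : Type*) [Group Γ] [DistribMulAction Γ V] (B : AddSubgroup V) : Subgroup Γ where
  carrier := {g | ∀ z, g • z - z ∈ B}
  one_mem' := fun z => by simp
  mul_mem' := fun {g k} hg hk z => by
    have := B.add_mem (hg (k • z)) (hk z)
    rwa [sub_add_sub_cancel, ← mul_smul] at this
  inv_mem' := fun {g} hg z => by
    have := B.neg_mem (hg (g⁻¹ • z))
    rwa [smul_inv_smul, neg_sub] at this

theorem mem_Kr {g : Γ} : g ∈ Kr Γ B ↔ ∀ z, g • z - z ∈ B := Iff.rfl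

theorem conj_mem_Kr {g t : Γ} (hg : ∀ b ∈ B, g • b ∈ B) (ht : t ∈ Kr Γ B) :
    g * t * g⁻¹ ∈ Kr Γ B := fun z => by
  have := hg _ (ht (g⁻¹ • z))
  rwa [smul_sub, smul_inv_smul, ← mul_smul, ← mul_smul] at this

theorem mem_N_Kr {g : Γ} (hg : ∀ b ∈ B, g • b ∈ B) :
    g ∈ Subgroup.normalizer (Kr Γ B : Set Γ) :=
  H24.mem_N_of_finite fun _ ht => conj_mem_Kr hg ht

/-- `x ↦ t x - x` -/
def dd (V : Type*) [AddCommGroup V] [DistribMulAction Γ V] (t : Γ) : V →+ V :=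
  DistribSMul.toAddMonoidHom V t - AddMonoidHom.id V

theorem dd_apply (t : Γ) (x : V) : dd V t x = t • x - x := rfl

theorem mem_ker_dd {t : Γ} {x : V} : x ∈ (dd V t).ker ↔ t • x = x := by
  rw [AddMonoidHom.mem_ker, dd_apply, sub_eq_zero]

theorem card_dd (t : Γ) : Nat.card (dd V t).ker * Nat.card (dd V t).range = Nat.card V := by
  rw [← AddSubgroup.index_ker]; exact AddSubgroup.card_mul_index _

theorem Tr.conj (h : Tr B (U B)) {u t : Γ} (hu : u ∈ U B) (ht : t ∈ U B ⊓ Kr Γ B) :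
    u * t * u⁻¹ ∈ U B ⊓ Kr Γ B :=
  ⟨(U B).mul_mem ((U B).mul_mem hu ht.1) ((U B).inv_mem hu),
    conj_mem_Kr (fun _ hb => (h.smul_mem hu).2 hb) ht.2⟩

theorem Fam.sq (h : Fam 𝓑 U) (hB : B ∈ 𝓑) {t : Γ} (ht : t ∈ U B ⊓ Kr Γ B) : t * t = 1 := by
  refine h.faith _ fun x => ?_
  have h1 := (h.trs B hB).cent t ht.1 _ (ht.2 x)
  rw [smul_sub] at h1
  rw [mul_smul]
  linear_combination (norm := abel) h1 + h.two2 (t • x) - h.two2 x

theorem Tr.conj_fix (h : Tr B (U B)) {u t : Γ} (hu : u ∈ U B) (ht : t ∈ U B ⊓ Kr Γ B) {x y : V}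
    (hxy : u • y - x ∈ B) : (u * t * u⁻¹) • x - x = t • y - y := by
  have h1 := h.cent _ (h.conj hu ht).1 _ hxy
  have h2 := h.cent _ hu _ (ht.2 y)
  rw [smul_sub] at h1 h2
  rw [← mul_smul, inv_mul_cancel_right, mul_smul] at h1
  linear_combination (norm := abel) h2 - h1

section cfg

variable (h : Fam 𝓑 U) (ht : TI 𝓑) (hB : B ∈ 𝓑) (hB' : B' ∈ 𝓑) (hne : B' ≠ B) {t : Γ}
  (hU : t ∈ U B ⊓ Kr Γ B) {x0 : V} (hx0 : x0 ∈ B') (h0 : x0 ≠ 0) (hfix : t • x0 = x0)

include h ht hB hB' hne hU hx0 h0 hfix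

theorem Fam.sm_eq : t • B' = B' :=
  ht.eq (h.smul _ hB' t) hB' (hfix ▸ sm_mem.2 hx0) hx0 h0

theorem Fam.cent' {z : V} (hz : z ∈ B') : t • z = z := by
  have h1 : t • z ∈ B' := by
    rw [← h.sm_eq ht hB hB' hne hU hx0 h0 hfix]; exact sm_mem.2 hz
  exact sub_eq_zero.1 (eq_zero_of_inf (ht _ hB' _ hB hne) (B'.sub_mem h1 hz) (hU.2 z))

theorem Fam.norm' {u : Γ} (hu : u ∈ U B') : t * u * t⁻¹ ∈ U B' := by
  have := h.equiv B' hB' t u hu
  rwa [h.sm_eq ht hB hB' hne hU hx0 h0 hfix] at this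

theorem Fam.comm_trans {x y : V} (hx : x ∉ B') (hy : y ∉ B') (h1 : t • x = x) (h2 : t • y = y) :
    ∃ u ∈ U B', u • x - y ∈ B' ∧ ∀ z, t • u • z - u • t • z ∈ B' := by
  obtain ⟨u, hu, -, h3⟩ := (h.trs B' hB').trans x hx y hy
  have ht2 := h.sq hB hU
  have hti : t⁻¹ = t := inv_eq_of_mul_eq_one_right ht2
  have hw : u⁻¹ * (t * u * t⁻¹) ∈ U B' :=
    (U B').mul_mem ((U B').inv_mem hu) (h.norm' ht hB hB' hne hU hx0 h0 hfix hu)
  set w := u⁻¹ * (t * u * t⁻¹) with hwd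
  have hwx : w • x = x := by
    have h4 := h.cent' ht hB hB' hne hU hx0 h0 hfix h3
    rw [smul_sub, h2, sub_left_inj] at h4
    rw [hwd, hti, mul_smul, mul_smul, mul_smul, h1, h4, inv_smul_smul]
  have htw : t * w * t⁻¹ = w⁻¹ := by
    rw [hwd, hti]
    simp only [mul_inv_rev, inv_inv, hti, mul_assoc]
    rw [ht2, mul_one]
  obtain ⟨n, ⟨k, rfl⟩, hn⟩ := (h.trs B' hB').two w hw
  have hv : t * w ^ (k + 1) = (w ^ (k + 1))⁻¹ * t := by
    rw [← inv_pow, ← htw, conj_pow, inv_mul_cancel_right]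
  have hvx : (w ^ (k + 1)) • x = x :=
    (MulAction.stabilizer Γ x).pow_mem (MulAction.mem_stabilizer_iff.2 hwx) _
  have hu' : u * w ^ (k + 1) ∈ U B' := (U B').mul_mem hu ((U B').pow_mem hw _)
  refine ⟨u * w ^ (k + 1), hu', by rwa [mul_smul, hvx], fun z => ?_⟩
  have e : t * (u * w ^ (k + 1)) = u * w ^ (k + 1) * (w ^ (2 * k + 1))⁻¹ * t := by
    have e1 : t * u = u * w * t := by rw [hwd]; group
    rw [← mul_assoc, e1, mul_assoc _ t, hv]
    group
  rw [← mul_smul, e, mul_smul, mul_smul, ← smul_sub, (h.trs B' hB').smul_mem hu']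
  exact (Kr Γ B').inv_mem hn _

theorem Fam.struct (h1 : t ≠ 1) :
    (∀ b ∈ B, ∃ z, t • z - z = b) ∧ (dd V t).ker = B ⊔ B' ∧ B.index = Nat.card B * Nat.card B := by
  have hi := ht _ hB' _ hB hne
  obtain ⟨z0, hz0⟩ : ∃ z0 : V, t • z0 ≠ z0 := by
    by_contra hc
    push Not at hc
    exact h1 (h.faith t hc)
  have hx : t • z0 - z0 ∈ B := hU.2 z0
  have hx' : t • z0 - z0 ∉ B' := fun e => hz0 (sub_eq_zero.1 (eq_zero_of_inf hi e hx))
  have key : ∀ y, t • y = y → ∃ z, t • z - z - y ∈ B' := by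
    intro y hy
    by_cases hy' : y ∈ B'
    · exact ⟨0, by simpa using hy'⟩
    · obtain ⟨u, -, h2, h3⟩ := h.comm_trans ht hB hB' hne hU hx0 h0 hfix hx' hy'
        ((h.trs B hB).cent t hU.1 _ hx) hy
      refine ⟨u • z0, ?_⟩
      have := B'.add_mem h2 (h3 z0)
      rw [smul_sub] at this
      convert this using 1
      abel
  have k1 : ∀ b ∈ B, ∃ z, t • z - z = b := fun b hb => by
    obtain ⟨z, hz⟩ := key b ((h.trs B hB).cent t hU.1 b hb)
    exact ⟨z, sub_eq_zero.1 (eq_zero_of_inf hi hz (B.sub_mem (hU.2 z) hb))⟩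
  have k2 : (dd V t).ker = B ⊔ B' := by
    apply le_antisymm
    · intro y hy
      obtain ⟨z, hz⟩ := key y (mem_ker_dd.1 hy)
      exact AddSubgroup.mem_sup.2 ⟨_, hU.2 z, _, B'.neg_mem hz, by abel⟩
    · exact sup_le (fun b hb => mem_ker_dd.2 ((h.trs B hB).cent t hU.1 b hb))
        (fun b hb => mem_ker_dd.2 (h.cent' ht hB hB' hne hU hx0 h0 hfix hb))
  refine ⟨k1, k2, ?_⟩
  have k3 : (dd V t).range = B := by
    apply le_antisymm
    · rintro _ ⟨z, rfl⟩; exact hU.2 z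
    · intro b hb; exact k1 b hb
  have c1 := card_dd (V := V) t
  rw [k2, k3] at c1
  have c2 := card_inf_mul B (B ⊔ B')
  rw [inf_eq_left.2 le_sup_left, AddSubgroup.relIndex_sup_left] at c2
  have c3 := card_inf_mul B B'
  rw [inf_comm, hi, AddSubgroup.card_bot, one_mul, h.card_eq hB hB'] at c3
  rw [c3] at c2
  have c4 := AddSubgroup.card_mul_index B
  rw [← c1, ← c2, mul_comm] at c4
  exact Nat.eq_of_mul_eq_mul_right Nat.card_pos c4

theorem Fam.uniq0 (h1 : t ≠ 1) {s : Γ} (hs : s ∈ U B ⊓ Kr Γ B) (hs1 : s ≠ 1) (hsfix : s • x0 = x0) :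
    s = t := by
  by_contra hst
  have hi := ht _ hB' _ hB hne
  have hT := h.trs B' hB'
  have hst' : s * t ∈ U B ⊓ Kr Γ B := Subgroup.mul_mem _ hs hU
  have hti : t⁻¹ = t := inv_eq_of_mul_eq_one_right (h.sq hB hU)
  have hsi : s⁻¹ = s := inv_eq_of_mul_eq_one_right (h.sq hB hs)
  have hcomm : s * t = t * s := by
    have := inv_eq_of_mul_eq_one_right (h.sq hB hst')
    rw [mul_inv_rev, hti, hsi] at this
    exact this.symm
  have hst1 : s * t ≠ 1 := fun e => hst (by rw [← hti]; exact eq_inv_of_mul_eq_one_left e)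
  have hstfix : (s * t) • x0 = x0 := by rw [mul_smul, hfix, hsfix]
  have hnK : ∀ r ∈ U B ⊓ Kr Γ B, r ≠ 1 → r ∉ Kr Γ B' := fun r hr hr1 e =>
    hr1 (h.faith r fun z => sub_eq_zero.1 (eq_zero_of_inf hi (e z) (hr.2 z)))
  have hN : ∀ r ∈ U B ⊓ Kr Γ B, r • x0 = x0 → r ∈ Subgroup.normalizer (Kr Γ B' : Set Γ) ∧
      r ∈ Subgroup.normalizer (U B' : Set Γ) := fun r hr hf =>
    ⟨mem_N_Kr fun b hb => by rwa [h.cent' ht hB hB' hne hr hx0 h0 hf hb],
      H24.mem_N_of_finite fun _ hu => h.norm' ht hB hB' hne hr hx0 h0 hf hu⟩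
  have hUN : U B' ≤ Subgroup.normalizer (Kr Γ B' : Set Γ) := fun u hu =>
    mem_N_Kr fun b hb => (hT.smul_mem hu).2 hb
  have hstab : ∀ g : Γ, (∀ c ∈ B ⊔ B', g • c ∈ B ⊔ B') → g ∈ MulAction.stabilizer Γ (B ⊔ B') := by
    intro g hg
    rw [MulAction.mem_stabilizer_iff]
    refine AddSubgroup.eq_of_le_of_card_ge (fun y hy => ?_) (card_sm g _).ge
    have := hg _ (mem_sm.1 hy)
    rwa [smul_inv_smul] at this
  have hle : U B' ≤ MulAction.stabilizer Γ (B ⊔ B') ⊓ Subgroup.normalizer (Kr Γ B' : Set Γ) := by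
    refine four_gen (a := s) (b := t) hUN (le_inf (fun g hg => hstab g fun c hc => ?_)
      Subgroup.le_normalizer) inf_le_right (hN s hs hsfix).1 (hN t hU hfix).1 (hN s hs hsfix).2
      (hN t hU hfix).2 (h.sq hB hs) (h.sq hB hU) hcomm (hnK s hs hs1) (hnK t hU h1)
      (hnK _ hst' hst1) hT.two ?_
    · have := AddSubgroup.add_mem _ (AddSubgroup.mem_sup_right (S := B) (hg c)) hc
      rwa [sub_add_cancel] at this
    · intro u hu r hr hk
      have hr' : r ∈ U B ⊓ Kr Γ B ∧ r ≠ 1 ∧ r • x0 = x0 := by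
        rcases hr with rfl | rfl | rfl
        exacts [⟨hs, hs1, hsfix⟩, ⟨hU, h1, hfix⟩, ⟨hst', hst1, hstfix⟩]
      refine ⟨hstab u fun c hc => ?_, hUN hu⟩
      have e := (h.struct ht hB hB' hne hr'.1 hx0 h0 hr'.2.2 hr'.2.1).2.1
      rw [← e, mem_ker_dd] at hc ⊢
      have h2 : (u * r) • (((u * r)⁻¹ * (r * u)) • c - c) ∈ B' := by
        rw [mul_smul, hT.smul_mem hu, h.cent' ht hB hB' hne hr'.1 hx0 h0 hr'.2.2 (hk c)]
        exact hk c
      rw [smul_sub, ← mul_smul, mul_inv_cancel_left, mul_smul, mul_smul, hc] at h2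
      exact sub_eq_zero.1 (eq_zero_of_inf hi h2 (hr'.1.2 _))
  obtain ⟨z0, hz0⟩ : ∃ z0 : V, t • z0 ≠ z0 := by
    by_contra hc
    push Not at hc
    exact h1 (h.faith t hc)
  have e := (h.struct ht hB hB' hne hU hx0 h0 hfix h1).2.1
  have hz : z0 ∉ B ⊔ B' := by rwa [← e, mem_ker_dd]
  obtain ⟨b, hb, hb0⟩ := exists_ne_zero (h.ne B hB)
  obtain ⟨u, hu, -, h2⟩ := hT.trans b (fun e => hb0 (eq_zero_of_inf hi e hb)) z0
    (fun e => hz (AddSubgroup.mem_sup_right e))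
  have h3 : u • b ∈ B ⊔ B' := by
    have : u • (B ⊔ B') = B ⊔ B' := (hle hu).1
    rw [← this]; exact sm_mem.2 (AddSubgroup.mem_sup_left hb)
  have := AddSubgroup.sub_mem _ h3 (AddSubgroup.mem_sup_right (S := B) h2)
  rw [sub_sub_cancel] at this
  exact hz this

end cfg

theorem Fam.even_false (h : Fam 𝓑 U) (ht : TI 𝓑) (hB : B ∈ 𝓑) (h4 : B.index ≠ 4)
    (hex : ∃ u ∈ U B, (∀ x, u • x - x ∈ B) ∧ u ≠ 1 ∧ ∃ y, y ∉ B ∧ u • y = y) : False := by
  classical
  have hT := h.trs B hB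
  obtain ⟨t0, ht0, ht0', ht1, y0, hy0, hy0'⟩ := hex
  have fixA : ∀ x, x ∉ B → ∃ t ∈ U B ⊓ Kr Γ B, t ≠ 1 ∧ t • x = x := by
    intro x hx
    obtain ⟨u, hu, -, h1⟩ := hT.trans y0 hy0 x hx
    refine ⟨_, hT.conj hu ⟨ht0, ht0'⟩, by simpa using ht1, ?_⟩
    rw [← sub_eq_zero, hT.conj_fix hu ⟨ht0, ht0'⟩ h1, hy0', sub_self]
  obtain ⟨B', hB', hne⟩ := h.exists_ne hB
  obtain ⟨x0, hx0, h0⟩ := exists_ne_zero (h.ne B' hB')
  have hx0B : x0 ∉ B := fun e => hne (ht.eq hB' hB hx0 e h0)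
  obtain ⟨t, hU, h1, hfix⟩ := fixA x0 hx0B
  obtain ⟨k1, -, k3⟩ := h.struct ht hB hB' hne hU hx0 h0 hfix h1
  have uniq : ∀ x, x ∉ B → ∀ r ∈ U B ⊓ Kr Γ B, r ≠ 1 → r • x = x →
      ∀ s ∈ U B ⊓ Kr Γ B, s ≠ 1 → s • x = x → r = s := by
    intro x hx r hr hr1 hrx s hs hs1 hsx
    obtain ⟨u, hu, -, h2⟩ := hT.trans x hx x0 hx0B
    have e : ∀ r ∈ U B ⊓ Kr Γ B, r ≠ 1 → r • x = x → u * r * u⁻¹ = t := fun r hr hr1 hrx =>
      h.uniq0 ht hB hB' hne hU hx0 h0 hfix h1 (hT.conj hu hr) (by simpa using hr1)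
        (by rw [← sub_eq_zero, hT.conj_fix hu hr h2, hrx, sub_self])
    have := (e r hr hr1 hrx).trans (e s hs hs1 hsx).symm
    simpa using this
  set T : Subgroup Γ := U B ⊓ Kr Γ B with hTd
  -- the order of `T`
  have c1 : 2 * Nat.card B ≤ Nat.card T := by
    have i1 := MulAction.index_stabilizer T x0
    have i2 : (fun b => x0 + b) '' (B : Set V) ⊆ MulAction.orbit T x0 := by
      rintro _ ⟨b, hb, rfl⟩
      by_cases hb0 : b = 0
      · simp only [hb0, add_zero]; exact MulAction.mem_orbit_self _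
      · obtain ⟨z, hz⟩ := k1 b hb
        have hzB : z ∉ B := fun e => hb0 (by rw [← hz, hT.cent t hU.1 z e, sub_self])
        obtain ⟨u, hu, -, h2⟩ := hT.trans z hzB x0 hx0B
        refine ⟨⟨_, hT.conj hu hU⟩, ?_⟩
        have := hT.conj_fix hu hU h2
        rw [hz, sub_eq_iff_eq_add'] at this
        exact this
    have i3 := Set.ncard_le_ncard i2
    rw [Set.ncard_image_of_injective _ (add_right_injective x0), ← i1, ← Nat.card_coe_set_eq,
      SetLike.coe_sort_coe] at i3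
    have i4 : 1 < Nat.card (MulAction.stabilizer T x0) := by
      rw [Subgroup.one_lt_card_iff_ne_bot]
      intro e
      have : (⟨t, hU⟩ : T) ∈ MulAction.stabilizer T x0 := hfix
      rw [e, Subgroup.mem_bot] at this
      exact h1 (congrArg Subtype.val this)
    rw [← (MulAction.stabilizer T x0).card_mul_index]
    exact Nat.mul_le_mul i4 i3
  have := Fintype.ofFinite Γ
  have := Fintype.ofFinite V
  set β := Nat.card B with hβ
  have cV : Nat.card V = β * (β * β) := by rw [← AddSubgroup.card_mul_index B, k3]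
  have cB : (Finset.univ.filter fun x : V => x ∈ B).card = β := by
    rw [hβ, Nat.card_eq_fintype_card, Fintype.card_subtype]
  have c2 := Finset.card_mul_le_card_mul (s := Finset.univ.filter fun r : Γ => r ∈ T ∧ r ≠ 1)
    (t := Finset.univ.filter fun x : V => x ∉ B) (fun r x => r • x = x) (m := β * β - β) (n := 1)
    (fun r hr => by
      rw [Finset.mem_filter] at hr
      have d1 := card_dd (V := V) r
      have d2 : Nat.card (dd V r).range ≤ β :=
        AddSubgroup.card_le_of_le (by rintro _ ⟨z, rfl⟩; exact hr.2.1.2 z)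
      have d3 : β * β ≤ Nat.card (dd V r).ker := by
        rw [cV] at d1
        have : β * (β * β) ≤ β * Nat.card (dd V r).ker := by
          rw [← d1, mul_comm β]; exact Nat.mul_le_mul_left _ d2
        exact Nat.le_of_mul_le_mul_left this Nat.card_pos
      have d4 : (Finset.univ.filter fun x : V => x ∈ (dd V r).ker).card = Nat.card (dd V r).ker := by
        rw [Nat.card_eq_fintype_card, Fintype.card_subtype]
      have d5 : (Finset.univ.filter fun x : V => x ∈ (dd V r).ker) ⊆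
          Finset.bipartiteAbove (fun r x => r • x = x) (Finset.univ.filter fun x : V => x ∉ B) r ∪
            (Finset.univ.filter fun x : V => x ∈ B) := by
        intro x hx
        simp only [Finset.mem_filter, Finset.mem_univ, true_and, mem_ker_dd, Finset.mem_union,
          Finset.mem_bipartiteAbove] at hx ⊢
        tauto
      have d6 := (Finset.card_le_card d5).trans (Finset.card_union_le _ _)
      omega)
    (fun x hx => by
      rw [Finset.card_le_one]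
      intro r hr s hs
      simp only [Finset.mem_filter, Finset.mem_univ, true_and, Finset.mem_bipartiteBelow]
        at hx hr hs
      exact uniq x hx r hr.1.1 hr.1.2 hr.2 s hs.1.1 hs.1.2 hs.2)
  have c3 : (Finset.univ.filter fun r : Γ => r ∈ T ∧ r ≠ 1).card + 1 = Nat.card T := by
    have : (Finset.univ.filter fun r : Γ => r ∈ T ∧ r ≠ 1) =
        (Finset.univ.filter fun r : Γ => r ∈ T).erase 1 := by
      ext r; simp [and_comm]
    rw [this, Finset.card_erase_add_one (by simp [T.one_mem]), Nat.card_eq_fintype_card,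
      Fintype.card_subtype]
  have c4 : (Finset.univ.filter fun x : V => x ∉ B).card + β = β * (β * β) := by
    rw [← cV, ← cB, add_comm, Finset.card_filter_add_card_filter_not, Finset.card_univ,
      Nat.card_eq_fintype_card]
  have c5 := hT.four
  rw [k3] at c5 h4
  have c6 : 3 ≤ β := by
    by_contra hc
    have : β ≤ 2 := by omega
    interval_cases β <;> omega
  obtain ⟨γ, hγ⟩ : ∃ γ, β = γ + 3 := ⟨β - 3, by omega⟩
  have c7 : β * β - β = β * (γ + 2) := by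
    rw [hγ]; apply Nat.sub_eq_of_eq_add; ring
  rw [c7] at c2
  have c8 : (2 * γ + 5) * (β * (γ + 2)) ≤
      (Finset.univ.filter fun r : Γ => r ∈ T ∧ r ≠ 1).card * (β * (γ + 2)) :=
    Nat.mul_le_mul_right _ (by omega)
  rw [hγ] at c8 c2 c4
  nlinarith

/-- LA1 for a family -/
theorem Fam.la1 (h : Fam 𝓑 U)
    (n4 : ∀ B ∈ 𝓑, (∃ u ∈ U B, (∀ x, u • x - x ∈ B) ∧ u ≠ 1) → B.index ≠ 4 ∧
      ∃ u ∈ U B, (∀ x, u • x - x ∈ B) ∧ u ≠ 1 ∧ ∃ y, y ∉ B ∧ u • y = y) :
    (∀ B ∈ 𝓑, ∀ B' ∈ 𝓑, 4 ≤ Nat.card ↥(B ⊓ B')) ∨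
      (Nat.card V = 8 ∧ (∀ B ∈ 𝓑, Nat.card B = 2) ∧
        (∀ x : V, x ≠ 0 → ∀ y : V, y ≠ 0 → ∃ g : Γ, g • x = y) ∧ ∀ s : Γ, s * s = 1 → s = 1) := by
  by_cases hn : ∀ B ∈ 𝓑, ∀ B' ∈ 𝓑, B ⊓ B' ≠ ⊥
  · exact Or.inl fun B hB B' hB' => h.four_le hn hB hB'
  · have ht := h.ti hn
    have ho : Odc 𝓑 U := by
      intro B hB u hu h1
      by_contra h2
      obtain ⟨h3, h4⟩ := n4 B hB ⟨u, hu, h1, h2⟩
      exact h.even_false ht hB h3 h4
    exact Or.inr ⟨h.card_eight ht ho, fun B hB => h.card_two ht ho hB,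
      fun x hx y hy => h.transitive ht ho hx hy, fun s hs => h.no_inv ht ho hs⟩

end LA
end H20
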