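import Mathlib
import Cfsg.Agent.H20.GoldLA3

/-!
# Linear algebra lemmas for strongly closed abelian 2-subgroups, IV: translation
-/

set_option autoImplicit false
set_option linter.unusedSectionVars false

namespace H20
namespace LA

open Pointwise

section base

variable {Γ V : Type*} [Group Γ] [Finite Γ] [AddCommGroup V] [Finite V] [DistribMulAction Γ V]

theorem Tr.cj {B : AddSubgroup V} {U U' : Subgroup Γ} (h : Tr B U) (g : Γ)
    (hU : ∀ u, u ∈ U' ↔ g⁻¹ * u * g ∈ U) : Tr (g • B) U' where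
  four := by rw [AddSubgroup.index_smul]; exact h.four
  cent := fun u hu b hb => by
    have := h.cent _ ((hU u).1 hu) _ (mem_sm.1 hb)
    rw [mul_smul, smul_inv_smul, mul_smul] at this
    exact MulAction.injective _ this
  trans := fun x hx y hy => by
    obtain ⟨u, hu, ho, h1⟩ := h.trans _ (fun e => hx (mem_sm.2 e)) _ (fun e => hy (mem_sm.2 e))
    refine ⟨g * u * g⁻¹, (hU _).2 (by simpa [mul_assoc] using hu), by rwa [H24.orderOf_conj], ?_⟩
    rwa [mem_sm, smul_sub, mul_smul, mul_smul, inv_smul_smul]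
  two := fun u hu => by
    obtain ⟨n, hn, h1⟩ := h.two _ ((hU u).1 hu)
    refine ⟨n, hn, fun x => ?_⟩
    have := h1 (g⁻¹ • x)
    have e : (g⁻¹ * u * g) ^ n = g⁻¹ * u ^ n * g := by
      have := conj_pow (a := g⁻¹) (b := u) (i := n)
      rwa [inv_inv] at this
    rw [e, mul_smul, smul_inv_smul, mul_smul] at this
    rwa [mem_sm, smul_sub]

/-- the group attached to a conjugate of `B` -/
def UU (B : AddSubgroup V) (U : Subgroup Γ) (B1 : AddSubgroup V) : Subgroup Γ where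
  carrier := {u | ∀ g : Γ, g • B = B1 → g⁻¹ * u * g ∈ U}
  one_mem' := fun g _ => by simp
  mul_mem' := fun {a b} ha hb g hg => by
    have := U.mul_mem (ha g hg) (hb g hg)
    simpa [mul_assoc] using this
  inv_mem' := fun {a} ha g hg => by
    have := U.inv_mem (ha g hg)
    simpa [mul_assoc] using this

theorem mem_UU {B : AddSubgroup V} {U : Subgroup Γ}
    (n1 : ∀ g : Γ, g • B = B → ∀ u ∈ U, g * u * g⁻¹ ∈ U) (g u : Γ) :
    u ∈ UU B U (g • B) ↔ g⁻¹ * u * g ∈ U := by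
  refine ⟨fun h => h g rfl, fun h k hk => ?_⟩
  have := n1 (k⁻¹ * g) (by rw [mul_smul, ← hk, inv_smul_smul]) _ h
  simpa [mul_assoc] using this

theorem la1_base (two2 : ∀ x : V, x + x = 0) (faith : ∀ g : Γ, (∀ x : V, g • x = x) → g = 1)
    (irr : ∀ X : AddSubgroup V, (∀ g : Γ, ∀ x ∈ X, g • x ∈ X) → X = ⊥ ∨ X = ⊤)
    (noidx : ∀ L : Subgroup Γ, L.index ≠ 2) {B : AddSubgroup V} {U : Subgroup Γ} (hB : B ≠ ⊥)
    (hT : Tr B U) (n1 : ∀ g : Γ, g • B = B → ∀ u ∈ U, g * u * g⁻¹ ∈ U)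
    (n2 : ∀ g : Γ, g • B ≠ B → g • B ⊓ B ≠ ⊥ → ∀ u ∈ U, g * u * g⁻¹ ∈ Kr Γ B)
    (n4 : (∃ u ∈ U, u ∈ Kr Γ B ∧ u ≠ 1) → B.index ≠ 4 ∧
      ∃ u ∈ U, u ∈ Kr Γ B ∧ u ≠ 1 ∧ ∃ y, y ∉ B ∧ u • y = y) :
    (∀ g : Γ, 4 ≤ Nat.card ↥(g • B ⊓ B)) ∨
      (Nat.card V = 8 ∧ Nat.card B = 2 ∧
        (∀ x : V, x ≠ 0 → ∀ y : V, y ≠ 0 → ∃ g : Γ, g • x = y) ∧ ∀ s : Γ, s * s = 1 → s = 1) := by
  have hKr : ∀ g u : Γ, u ∈ Kr Γ (g • B) ↔ g⁻¹ * u * g ∈ Kr Γ B := fun g u => by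
    constructor
    · intro h z
      have := mem_sm.1 (h (g • z))
      rwa [smul_sub, inv_smul_smul, ← mul_smul, ← mul_smul] at this
    · intro h z
      have := h (g⁻¹ • z)
      rwa [mul_smul, smul_inv_smul, mul_smul, ← smul_sub, ← mem_sm] at this
  have hF : Fam (Set.range fun g : Γ => g • B) (UU B U) :=
    { two2 := two2
      faith := faith
      irr := irr
      noidx := noidx
      nonempty := Set.range_nonempty _
      smul := by
        rintro _ ⟨k, rfl⟩ g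
        exact ⟨g * k, mul_smul g k B⟩
      tr := by
        rintro _ ⟨k, rfl⟩ _ ⟨l, rfl⟩
        exact ⟨l * k⁻¹, by simp only [mul_smul, inv_smul_smul]⟩
      ne := by
        rintro _ ⟨k, rfl⟩ e
        apply hB
        have := congrArg (fun X => k⁻¹ • X) e
        simpa only [inv_smul_smul, sm_bot] using this
      trs := by
        rintro _ ⟨k, rfl⟩
        exact hT.cj k (mem_UU n1 k)
      equiv := by
        rintro _ ⟨k, rfl⟩ g u hu
        rw [← mul_smul, mem_UU n1]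
        rw [mem_UU n1] at hu
        simpa [mul_assoc] using hu
      n2 := by
        rintro _ ⟨k, rfl⟩ _ ⟨l, rfl⟩ h1 h2
        refine PP_le fun u hu => ?_
        rw [mem_UU n1] at hu
        have := n2 (k⁻¹ * l) (fun e => h1 (by
          show k • B = l • B
          rw [← e, ← mul_smul, mul_inv_cancel_left, e])) (fun e => h2 (by
          have := congrArg (fun X => k • X) e
          simp only [sm_inf, sm_bot, ← mul_smul, mul_inv_cancel_left] at this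
          rwa [inf_comm])) _ hu
        refine (hKr k u).2 ?_
        simpa [mul_assoc] using this }
  rcases hF.la1 (by
    rintro _ ⟨k, rfl⟩ ⟨u, hu, h1, h2⟩
    obtain ⟨h3, v, hv, h4, h5, y, hy, h6⟩ := n4 ⟨_, (mem_UU n1 k u).1 hu, (hKr k u).1 h1, fun e =>
      h2 (by simpa [mul_assoc] using congrArg (fun x => k * x * k⁻¹) e)⟩
    refine ⟨by rwa [AddSubgroup.index_smul], k * v * k⁻¹,
      (mem_UU n1 k _).2 (by simpa [mul_assoc] using hv),
      (hKr k _).2 (by simpa [mul_assoc] using h4), by simpa using h5, k • y,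
      fun e => hy (sm_mem.1 e), ?_⟩
    rw [mul_smul, inv_smul_smul, mul_smul, h6]) with h | h
  · exact Or.inl fun g => h _ ⟨g, rfl⟩ _ ⟨1, one_smul _ _⟩
  · exact Or.inr ⟨h.1, h.2.1 _ ⟨1, one_smul _ _⟩, h.2.2⟩

end base

section transl

open Cfsg H24 Subgroup H26 H26.Gold

universe u

variable {G : Type u} [Group G] [Finite G] {M A B U : Subgroup G}

/-- the abelian subgroup `A`, written additively -/
def AV (A : Subgroup G) : Type u := Additive A

instance instFiniteAV (A : Subgroup G) : Finite (AV A) := inferInstanceAs (Finite A)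

instance instAddCommGroupAV (A : Subgroup G) [h : IsMulCommutative A] : AddCommGroup (AV A) :=
  { (inferInstance : AddGroup (Additive A)) with
    add_comm := fun a b => h.is_comm.comm (Additive.toMul a) (Additive.toMul b) }

/-- the element of `G` -/
def av (x : AV A) : G := ((Additive.toMul x : A) : G)

/-- the element of `AV A` -/
def mkv (x : G) (hx : x ∈ A) : AV A := Additive.ofMul (⟨x, hx⟩ : A)

theorem av_mem (x : AV A) : av x ∈ A := (Additive.toMul x : A).2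

@[simp] theorem av_mkv (x : G) (hx : x ∈ A) : av (mkv x hx) = x := rfl

theorem av_inj {x y : AV A} (h : av x = av y) : x = y := Subtype.ext h

variable [IsMulCommutative A]

theorem av_add (x y : AV A) : av (x + y) = av x * av y := rfl
theorem av_zero : av (0 : AV A) = 1 := rfl
theorem av_neg (x : AV A) : av (-x) = (av x)⁻¹ := rfl
theorem av_sub (x y : AV A) : av (x - y) = av x * (av y)⁻¹ := by
  rw [sub_eq_add_neg, av_add, av_neg]

theorem av_eq_one {x : AV A} : av x = 1 ↔ x = 0 :=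
  ⟨fun h => av_inj (h.trans av_zero.symm), fun h => h ▸ av_zero⟩

/-- conjugation action -/
def phi (hM : M ≤ N[A]) : M →* MulAut A := A.normalizerMonoidHom.comp (inclusion hM)

/-- the group of automorphisms induced by `M` -/
abbrev GM (hM : M ≤ N[A]) : Subgroup (MulAut A) := (phi hM).range

instance instFiniteGM (hM : M ≤ N[A]) : Finite (GM hM) :=
  Finite.of_surjective _ (phi hM).rangeRestrict_surjective

instance instActGM (hM : M ≤ N[A]) : DistribMulAction (GM hM) (AV A) where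
  smul γ x := Additive.ofMul (γ.1 (Additive.toMul x))
  one_smul _ := rfl
  mul_smul _ _ _ := rfl
  smul_zero γ := map_one γ.1
  smul_add γ x y := map_mul γ.1 (Additive.toMul x) (Additive.toMul y)

/-- the automorphism induced by `g` -/
abbrev ps (hM : M ≤ N[A]) : M →* GM hM := (phi hM).rangeRestrict

theorem av_smul (hM : M ≤ N[A]) (g : M) (x : AV A) : av (ps hM g • x) = g * av x * g⁻¹ := rfl

theorem ps_surj (hM : M ≤ N[A]) (γ : GM hM) : ∃ g, ∃ hg : g ∈ M, ps hM ⟨g, hg⟩ = γ := by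
  obtain ⟨g, rfl⟩ := (phi hM).rangeRestrict_surjective γ
  exact ⟨g, g.2, rfl⟩

theorem GM_faith (hM : M ≤ N[A]) (γ : GM hM) (h : ∀ x : AV A, γ • x = x) : γ = 1 :=
  Subtype.ext (MulEquiv.ext h)

theorem ps_eq_one (hM : M ≤ N[A]) {g : G} (hg : g ∈ M) : ps hM ⟨g, hg⟩ = 1 ↔ g ∈ C[A] := by
  constructor
  · intro h
    rw [mem_C']
    intro a ha
    have := av_smul hM ⟨g, hg⟩ (mkv a ha)
    rw [h, one_smul] at this
    simp only [av_mkv, Subgroup.coe_inv] at this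
    exact (mul_inv_eq_iff_eq_mul.1 this.symm)
  · intro h
    refine GM_faith hM _ fun x => av_inj ?_
    rw [av_smul]
    exact conj_eq_of_mem_C h (av_mem x)

/-- a subgroup, written additively -/
def tB (A B : Subgroup G) [IsMulCommutative A] : AddSubgroup (AV A) where
  carrier := {x | av x ∈ B}
  zero_mem' := B.one_mem
  add_mem' := fun hx hy => B.mul_mem hx hy
  neg_mem' := fun hx => B.inv_mem hx

theorem mem_tB {x : AV A} : x ∈ tB A B ↔ av x ∈ B := Iff.rfl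

theorem tB_smul (hM : M ≤ N[A]) {g : G} (hg : g ∈ M) (B : Subgroup G) :
    ps hM ⟨g, hg⟩ • tB A B = tB A (cj g B) := by
  ext x
  rw [mem_sm, ← map_inv, mem_tB, mem_tB, av_smul, mem_cj]
  simp

theorem tB_inf (B C : Subgroup G) : tB A (B ⊓ C) = tB A B ⊓ tB A C := rfl

theorem tB_le {C : Subgroup G} (hB : B ≤ A) : tB A B ≤ tB A C ↔ B ≤ C :=
  ⟨fun h x hx => h (x := mkv x (hB hx)) hx, fun h _ hx => h hx⟩

theorem tB_inj {C : Subgroup G} (hB : B ≤ A) (hC : C ≤ A) (h : tB A B = tB A C) : B = C :=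
  le_antisymm ((tB_le hB).1 h.le) ((tB_le hC).1 h.ge)

theorem tB_bot : tB A ⊥ = ⊥ := by
  ext x; rw [mem_tB, Subgroup.mem_bot, AddSubgroup.mem_bot, av_eq_one]

theorem tB_top : tB A A = ⊤ := (AddSubgroup.eq_top_iff' _).2 fun x => av_mem x

theorem card_tB (hB : B ≤ A) : Nat.card (tB A B) = ♯B :=
  Nat.card_congr
    { toFun := fun x => ⟨av x.1, x.2⟩
      invFun := fun x => ⟨mkv x.1 (hB x.2), x.2⟩
      left_inv := fun _ => rfl
      right_inv := fun _ => rfl }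

theorem card_AV : Nat.card (AV A) = ♯A := rfl

theorem index_tB (hB : B ≤ A) : (tB A B).index = B.relIndex A := by
  have h1 := AddSubgroup.card_mul_index (tB A B)
  rw [card_tB hB, card_AV, ← card_mul_relIndex hB] at h1
  exact Nat.eq_of_mul_eq_mul_left (card_pos B) h1

theorem exists_tB (X : AddSubgroup (AV A)) : ∃ Y ≤ A, X = tB A Y := by
  let Y : Subgroup G :=
    { carrier := {y | ∃ x ∈ X, av x = y}
      one_mem' := ⟨0, X.zero_mem, rfl⟩
      mul_mem' := by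
        rintro _ _ ⟨x, hx, rfl⟩ ⟨y, hy, rfl⟩
        exact ⟨x + y, X.add_mem hx hy, rfl⟩
      inv_mem' := by
        rintro _ ⟨x, hx, rfl⟩
        exact ⟨-x, X.neg_mem hx, rfl⟩ }
  refine ⟨Y, ?_, ?_⟩
  · rintro _ ⟨x, -, rfl⟩; exact av_mem x
  · ext x
    exact ⟨fun hx => ⟨x, hx, rfl⟩, fun ⟨y, hy, e⟩ => av_inj e ▸ hy⟩

theorem irr_tr (hM : M ≤ N[A]) (irr : ∀ X ≤ A, M ≤ N[X] → X = ⊥ ∨ X = A)
    (X : AddSubgroup (AV A)) (h : ∀ g : GM hM, ∀ x ∈ X, g • x ∈ X) : X = ⊥ ∨ X = ⊤ := by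
  obtain ⟨Y, hY, rfl⟩ := exists_tB X
  rcases irr Y hY (le_N_iff.2 fun g hg y hy => h (ps hM ⟨g, hg⟩) (mkv y (hY hy)) hy) with e | e
  · left; rw [e, tB_bot]
  · right; rw [e, tB_top]

theorem noidx_tr (hM : M ≤ N[A]) (noidx : ∀ L ≤ M, L.relIndex M ≠ 2) (L : Subgroup (GM hM)) :
    L.index ≠ 2 := by
  have := noidx ((L.comap (ps hM)).map M.subtype) (map_subtype_le _)
  rwa [relIndex, subgroupOf_map_subtype', index_comap_of_surjective _
    (phi hM).rangeRestrict_surjective] at this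

/-- the image of a subgroup of `M` -/
def tU (hM : M ≤ N[A]) (U : Subgroup G) : Subgroup (GM hM) := (U.subgroupOf M).map (ps hM)

theorem mem_tU {hM : M ≤ N[A]} {γ : GM hM} :
    γ ∈ tU hM U ↔ ∃ u ∈ U, ∃ hu : u ∈ M, ps hM ⟨u, hu⟩ = γ :=
  ⟨fun ⟨u, hu, e⟩ => ⟨u, hu, u.2, e⟩, fun ⟨u, hu, hu', e⟩ => ⟨⟨u, hu'⟩, hu, e⟩⟩

theorem ps_mem_Kr (hM : M ≤ N[A]) {X : Subgroup G} (h : ⁅A, X⁆ ≤ B) {u : G} (hu : u ∈ X)
    (huM : u ∈ M) : ps hM ⟨u, huM⟩ ∈ Kr (GM hM) (tB A B) := by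
  intro z
  rw [mem_tB, av_sub, av_smul]
  rw [commC] at h
  exact h (commutator_mem_commutator hu (av_mem z))

theorem comm_le_of_Kr (hM : M ≤ N[A]) {u : G} (huM : u ∈ M)
    (h : ps hM ⟨u, huM⟩ ∈ Kr (GM hM) (tB A B)) : ⁅A, zpowers u⁆ ≤ B := by
  rw [commC, commutator_le]
  rintro _ ⟨n, rfl⟩ a ha
  have h1 := (Kr (GM hM) (tB A B)).zpow_mem h n (mkv a ha)
  rw [← map_zpow, mem_tB, av_sub, av_smul] at h1
  exact h1

theorem Trs_tr (hA : EA A) (hM : M ≤ N[A]) (hT : Trs M A B U) : Tr (tB A B) (tU hM U) where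
  four := by rw [index_tB hT.le]; exact hT.four
  cent := fun γ hγ b hb => by
    obtain ⟨u, hu, huM, rfl⟩ := mem_tU.1 hγ
    refine av_inj ?_
    rw [av_smul]
    exact conj_eq_of_mem_C (hT.cent hu) hb
  trans := fun x hx y hy => by
    obtain ⟨u, hu, ho, h1⟩ := hT.trans _ (av_mem x) hx _ (av_mem y) hy
    refine ⟨ps hM ⟨u, hT.leM hu⟩, mem_tU.2 ⟨u, hu, _, rfl⟩, ?_, ?_⟩
    · refine Odd.of_dvd_nat (oddE_iff.1 ho) ?_
      rw [← Subgroup.orderOf_mk (H := M) u (hT.leM hu)]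
      exact orderOf_map_dvd _ _
    · rw [mem_tB, av_sub, av_smul, hA.inv (av_mem y)]
      exact h1
  two := fun γ hγ => by
    obtain ⟨u, hu, huM, rfl⟩ := mem_tU.1 hγ
    obtain ⟨a, b, ha, hb, e⟩ := exists_pi_part {2} (orderOf_pos u).ne'
    have h1 : TwoE (u ^ b) :=
      piElt_of_pow_eq_one ha (by rw [← pow_mul, mul_comm, ← e, pow_orderOf_eq_one])
    refine ⟨b, ?_, ?_⟩
    · rwa [piNat_compl_singleton Nat.prime_two, ← even_iff_two_dvd, Nat.not_even_iff_odd] at hb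
    · have := ps_mem_Kr hM (hT.two _ (U.pow_mem hu b) h1) (mem_zpowers _) (M.pow_mem huM b)
      rw [← map_pow]
      exact this

theorem ps_conj (hM : M ≤ N[A]) {g u : G} (hg : g ∈ M) (hu : u ∈ M) :
    ps hM ⟨g, hg⟩ * ps hM ⟨u, hu⟩ * (ps hM ⟨g, hg⟩)⁻¹ =
      ps hM ⟨g * u * g⁻¹, M.mul_mem (M.mul_mem hg hu) (M.inv_mem hg)⟩ := by
  rw [← map_inv, ← map_mul, ← map_mul]; rfl

omit [IsMulCommutative A] in
theorem la1' (hA : EA A) (hM : M ≤ N[A])
    (irr : ∀ X ≤ A, M ≤ N[X] → X = ⊥ ∨ X = A)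
    (noidx : ∀ L ≤ M, L.relIndex M ≠ 2)
    (hB : B ≠ ⊥) (hT : Trs M A B U)
    (n1 : ∀ g ∈ M, cj g B = B → cj g U = U)
    (n2 : ∀ g ∈ M, cj g B ≠ B → cj g B ⊓ B ≠ ⊥ → ⁅A, cj g U⁆ ≤ B)
    (n4 : (∃ u ∈ U, ⁅A, zpowers u⁆ ≤ B ∧ u ∉ C[A]) → B.relIndex A ≠ 4 ∧
      ∃ u ∈ U, ⁅A, zpowers u⁆ ≤ B ∧ u ∉ C[A] ∧ ∃ y ∈ A, y ∉ B ∧ u * y = y * u) :
    (∀ g ∈ M, 4 ≤ ♯(cj g B ⊓ B)) ∨
      (♯A = 8 ∧ ♯B = 2 ∧ (∀ x ∈ A, x ≠ 1 → ∀ y ∈ A, y ≠ 1 → ∃ g ∈ M, y = g * x * g⁻¹) ∧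
        ∀ s ∈ M, TwoE s → s ∈ C[A]) := by
  have : IsMulCommutative A := hA.abl
  have hcj : ∀ g ∈ M, cj g B ≤ A := fun g hg => cj_le_of_mem_N hT.le (hM hg)
  rcases la1_base (Γ := GM hM) (V := AV A) (fun x => av_inj (hA.sq (av_mem x))) (GM_faith hM)
    (irr_tr hM irr) (noidx_tr hM noidx) (B := tB A B) (U := tU hM U)
    (fun e => hB (tB_inj hT.le bot_le (e.trans tB_bot.symm))) (Trs_tr hA hM hT)
    (fun γ hγ υ hυ => by
      obtain ⟨g, hg, rfl⟩ := ps_surj hM γ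
      obtain ⟨u, hu, huM, rfl⟩ := mem_tU.1 hυ
      rw [tB_smul] at hγ
      rw [ps_conj]
      exact mem_tU.2 ⟨_, n1 g hg (tB_inj (hcj g hg) hT.le hγ) ▸ conj_mem_cj g hu, _, rfl⟩)
    (fun γ h1 h2 υ hυ => by
      obtain ⟨g, hg, rfl⟩ := ps_surj hM γ
      obtain ⟨u, hu, huM, rfl⟩ := mem_tU.1 hυ
      rw [tB_smul] at h1 h2
      rw [ps_conj]
      exact ps_mem_Kr hM (n2 g hg (fun e => h1 (by rw [e]))
        (fun e => h2 (by rw [← tB_inf, e, tB_bot]))) (conj_mem_cj g hu) _)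
    (by
      rintro ⟨υ, hυ, h1, h2⟩
      obtain ⟨u, hu, huM, rfl⟩ := mem_tU.1 hυ
      obtain ⟨h3, v, hv, h4, h5, y, hy, h6, h7⟩ :=
        n4 ⟨u, hu, comm_le_of_Kr hM huM h1, fun e => h2 ((ps_eq_one hM huM).2 e)⟩
      refine ⟨by rwa [index_tB hT.le], ps hM ⟨v, hT.leM hv⟩, mem_tU.2 ⟨v, hv, _, rfl⟩,
        ps_mem_Kr hM h4 (mem_zpowers _) _, fun e => h5 ((ps_eq_one hM _).1 e), mkv y hy, h6,
        av_inj ?_⟩
      rw [av_smul]
      simp [h7]) with h | ⟨h1, h2, h3, h4⟩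
  · left
    intro g hg
    have := h (ps hM ⟨g, hg⟩)
    rwa [tB_smul, ← tB_inf, card_tB (inf_le_right.trans hT.le)] at this
  · refine Or.inr ⟨h1, by rwa [card_tB hT.le] at h2, fun x hx hx1 y hy hy1 => ?_, fun s hs h5 => ?_⟩
    · obtain ⟨γ, e⟩ := h3 (mkv x hx) (fun e => hx1 (av_eq_one.2 e)) (mkv y hy)
        (fun e => hy1 (av_eq_one.2 e))
      obtain ⟨g, hg, rfl⟩ := ps_surj hM γ
      exact ⟨g, hg, (congrArg av e).symm⟩
    · rw [← ps_eq_one hM hs]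
      by_contra h6
      have h7 : TwoE (ps hM ⟨s, hs⟩) := by
        refine PiElt.map ?_ _
        unfold PiElt
        rwa [Subgroup.orderOf_mk]
      obtain ⟨x, -, hx1, hx2⟩ := TwoG.exists_inv h7.isPi (fun e => h6 (zpowers_eq_bot.1 e))
      exact hx1 (h4 x hx2)

omit [IsMulCommutative A] in
theorem la2' (hA : EA A) (hM : M ≤ N[A])
    (irr : ∀ X ≤ A, M ≤ N[X] → X = ⊥ ∨ X = A)
    (hT : Trs M A B U)
    (orth : ∀ g ∈ M, cj g B ≠ B → ⁅A, cj g U⁆ ≤ B)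
    {B' U' : Subgroup G} (hT' : Trs M A B' U') (hle : B'.relIndex A ≤ B.relIndex A) :
    ∃ g ∈ M, cj g B ≤ B' := by
  have : IsMulCommutative A := hA.abl
  have hcj : ∀ g ∈ M, cj g B ≤ A := fun g hg => cj_le_of_mem_N hT.le (hM hg)
  have hTr := Trs_tr hA hM hT
  obtain ⟨_, ⟨γ, rfl⟩, h⟩ := la2_abs (Γ := GM hM) (V := AV A)
    (𝓑 := Set.range fun γ : GM hM => γ • tB A B) (q := B.relIndex A)
    (le_trans (by norm_num) hT.four) (irr_tr hM irr) (Set.range_nonempty _)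
    (by
      rintro _ ⟨k, rfl⟩ g
      exact ⟨g * k, mul_smul g k _⟩)
    (by
      rintro _ ⟨k, rfl⟩
      rw [AddSubgroup.index_smul, index_tB hT.le])
    (by
      rintro _ ⟨k, rfl⟩ x
      obtain ⟨υ, hυ, y, h1⟩ := hTr.exists_dec (k⁻¹ • x)
      refine ⟨k • (υ • y - y), ?_, by rwa [mem_sm, smul_sub, inv_smul_smul]⟩
      rintro _ ⟨l, rfl⟩ h2
      obtain ⟨g, hg, e⟩ := ps_surj hM (l⁻¹ * k)
      obtain ⟨u, hu, huM, rfl⟩ := mem_tU.1 hυ
      have h3 : cj g B ≠ B := fun e' => h2 (by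
        show l • tB A B = k • tB A B
        rw [show k = l * (l⁻¹ * k) by group, mul_smul, ← e, tB_smul, e'])
      have h4 := ps_mem_Kr hM (orth g hg h3) (conj_mem_cj g hu)
        (M.mul_mem (M.mul_mem hg huM) (M.inv_mem hg)) (ps hM ⟨g, hg⟩ • y)
      rw [← ps_conj hM hg huM, mul_smul, inv_smul_smul, mul_smul, ← smul_sub, e, mul_smul] at h4
      exact mem_sm.2 h4)
    (Trs_tr hA hM hT') (by rwa [index_tB hT'.le])
  obtain ⟨g, hg, rfl⟩ := ps_surj hM γ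
  simp only [tB_smul] at h
  exact ⟨g, hg, (tB_le (hcj g hg)).1 h⟩

end transl

end LA
end H20
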