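import Mathlib
import Cfsg.Agent.H26.GBase

/-!
# Tools for the rank two analysis of strongly closed abelian 2-subgroups
-/

set_option autoImplicit false
set_option linter.unusedSectionVars false

namespace H20
namespace GR

open Cfsg H24 Subgroup H26 H26.Gold

universe u

variable {G : Type u} [Group G] [Finite G] {A B P Q S T X H : Subgroup G} {a b e k x y : G}

theorem mem_of_sq_mem (hk : OddE k) (h : k * k ∈ H) : k ∈ H := by
  obtain ⟨n, hn⟩ := oddE_iff.1 hk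
  have : k = (k * k) ^ (n + 1) := by
    rw [← pow_two, ← pow_mul, show 2 * (n + 1) = (2 * n + 1) + 1 by ring, pow_succ, ← hn,
      pow_orderOf_eq_one, one_mul]
  rw [this]; exact H.pow_mem h _

theorem four_cases (hA : EA A) (h4 : ♯A = 4) (ha : a ∈ A) (hb : b ∈ A) (ha1 : a ≠ 1) (hb1 : b ≠ 1)
    (hab : a ≠ b) (hx : x ∈ A) : x = 1 ∨ x = a ∨ x = b ∨ x = a * b := by
  classical
  by_contra hc
  push Not at hc
  obtain ⟨h1, h2, h3, h5⟩ := hc
  have e1 : a * b ≠ 1 := fun e => hab (by rw [← hA.inv hb]; exact eq_inv_of_mul_eq_one_left e)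
  have e2 : a * b ≠ a := fun e => hb1 (by simpa using e)
  have e3 : a * b ≠ b := fun e => ha1 (by simpa using e)
  have hs : (({x, a * b, b, a, 1} : Finset G) : Set G) ⊆ A := by
    intro z hz
    simp only [Finset.coe_insert, Finset.coe_singleton, Set.mem_insert_iff,
      Set.mem_singleton_iff] at hz
    rcases hz with rfl | rfl | rfl | rfl | rfl
    exacts [hx, A.mul_mem ha hb, hb, ha, A.one_mem]
  have h6 := Set.ncard_le_ncard hs
  rw [Set.ncard_coe_finset, ← Nat.card_coe_set_eq, SetLike.coe_sort_coe, h4,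
    Finset.card_insert_of_notMem (by simp [h1, h2, h3, h5]),
    Finset.card_insert_of_notMem (by simp [e1, e2, e3]),
    Finset.card_insert_of_notMem (by simp [hb1, hab.symm]),
    Finset.card_pair ha1] at h6
  omega

theorem fpfA (hA : EA A) (h4 : ♯A = 4) (hk : k ∈ N[A]) (ho : OddE k) (hkA : k ∉ C[A])
    (ha : a ∈ A) (h : k * a * k⁻¹ = a) : a = 1 := by
  by_contra ha1
  rw [mem_C'] at hkA
  push Not at hkA
  obtain ⟨b, hb, hkb⟩ := hkA
  have h1 : k * b * k⁻¹ ≠ b := fun e => hkb (mul_inv_eq_iff_eq_mul.1 e)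
  have hb1 : b ≠ 1 := fun e => h1 (by simp [e])
  have hab : a ≠ b := fun e => h1 (e ▸ h)
  rcases four_cases hA h4 ha hb ha1 hb1 hab (conj_mem hk hb) with e | e | e | e
  · exact hb1 (conj_eq_one_iff.1 e)
  · exact hab (conj_injective (e.trans h.symm)).symm
  · exact h1 e
  · apply hkb
    refine mem_C1.1 (mem_of_sq_mem ho (mem_C1_iff_conj.2 ?_))
    calc k * k * b * (k * k)⁻¹ = k * (k * b * k⁻¹) * k⁻¹ := by group
      _ = k * (a * b) * k⁻¹ := by rw [e]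
      _ = (k * a * k⁻¹) * (k * b * k⁻¹) := by group
      _ = b := by rw [h, e, ← mul_assoc, hA.sq ha, one_mul]

theorem fpfA' (hA : EA A) (h4 : ♯A = 4) (hk : k ∈ N[A]) (ho : OddE k) (hkA : k ∉ C[A]) :
    A ⊓ C{k} = ⊥ := by
  rw [eq_bot_iff]
  intro a ha
  exact fpfA hA h4 hk ho hkA ha.1 (mem_C1_iff_conj.1 (mem_C1_comm.1 ha.2))

theorem conj_sq (hA : EA A) (h4 : ♯A = 4) (hk : k ∈ N[A]) (ho : OddE k) (hkA : k ∉ C[A])
    (ha : a ∈ A) : k * (k * a * k⁻¹) * k⁻¹ = a * (k * a * k⁻¹) := by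
  by_cases ha1 : a = 1
  · simp [ha1]
  have hb := conj_mem hk ha
  have hb1 : k * a * k⁻¹ ≠ 1 := fun e => ha1 (conj_eq_one_iff.1 e)
  have hab : a ≠ k * a * k⁻¹ := fun e => ha1 (fpfA hA h4 hk ho hkA ha e.symm)
  rcases four_cases hA h4 ha hb ha1 hb1 hab (conj_mem hk hb) with e | e | e | e
  · exact absurd (conj_eq_one_iff.1 e) hb1
  · exfalso
    have := fpfA hA h4 hk ho hkA (A.mul_mem ha hb) (by
      calc k * (a * (k * a * k⁻¹)) * k⁻¹ = (k * a * k⁻¹) * (k * (k * a * k⁻¹) * k⁻¹) := by group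
        _ = _ := by rw [e, hA.comm hb ha])
    exact hab (by rw [← hA.inv hb]; exact eq_inv_of_mul_eq_one_left this)
  · exact absurd (fpfA hA h4 hk ho hkA hb e) hb1
  · exact e

theorem cubeA (hA : EA A) (h4 : ♯A = 4) (hk : k ∈ N[A]) (ho : OddE k) (hkA : k ∉ C[A]) :
    k ^ 3 ∈ C[A] := by
  rw [mem_C']
  intro a ha
  rw [← mul_inv_eq_iff_eq_mul]
  have e := conj_sq hA h4 hk ho hkA ha
  calc k ^ 3 * a * (k ^ 3)⁻¹ = k * (k * (k * a * k⁻¹) * k⁻¹) * k⁻¹ := by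
        simp only [pow_succ, pow_zero, one_mul]; group
    _ = k * (a * (k * a * k⁻¹)) * k⁻¹ := by rw [e]
    _ = (k * a * k⁻¹) * (k * (k * a * k⁻¹) * k⁻¹) := by group
    _ = a := by
        rw [e, hA.comm ha (conj_mem hk ha), ← mul_assoc, hA.sq (conj_mem hk ha), one_mul]

theorem transA (hA : EA A) (h4 : ♯A = 4) (hk : k ∈ N[A]) (ho : OddE k) (hkA : k ∉ C[A])
    (ha : a ∈ A) (ha1 : a ≠ 1) (hb : b ∈ A) (hb1 : b ≠ 1) : ∃ c ∈ zpowers k, b = c * a * c⁻¹ := by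
  have hab : a ≠ k * a * k⁻¹ := fun e => ha1 (fpfA hA h4 hk ho hkA ha e.symm)
  rcases four_cases hA h4 ha (conj_mem hk ha) ha1 (fun e => ha1 (conj_eq_one_iff.1 e)) hab hb with
    e | e | e | e
  · exact absurd e hb1
  · exact ⟨1, one_mem _, by simp [e]⟩
  · exact ⟨k, mem_zpowers k, e⟩
  · refine ⟨k * k, mul_mem (mem_zpowers k) (mem_zpowers k), ?_⟩
    rw [e, ← conj_sq hA h4 hk ho hkA ha]; group

theorem two_le_C (hS : Syl 2 ⊤ S) (hc : S ≤ C[A]) (hP : TwoG P) (h : P ≤ N[A]) : P ≤ C[A] :=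
  le_of_idx_compl ⟨C_le_N A, N_le_NC A⟩
    ((hS.of_le (hc.trans (C_le_N A)) le_top).idx_of_ge hc) hP h

theorem odd_part (hS : Syl 2 ⊤ S) (hc : S ≤ C[A]) (hk : k ∈ N[A]) (hkA : k ∉ C[A]) :
    ∃ k' ∈ zpowers k, OddE k' ∧ k' ∉ C[A] := by
  obtain ⟨y, z, hy, hz, hy', hz', e⟩ := exists_piElt_decomp {2} k
  refine ⟨z, hz', hz, fun h => hkA ?_⟩
  rw [e]
  refine mul_mem (two_le_C hS hc hy.isPi ?_ (mem_zpowers y)) h
  exact zpowers_le.2 (zpowers_le.2 hk hy')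

/-- the class of `e` under `X` -/
def cls (X : Subgroup G) (e : G) : Set G := {y | ∃ x ∈ X, y = x * e * x⁻¹}

theorem ncard_cls (X : Subgroup G) (e : G) : (cls X e).ncard = C{e}.relIndex X := by
  let _ : MulAction X G := MulAction.compHom G ((MulAut.conj (G := G)).comp X.subtype)
  have h1 := MulAction.index_stabilizer X e
  have h2 : MulAction.orbit X e = cls X e := by
    ext y
    exact ⟨fun ⟨x, hx⟩ => ⟨x, x.2, hx.symm⟩, fun ⟨x, hx, e'⟩ => ⟨⟨x, hx⟩, e'.symm⟩⟩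
  have h3 : MulAction.stabilizer X e = C{e}.subgroupOf X := by
    ext x
    rw [mem_subgroupOf, mem_C1_iff_conj]
    rfl
  rw [← h2, ← h1, h3, relIndex]

theorem cls_mono (h : X ≤ H) (e : G) : cls X e ⊆ cls H e := fun _ ⟨x, hx, e'⟩ => ⟨x, h hx, e'⟩

theorem ncard_coset (e : G) (B : Subgroup G) : ((fun b => b * e) '' (B : Set G)).ncard = ♯B := by
  rw [Set.ncard_image_of_injective _ (mul_left_injective e), ← Nat.card_coe_set_eq,
    SetLike.coe_sort_coe]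

theorem relIndex_le_of_coset (h : ∀ x ∈ X, x * e * x⁻¹ * e⁻¹ ∈ B) : C{e}.relIndex X ≤ ♯B := by
  rw [← ncard_cls, ← ncard_coset e B]
  refine Set.ncard_le_ncard ?_
  rintro _ ⟨x, hx, rfl⟩
  exact ⟨_, h x hx, by simp⟩

theorem exists_conj_of_coset (h : ∀ x ∈ X, x * e * x⁻¹ * e⁻¹ ∈ B) (hc : ♯B ≤ C{e}.relIndex X)
    (hb : b ∈ B) : ∃ x ∈ X, b * e = x * e * x⁻¹ := by
  have : cls X e = (fun b => b * e) '' (B : Set G) := by
    refine Set.eq_of_subset_of_ncard_le ?_ (by rwa [ncard_cls, ncard_coset])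
    rintro _ ⟨x, hx, rfl⟩
    exact ⟨_, h x hx, by simp⟩
  have h1 : b * e ∈ cls X e := this ▸ ⟨b, hb, rfl⟩
  exact h1

theorem exists_conj_of_le (h : X ≤ H) (hc : C{e}.relIndex H ≤ C{e}.relIndex X) (hy : y ∈ H) :
    ∃ x ∈ X, y * e * y⁻¹ = x * e * x⁻¹ := by
  have : cls X e = cls H e :=
    Set.eq_of_subset_of_ncard_le (cls_mono h e) (by rwa [ncard_cls, ncard_cls])
  have h1 : y * e * y⁻¹ ∈ cls X e := this ▸ ⟨y, hy, rfl⟩
  exact h1

theorem fpf3 (hk : k ∈ N[B]) (h : B ⊓ C{k} = ⊥) (h3 : k ^ 3 ∈ C[B]) (hx : x ∈ B) :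
    x * (k * x * k⁻¹) * (k * (k * x * k⁻¹) * k⁻¹) = 1 := by
  obtain ⟨y, hy, e⟩ := exists_conj_of_fpf hk h hx
  have h1 : (x * k) ^ 3 = k ^ 3 := by
    rw [← e, conj_pow, mem_C.1 h3 y hy, mul_inv_cancel_right]
  calc x * (k * x * k⁻¹) * (k * (k * x * k⁻¹) * k⁻¹) = (x * k) ^ 3 * (k ^ 3)⁻¹ := by
        simp only [pow_succ, pow_zero, one_mul]; group
    _ = 1 := by rw [h1, mul_inv_cancel]

theorem fpf3_comm (hk : k ∈ N[B]) (h : B ⊓ C{k} = ⊥) (h3 : k ^ 3 ∈ C[B]) (hx : x ∈ B) :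
    x * (k * x * k⁻¹) = (k * x * k⁻¹) * x := by
  have h1 := fpf3 hk h h3 hx
  have h2 := fpf3 hk h h3 (B.inv_mem hx)
  have h4 : (k * (k * x * k⁻¹) * k⁻¹) * ((k * x * k⁻¹) * x) = 1 := by
    rw [← inv_eq_one, ← h2]; group
  rw [eq_inv_of_mul_eq_one_left h1, eq_inv_of_mul_eq_one_right h4]

theorem inv_unique_of_cyc (hc : Cyc Q) (ha : a ∈ Q) (hb : b ∈ Q) (ha1 : a ≠ 1) (hb1 : b ≠ 1)
    (ha2 : a * a = 1) (hb2 : b * b = 1) : a = b := by
  classical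
  have := Fintype.ofFinite Q
  by_contra hab
  have h1 := IsCyclic.card_pow_eq_one_le (α := Q) (n := 2) (by norm_num)
  have h2 : ({⟨a, ha⟩, ⟨b, hb⟩, 1} : Finset Q) ⊆ Finset.univ.filter fun x : Q => x ^ 2 = 1 := by
    intro z hz
    simp only [Finset.mem_insert, Finset.mem_singleton] at hz
    simp only [Finset.mem_filter, Finset.mem_univ, true_and, pow_two]
    rcases hz with rfl | rfl | rfl
    exacts [Subtype.ext ha2, Subtype.ext hb2, one_mul 1]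
  have h3 := (Finset.card_le_card h2).trans h1
  rw [Finset.card_insert_of_notMem (by simp [hab, ha1, Subtype.ext_iff]),
    Finset.card_pair (fun e => hb1 (congrArg Subtype.val e))] at h3
  omega

theorem not_cyc_of_fpf (hQ : TwoG Q) (h1 : Q ≠ ⊥) (hk : k ∈ N[Q]) (h : Q ⊓ C{k} = ⊥) :
    ¬ Cyc Q := by
  intro hc
  obtain ⟨t, ht, ht1, ht2⟩ := hQ.exists_inv h1
  have := inv_unique_of_cyc hc (conj_mem hk ht) ht (fun e => ht1 (conj_eq_one_iff.1 e)) ht1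
    (by rw [conj_mul, ht2, mul_one, mul_inv_cancel]) ht2
  have h2 : t ∈ Q ⊓ C{k} := ⟨ht, mem_C1_comm.1 (mem_C1_iff_conj.2 this)⟩
  rw [h] at h2
  exact ht1 h2

theorem four_of_fpf (hQ : TwoG Q) (h1 : Q ≠ ⊥) (hk : k ∈ N[Q]) (h : Q ⊓ C{k} = ⊥) (h4 : ♯Q ≤ 4) :
    ♯Q = 4 ∧ EA Q := by
  have hnc := not_cyc_of_fpf hQ h1 hk h
  have hc : ♯Q = 4 := by
    obtain ⟨n, hn⟩ := hQ.card_eq_pow Nat.prime_two
    have h2 := one_lt_card h1
    have h3 : ♯Q ≠ 2 := fun e => hnc (cyc_of_prime (e ▸ Nat.prime_two))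
    have h5 : ♯Q ≠ 3 := fun e => by
      have := hQ.mem Nat.prime_three (e ▸ dvd_rfl)
      simp at this
    omega
  refine ⟨hc, ea_of_sq fun x hx => ?_⟩
  have h2 := orderOf_dvd_card' hx
  rw [hc] at h2
  have h3 : orderOf x ≠ 4 := fun e => hnc (cyc_iff.2 ⟨x, eq_of_card_eq (zpowers_le.2 hx)
    (by rw [card_zpowers', e, hc])⟩)
  have h5 : orderOf x ∣ 2 := by
    have := Nat.le_of_dvd (by norm_num) h2
    interval_cases (orderOf x) <;> simp_all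
  rw [← pow_two]
  exact orderOf_dvd_iff_pow_eq_one.1 h5

theorem inf_C1_eq (hT : Syl 2 C{e} T) (hP : TwoG P) (h : T ≤ P) : P ⊓ C{e} = T :=
  hT.eq_of_le (hP.inf_left _) (le_inf h hT.le) inf_le_right

theorem cube_cent (hP : TwoG P) (ho : OddE k) (hk : k ∈ N[P]) (hT : T ≤ P) (h3 : k ^ 3 ∈ C[T])
    (h : P ⊓ C[T] ≤ T) : k ^ 3 ∈ C[P] := by
  have h1 : T ≤ P ⊓ C[zpowers (k ^ 3)] := le_inf hT (cents_symm (zpowers_le.2 h3))
  exact coprime_nil_faithful_cent_stab (K := P) (A := zpowers (k ^ 3))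
    (zpowers_le.2 (pow_mem hk 3)) (cop (ho.pow 3).isPi hP).symm (hP.nil Nat.prime_two)
    (((inf_le_inf_left P (C_anti h1)).trans h).trans h1) (mem_zpowers _)

theorem mem_zpowers_inv (he : e * e = 1) : x ∈ zpowers e ↔ x = 1 ∨ x = e := by
  constructor
  · intro hx
    obtain ⟨n, rfl⟩ := mem_powers_iff_mem_zpowers.2 hx
    have h2 : e ^ 2 = 1 := by rw [pow_two, he]
    rcases Nat.even_or_odd' n with ⟨m, rfl | rfl⟩
    · left; simp [pow_mul, h2]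
    · right; simp [pow_succ, pow_mul, h2]
  · rintro (rfl | rfl)
    exacts [one_mem _, mem_zpowers _]

theorem card_zpowers_inv (he : e * e = 1) (h1 : e ≠ 1) : ♯(zpowers e) = 2 := by
  rw [card_zpowers']
  exact orderOf_eq_prime (by rw [pow_two, he]) h1

theorem mem_sup_inv (he : e * e = 1) (hn : e ∈ N[A]) :
    x ∈ A ⊔ zpowers e ↔ x ∈ A ∨ x * e ∈ A := by
  rw [mem_sup_of_norm (zpowers_le.2 hn)]
  constructor
  · rintro ⟨a, ha, b, hb, rfl⟩
    rcases (mem_zpowers_inv he).1 hb with rfl | rfl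
    · left; simpa using ha
    · right; rwa [mul_assoc, he, mul_one]
  · rintro (h | h)
    · exact ⟨x, h, 1, one_mem _, by simp⟩
    · exact ⟨x * e, h, e, mem_zpowers e, by rw [mul_assoc, he, mul_one]⟩

theorem card_sup_inv (he : e * e = 1) (hn : e ∈ N[A]) (h : e ∉ A) :
    ♯(A ⊔ zpowers e) = ♯A * 2 := by
  have h1 : e ≠ 1 := fun e' => h (e' ▸ A.one_mem)
  rw [card_sup_of_inf (zpowers_le.2 hn), card_zpowers_inv he h1]
  rw [eq_bot_iff]
  intro x hx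
  rcases (mem_zpowers_inv he).1 hx.2 with rfl | rfl
  exacts [rfl, absurd hx.1 h]

/-- commutators avoid the fixed points in an elementary abelian section -/
theorem mem_of_comm_cent (hP : TwoG P) (hB : B ⊴ P) (ho : OddE k) (hk : k ∈ N[P]) (hkB : k ∈ N[B])
    (hsq : ∀ x ∈ P, x * x ∈ B) (hx : x ∈ ⁅P, zpowers k⁆) (hc : x ∈ C{k}) : x ∈ B := by
  have hk' : zpowers k ≤ N[P] := zpowers_le.2 hk
  have hxP : x ∈ P := comm_le_left hk' hx
  have hea : EA (quo P B) := by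
    refine ea_of_sq fun z hz => ?_
    obtain ⟨y, hy, hyN, rfl⟩ := mem_quo.1 hz
    rw [← ap_mul _ hyN hyN]
    exact cs_of_mem (hsq y hy)
  have h1 := coprime_abel_cent_TI (quo_norm B hk') (coprime_quo (cop ho.isPi hP).symm B) hea.abl
  rw [← quo_comm hB.norm (zpowers_le.2 hkB)] at h1
  have h2 : cs B x ∈ quo ⁅P, zpowers k⁆ B ⊓ C[quo (zpowers k) B] :=
    ⟨cs_mem_quo hx (hB.norm hxP), ap_mem_C _ (by rwa [C_zpowers]) (hB.norm hxP)⟩
  rw [h1] at h2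
  exact (cs_eq_one (hB.norm hxP)).1 h2

end GR
end H20
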