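import Mathlib
import Cfsg.Agent.H20.GoldR1
import Cfsg.Agent.S0111

/-!
# An involution whose centraliser has an elementary abelian Sylow subgroup of order eight
-/

set_option autoImplicit false
set_option linter.unusedSectionVars false

namespace H20
namespace GR

open Cfsg H24 Subgroup H26 H26.Gold

universe u

variable {G : Type u} [Group G] [Finite G] {A B P Q S T X H M : Subgroup G} {a b e k x y g : G}

theorem thompson (hS : Syl 2 ⊤ S) (hQ : Q ≤ S) (hi : Q.relIndex S = 2) (hx : x * x = 1)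
    (hxS : x ∈ S) (hxQ : x ∉ Q) : (∃ L : Subgroup G, L.index = 2) ∨ ∃ g : G, g * x * g⁻¹ ∈ Q := by
  obtain ⟨P, rfl⟩ := hS.exists_sylow_top Nat.prime_two
  have h1 : x ≠ 1 := fun e => hxQ (e ▸ Q.one_mem)
  rcases Cfsg.Agent.S0111.result P Q hQ hi x (orderOf_eq_prime (by rw [pow_two, hx]) h1) hxS hxQ
    with ⟨L, -, h, -⟩ | h
  · exact Or.inl ⟨L, h⟩
  · exact Or.inr h

theorem syl_relIndex (hP : Syl 2 M P) (hT : Syl 2 C{e} T) (h : T ≤ P) :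
    ∃ d, Odd d ∧ C{e}.relIndex M = C{e}.relIndex P * d := by
  have h1 := inf_C1_eq hT hP.pi h
  have h2 : T ≤ C{e} ⊓ M := le_inf hT.le (h.trans hP.le)
  have h3 := relIndex_mul_relIndex T P M h hP.le
  have h4 := relIndex_mul_relIndex T (C{e} ⊓ M) M h2 inf_le_right
  rw [inf_relIndex_right] at h4
  have h5 : T.relIndex P = C{e}.relIndex P := by rw [← h1, inf_relIndex_left]
  have h6 := (hT.of_le h2 inf_le_left).idx
  rw [h5, ← h4, mul_comm (T.relIndex _)] at h3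
  obtain ⟨d, hd⟩ := (hP.pi.relIndex C{e}).dvd_of_dvd_mul h6 (Dvd.intro _ h3)
  refine ⟨d, ?_, hd⟩
  rw [hd, mul_assoc] at h3
  have h7 := Nat.eq_of_mul_eq_mul_left (relIndex_pos _ _) h3
  have h8 := (hP.idx.dvd (Dvd.intro _ h7.symm)).not_dvd' Nat.prime_two rfl
  rwa [← even_iff_two_dvd, Nat.not_even_iff_odd] at h8

/-- the hypotheses on the four-group `A` -/
structure Fo (A S : Subgroup G) : Prop where
  ea : EA A
  card : ♯A = 4
  syl : Syl 2 ⊤ S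
  le : A ≤ S
  cent : S ≤ C[A]

/-- an element of odd order acting nontrivially on `A` -/
structure Kel (A : Subgroup G) (k : G) : Prop where
  odd : OddE k
  norm : k ∈ N[A]
  ncent : k ∉ C[A]

theorem Fo.exists_kel (h : Fo A S) (hk : k ∈ N[A]) (hkA : k ∉ C[A]) :
    ∃ k' ∈ zpowers k, Kel A k' := by
  obtain ⟨k', h1, h2, h3⟩ := odd_part h.syl h.cent hk hkA
  exact ⟨k', h1, h2, zpowers_le.2 hk h1, h3⟩

theorem Fo.le_C (h : Fo A S) (hP : TwoG P) (hn : P ≤ N[A]) : P ≤ C[A] :=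
  two_le_C h.syl h.cent hP hn

theorem Fo.fpf (h : Fo A S) (hk : Kel A k) : A ⊓ C{k} = ⊥ :=
  fpfA' h.ea h.card hk.norm hk.odd hk.ncent

theorem Fo.eq_one (h : Fo A S) (hk : Kel A k) (ha : a ∈ A) (hc : a ∈ C{k}) : a = 1 := by
  have : a ∈ A ⊓ C{k} := ⟨ha, hc⟩
  rwa [h.fpf hk] at this

theorem Fo.le_comm (h : Fo A S) (hk : Kel A k) (hP : A ≤ P) : A ≤ ⁅P, zpowers k⁆ :=
  (comm_eq_of_fpf (mem_zpowers k) (zpowers_le.2 hk.norm) (h.fpf hk)).ge.trans (comm_mono_left hP)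

theorem Fo.syl_N (h : Fo A S) : Syl 2 N[A] S := h.syl.of_le (h.cent.trans (C_le_N A)) le_top

theorem Fo.syl_of_N (h : Fo A S) (hP : Syl 2 N[A] P) : Syl 2 ⊤ P :=
  h.syl.of_card le_top (hP.card_eq h.syl_N)

/-- Frattini argument producing an element acting nontrivially on `A` -/
theorem Fo.frattini (h : Fo A S) (hM : M ≤ N[A]) (hP : Syl 2 M P) (hk : k ∈ M) (hkA : k ∉ C[A]) :
    ∃ n ∈ M, n ∈ N[P] ∧ n ∉ C[A] := by
  have hn : M ⊓ C[A] ⊴ M := ⟨inf_le_left, norm_inf (norm_self M) (norm_C hM)⟩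
  have hP' : Syl 2 (M ⊓ C[A]) P :=
    hP.of_le (le_inf hP.le (h.le_C hP.pi (hP.le.trans hM))) inf_le_left
  obtain ⟨y, hy, n, hn', rfl⟩ := (Frattini_arg Nat.prime_two hn hP').mul k hk
  exact ⟨n, hn'.1, hn'.2, fun e => hkA (mul_mem hy.2 e)⟩

/-- the hypotheses of `r2_small` -/
structure Sm (A S : Subgroup G) (e : G) : Prop extends Fo A S where
  sq : e * e = 1
  mem : e ∈ C[A]
  ne : ∀ g : G, g * e * g⁻¹ ∉ A
  sylT : Syl 2 C{e} (A ⊔ zpowers e)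

theorem ea_sup_inv (hA : EA A) (he : e * e = 1) (hc : e ∈ C[A]) : EA (A ⊔ zpowers e) := by
  refine ea_of_sq fun x hx => ?_
  rcases (mem_sup_inv he (C_le_N A hc)).1 hx with h | h
  · exact hA.sq h
  · have h1 := hA.sq h
    have h2 := mem_C.1 hc _ h
    calc x * x = (x * e * e) * (x * e * e) := by simp only [mul_assoc, he, mul_one]
      _ = (x * e) * (e * (x * e)) * e := by group
      _ = 1 := by rw [← h2, ← mul_assoc, h1, one_mul, he]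

theorem Sm.not_mem (h : Sm A S e) : e ∉ A := by simpa using h.ne 1

theorem Sm.card8 (h : Sm A S e) : ♯(A ⊔ zpowers e) = 8 := by
  rw [card_sup_inv h.sq (C_le_N A h.mem) h.not_mem, h.card]

theorem Sm.conj (h : Sm A S e) (hc : g * e * g⁻¹ ∈ C[A]) : Sm A S (g * e * g⁻¹) := by
  have h2 : g * e * g⁻¹ * (g * e * g⁻¹) = 1 := by rw [conj_mul, h.sq, mul_one, mul_inv_cancel]
  refine ⟨h.toFo, h2, hc, fun g' => by simpa [mul_assoc] using h.ne (g' * g), ?_⟩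
  have h1 := h.sylT.cj g
  rw [cj_C1] at h1
  refine h1.of_card (sup_le (mem_C_iff_le_C1.1 hc) (zpowers_le_C1 _)) ?_
  rw [card_cj, h.card8, card_sup_inv h2 (C_le_N A hc) (h.ne g), h.card]

theorem Sm.inf_C (h : Sm A S e) (hP : TwoG P) (hA : A ≤ P) (he : e ∈ P) :
    P ⊓ C{e} = A ⊔ zpowers e := inf_C1_eq h.sylT hP (sup_le hA (zpowers_le.2 he))

theorem Sm.sq_of_cent (h : Sm A S e) (hP : TwoG P) (hA : A ≤ P) (he : e ∈ P) (hx : x ∈ P)
    (hc : x ∈ C{e}) : x * x = 1 :=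
  (ea_sup_inv h.ea h.sq h.mem).sq (h.inf_C hP hA he ▸ (⟨hx, hc⟩ : x ∈ P ⊓ C{e}))

theorem Sm.cent_k (h : Sm A S e) (hP : TwoG P) (hA : A ≤ P) (he : e ∈ P) (hk : Kel A k)
    (hke : k ∈ C{e}) : P ⊓ C{k} = zpowers e := by
  have he' : e ∈ P ⊓ C{k} := ⟨he, mem_C1_comm.1 hke⟩
  have h1 : ∀ x ∈ P ⊓ C{k}, x ∈ C{e} → x ∈ zpowers e := by
    intro x hx hc
    have h2 : x ∈ A ⊔ zpowers e := h.inf_C hP hA he ▸ (⟨hx.1, hc⟩ : x ∈ P ⊓ C{e})
    rw [mem_zpowers_inv h.sq]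
    rcases (mem_sup_inv h.sq (C_le_N A h.mem)).1 h2 with h3 | h3
    · exact Or.inl (h.eq_one hk h3 hx.2)
    · right
      have := h.eq_one hk h3 (mul_mem hx.2 he'.2)
      rw [eq_inv_of_mul_eq_one_left this, inv_eq_of_mul_eq_one_right h.sq]
  refine le_antisymm ?_ (zpowers_le.2 he')
  have hQ : TwoG (P ⊓ C{k}) := hP.inf_left _
  obtain ⟨z, hz, hz1⟩ := exists_ne_one (hQ.inf_C_ne_bot Nat.prime_two hQ (norm_self _)
    (ne_bot_of_mem he' (fun e' => h.not_mem (e' ▸ A.one_mem))))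
  have h2 := ((mem_zpowers_inv h.sq).1 (h1 z hz.1 (C_le_C1 he' hz.2))).resolve_left hz1
  intro x hx
  exact h1 x hx (mem_C_iff_le_C1.1 (h2 ▸ hz.2) hx)

theorem Sm.cube (h : Sm A S e) (hP : TwoG P) (hA : A ≤ P) (he : e ∈ P) (hk : Kel A k)
    (hke : k ∈ C{e}) (hkP : k ∈ N[P]) : k ^ 3 ∈ C[P] := by
  refine cube_cent hP hk.odd hkP (sup_le hA (zpowers_le.2 he)) ?_ ?_
  · rw [C_sup, C_zpowers]
    exact ⟨cubeA h.ea h.card hk.norm hk.odd hk.ncent, pow_mem hke 3⟩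
  · exact (inf_le_inf_left P (C_le_C1 (mem_sup_right (mem_zpowers e)))).trans
      (h.inf_C hP hA he).le

section main

variable (h : Sm A S e) (hP : TwoG P) (hA : A ≤ P) (he : e ∈ P) (hPA : P ≤ C[A]) (hk : Kel A k)
  (hke : k ∈ C{e}) (hkP : k ∈ N[P]) (hB : e ∉ ⁅P, zpowers k⁆)

include h hP hA he hPA hk hke hkP hB

theorem Sm.sup_eq : ⁅P, zpowers k⁆ ⊔ zpowers e = P := by
  have := (coprime_cent_prod (zpowers_le.2 hkP) (cop hk.odd.isPi hP).symm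
    (hP.sol Nat.prime_two)).sup_eq
  rwa [C_zpowers, h.cent_k hP hA he hk hke] at this

theorem Sm.card_P : ♯P = ♯⁅P, zpowers k⁆ * 2 := by
  rw [← card_sup_inv h.sq (norm_comm_left _ _ he) hB, h.sup_eq hP hA he hPA hk hke hkP hB]

theorem Sm.conj_not_mem (g : G) : g * e * g⁻¹ ∉ ⁅P, zpowers k⁆ := by
  intro hg
  have hBP : ⁅P, zpowers k⁆ ≤ P := comm_le_left (zpowers_le.2 hkP)
  have hkB : k ∈ N[⁅P, zpowers k⁆] := norm_comm_right _ _ (mem_zpowers k)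
  have hf : ⁅P, zpowers k⁆ ⊓ C{k} = ⊥ := by
    rw [eq_bot_iff]
    intro x hx
    have : x ∈ zpowers e := h.cent_k hP hA he hk hke ▸ (⟨hBP hx.1, hx.2⟩ : x ∈ P ⊓ C{k})
    rcases (mem_zpowers_inv h.sq).1 this with e' | e'
    · exact e'
    · exact absurd (e' ▸ hx.1) hB
  have h3 := C_anti hBP (h.cube hP hA he hk hke hkP)
  have h' := h.conj (hPA (hBP hg))
  set e' := g * e * g⁻¹
  have h1 := fpf3 hkB hf h3 hg
  have h2 := fpf3_comm hkB hf h3 hg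
  have h4 : k * e' * k⁻¹ ∈ A ⊔ zpowers e' := h'.inf_C hP hA (hBP hg) ▸
    (⟨hBP (conj_mem hkB hg), mem_C1.2 h2.symm⟩ : k * e' * k⁻¹ ∈ P ⊓ C{e'})
  rcases (mem_sup_inv h'.sq (C_le_N A h'.mem)).1 h4 with h5 | h5
  · exact h'.ne k h5
  · apply h'.ne (k * k)
    rw [← h2] at h5
    have : k * k * e' * (k * k)⁻¹ = (e' * (k * e' * k⁻¹))⁻¹ := by
      rw [← eq_inv_of_mul_eq_one_right h1]; group
    rw [this]; exact A.inv_mem h5

theorem Sm.conj_mul_mem (hg : g * e * g⁻¹ ∈ P) : g * e * g⁻¹ * e⁻¹ ∈ ⁅P, zpowers k⁆ := by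
  rw [← h.sup_eq hP hA he hPA hk hke hkP hB, mem_sup_inv h.sq (norm_comm_left _ _ he)] at hg
  rw [inv_eq_of_mul_eq_one_right h.sq]
  exact hg.resolve_left (h.conj_not_mem hP hA he hPA hk hke hkP hB g)

theorem Sm.step (hn : ¬ Syl 2 ⊤ P) :
    ∃ P1 k1, TwoG P1 ∧ P < P1 ∧ P1 ≤ C[A] ∧ Kel A k1 ∧ k1 ∈ C{e} ∧ k1 ∈ N[P1] ∧
      e ∉ ⁅P1, zpowers k1⁆ := by
  obtain ⟨Q, hQ, hPQ, hQN, hQP⟩ := exists_lt_norm_of_not_syl Nat.prime_two hP
    (hPA.trans (C_le_N A)) (fun e' => hn (h.syl_of_N e'))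
  obtain ⟨P1, hP1, hQ1⟩ := Sylow_superset (M := N[A] ⊓ N[P]) Nat.prime_two hQ (le_inf hQN hQP)
  have hlt : P < P1 := lt_of_lt_of_le hPQ hQ1
  have hP1N : P1 ≤ N[P] := hP1.le.trans inf_le_right
  have hP1A : P1 ≤ C[A] := h.le_C hP1.pi (hP1.le.trans inf_le_left)
  have hT1 : A ⊔ zpowers e ≤ P1 := (sup_le hA (zpowers_le.2 he)).trans hlt.le
  set B := ⁅P, zpowers k⁆ with hBd
  have hBP : B ≤ P := comm_le_left (zpowers_le.2 hkP)
  have hcl : ∀ m ∈ N[A] ⊓ N[P], m * e * m⁻¹ * e⁻¹ ∈ B := fun m hm =>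
    h.conj_mul_mem hP hA he hPA hk hke hkP hB (conj_mem hm.2 he)
  have c1 := h.card_P hP hA he hPA hk hke hkP hB
  rw [← hBd] at c1
  have c2 := relIndex_le_of_coset hcl
  obtain ⟨d, hd, c3⟩ := syl_relIndex hP1 h.sylT hT1
  have c4 := card_inf_mul_relIndex C{e} P1
  rw [inf_comm, h.inf_C hP1.pi (hA.trans hlt.le) (hlt.le he), h.card8] at c4
  have c5 := card_mul_relIndex hlt.le
  have c6 : 2 ≤ P.relIndex P1 := by
    have := relIndex_pos P P1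
    have : P.relIndex P1 ≠ 1 := fun e' => hlt.not_ge (relIndex_eq_one.1 e')
    omega
  have c7 := card_pos B
  have c8 : d = 1 := by
    obtain ⟨d', rfl⟩ := hd
    by_contra hd1
    have : 3 ≤ 2 * d' + 1 := by omega
    nlinarith
  rw [c8, mul_one] at c3
  obtain ⟨n, hnM, hnP, hnA⟩ := h.frattini inf_le_left hP1 ⟨hk.norm, hkP⟩ hk.ncent
  obtain ⟨p, hp, hpe⟩ := exists_conj_of_le hP1.le c3.le hnM
  have hk0 : p⁻¹ * n ∈ (N[A] ⊓ N[P]) ⊓ N[P1] ⊓ C{e} :=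
    ⟨⟨Subgroup.mul_mem _ (Subgroup.inv_mem _ (hP1.le hp)) hnM,
      Subgroup.mul_mem _ (Subgroup.inv_mem _ (norm_self P1 hp)) hnP⟩,
      mem_C1_iff_conj.2 (by
        calc p⁻¹ * n * e * (p⁻¹ * n)⁻¹ = p⁻¹ * (n * e * n⁻¹) * p := by group
          _ = e := by rw [hpe]; group)⟩
  obtain ⟨k1, hk1, hK⟩ := h.exists_kel hk0.1.1.1
    (fun e' => hnA (by simpa using mul_mem (hP1A hp) e'))
  have hk1' := zpowers_le.2 hk0 hk1
  refine ⟨P1, k1, hP1.pi, hlt, hP1A, hK, hk1'.2, hk1'.1.2, fun hc => hB ?_⟩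
  have hq : quo P1 P ⊓ C{cs P k1} = ⊥ := by
    rw [← coprime_quo_cent1 hk1'.1.2 hk1'.1.1.2 hP1N (by
      rw [← card_zpowers']; exact (cop hK.odd.isPi hP).symm),
      h.cent_k hP1.pi (hA.trans hlt.le) (hlt.le he) hK hk1'.2]
    exact quo_eq_bot_of_le (zpowers_le.2 he)
  obtain ⟨c9, hea⟩ := four_of_fpf (hP1.pi.quo P) (fun e' => hlt.not_ge ((quo_eq_bot hP1N).1 e'))
    (ap_mem_N _ hk1'.1.2 hk1'.1.1.2) hq (by rw [card_quo hP1N]; nlinarith)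
  rw [card_quo hP1N] at c9
  have hco : ∀ b ∈ B, ∃ p ∈ P1, b * e = p * e * p⁻¹ := fun b hb =>
    exists_conj_of_coset (fun x hx => hcl x (hP1.le hx)) (by rw [c9] at c5; omega) hb
  have hmem : ∀ y ∈ P, y ∉ B → ∃ p ∈ P1, y = p * e * p⁻¹ := by
    intro y hy hyB
    rw [← h.sup_eq hP hA he hPA hk hke hkP hB, mem_sup_inv h.sq (norm_comm_left _ _ he)] at hy
    obtain ⟨p, hp, e'⟩ := hco _ (hy.resolve_left hyB)
    exact ⟨p, hp, by rw [← e', mul_assoc, h.sq, mul_one]⟩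
  have hMB : N[A] ⊓ N[P] ≤ N[B] := by
    rw [le_N_iff]
    intro m hm b hb
    by_contra hc'
    obtain ⟨p, -, e'⟩ := hmem _ (conj_mem hm.2 (hBP hb)) hc'
    apply h.conj_not_mem hP hA he hPA hk hke hkP hB (m⁻¹ * p)
    have : m⁻¹ * p * e * (m⁻¹ * p)⁻¹ = b := by
      calc m⁻¹ * p * e * (m⁻¹ * p)⁻¹ = m⁻¹ * (p * e * p⁻¹) * m := by group
        _ = b := by rw [← e']; group
    rwa [this]
  refine mem_of_comm_cent hP1.pi ⟨hBP.trans hlt.le, hP1.le.trans hMB⟩ hK.odd hk1'.1.2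
    (hMB hk1'.1.1) (fun x hx => ?_) hc (mem_C1_comm.1 hk1'.2)
  have h1 : x * x ∈ P := by
    rw [← cs_eq_one (mul_mem (hP1N hx) (hP1N hx)), cs, ap_mul _ (hP1N hx) (hP1N hx)]
    exact hea.sq (cs_mem_quo hx (hP1N hx))
  by_contra h2
  obtain ⟨p, -, e'⟩ := hmem _ h1 h2
  have h' := h.conj (e' ▸ hPA h1)
  rw [← e'] at h'
  have := h'.sq_of_cent hP1.pi (hA.trans hlt.le) (hlt.le h1) hx (mem_C1.2 (mul_assoc _ _ _).symm)
  exact h2 (this ▸ B.one_mem)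

end main

theorem Sm.idx (h : Sm A S e) (hk : k ∈ N[A]) (hkA : k ∉ C[A]) (hke : k ∈ C{e}) :
    ∃ L : Subgroup G, L.index = 2 := by
  obtain ⟨k0, hk0, hK0⟩ := h.exists_kel hk hkA
  have hk0e : k0 ∈ C{e} := zpowers_le.2 hke hk0
  have hT := ea_sup_inv h.ea h.sq h.mem
  have hn : k0 ∈ N[A ⊔ zpowers e] := norm_sup (zpowers_le.2 hK0.norm)
    (norm_zpowers_of_cent (zpowers_le.2 hk0e)) (mem_zpowers k0)
  obtain ⟨P, hTP, ⟨hP, hPA, k1, hK, hk1e, hk1P, hB⟩, hmax⟩ := exists_max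
    (P := fun P => TwoG P ∧ P ≤ C[A] ∧ ∃ k, Kel A k ∧ k ∈ C{e} ∧ k ∈ N[P] ∧ e ∉ ⁅P, zpowers k⁆)
    (H := A ⊔ zpowers e) ⟨hT.two, sup_le h.ea.le_C (zpowers_le.2 h.mem), k0, hK0, hk0e, hn,
      fun hc => h.not_mem (by
        rw [(isProd_sup (zpowers_le.2 (C_le_N A h.mem))).comm_left_of_cent
          (by rw [C_zpowers]; exact zpowers_le.2 (mem_C1_comm.1 hk0e))] at hc
        exact comm_le_left (zpowers_le.2 hK0.norm) hc)⟩
  have hA : A ≤ P := le_sup_left.trans hTP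
  have he : e ∈ P := hTP (mem_sup_right (mem_zpowers e))
  by_cases hs : Syl 2 ⊤ P
  · have hBP : ⁅P, zpowers k1⁆ ≤ P := comm_le_left (zpowers_le.2 hk1P)
    have c1 := h.card_P hP hA he hPA hK hk1e hk1P hB
    rw [← card_mul_relIndex hBP] at c1
    rcases thompson hs hBP (Nat.eq_of_mul_eq_mul_left (card_pos _) c1) h.sq he hB with h1 | ⟨g, hg⟩
    · exact h1
    · exact absurd hg (h.conj_not_mem hP hA he hPA hK hk1e hk1P hB g)
  · obtain ⟨P1, k2, h1, h2, h3, h4⟩ := h.step hP hA he hPA hK hk1e hk1P hB hs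
    exact absurd (hmax P1 ⟨h1, h3, k2, h4⟩ h2.le) h2.ne'

end GR
end H20
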