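import Mathlib
import Cfsg.Agent.H20.GoldR2

/-!
# Rank two analysis, part one: the elementary abelian group of order sixteen
-/

set_option autoImplicit false
set_option linter.unusedSectionVars false

namespace H20
namespace GR

open Cfsg H24 Subgroup H26 H26.Gold

universe u

variable {G : Type u} [Group G] [Finite G] {A B P Q S T X H M L : Subgroup G}
  {a b e k x y g n r t : G} {D 𝒮 : Set G} {ρ : G → Subgroup G}

theorem exists_sq_mem (hQ : TwoG Q) (hlt : T < Q) (hn : Q ≤ N[T]) :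
    ∃ u ∈ Q, u ∉ T ∧ u * u ∈ T := by
  obtain ⟨z, hz, hz1, hz2⟩ := TwoG.exists_inv (hQ.quo T) (fun e => hlt.not_ge ((quo_eq_bot hn).1 e))
  obtain ⟨u, hu, huN, rfl⟩ := mem_quo.1 hz
  refine ⟨u, hu, fun e => hz1 (cs_of_mem e), ?_⟩
  rw [← cs_eq_one (mul_mem huN huN), cs, ap_mul _ huN huN]
  exact hz2

theorem mem_syl (hT : Syl 2 C{e} T) (he : e * e = 1) : e ∈ T :=
  hT.le_of_norm' (twoE_of_sq he).isPi (zpowers_le_C1 e) (norm_zpowers_of_cent hT.le) (mem_zpowers e)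

theorem fo (h : R2 D A S 𝒮 ρ) : Fo A S := ⟨h.max.ea h.sc, h.card, h.syl, h.le, h.cent⟩

theorem two_C (h : R2 D A S 𝒮 ρ) (hP : TwoG P) (hA : A ≤ P) : P ≤ C[A] :=
  (fo h).le_C hP (h.max.norm_of_two h.sc hP hA le_top)

theorem conj_ne (h : R2 D A S 𝒮 ρ) (hx : x ∈ C[A]) (hxA : x ∉ A) (g : G) : g * x * g⁻¹ ∉ A := by
  intro hg
  have h1 : x ≠ 1 := fun e => hxA (e ▸ A.one_mem)
  have h2 := h.max.memD hg (fun e => h1 (conj_eq_one_iff.1 e))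
  exact hxA (h.max.max x (h.sc.conj_iff.1 h2) trivial hx)

theorem change (h : R2 D A S 𝒮 ρ) (hP : Syl 2 ⊤ P) (hA : A ≤ P) : R2 D A P 𝒮 ρ :=
  { h with syl := hP, le := hA, cent := two_C h hP.pi hA }

/-- `e ∈ 𝒮` has a centraliser with largest possible Sylow subgroup `T` -/
structure Mx (A : Subgroup G) (𝒮 : Set G) (e : G) (T : Subgroup G) : Prop where
  mem : e ∈ 𝒮
  syl : Syl 2 C{e} T
  le : A ≤ T
  max : ∀ e' ∈ 𝒮, ∀ P, TwoG P → P ≤ C{e'} → ♯P ≤ ♯T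

theorem exists_mx (h : R2 D A S 𝒮 ρ) (hne : 𝒮.Nonempty) : ∃ e T, Mx A 𝒮 e T := by
  have key : ∀ e ∈ 𝒮, ∃ T, Syl 2 C{e} T ∧ A ≤ T := fun e he =>
    Sylow_superset Nat.prime_two (fo h).ea.two (mem_C_iff_le_C1.1 (h.inv e he).2.1)
  obtain ⟨e0, he0⟩ := hne
  obtain ⟨T0, hT0⟩ := key e0 he0
  obtain ⟨⟨e, T⟩, ⟨h1, h2, h3⟩, h4⟩ := Set.exists_max_image
    {p : G × Subgroup G | p.1 ∈ 𝒮 ∧ Syl 2 C{p.1} p.2 ∧ A ≤ p.2} (fun p => ♯(p.2)) (Set.toFinite _)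
    ⟨(e0, T0), he0, hT0⟩
  refine ⟨e, T, h1, h2, h3, fun e' he' P hP hPe => ?_⟩
  obtain ⟨T', hT'⟩ := key e' he'
  exact (Nat.le_of_dvd (card_pos _) (hT'.1.card_dvd hP hPe)).trans (h4 (e', T') ⟨he', hT'⟩)

theorem Mx.of_le (m : Mx A 𝒮 e T) (hx : x ∈ 𝒮) (hP : TwoG P) (hA : A ≤ P) (hPx : P ≤ C{x})
    (hc : ♯T ≤ ♯P) : Mx A 𝒮 x P := by
  obtain ⟨P', h1, h2⟩ := Sylow_superset Nat.prime_two hP hPx
  have := eq_of_card_ge h2 ((m.max x hx P' h1.pi h1.le).trans hc)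
  exact ⟨hx, this ▸ h1, hA, fun e' he' Q hQ hQe => (m.max e' he' Q hQ hQe).trans hc⟩

theorem Mx.two (m : Mx A 𝒮 e T) : TwoG T := m.syl.pi

theorem Mx.inf_C (m : Mx A 𝒮 e T) (hP : TwoG P) (hT : T ≤ P) : P ⊓ C{e} = T :=
  inf_C1_eq m.syl hP hT

theorem Mx.mem_of (m : Mx A 𝒮 e T) (hP : TwoG P) (hT : T ≤ P) (hx : x ∈ P) (hc : x ∈ C{e}) :
    x ∈ T := m.inf_C hP hT ▸ (⟨hx, hc⟩ : x ∈ P ⊓ C{e})

section one

variable (h : R2 D A S 𝒮 ρ) (m : Mx A 𝒮 e T)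
include h m

theorem Mx.conj (hn : n ∈ N[A]) (hT : n ∈ N[T]) : Mx A 𝒮 (n * e * n⁻¹) T := by
  have := m.syl.cj n
  rw [cj_C1, cj_of_mem_N hT] at this
  exact ⟨(h.conj e m.mem n hn).1, this, m.le, m.max⟩

theorem Mx.le_C : T ≤ C[A] := two_C h m.two m.le

theorem Mx.memT : e ∈ T := mem_syl m.syl (h.inv e m.mem).1

theorem Mx.memR : e ∈ T ⊓ ρ e := ⟨m.memT h, (h.inv e m.mem).2.2.2⟩

theorem Mx.not_mem : e ∉ A := (h.inv e m.mem).2.2.1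

theorem Mx.ne_one : e ≠ 1 := fun e' => m.not_mem h (e' ▸ A.one_mem)

theorem Mx.isProd : IsProd A (T ⊓ ρ e) T := by
  have := isProd_sup (A := A) (B := T ⊓ ρ e) (inf_le_left.trans ((m.le_C h).trans (C_le_N A)))
  rwa [le_antisymm (sup_le m.le inf_le_left) (h.split e m.mem T m.two m.le m.syl.le)] at this

theorem Mx.inf_eq : A ⊓ (T ⊓ ρ e) = ⊥ :=
  eq_bot_of_le (h.disj e m.mem) (inf_le_inf_left A inf_le_right)

theorem Mx.eq_one (ha : a ∈ A) (hr : a ∈ T ⊓ ρ e) : a = 1 := by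
  have : a ∈ A ⊓ (T ⊓ ρ e) := ⟨ha, hr⟩
  rwa [m.inf_eq h] at this

theorem Mx.card : ♯T = 4 * ♯(T ⊓ ρ e) := by
  have := (m.isProd h).card
  rwa [m.inf_eq h, card_bot, mul_one, h.card] at this

theorem Mx.cj_R (hn : n ∈ N[A]) (hT : n ∈ N[T]) :
    cj n (T ⊓ ρ e) = T ⊓ ρ (n * e * n⁻¹) := by
  rw [cj_inf, cj_of_mem_N hT, (h.conj e m.mem n hn).2]

theorem Mx.norm_R (hn : n ∈ N[A]) (hT : n ∈ N[T]) (hc : n ∈ C{e}) : n ∈ N[T ⊓ ρ e] := by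
  rw [mem_N_iff_cj, m.cj_R h hn hT, mem_C1_iff_conj.1 hc]

theorem Mx.T_norm_R : T ≤ N[T ⊓ ρ e] := fun _ ht =>
  m.norm_R h (C_le_N A (m.le_C h ht)) (norm_self T ht) (m.syl.le ht)

theorem Mx.pump (hx : x ∈ T ⊓ ρ e) (h1 : x ≠ 1) (h2 : x * x = 1) (hc : x ∈ C[T ⊓ ρ e]) :
    Mx A 𝒮 x T := by
  obtain ⟨h3, -⟩ := h.pump e m.mem x ⟨⟨m.syl.le hx.1, m.le_C h hx.1⟩, hx.2⟩ h1 h2
  refine m.of_le h3 m.two m.le ?_ le_rfl
  rw [← mem_C_iff_le_C1, ← (m.isProd h).sup_eq, C_sup]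
  exact ⟨m.le_C h hx.1, hc⟩

theorem Mx.exists_u : ∃ u ∈ N[T], u ∈ C[A] ∧ (T ⊓ ρ e) ⊓ cj u (T ⊓ ρ e) = ⊥ := by
  obtain ⟨Q, hQ, hlt, -, hn⟩ := exists_lt_norm_of_not_syl Nat.prime_two m.two (le_top (a := T))
    (fun hs => h.nosyl e m.mem T hs m.syl.le)
  obtain ⟨u, hu, huT, huu⟩ := exists_sq_mem hQ hlt hn
  refine ⟨u, hn hu, two_C h hQ (m.le.trans hlt.le) hu, ?_⟩
  by_contra hc
  set R := T ⊓ ρ e with hR
  have hW : T ⊔ zpowers u ≤ Q := sup_le hlt.le (zpowers_le.2 hu)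
  have hn1 : T ≤ N[cj u R] := by
    have := norm_cj (m.T_norm_R h) u
    rwa [cj_of_mem_N (hn hu)] at this
  have hn2 : u ∈ N[R ⊓ cj u R] := by
    rw [mem_N_iff_cj, cj_inf, ← cj_mul, cj_of_mem_N (m.T_norm_R h huu), inf_comm]
  have h2 : TwoG (R ⊓ cj u R) := (m.two.inf_left _).inf_left _
  have h3 := (hQ.of_le hW).inf_C_ne_bot Nat.prime_two h2
    (sup_le (norm_inf (m.T_norm_R h) hn1) (zpowers_le.2 hn2)) hc
  obtain ⟨x, hx, hx1, hx2⟩ := TwoG.exists_inv (h2.inf_left _) h3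
  have h4 := m.pump h hx.1.1 hx1 hx2 (C_anti (inf_le_left.trans le_sup_left) hx.2)
  exact huT (h4.mem_of hQ hlt.le hu (mem_C_iff_le_C1.1 hx.2 (mem_sup_right (mem_zpowers u))))

theorem Mx.ea : EA T := by
  obtain ⟨u, hu, -, hi⟩ := m.exists_u h
  have hA := (fo h).ea
  have sq : ∀ a ∈ A, ∀ r ∈ T, (a * r) * (a * r) = r * r := fun a ha r hr => by
    rw [mul_assoc, ← mul_assoc r, ← mem_C.1 (m.le_C h hr) a ha, ← mul_assoc, ← mul_assoc,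
      hA.sq ha, one_mul]
  have h1 : ∀ r ∈ T ⊓ ρ e, r * r = 1 := by
    intro r hr
    obtain ⟨a, ha, r', hr', e'⟩ := (m.isProd h).mul _ (conj_mem hu hr.1)
    have h2 : u * (r * r) * u⁻¹ ∈ (T ⊓ ρ e) ⊓ cj u (T ⊓ ρ e) := by
      refine ⟨?_, conj_mem_cj u (mul_mem hr hr)⟩
      rw [← conj_mul, e', sq a ha r' hr'.1]
      exact mul_mem hr' hr'
    rw [hi] at h2
    exact conj_eq_one_iff.1 h2
  refine ea_of_sq fun t ht => ?_
  obtain ⟨a, ha, r, hr, rfl⟩ := (m.isProd h).mul t ht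
  rw [sq a ha r hr.1, h1 r hr]

theorem Mx.exists_k : ∃ k, Kel A k ∧ k ∈ C[T ⊓ ρ e] := by
  obtain ⟨k, h1, h2, h3⟩ := h.exk e m.mem (T ⊓ ρ e) (m.two.inf_left _)
    (le_inf (inf_le_left.trans (le_inf m.syl.le (m.le_C h))) inf_le_right)
  obtain ⟨k', h4, h5⟩ := (fo h).exists_kel h1 h2
  exact ⟨k', h5, zpowers_le.2 h3 h4⟩

theorem Mx.card_R : ♯(T ⊓ ρ e) = 4 := by
  obtain ⟨u, hu, -, hi⟩ := m.exists_u h
  have hle : cj u (T ⊓ ρ e) ≤ T := cj_le_of_mem_N inf_le_left hu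
  have c1 := card_sup_of_inf (hle.trans (m.T_norm_R h)) hi
  have c2 := card_le (sup_le inf_le_left hle : (T ⊓ ρ e) ⊔ cj u (T ⊓ ρ e) ≤ T)
  rw [c1, card_cj, m.card h] at c2
  have c3 := Nat.le_of_mul_le_mul_right c2 (card_pos _)
  have c4 := one_lt_card (ne_bot_of_mem (m.memR h) (m.ne_one h))
  have c5 : ♯(T ⊓ ρ e) ≠ 3 := fun e' => by
    have := (m.two.inf_left (ρ e)).mem Nat.prime_three (e' ▸ dvd_rfl)
    simp at this
  have c6 : ♯(T ⊓ ρ e) ≠ 2 := fun e' => by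
    have he := h.inv e m.mem
    have h1 : zpowers e = T ⊓ ρ e :=
      eq_of_card_eq (zpowers_le.2 (m.memR h)) (by rw [e', card_zpowers_inv he.1 (m.ne_one h)])
    obtain ⟨k, hk, hkR⟩ := m.exists_k h
    have hs : Sm A S e := ⟨fo h, he.1, he.2.1, conj_ne h he.2.1 he.2.2.1, by
      rw [h1, (m.isProd h).sup_eq]; exact m.syl⟩
    obtain ⟨L, hL⟩ := hs.idx hk.norm hk.ncent (C_le_C1 (m.memR h) hkR)
    exact h.noidx L hL
  omega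

theorem Mx.card16 : ♯T = 16 := by rw [m.card h, m.card_R h]

theorem Mx.k_norm (hk : Kel A k) (hkR : k ∈ C[T ⊓ ρ e]) : zpowers k ≤ N[T] := by
  rw [← (m.isProd h).sup_eq]
  exact norm_sup (zpowers_le.2 hk.norm) (zpowers_le.2 (C_le_N _ hkR))

theorem Mx.cent_k (hk : Kel A k) (hkR : k ∈ C[T ⊓ ρ e]) (ht : t ∈ T) (hc : t ∈ C{k}) :
    t ∈ T ⊓ ρ e := by
  obtain ⟨a, ha, r, hr, rfl⟩ := (m.isProd h).mul t ht
  have h1 : r ∈ C{k} := mem_C_iff_le_C1.1 hkR hr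
  have := (fo h).eq_one hk ha ((Subgroup.mul_mem_cancel_right _ h1).1 hc)
  rwa [this, one_mul]

theorem Mx.all (hx : x ∈ T) (hxA : x ∉ A) : Mx A 𝒮 x T := by
  have hT := m.ea h
  have hR : ∀ r ∈ T ⊓ ρ e, r ≠ 1 → Mx A 𝒮 r T := fun r hr h1 =>
    m.pump h hr h1 (hT.sq hr.1) (C_anti inf_le_left (hT.le_C hr.1))
  obtain ⟨a, ha, r, hr, rfl⟩ := (m.isProd h).mul x hx
  have hr1 : r ≠ 1 := fun e' => hxA (by simpa [e'] using ha)
  by_cases ha1 : a = 1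
  · rw [ha1, one_mul]; exact hR r hr hr1
  obtain ⟨u, hu, huA, hi⟩ := m.exists_u h
  obtain ⟨k, hk, hkR⟩ := m.exists_k h
  obtain ⟨a0, ha0, r0, hr0, e0⟩ := (m.isProd h).mul _ (conj_mem' hu hr.1)
  have e1 : u * r0 * u⁻¹ = a0⁻¹ * r := by
    calc u * r0 * u⁻¹ = (u * a0⁻¹ * u⁻¹) * (u * (a0 * r0) * u⁻¹) := by group
      _ = _ := by rw [conj_eq_of_mem_C huA (A.inv_mem ha0), ← e0]; group
  have h1 : a0⁻¹ ≠ 1 := fun e' => hr1 (by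
    have : r ∈ (T ⊓ ρ e) ⊓ cj u (T ⊓ ρ e) := ⟨hr, by
      have := conj_mem_cj u hr0
      rwa [e1, e', one_mul] at this⟩
    rwa [hi] at this)
  have h2 : r0 ≠ 1 := fun e' => hxA (by
    rw [e', mul_one, mul_inv_cancel, eq_comm, inv_mul_eq_one] at e1
    exact A.mul_mem ha (e1 ▸ ha0))
  obtain ⟨c, hc, e2⟩ := transA (fo h).ea h.card hk.norm hk.odd hk.ncent (A.inv_mem ha0) h1 ha ha1
  have e3 : a * r = (c * u) * r0 * (c * u)⁻¹ := by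
    calc a * r = (c * a0⁻¹ * c⁻¹) * (c * r * c⁻¹) := by
          rw [← e2, conj_eq_of_mem_C (zpowers_le.2 hkR hc) hr]
      _ = c * (a0⁻¹ * r) * c⁻¹ := by group
      _ = _ := by rw [← e1]; group
  rw [e3]
  exact (hR r0 hr0 h2).conj h (mul_mem (zpowers_le.2 hk.norm hc) (C_le_N A huA))
    (mul_mem (m.k_norm h hk hkR hc) hu)

theorem Mx.card_le_of_coset (hP : TwoG P) (hT : T ≤ P) (hc : ∀ p ∈ P, p * e * p⁻¹ * e⁻¹ ∈ A) :
    ♯P ≤ 64 := by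
  have c1 := relIndex_le_of_coset hc
  have c2 := card_inf_mul_relIndex C{e} P
  rw [inf_comm, m.inf_C hP hT, m.card16 h] at c2
  rw [h.card] at c1
  omega

theorem Mx.bound (hP : TwoG P) (hT : T ≤ P) (hn : P ≤ N[T]) : ♯P ≤ 64 := by
  have hPA : P ≤ N[A] := (two_C h hP (m.le.trans hT)).trans (C_le_N A)
  obtain ⟨z, hz, hz1⟩ := exists_ne_one ((hP.quo A).inf_C_ne_bot Nat.prime_two (m.two.quo A)
    (quo_norm A hn) (fun e' => m.not_mem h ((quo_eq_bot (hT.trans hPA)).1 e' (m.memT h))))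
  obtain ⟨x, hx, hxN, rfl⟩ := mem_quo.1 hz.1
  refine (m.all h hx (fun e' => hz1 (cs_of_mem e'))).card_le_of_coset h hP hT fun p hp => ?_
  have h1 := mem_C.1 hz.2 _ (cs_mem_quo hp (hPA hp))
  rw [← commutatorElement_def, ← cs_eq_one (by
    rw [commutatorElement_def]
    exact mul_mem (mul_mem (mul_mem (hPA hp) hxN) (inv_mem (hPA hp))) (inv_mem hxN)), cs,
    ap_commutator _ (hPA hp) hxN, commutatorElement_eq_one_iff_mul_comm]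
  exact h1

end one

/-- the group of order `64` -/
structure Big (A T R P : Subgroup G) (k : G) : Prop where
  two : TwoG P
  le : T ≤ P
  card : ♯P = 64
  comm : ∀ p ∈ P, ∀ t ∈ T, p * t * p⁻¹ * t⁻¹ ∈ A
  kel : Kel A k
  norm : k ∈ N[P]
  cent : k ∈ C[R]

theorem Mx.exists_big (h : R2 D A S 𝒮 ρ) (m : Mx A 𝒮 e T) : ∃ P k, Big A T (T ⊓ ρ e) P k := by
  obtain ⟨u, hu, huA, hi⟩ := m.exists_u h
  obtain ⟨k, hk, hkR⟩ := m.exists_k h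
  have hTA : T ≤ N[A] := (m.le_C h).trans (C_le_N A)
  have hT := m.ea h
  set M1 := centQ T A with hM1
  have hmem : ∀ x, x ∈ M1 ↔ x ∈ N[A] ∧ ∀ t ∈ T, x * t * x⁻¹ * t⁻¹ ∈ A := fun x => mem_centQ hTA
  have hM1T : M1 ≤ N[T] := le_N_iff.2 fun x hx t ht => by
    have := T.mul_mem (m.le (((hmem x).1 hx).2 t ht)) ht
    rwa [inv_mul_cancel_right] at this
  have hTM : T ≤ M1 := fun x hx => (hmem x).2 ⟨hTA hx, fun t ht => by
    rw [hT.comm hx ht]; simp⟩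
  have hkM : k ∈ M1 := (hmem k).2 ⟨hk.norm, fun t ht => by
    obtain ⟨a, ha, r, hr, rfl⟩ := (m.isProd h).mul t ht
    have : k * (a * r) * k⁻¹ * (a * r)⁻¹ = (k * a * k⁻¹) * a⁻¹ := by
      calc k * (a * r) * k⁻¹ * (a * r)⁻¹ = (k * a * k⁻¹) * (k * r * k⁻¹) * (a * r)⁻¹ := by group
        _ = _ := by rw [conj_eq_of_mem_C hkR hr]; group
    rw [this]
    exact A.mul_mem (conj_mem hk.norm ha) (A.inv_mem ha)⟩
  have huM : u ∈ N[M1] :=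
    norm_centQ (zpowers_le.2 hu) (zpowers_le.2 (C_le_N A huA)) (mem_zpowers u)
  have hke : k ∈ C{e} := C_le_C1 (m.memR h) hkR
  have hv : u * k * u⁻¹ ∈ M1 := conj_mem huM hkM
  have ha0 := ((hmem _).1 hv).2 e (m.memT h)
  have ha1 : u * k * u⁻¹ * e * (u * k * u⁻¹)⁻¹ * e⁻¹ ≠ 1 := fun e' => m.ne_one h (by
    have h1 : u⁻¹ * e * u ∈ C{k} := by
      rw [mem_C1_comm, mem_C1_iff_conj]
      rw [mul_inv_eq_one] at e'
      calc k * (u⁻¹ * e * u) * k⁻¹ = u⁻¹ * (u * k * u⁻¹ * e * (u * k * u⁻¹)⁻¹) * u := by group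
        _ = _ := by rw [e']
    have : e ∈ (T ⊓ ρ e) ⊓ cj u (T ⊓ ρ e) :=
      ⟨m.memR h, mem_cj.2 (m.cent_k h hk hkR (conj_mem' hu (m.memT h)) h1)⟩
    rwa [hi] at this)
  have c1 : C{e}.relIndex M1 ≤ 4 :=
    h.card ▸ relIndex_le_of_coset fun x hx => ((hmem x).1 hx).2 e (m.memT h)
  have c2 : 4 ≤ C{e}.relIndex M1 := by
    rw [← ncard_cls, ← h.card, ← ncard_coset e A]
    refine Set.ncard_le_ncard ?_
    rintro _ ⟨a, ha, rfl⟩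
    by_cases h1 : a = 1
    · exact ⟨1, one_mem _, by simp [h1]⟩
    obtain ⟨c, hc, e2⟩ := transA (fo h).ea h.card hk.norm hk.odd hk.ncent ha0 ha1 ha h1
    refine ⟨c * (u * k * u⁻¹), mul_mem (zpowers_le.2 hkM hc) hv, ?_⟩
    have h2 := mem_C1_iff_conj.1 (zpowers_le.2 hke hc)
    calc a * e = c * (u * k * u⁻¹ * e * (u * k * u⁻¹)⁻¹ * e⁻¹) * c⁻¹ * (c * e * c⁻¹) := by
          rw [← e2, h2]
      _ = _ := by group
  obtain ⟨P, hP, hTP⟩ := Sylow_superset Nat.prime_two m.two hTM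
  obtain ⟨d, hd, c3⟩ := syl_relIndex hP m.syl hTP
  have c4 : d = 1 := by
    have h1 : d ∣ 4 := Dvd.intro_left _ (c3.symm.trans (le_antisymm c1 c2))
    have := Nat.le_of_dvd (by norm_num) h1
    obtain ⟨d', rfl⟩ := hd
    have : d' = 0 ∨ d' = 1 := by omega
    rcases this with rfl | rfl
    · rfl
    · norm_num at h1
  rw [c4, mul_one] at c3
  have c5 := card_inf_mul_relIndex C{e} P
  rw [inf_comm, m.inf_C hP.pi hTP, m.card16 h, ← c3, le_antisymm c1 c2] at c5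
  obtain ⟨n, hnM, hnP, hnA⟩ := (fo h).frattini (centQ_le_N T A) hP hkM hk.ncent
  obtain ⟨p, hp, hpe⟩ := exists_conj_of_le hP.le c3.le hnM
  have hk0 : p⁻¹ * n ∈ M1 ⊓ N[P] ⊓ C{e} :=
    ⟨⟨Subgroup.mul_mem _ (Subgroup.inv_mem _ (hP.le hp)) hnM,
      Subgroup.mul_mem _ (Subgroup.inv_mem _ (norm_self P hp)) hnP⟩,
      mem_C1_iff_conj.2 (by
        calc p⁻¹ * n * e * (p⁻¹ * n)⁻¹ = p⁻¹ * (n * e * n⁻¹) * p := by group
          _ = e := by rw [hpe]; group)⟩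
  obtain ⟨k1, hk1, hK⟩ := (fo h).exists_kel (centQ_le_N T A hk0.1.1)
    (fun e' => hnA (by simpa using mul_mem (two_C h hP.pi (m.le.trans hTP) hp) e'))
  have hk1' := zpowers_le.2 hk0 hk1
  refine ⟨P, k1, hP.pi, hTP, c5.symm, fun p hp => ((hmem p).1 (hP.le hp)).2, hK, hk1'.1.2, ?_⟩
  rw [mem_C']
  intro r hr
  have h1 := m.eq_one h (((hmem k1).1 hk1'.1.1).2 r hr.1) (Subgroup.mul_mem _
    (conj_mem (m.norm_R h hK.norm (hM1T hk1'.1.1) hk1'.2) hr) (Subgroup.inv_mem _ hr))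
  rw [mul_inv_eq_one, mul_inv_eq_iff_eq_mul] at h1
  exact h1

end GR
end H20
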