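import Mathlib
import Cfsg.Agent.H20.GoldR3

/-!
# Rank two analysis, part two: the groups of order `64` and `128`
-/

set_option autoImplicit false
set_option linter.unusedSectionVars false

namespace H20
namespace GR

open Cfsg H24 Subgroup H26 H26.Gold

universe u

variable {G : Type u} [Group G] [Finite G] {A B P Q S T T' X H M L E : Subgroup G}
  {a b e k x y g n r t w : G} {D 𝒮 : Set G} {ρ : G → Subgroup G}

/-- two elementary abelian subgroups of order `16` generating a group of order `64` -/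
structure Two (A : Subgroup G) (𝒮 : Set G) (T T' P : Subgroup G) : Prop where
  two : TwoG P
  card : ♯P = 64
  prod : IsProd T T' P
  inf : T ⊓ T' = A
  mx : ∀ x ∈ T, x ∉ A → Mx A 𝒮 x T
  mx' : ∀ x ∈ T', x ∉ A → Mx A 𝒮 x T'
  ex : ∃ x ∈ T, x ∉ A
  ex' : ∃ x ∈ T', x ∉ A
  sq : ∀ x ∈ P, x * x ∈ A
  inv : ∀ x ∈ P, x * x = 1 → x ∈ T ∨ x ∈ T'

theorem comm_mem_of_sq (h : ∀ x ∈ P, x * x ∈ A) (hx : x ∈ P) (hy : y ∈ P) :
    x * y * x⁻¹ * y⁻¹ ∈ A := by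
  have : x * y * x⁻¹ * y⁻¹ = (x * x) * ((x⁻¹ * y) * (x⁻¹ * y)) * (y⁻¹ * y⁻¹) := by group
  rw [this]
  exact A.mul_mem (A.mul_mem (h x hx) (h _ (P.mul_mem (P.inv_mem hx) hy))) (h _ (P.inv_mem hy))

section big

variable (h : R2 D A S 𝒮 ρ) (m : Mx A 𝒮 e T) (c : Big A T (T ⊓ ρ e) P k)
include h m c

theorem Big.le_C : P ≤ C[A] := two_C h c.two (m.le.trans c.le)

theorem Big.sq (hx : x ∈ P) : x * x ∈ A := by
  have h1 := c.comm x hx e (m.memT h)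
  have h2 : x * x ∈ T := m.mem_of c.two c.le (P.mul_mem hx hx) (mem_C1_iff_conj.2 (by
    calc x * x * e * (x * x)⁻¹ = (x * (x * e * x⁻¹ * e⁻¹) * x⁻¹) * (x * e * x⁻¹ * e⁻¹) * e := by group
      _ = e := by rw [conj_eq_of_mem_C (c.le_C h m hx) h1, (fo h).ea.sq h1, one_mul]))
  by_contra h3
  have h4 := (m.all h h2 h3).mem_of c.two c.le hx (mem_C1.2 (mul_assoc _ _ _).symm)
  exact h3 ((m.ea h).sq h4 ▸ A.one_mem)

theorem Big.cent_k (hx : x ∈ P) (hc : x ∈ C{k}) : x ∈ T ⊓ ρ e := by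
  have he : e ∈ C{k} := mem_C_iff_le_C1.1 c.cent (m.memR h)
  have h1 := (fo h).eq_one c.kel (c.comm x hx e (m.memT h))
    (mul_mem (mul_mem (mul_mem hc he) (inv_mem hc)) (inv_mem he))
  rw [mul_inv_eq_one] at h1
  exact m.cent_k h c.kel c.cent (m.mem_of c.two c.le hx (mem_C1_iff_conj.2 h1)) hc

theorem Big.B_le : ⁅P, zpowers k⁆ ≤ P := comm_le_left (zpowers_le.2 c.norm)

theorem Big.A_le : A ≤ ⁅P, zpowers k⁆ := (fo h).le_comm c.kel (m.le.trans c.le)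

theorem Big.fpf : ⁅P, zpowers k⁆ ⊓ C{k} = ⊥ := by
  rw [eq_bot_iff]
  intro x hx
  exact (fo h).eq_one c.kel (mem_of_comm_cent c.two
    ⟨m.le.trans c.le, (c.le_C h m).trans (C_le_N A)⟩ c.kel.odd c.norm c.kel.norm
    (fun _ hy => c.sq h m hy) hx.1 hx.2) hx.2

theorem Big.prod : IsProd ⁅P, zpowers k⁆ (T ⊓ ρ e) P := by
  have := coprime_cent_prod (zpowers_le.2 c.norm) (cop c.kel.odd.isPi c.two).symm
    (c.two.sol Nat.prime_two)
  rw [C_zpowers] at this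
  refine ⟨this.left_le, inf_le_left.trans c.le, fun x hx => ?_⟩
  obtain ⟨b, hb, r, hr, e'⟩ := this.mul x hx
  exact ⟨b, hb, r, c.cent_k h m hr.1 hr.2, e'⟩

theorem Big.eq_one (hb : r ∈ ⁅P, zpowers k⁆) (hr : r ∈ T ⊓ ρ e) : r = 1 := by
  have : r ∈ ⁅P, zpowers k⁆ ⊓ C{k} := ⟨hb, mem_C_iff_le_C1.1 c.cent hr⟩
  rwa [c.fpf h m] at this

theorem Big.card_B : ♯⁅P, zpowers k⁆ = 16 := by
  have h1 := (c.prod h m).card
  have h2 : ⁅P, zpowers k⁆ ⊓ (T ⊓ ρ e) = ⊥ :=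
    (eq_bot_iff_forall _).2 fun x hx => c.eq_one h m hx.1 hx.2
  rw [h2, card_bot, c.card, m.card_R h] at h1
  omega

theorem Big.mem_A (hb : t ∈ ⁅P, zpowers k⁆) (ht : t ∈ T) : t ∈ A := by
  obtain ⟨a, ha, r, hr, rfl⟩ := (m.isProd h).mul t ht
  rw [c.eq_one h m ((Subgroup.mul_mem_cancel_left _ (c.A_le h m ha)).1 hb) hr, mul_one]
  exact ha

theorem Big.mem_A_of_cent (hb : b ∈ ⁅P, zpowers k⁆) (hr : r ∈ T ⊓ ρ e) (h1 : r ≠ 1)
    (hc : b ∈ C{r}) : b ∈ A :=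
  c.mem_A h m hb ((m.all h hr.1 (fun e' => h1 (m.eq_one h e' hr))).mem_of c.two c.le
    (c.B_le h m hb) hc)

theorem Big.cube : k ^ 3 ∈ C[P] := by
  refine cube_cent c.two c.kel.odd c.norm c.le ?_ ?_
  · rw [← (m.isProd h).sup_eq, C_sup]
    exact ⟨cubeA (fo h).ea h.card c.kel.norm c.kel.odd c.kel.ncent, pow_mem c.cent 3⟩
  · exact (inf_le_inf_left P (C_le_C1 (m.memT h))).trans (m.inf_C c.two c.le).le

theorem Big.inv_sub (h1 : A ≤ L) (h2 : L ≤ ⁅P, zpowers k⁆) (hk : ∀ y ∈ L, k * y * k⁻¹ ∈ L)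
    (hx : x ∈ L) (hxA : x ∉ A) : ⁅P, zpowers k⁆ ≤ L := by
  have hkL : k ∈ N[L] := mem_N_of_finite hk
  have hLP := h2.trans (c.B_le h m)
  have hLA : L ≤ N[A] := (hLP.trans (c.le_C h m)).trans (C_le_N A)
  have c1 := card_mul_relIndex h1
  have c2 := card_le h2
  rw [c.card_B h m] at c2
  rw [h.card] at c1
  obtain ⟨c3, -⟩ := four_of_fpf ((c.two.of_le hLP).quo A) (fun e' => hxA ((quo_eq_bot hLA).1 e' hx))
    (ap_mem_N _ hkL c.kel.norm) (quo_inf_C1_eq_bot hkL c.kel.norm ⟨h1, hLA⟩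
      (eq_bot_of_le (c.fpf h m) (inf_le_inf_right _ h2))) (by rw [card_quo hLA]; omega)
  rw [card_quo hLA] at c3
  exact (eq_of_card_ge h2 (by rw [c.card_B h m]; omega)).ge

theorem Big.comm_B (hx : x ∈ ⁅P, zpowers k⁆) (hy : y ∈ ⁅P, zpowers k⁆) : y * x = x * y := by
  by_cases hxA : x ∈ A
  · exact (mem_C.1 (c.le_C h m (c.B_le h m hy)) x hxA).symm
  have hkB : k ∈ N[⁅P, zpowers k⁆] := norm_comm_right _ _ (mem_zpowers k)
  have h3 := C_anti (c.B_le h m) (c.cube h m)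
  have h1 := fpf3 hkB (c.fpf h m) h3 hx
  have h2 := fpf3_comm hkB (c.fpf h m) h3 hx
  have := c.inv_sub h m (L := ⁅P, zpowers k⁆ ⊓ C{x} ⊓ C{k * x * k⁻¹})
    (le_inf (le_inf (c.A_le h m) (mem_C_iff_le_C1.1 (c.le_C h m (c.B_le h m hx))))
      (mem_C_iff_le_C1.1 (c.le_C h m (c.B_le h m (conj_mem hkB hx)))))
    (inf_le_left.trans inf_le_left) (fun z hz => by
      have k1 : k * z * k⁻¹ ∈ C{k * x * k⁻¹} := cj_C1 k x ▸ conj_mem_cj k hz.1.2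
      have k2 : k * z * k⁻¹ ∈ C{k * (k * x * k⁻¹) * k⁻¹} := cj_C1 k _ ▸ conj_mem_cj k hz.2
      refine ⟨⟨conj_mem hkB hz.1.1, ?_⟩, k1⟩
      rw [mul_assoc] at h1
      have k3 := inv_mem (mul_mem (mem_C1_comm.1 k1) (mem_C1_comm.1 k2))
      rw [← eq_inv_of_mul_eq_one_left h1] at k3
      exact mem_C1_comm.1 k3) ⟨⟨hx, self_mem_C1 x⟩, mem_C1.2 h2⟩ hxA
  exact mem_C1.1 (this hy).1.2

theorem Big.ea_B : EA ⁅P, zpowers k⁆ := by
  set B := ⁅P, zpowers k⁆ with hB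
  have hkB : k ∈ N[B] := norm_comm_right _ _ (mem_zpowers k)
  have hA := (fo h).ea
  have hT := m.ea h
  refine ea_of_sq fun x0 hx0 => ?_
  by_contra h0
  have hx0A : x0 ∉ A := fun e' => h0 (hA.sq e')
  have hBP := c.B_le h m
  have hRP : T ⊓ ρ e ≤ P := inf_le_left.trans c.le
  let L1 : Subgroup G :=
    { carrier := {x | x ∈ B ∧ x * x = 1}
      one_mem' := ⟨B.one_mem, one_mul 1⟩
      mul_mem' := fun {x y} hx hy => ⟨B.mul_mem hx.1 hy.1, by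
        rw [mul_assoc, ← mul_assoc y, c.comm_B h m hx.1 hy.1, mul_assoc, hy.2, mul_one, hx.2]⟩
      inv_mem' := fun {x} hx => ⟨B.inv_mem hx.1, by rw [← mul_inv_rev, hx.2, inv_one]⟩ }
  have s1 : ∀ x ∈ B, x * x = 1 → x ∈ A := by
    intro x hx hx2
    by_contra hxA
    exact h0 (c.inv_sub h m (L := L1) (fun a ha => ⟨c.A_le h m ha, hA.sq ha⟩) (fun _ hy => hy.1)
      (fun y hy => ⟨conj_mem hkB hy.1, by rw [conj_mul, hy.2, mul_one, mul_inv_cancel]⟩)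
      ⟨hx, hx2⟩ hxA hx0).2
  obtain ⟨r, hr, hrx⟩ := exists_conj_of_coset (X := T ⊓ ρ e) (e := x0) (B := A)
    (fun r hr => comm_mem_of_sq (fun _ hy => c.sq h m hy) (hRP hr) (hBP hx0)) (by
      have h1 := card_inf_mul_relIndex C{x0} (T ⊓ ρ e)
      have h2 : C{x0} ⊓ (T ⊓ ρ e) = ⊥ := (eq_bot_iff_forall _).2 fun y hy => by
        by_contra h3
        exact hx0A (c.mem_A_of_cent h m hx0 hy.2 h3 (mem_C1_comm.1 hy.1))
      rw [h2, card_bot, one_mul, m.card_R h] at h1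
      rw [h1, h.card]) (A.inv_mem (c.sq h m (hBP hx0)))
  have hrx' : r * x0 * r⁻¹ = x0⁻¹ := by rw [← hrx]; group
  have hr2 := hT.sq hr.1
  have hri := hT.inv hr.1
  let L2 : Subgroup G :=
    { carrier := {x | x ∈ B ∧ r * x * r⁻¹ = x⁻¹}
      one_mem' := ⟨B.one_mem, by simp⟩
      mul_mem' := fun {x y} hx hy => ⟨B.mul_mem hx.1 hy.1, by
        rw [← conj_mul, hx.2, hy.2, ← mul_inv_rev, c.comm_B h m hx.1 hy.1]⟩
      inv_mem' := fun {x} hx => ⟨B.inv_mem hx.1, by rw [← conj_inv, hx.2]⟩ }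
  have s2 : ∀ x ∈ B, r * x * r⁻¹ = x⁻¹ := fun x hx =>
    (c.inv_sub h m (L := L2)
      (fun a ha => ⟨c.A_le h m ha, by rw [conj_eq_of_mem_C (m.le_C h hr.1) ha, hA.inv ha]⟩)
      (fun _ hy => hy.1)
      (fun y hy => ⟨conj_mem hkB hy.1, by
        have h1 := conj_eq_of_mem_C c.cent hr
        calc r * (k * y * k⁻¹) * r⁻¹ = (k * r * k⁻¹) * (k * y * k⁻¹) * (k * r * k⁻¹)⁻¹ := by rw [h1]
          _ = k * (r * y * r⁻¹) * k⁻¹ := by group
          _ = _ := by rw [hy.2]; group⟩)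
      ⟨hx0, hrx'⟩ hx0A hx).2
  have hz : x0 * r ∈ P := P.mul_mem (hBP hx0) (hRP hr)
  obtain ⟨a, ha, hza⟩ := h.coset (x0 * r) (c.le_C h m hz)
    (fun e' => hx0A (c.mem_A h m hx0 ((T.mul_mem_cancel_right hr.1).1 (m.le e')))) (by
      calc x0 * r * (x0 * r) = x0 * (r * x0 * r⁻¹) := by rw [hri]; group
        _ = 1 := by rw [hrx', mul_inv_cancel])
  have hzP : x0 * r * a ∈ P := P.mul_mem hz (c.le (m.le ha))
  have hA1 : A ≤ P ⊓ C{x0 * r * a} :=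
    le_inf (m.le.trans c.le) (mem_C_iff_le_C1.1 (c.le_C h m hzP))
  have c1 := card_inf_mul_relIndex C{x0 * r * a} P
  have c2 := relIndex_le_of_coset (X := P) (e := x0 * r * a) (B := A)
    fun p hp => comm_mem_of_sq (fun _ hy => c.sq h m hy) hp hzP
  rw [inf_comm, c.card] at c1
  rw [h.card] at c2
  have m' := m.of_le hza (c.two.inf_left _) hA1 inf_le_right (by rw [m.card16 h]; nlinarith)
  have hp : IsProd B (P ⊓ C{x0 * r * a}) P := isProd_of_card hBP inf_le_left (by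
    have : ♯(B ⊓ (P ⊓ C{x0 * r * a})) ≤ ♯A :=
      card_le fun y hy => s1 y hy.1 ((m'.ea h).sq hy.2)
    rw [c.card, c.card_B h m, m'.card16 h]
    rw [h.card] at this
    omega)
  obtain ⟨r', hr', hr'r⟩ : ∃ r' ∈ T ⊓ ρ e, r' ∉ zpowers r := by
    by_contra hc
    push Not at hc
    have h1 := card_le (show T ⊓ ρ e ≤ zpowers r from hc)
    have h2 : ♯(zpowers r) ≤ 2 := by
      rw [card_zpowers']
      exact orderOf_le_of_pow_eq_one (by norm_num) (by rw [pow_two, hr2])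
    rw [m.card_R h] at h1
    omega
  rw [mem_zpowers_inv hr2, not_or] at hr'r
  obtain ⟨b, hb, t', ht', e'⟩ := hp.mul r' (hRP hr')
  have h1 : r' * b * r'⁻¹ = b⁻¹ := by
    have h2 := (m'.ea h).sq ht'
    have h3 : t' = b⁻¹ * r' := by rw [e']; group
    rw [h3] at h2
    have h4 : r' * b⁻¹ * r' = b := by
      calc r' * b⁻¹ * r' = b * (b⁻¹ * r' * (b⁻¹ * r')) := by group
        _ = b := by rw [h2, mul_one]
    calc r' * b * r'⁻¹ = r'⁻¹ * b * r'⁻¹ := by rw [hT.inv hr'.1]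
      _ = (r' * b⁻¹ * r')⁻¹ := by group
      _ = b⁻¹ := by rw [h4]
  have h2 : b ∈ A := c.mem_A_of_cent h m hb (mul_mem hr hr')
    (fun e' => hr'r.2 (by rw [← hri]; exact eq_inv_of_mul_eq_one_right e'))
    (mem_C1_comm.1 (mem_C1_iff_conj.2 (by
      calc r * r' * b * (r * r')⁻¹ = r * (r' * b * r'⁻¹) * r⁻¹ := by group
        _ = b := by rw [h1, s2 _ (B.inv_mem hb), inv_inv])))
  have h3 : r' ∈ C{x0 * r * a} := (e' ▸ mul_mem (hA1 h2) ht' : r' ∈ P ⊓ C{x0 * r * a}).2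
  apply hx0A
  refine c.mem_A_of_cent h m hx0 hr' hr'r.1 ?_
  have h4 : r * a ∈ C{r'} := mem_C1.2 (hT.comm (T.mul_mem hr.1 (m.le ha)) hr'.1)
  rw [mem_C1_comm, mul_assoc] at h3
  exact (Subgroup.mul_mem_cancel_right _ h4).1 h3

theorem Big.toTwo : Two A 𝒮 T ⁅P, zpowers k⁆ P := by
  have hB := c.ea_B h m
  have hp := c.prod h m
  obtain ⟨b, hb, hbA⟩ : ∃ b ∈ ⁅P, zpowers k⁆, b ∉ A := by
    by_contra hc
    push Not at hc
    have := card_le (show ⁅P, zpowers k⁆ ≤ A from hc)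
    rw [c.card_B h m, h.card] at this
    omega
  obtain ⟨a, ha, hba⟩ := h.coset b (c.le_C h m (c.B_le h m hb)) hbA (hB.sq hb)
  have h1 := mul_mem hb (c.A_le h m ha)
  have m' := m.of_le hba hB.two (c.A_le h m) (mem_C_iff_le_C1.1 (hB.le_C h1))
    (by rw [m.card16 h, c.card_B h m])
  refine ⟨c.two, c.card, (hp.mono_right inf_le_left c.le).symm,
    le_antisymm (fun x hx => c.mem_A h m hx.2 hx.1) (le_inf m.le (c.A_le h m)),
    fun x hx hxA => m.all h hx hxA, fun x hx hxA => m'.all h hx hxA, ⟨e, m.memT h, m.not_mem h⟩,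
    ⟨b, hb, hbA⟩, fun x hx => c.sq h m hx, fun x hx hx2 => ?_⟩
  obtain ⟨b, hb, r, hr, rfl⟩ := hp.mul x hx
  by_cases hr1 : r = 1
  · right; simpa [hr1] using hb
  · left
    refine T.mul_mem (m.le (c.mem_A_of_cent h m hb hr hr1 (mem_C1.2 ?_))) hr.1
    rw [← inv_eq_of_mul_eq_one_right hx2, mul_inv_rev, (m.ea h).inv hr.1, hB.inv hb]

end big

theorem Two.symm (c : Two A 𝒮 T T' P) : Two A 𝒮 T' T P :=
  ⟨c.two, c.card, c.prod.symm, inf_comm T T' ▸ c.inf, c.mx', c.mx, c.ex', c.ex, c.sq,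
    fun x hx h => (c.inv x hx h).symm⟩

theorem Two.le (c : Two A 𝒮 T T' P) : T ≤ P := c.prod.left_le

theorem Two.A_le (c : Two A 𝒮 T T' P) : A ≤ T := c.inf ▸ inf_le_left

theorem Two.mem_A (c : Two A 𝒮 T T' P) (h1 : x ∈ T) (h2 : x ∈ T') : x ∈ A :=
  c.inf ▸ (⟨h1, h2⟩ : x ∈ T ⊓ T')

theorem Two.comm (c : Two A 𝒮 T T' P) (hx : x ∈ P) (hy : y ∈ P) : x * y * x⁻¹ * y⁻¹ ∈ A :=
  comm_mem_of_sq c.sq hx hy

theorem Two.norm (c : Two A 𝒮 T T' P) : P ≤ N[T] := le_N_iff.2 fun x hx t ht => by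
  have := T.mul_mem (c.A_le (c.comm hx (c.le ht))) ht
  rwa [inv_mul_cancel_right] at this

theorem Two.mem_of_cent (c : Two A 𝒮 T T' P) (ht : t ∈ T) (htA : t ∉ A) (hx : x ∈ P)
    (hc : x ∈ C{t}) : x ∈ T := (c.mx t ht htA).mem_of c.two c.le hx hc

theorem Two.le_or (c : Two A 𝒮 T T' P) (hE : EA E) (h1 : E ≤ P) : E ≤ T ∨ E ≤ T' :=
  SubgroupClass.subset_union.1 fun x hx => c.inv x (h1 hx) (hE.sq hx)

theorem EA_cj (hE : EA E) (g : G) : EA (cj g E) := ea_of_sq fun x hx => by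
  obtain ⟨y, hy, rfl⟩ := mem_cj'.1 hx
  rw [conj_mul, hE.sq hy, mul_one, mul_inv_cancel]

section two

variable (h : R2 D A S 𝒮 ρ) (c : Two A 𝒮 T T' P)
include h c

theorem Two.ea : EA T := by
  obtain ⟨x, hx, hxA⟩ := c.ex
  exact (c.mx x hx hxA).ea h

theorem Two.card16 : ♯T = 16 := by
  obtain ⟨x, hx, hxA⟩ := c.ex
  exact (c.mx x hx hxA).card16 h

theorem Two.le_C : P ≤ C[A] := two_C h c.two (c.A_le.trans c.le)

theorem Two.swap (hQ : TwoG Q) (hP : P ≤ Q) (hw : w ∈ Q) (hn : w ∈ N[P]) (hwP : w ∉ P) :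
    cj w T = T' := by
  rcases c.le_or (EA_cj (c.ea h) w) (cj_le_of_mem_N c.le hn) with h1 | h1
  · exfalso
    obtain ⟨x, hx, hxA⟩ := c.ex
    have h2 := (c.mx x hx hxA).bound h (hQ.inf_left N[T]) (le_inf (c.le.trans hP) (norm_self T))
      inf_le_right
    have h3 : P = Q ⊓ N[T] := eq_of_card_ge (le_inf hP c.norm) (by rwa [c.card])
    exact hwP (h3 ▸ ⟨hw, mem_N_of_cj_le h1⟩)
  · exact eq_of_card_eq h1 (by rw [card_cj, c.card16 h, c.symm.card16 h])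

theorem Two.mul_mem_of (hQ : TwoG Q) (hP : P ≤ Q) (hn : Q ≤ N[P]) (hx : x ∈ Q) (hxP : x ∉ P)
    (hy : y ∈ Q) (hyP : y ∉ P) : x * y ∈ P := by
  by_contra hc
  have h1 := c.swap h hQ hP (Q.mul_mem hx hy) (hn (Q.mul_mem hx hy)) hc
  rw [cj_mul, c.swap h hQ hP hy (hn hy) hyP, c.symm.swap h hQ hP hx (hn hx) hxP] at h1
  obtain ⟨z, hz, hzA⟩ := c.ex
  exact hzA (c.mem_A hz (h1 ▸ hz))

theorem Two.E16 (hQ : TwoG Q) (hP : P ≤ Q) (hn : Q ≤ N[P]) (hE : EA E) (h16 : ♯E = 16)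
    (hEQ : E ≤ Q) : E ≤ P := by
  by_contra hc
  obtain ⟨x, hx, hxP⟩ := SetLike.not_le_iff_exists.1 hc
  have h1 : P ⊓ E ≤ A := fun y hy => by
    have h2 : x * y * x⁻¹ = y := by rw [hE.comm hx hy.2, mul_inv_cancel_right]
    rcases c.inv y hy.1 (hE.sq hy.2) with h3 | h3
    · refine c.mem_A h3 ?_
      rw [← c.swap h hQ hP (hEQ hx) (hn (hEQ hx)) hxP, ← h2]
      exact conj_mem_cj x h3
    · refine c.mem_A ?_ h3
      rw [← c.symm.swap h hQ hP (hEQ hx) (hn (hEQ hx)) hxP, ← h2]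
      exact conj_mem_cj x h3
  have h2 : P.relIndex E = 2 := relIndex_eq_two_iff_exists_notMem_and.2 ⟨x, hx, hxP, fun b hb => by
    by_cases h3 : b ∈ P
    · exact Or.inr h3
    · exact Or.inl (c.mul_mem_of h hQ hP hn (hEQ hb) h3 (hEQ hx) hxP)⟩
  have h3 := card_inf_mul_relIndex P E
  have h4 := card_le h1
  rw [h2, h16] at h3
  rw [h.card] at h4
  omega

theorem Two.norm_of (hQ : TwoG Q) (hP : P ≤ Q) (hn : Q ≤ N[P]) (hw : w ∈ N[Q]) : w ∈ N[P] := by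
  refine mem_N_of_cj_le ?_
  conv_lhs => rw [← c.prod.sup_eq, cj_sup]
  exact sup_le
    (c.E16 h hQ hP hn (EA_cj (c.ea h) w) (by rw [card_cj, c.card16 h])
      (cj_le_of_mem_N (c.le.trans hP) hw))
    (c.E16 h hQ hP hn (EA_cj (c.symm.ea h) w) (by rw [card_cj, c.symm.card16 h])
      (cj_le_of_mem_N (c.symm.le.trans hP) hw))

theorem Two.mul_mem_of_inv {x1 : G} (hx : x1 ∈ T) (hy : y ∈ P) (h2 : y * y ≠ 1)
    (hi : x1 * y * x1⁻¹ = y⁻¹) : x1 * y ∈ T' := by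
  obtain ⟨t1, h3, t2, h4, rfl⟩ := c.prod.mul y hy
  have hT := c.ea h
  have h5 : t2 ∉ A := fun e' => h2 (hT.sq (T.mul_mem h3 (c.A_le e')))
  rw [← mul_assoc]
  refine T'.mul_mem (c.symm.mem_of_cent h4 h5 (c.le (T.mul_mem hx h3)) (mem_C1.2 ?_)) h4
  rw [mul_inv_rev, hT.inv h3, (c.symm.ea h).inv h4, mul_inv_eq_iff_eq_mul] at hi
  rw [mul_assoc, hi, mul_assoc, hT.comm h3 hx]

theorem Two.final (hx2 : x * x = 1) (hxA : x ∈ C[A]) (hs : cj x T = T') (hn : n ∈ N[A])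
    (he : n * x * n⁻¹ ∈ T) (heA : n * x * n⁻¹ ∉ A) : False := by
  have hT := c.ea h
  have hT' := c.symm.ea h
  have hxi : x⁻¹ = x := inv_eq_of_mul_eq_one_right hx2
  have hPA := c.le_C h
  have hm : ∀ t ∈ T, x * t * x⁻¹ ∈ T' := fun t ht => hs ▸ conj_mem_cj x ht
  have hA' : ∀ t, x * t * x⁻¹ ∈ A → t ∈ A := fun t ht => (conj_mem_iff (C_le_N A hxA)).1 ht
  have hP : ∀ t ∈ T, t * (x * t * x⁻¹) ∈ P := fun t ht => P.mul_mem (c.le ht) (c.symm.le (hm t ht))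
  have hinv : ∀ t ∈ T, x * (t * (x * t * x⁻¹)) * x⁻¹ = (t * (x * t * x⁻¹))⁻¹ := fun t ht => by
    rw [mul_inv_rev, hT.inv ht, hT'.inv (hm t ht), hxi]
    calc x * (t * (x * t * x)) * x = x * t * x * t * (x * x) := by group
      _ = _ := by rw [hx2, mul_one]
  have hsq : ∀ t ∈ T, t ∉ A → t * (x * t * x⁻¹) * (t * (x * t * x⁻¹)) ≠ 1 := by
    intro t ht htA e'
    rcases c.inv _ (hP t ht) e' with h1 | h1
    · exact htA (hA' t (c.mem_A ((T.mul_mem_cancel_left ht).1 h1) (hm t ht)))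
    · exact htA (c.mem_A ht ((T'.mul_mem_cancel_right (hm t ht)).1 h1))
  obtain ⟨t, ht, htA⟩ := c.ex
  obtain ⟨s, hs', hst⟩ : ∃ s ∈ T, s ∉ A ⊔ zpowers t := by
    by_contra hc
    push Not at hc
    have := card_le (show T ≤ A ⊔ zpowers t from hc)
    rw [card_sup_inv (hT.sq ht) (C_le_N A (hPA (c.le ht))) htA, c.card16 h, h.card] at this
    omega
  rw [mem_sup_inv (hT.sq ht) (C_le_N A (hPA (c.le ht))), not_or] at hst
  have hsq2 : (s * (x * s * x⁻¹) * (t * (x * t * x⁻¹))) * (s * (x * s * x⁻¹) * (t * (x * t * x⁻¹)))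
      ≠ 1 := by
    intro e'
    rcases c.inv _ (P.mul_mem (hP s hs') (hP t ht)) e' with h1 | h1
    · have e1 : s * (x * s * x⁻¹) * (t * (x * t * x⁻¹)) =
          (s * ((x * s * x⁻¹) * t * (x * s * x⁻¹)⁻¹)) * (x * (s * t) * x⁻¹) := by group
      rw [e1, T.mul_mem_cancel_left (T.mul_mem hs' (conj_mem (c.norm (c.symm.le (hm s hs'))) ht))]
        at h1
      exact hst.2 (hA' _ (c.mem_A h1 (hm _ (T.mul_mem hs' ht))))
    · have e1 : s * (x * s * x⁻¹) * (t * (x * t * x⁻¹)) =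
          (s * t) * ((t⁻¹ * (x * s * x⁻¹) * t) * (x * t * x⁻¹)) := by group
      rw [e1, T'.mul_mem_cancel_right (T'.mul_mem (conj_mem' (c.symm.norm (c.le ht)) (hm s hs'))
        (hm t ht))] at h1
      exact hst.2 (c.mem_A (T.mul_mem hs' ht) h1)
  set e1 := n * x * n⁻¹ with he1
  have m1 := c.mx e1 he heA
  have he2 := hT.sq he
  have heN : e1 ∈ N[A] := C_le_N A (hPA (c.le he))
  have hnorm : ∀ z y : G, z * z = 1 → z ∈ N[A] → y ∈ C[A] → y * z * y⁻¹ * z⁻¹ ∈ A →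
      y ∈ N[A ⊔ zpowers z] := by
    intro z y hz hzN hy h1
    refine mem_N_of_cj_le ?_
    rw [cj_sup, cj_of_mem_C hy, cj_zpowers]
    refine sup_le le_sup_left (zpowers_le.2 ((mem_sup_inv hz hzN).2 (Or.inr ?_)))
    rwa [inv_eq_of_mul_eq_one_right hz] at h1
  have hsyl : Syl 2 (C[A] ⊓ N[A ⊔ zpowers e1]) P := by
    refine syl_of_max Nat.prime_two c.two (le_inf hPA fun p hp =>
      hnorm e1 p he2 heN (hPA hp) (c.comm hp (c.le he))) fun Q hQ h1 h2 => ?_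
    refine (eq_of_card_ge h1 ?_).ge
    rw [c.card]
    refine m1.card_le_of_coset h hQ (c.le.trans h1) fun q hq => ?_
    have h3 := conj_mem (h2 hq).2 (mem_sup_right (mem_zpowers e1))
    rw [hT.inv he]
    exact ((mem_sup_inv he2 heN).1 h3).resolve_left
      fun h4 => heA ((conj_mem_iff (C_le_N A (h2 hq).1)).1 h4)
  obtain ⟨d, hd, hle⟩ := Sylow_Jsub Nat.prime_two hsyl
    ((c.two.inf_left N[A ⊔ zpowers x]).cj n) (by
      rw [cj_inf, cj_N, cj_sup, cj_of_mem_N hn, cj_zpowers]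
      exact inf_le_inf_right _ (cj_le_of_mem_N hPA (N_le_NC A hn)))
  rw [← cj_mul] at hle
  have hx1 : d * n * x * (d * n)⁻¹ ∈ T := by
    have h3 := conj_mem hd.2 (mem_sup_right (mem_zpowers e1))
    have e2 : d * n * x * (d * n)⁻¹ = d * e1 * d⁻¹ := by rw [he1]; group
    rw [e2]
    exact sup_le c.A_le (zpowers_le.2 he) h3
  have key : ∀ y ∈ P, y * y ≠ 1 → x * y * x⁻¹ = y⁻¹ →
      d * n * x * (d * n)⁻¹ * (d * n * y * (d * n)⁻¹) ∈ T' ∧ d * n * y * (d * n)⁻¹ ∈ P := by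
    intro y hy h1 h2
    have h3 : d * n * y * (d * n)⁻¹ ∈ P := hle (conj_mem_cj _ ⟨hy, hnorm x y hx2 (C_le_N A hxA)
      (hPA hy) (by
        have : y * x * y⁻¹ * x⁻¹ = y * y := by
          calc y * x * y⁻¹ * x⁻¹ = y * (x * y * x⁻¹)⁻¹ := by group
            _ = _ := by rw [h2, inv_inv]
        rw [this]; exact c.sq y hy)⟩)
    refine ⟨c.mul_mem_of_inv h hx1 h3 (by rw [conj_mul]; exact fun e' => h1 (conj_eq_one_iff.1 e'))
      ?_, h3⟩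
    calc d * n * x * (d * n)⁻¹ * (d * n * y * (d * n)⁻¹) * (d * n * x * (d * n)⁻¹)⁻¹
        = d * n * (x * y * x⁻¹) * (d * n)⁻¹ := by group
      _ = _ := by rw [h2]; group
  obtain ⟨k1, -⟩ := key _ (hP s hs') (hsq s hs' hst.1) (hinv s hs')
  obtain ⟨k2, -⟩ := key _ (hP t ht) (hsq t ht htA) (hinv t ht)
  apply hsq2
  have k3 := T'.mul_mem (conj_mem' (c.symm.norm (c.le hx1)) k1) k2
  have e3 : ∀ a y z : G, a⁻¹ * (a * y) * a * (a * z) = y * (a * a) * z := fun a y z => by group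
  rw [e3, hT.sq hx1, mul_one, conj_mul] at k3
  have := hT'.sq k3
  rw [conj_mul] at this
  exact conj_eq_one_iff.1 this

theorem Two.cent_k (hk : Kel A k) (hx : x ∈ C{k}) (hxA : x ∈ C[A]) (hs : cj x T = T')
    (ht : t ∈ T) (hc : t ∈ C{k}) : t = 1 := by
  by_cases htA : t ∈ A
  · exact (fo h).eq_one hk htA hc
  exfalso
  have h1 : x * t * x⁻¹ ∈ T' := hs ▸ conj_mem_cj x ht
  have h2 : x * t * x⁻¹ ∈ C{k} := mul_mem (mul_mem hx hc) (inv_mem hx)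
  have h3 := (fo h).eq_one hk (c.comm (c.symm.le h1) (c.le ht))
    (mul_mem (mul_mem (mul_mem h2 hc) (inv_mem h2)) (inv_mem hc))
  rw [mul_inv_eq_one] at h3
  exact htA ((conj_mem_iff (C_le_N A hxA)).1
    (c.mem_A (c.mem_of_cent ht htA (c.symm.le h1) (mem_C1_iff_conj.2 h3)) h1))

theorem Two.syl : Syl 2 ⊤ P := by
  by_contra hns
  obtain ⟨Q, hQ, hPQ⟩ := Sylow_superset Nat.prime_two c.two (le_top (a := P))
  have hlt : P < Q := lt_of_le_of_ne hPQ fun e' => hns (e' ▸ hQ)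
  have hn : Q ≤ N[P] := by
    have := (hQ.pi.nil Nat.prime_two).eq_of_norm_le (K := Q ⊓ N[P]) inf_le_left fun w hw =>
      ⟨hw.1, c.norm_of h (hQ.pi.inf_left _) (le_inf hPQ (norm_self P)) inf_le_right hw.2⟩
    exact this ▸ inf_le_right
  have hQA : Q ≤ C[A] := two_C h hQ.pi (c.A_le.trans (c.le.trans hPQ))
  obtain ⟨e, he, heA⟩ := c.ex
  obtain ⟨k0, hk0, -⟩ := (c.mx e he heA).exists_k h
  obtain ⟨n, hnA, hnQ, hnC⟩ := (fo h).frattini le_rfl (hQ.of_le (hQA.trans (C_le_N A)) le_top)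
    hk0.norm hk0.ncent
  obtain ⟨k, hkn, hk⟩ := (fo h).exists_kel hnA hnC
  have hkQ : zpowers k ≤ N[Q] := zpowers_le.2 (zpowers_le.2 hnQ hkn)
  have hkP : zpowers k ≤ N[P] := fun w hw => c.norm_of h hQ.pi hPQ hn (hkQ hw)
  have hp := coprime_isProd_of_comm_le hkP (cop hk.odd.isPi c.two).symm
    (Or.inl (c.two.sol Nat.prime_two)) hPQ (by
      rw [commutator_le]
      intro q hq w hw
      rw [commutatorElement_def, mul_assoc, mul_assoc, ← mul_assoc w]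
      by_cases h1 : q ∈ P
      · exact P.mul_mem h1 (conj_mem (hkP hw) (P.inv_mem h1))
      · exact c.mul_mem_of h hQ.pi hPQ hn hq h1 (conj_mem (hkQ hw) (Q.inv_mem hq))
          fun h2 => h1 (P.inv_mem_iff.1 ((conj_mem_iff (hkP hw)).1 h2)))
  rw [C_zpowers] at hp
  obtain ⟨x, hx, hxP⟩ : ∃ x ∈ Q ⊓ C{k}, x ∉ P := by
    by_contra hc
    push Not at hc
    exact hlt.not_ge (hp.sup_eq ▸ sup_le le_rfl hc)
  have s1 := c.swap h hQ.pi hPQ hx.1 (hn hx.1) hxP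
  have s2 := c.symm.swap h hQ.pi hPQ hx.1 (hn hx.1) hxP
  have hx2 : x * x = 1 := by
    have h1 := c.mul_mem_of h hQ.pi hPQ hn hx.1 hxP hx.1 hxP
    have h2 : x * x ∈ C{k} := mul_mem hx.2 hx.2
    rcases c.inv _ h1 ((fo h).eq_one hk (c.sq _ h1) (mul_mem h2 h2)) with h3 | h3
    · exact c.cent_k h hk hx.2 (hQA hx.1) s1 h3 h2
    · exact c.symm.cent_k h hk hx.2 (hQA hx.1) s2 h3 h2
  have hi : P.relIndex Q = 2 := relIndex_eq_two_iff_exists_notMem_and.2 ⟨x, hx.1, hxP, fun b hb => by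
    by_cases h3 : b ∈ P
    · exact Or.inr h3
    · exact Or.inl (c.mul_mem_of h hQ.pi hPQ hn hb h3 hx.1 hxP)⟩
  rcases thompson hQ hPQ hi hx2 hx.1 hxP with ⟨L, hL⟩ | ⟨g, hg⟩
  · exact h.noidx L hL
  have hxA : x ∉ A := fun e' => hxP (c.le (c.A_le e'))
  obtain ⟨n, hn', e'⟩ := h.max.fusion_cent h.sc (hQA hx.1) (g := g) trivial (c.le_C h hg)
  rw [e'] at hg
  have h1 := conj_ne h (hQA hx.1) hxA n
  rcases c.inv _ hg (by rw [conj_mul, hx2, mul_one, mul_inv_cancel]) with h2 | h2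
  · exact c.final h hx2 (hQA hx.1) s1 hn'.2 h2 h1
  · exact c.symm.final h hx2 (hQA hx.1) s2 hn'.2 h2 h1

end two

theorem exists_two (h : R2 D A S 𝒮 ρ) (hne : 𝒮.Nonempty) :
    ∃ P T T', R2 D A P 𝒮 ρ ∧ EA T ∧ EA T' ∧ ♯T = 16 ∧ ♯T' = 16 ∧ T ⊔ T' = P ∧ T ⊓ T' = A ∧
      (∀ e ∈ T, e ∉ A → e ∈ 𝒮 ∧ Syl 2 C{e} T) ∧ (∀ e ∈ T', e ∉ A → e ∈ 𝒮 ∧ Syl 2 C{e} T') ∧
      (∀ x ∈ P, x * x = 1 → x ∈ T ∨ x ∈ T') ∧ ⁅T, T'⁆ ≤ A := by
  obtain ⟨e, T, m⟩ := exists_mx h hne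
  obtain ⟨P, k, b⟩ := m.exists_big h
  have c := b.toTwo h m
  exact ⟨P, T, _, change h (c.syl h) (c.A_le.trans c.le), c.ea h, c.symm.ea h, c.card16 h,
    c.symm.card16 h, c.prod.sup_eq, c.inf, fun x hx hxA => ⟨(c.mx x hx hxA).mem, (c.mx x hx hxA).syl⟩,
    fun x hx hxA => ⟨(c.mx' x hx hxA).mem, (c.mx' x hx hxA).syl⟩, c.inv,
    commutator_le.2 fun x hx y hy => c.comm (c.le hx) (c.symm.le hy)⟩

end GR
end H20
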