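import Mathlib
import Cfsg.Prelude.Def_ChevStructure

/-!
Abstract finite root systems with a base and an order compatible with addition (`H20.RS`).
-/

set_option autoImplicit false

namespace H20

open Finset

/-- A finite (reduced, crystallographic) root system with a chosen base.  `rt r` / `co r` are the
coefficient vectors of the root / coroot `r` on the simple roots / simple coroots, `ca i s` is the
Cartan integer `⟨s, p_i^∨⟩`, `sr i` the simple reflection. -/
structure RS (ι Λ : Type) [LinearOrder ι] [Fintype Λ] [DecidableEq Λ] where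
  rt : ι → Λ → ℤ
  co : ι → Λ → ℤ
  ca : Λ → ι → ℤ
  sim : Λ → ι
  neg : ι → ι
  sr : Λ → ι → ι
  κ : Λ → ℤ
  d : Λ → ℤ
  nrm : ι → ℤ
  κ_pos : ∀ i, 0 < κ i
  key_mono : StrictMono fun r => ∑ i, κ i * rt r i
  d_pos : ∀ i, 0 < d i
  nrm_pos : ∀ r, 0 < nrm r
  co_nrm : ∀ r i, co r i * nrm r = rt r i * d i
  symm : ∀ i j, d i * ca i (sim j) = d j * ca j (sim i)
  rt_sim : ∀ i, rt (sim i) = Pi.single i 1
  rt_neg : ∀ r, rt (neg r) = -rt r
  ca_lin : ∀ i s, ca i s = ∑ j, rt s j * ca i (sim j)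
  rt_sr : ∀ i s, rt (sr i s) = rt s - Pi.single i (ca i s)
  pos_or_neg : ∀ r, 0 ≤ rt r ∨ rt r ≤ 0
  A_self' : ∀ r, ∑ j, co r j * ca j r = 2

namespace RS

variable {ι Λ : Type} [LinearOrder ι] [Fintype Λ] [DecidableEq Λ] (R : RS ι Λ)

/-- The linear functional defining the order on the roots. -/
def keyv (v : Λ → ℤ) : ℤ := ∑ i, R.κ i * v i

/-- The Cartan matrix `C i j = ⟨p_j, p_i^∨⟩`. -/
def C (i j : Λ) : ℤ := R.ca i (R.sim j)

/-- `⟨v, p_i^∨⟩` for a vector of the root lattice. -/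
def cav (i : Λ) (v : Λ → ℤ) : ℤ := ∑ j, v j * R.C i j

/-- `⟨v, r^∨⟩` for a vector of the root lattice. -/
def Av (r : ι) (v : Λ → ℤ) : ℤ := ∑ j, R.co r j * R.cav j v

/-- The Cartan integer `A_{r,s} = ⟨s, r^∨⟩`. -/
def A (r s : ι) : ℤ := ∑ j, R.co r j * R.ca j s

/-- The invariant bilinear form. -/
def form (v w : Λ → ℤ) : ℤ := ∑ i, v i * R.d i * R.cav i w

/-- Positive roots. -/
def Pos (r : ι) : Prop := 0 ≤ R.rt r

instance instDecPos (r : ι) : Decidable (R.Pos r) := inferInstanceAs (Decidable (∀ i, (0 : Λ → ℤ) i ≤ R.rt r i))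

theorem keyv_add (v w : Λ → ℤ) : R.keyv (v + w) = R.keyv v + R.keyv w := by
  simp [keyv, mul_add, sum_add_distrib]

theorem keyv_neg (v : Λ → ℤ) : R.keyv (-v) = -R.keyv v := by
  simp [keyv]

theorem keyv_smul (c : ℤ) (v : Λ → ℤ) : R.keyv (c • v) = c * R.keyv v := by
  simp [keyv, mul_sum, mul_left_comm]

theorem lt_iff_key {r s : ι} : r < s ↔ R.keyv (R.rt r) < R.keyv (R.rt s) :=
  (R.key_mono.lt_iff_lt).symm

theorem rt_injective : Function.Injective R.rt := by
  intro r s h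
  apply R.key_mono.injective
  simp only [h]

theorem rt_inj {r s : ι} : R.rt r = R.rt s ↔ r = s := R.rt_injective.eq_iff

theorem ca_eq_cav (i : Λ) (s : ι) : R.ca i s = R.cav i (R.rt s) := R.ca_lin i s

theorem A_eq_Av (r s : ι) : R.A r s = R.Av r (R.rt s) := by
  simp only [A, Av, ca_eq_cav]

theorem A_self (r : ι) : R.A r r = 2 := R.A_self' r

theorem cav_add (i : Λ) (v w : Λ → ℤ) : R.cav i (v + w) = R.cav i v + R.cav i w := by
  simp [cav, add_mul, sum_add_distrib]

theorem cav_sub (i : Λ) (v w : Λ → ℤ) : R.cav i (v - w) = R.cav i v - R.cav i w := by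
  simp [cav, sub_mul, sum_sub_distrib]

theorem cav_neg (i : Λ) (v : Λ → ℤ) : R.cav i (-v) = -R.cav i v := by
  simp [cav]

theorem cav_smul (i : Λ) (c : ℤ) (v : Λ → ℤ) : R.cav i (c • v) = c * R.cav i v := by
  simp [cav, mul_sum, mul_assoc]

theorem cav_single (i j : Λ) (c : ℤ) : R.cav i (Pi.single j c) = c * R.C i j := by
  simp [cav, Pi.single_apply]

theorem cav_zero (i : Λ) : R.cav i 0 = 0 := by simp [cav]

theorem Av_add (r : ι) (v w : Λ → ℤ) : R.Av r (v + w) = R.Av r v + R.Av r w := by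
  simp [Av, cav_add, mul_add, sum_add_distrib]

theorem Av_sub (r : ι) (v w : Λ → ℤ) : R.Av r (v - w) = R.Av r v - R.Av r w := by
  simp [Av, cav_sub, mul_sub, sum_sub_distrib]

theorem Av_neg (r : ι) (v : Λ → ℤ) : R.Av r (-v) = -R.Av r v := by
  simp [Av, cav_neg]

theorem Av_smul (r : ι) (c : ℤ) (v : Λ → ℤ) : R.Av r (c • v) = c * R.Av r v := by
  simp only [Av, cav_smul, mul_sum, mul_left_comm]

theorem rt_ne_zero (r : ι) : R.rt r ≠ 0 := by
  intro h
  have := R.A_self r
  rw [A_eq_Av, h] at this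
  simp [Av, cav_zero] at this

theorem form_symm (v w : Λ → ℤ) : R.form v w = R.form w v := by
  simp only [form, cav, mul_sum]
  rw [sum_comm]
  refine sum_congr rfl fun i _ => sum_congr rfl fun j _ => ?_
  have := R.symm i j
  simp only [C]
  linear_combination (-(v j * w i)) * this

theorem form_rt (r : ι) (w : Λ → ℤ) : R.form (R.rt r) w = R.nrm r * R.Av r w := by
  simp only [form, Av, mul_sum]
  refine sum_congr rfl fun i _ => ?_
  rw [← R.co_nrm]; ring

theorem form_rt_self (r : ι) : R.form (R.rt r) (R.rt r) = 2 * R.nrm r := by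
  rw [form_rt, ← A_eq_Av, A_self, mul_comm]

theorem nrm_A (r s : ι) : R.nrm r * R.A r s = R.nrm s * R.A s r := by
  rw [A_eq_Av, A_eq_Av, ← form_rt, ← form_rt, form_symm]

theorem form_add_right (u v w : Λ → ℤ) : R.form u (v + w) = R.form u v + R.form u w := by
  simp [form, cav_add, mul_add, sum_add_distrib]

theorem form_sub_right (u v w : Λ → ℤ) : R.form u (v - w) = R.form u v - R.form u w := by
  simp [form, cav_sub, mul_sub, sum_sub_distrib]

theorem form_smul_right (u : Λ → ℤ) (c : ℤ) (v : Λ → ℤ) : R.form u (c • v) = c * R.form u v := by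
  simp only [form, cav_smul, mul_sum, mul_left_comm]

theorem form_add_left (u v w : Λ → ℤ) : R.form (v + w) u = R.form v u + R.form w u := by
  rw [form_symm, form_add_right, form_symm R u, form_symm R u]

theorem form_sub_left (u v w : Λ → ℤ) : R.form (v - w) u = R.form v u - R.form w u := by
  rw [form_symm, form_sub_right, form_symm R u, form_symm R u]

theorem form_smul_left (u : Λ → ℤ) (c : ℤ) (v : Λ → ℤ) : R.form (c • v) u = c * R.form v u := by
  rw [form_symm, form_smul_right, form_symm]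

theorem form_neg_left (u v : Λ → ℤ) : R.form (-v) u = -R.form v u := by
  simp [form]

theorem form_neg_right (u v : Λ → ℤ) : R.form u (-v) = -R.form u v := by
  simp [form, cav_neg]

theorem form_single (i : Λ) (c : ℤ) (w : Λ → ℤ) : R.form (Pi.single i c) w = c * R.d i * R.cav i w := by
  simp [form, Pi.single_apply]

theorem sim_injective : Function.Injective R.sim := by
  intro i j h
  have := congrFun (congrArg R.rt h) i
  rw [rt_sim, rt_sim] at this
  by_contra hij
  simp [hij] at this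

theorem neg_neg (r : ι) : R.neg (R.neg r) = r := by
  apply R.rt_injective; rw [rt_neg, rt_neg, _root_.neg_neg]

theorem neg_injective : Function.Injective R.neg :=
  Function.LeftInverse.injective R.neg_neg

theorem neg_ne (r : ι) : R.neg r ≠ r := by
  intro h
  have := congrArg R.rt h
  rw [rt_neg] at this
  apply R.rt_ne_zero r
  ext i
  have := congrFun this i
  simp only [Pi.neg_apply] at this
  simp; omega

theorem eq_neg_comm {r s : ι} : r = R.neg s ↔ s = R.neg r := by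
  constructor <;> (rintro rfl; rw [neg_neg])

theorem nrm_neg (r : ι) : R.nrm (R.neg r) = R.nrm r := by
  have h1 := R.form_rt_self (R.neg r)
  rw [rt_neg, form_neg_left, form_neg_right, _root_.neg_neg, form_rt_self] at h1
  omega

theorem co_eq_of {r s : ι} {v : Λ → ℤ} (hn : R.nrm r = R.nrm s)
    (h : ∀ i, R.rt r i * R.d i = v i * R.nrm s) : R.co r = v := by
  ext i
  have h1 := R.co_nrm r i
  rw [h i, hn] at h1
  exact mul_right_cancel₀ (R.nrm_pos s).ne' h1

theorem co_neg (r : ι) : R.co (R.neg r) = -R.co r := by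
  refine R.co_eq_of (R.nrm_neg r) fun i => ?_
  rw [rt_neg]
  simp [R.co_nrm]

theorem C_self (i : Λ) : R.C i i = 2 ∧ R.co (R.sim i) = Pi.single i 1 ∧ R.nrm (R.sim i) = R.d i := by
  have h0 : ∀ j, j ≠ i → R.co (R.sim i) j = 0 := by
    intro j hj
    have := R.co_nrm (R.sim i) j
    rw [rt_sim] at this
    simpa [hj, (R.nrm_pos _).ne'] using this
  have h1 := R.A_self (R.sim i)
  rw [A, sum_eq_single i (fun j _ hj => by simp [h0 j hj]) (by simp)] at h1
  have h2 := R.co_nrm (R.sim i) i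
  rw [rt_sim] at h2
  simp only [Pi.single_eq_same, one_mul] at h2
  have hc : 0 < R.co (R.sim i) i := by
    have := R.d_pos i
    have := R.nrm_pos (R.sim i)
    by_contra hh
    push Not at hh
    nlinarith
  -- the reflection of the simple root is a root proportional to it
  have h3 := R.rt_sr i (R.sim i)
  have h4 := R.form_rt_self (R.sr i (R.sim i))
  have h5 := R.co_nrm (R.sr i (R.sim i)) i
  have h6 := R.A_self (R.sr i (R.sim i))
  have h0' : ∀ j, j ≠ i → R.co (R.sr i (R.sim i)) j = 0 := by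
    intro j hj
    have := R.co_nrm (R.sr i (R.sim i)) j
    rw [h3, rt_sim] at this
    simpa [hj, (R.nrm_pos _).ne'] using this
  rw [A, sum_eq_single i (fun j _ hj => by simp [h0' j hj]) (by simp), ca_eq_cav, h3, rt_sim,
    cav_sub, cav_single, cav_single] at h6
  have hC : R.ca i (R.sim i) = R.C i i := rfl
  rw [hC] at h1 h6
  have hcases : (R.co (R.sim i) i = 1 ∧ R.C i i = 2) ∨ (R.co (R.sim i) i = 2 ∧ R.C i i = 1) := by
    have hle : R.co (R.sim i) i ≤ 2 := Int.le_of_dvd (by norm_num) ⟨_, h1.symm⟩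
    have : R.co (R.sim i) i = 1 ∨ R.co (R.sim i) i = 2 := by omega
    rcases this with h | h <;> rw [h] at h1 <;> omega
  rcases hcases with ⟨ha, hb⟩ | ⟨ha, hb⟩
  · refine ⟨hb, ?_, by rw [← h2, ha, one_mul]⟩
    ext j
    by_cases hj : j = i
    · subst hj; simp [ha]
    · simp [hj, h0 j hj]
  · rw [hb] at h6; simp at h6

theorem C_diag (i : Λ) : R.C i i = 2 := (R.C_self i).1

theorem co_sim (i : Λ) : R.co (R.sim i) = Pi.single i 1 := (R.C_self i).2.1

theorem nrm_sim (i : Λ) : R.nrm (R.sim i) = R.d i := (R.C_self i).2.2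

theorem A_sim (i : Λ) (s : ι) : R.A (R.sim i) s = R.ca i s := by
  simp [A, co_sim, Pi.single_apply]

theorem Av_sim (i : Λ) (v : Λ → ℤ) : R.Av (R.sim i) v = R.cav i v := by
  simp [Av, co_sim, Pi.single_apply]

theorem ca_neg (i : Λ) (s : ι) : R.ca i (R.neg s) = -R.ca i s := by
  rw [ca_eq_cav, ca_eq_cav, rt_neg, cav_neg]

theorem A_neg_right (r s : ι) : R.A r (R.neg s) = -R.A r s := by
  rw [A_eq_Av, A_eq_Av, rt_neg, Av_neg]

theorem A_neg_left (r s : ι) : R.A (R.neg r) s = -R.A r s := by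
  simp [A, co_neg]

theorem ca_sr (i j : Λ) (s : ι) : R.ca j (R.sr i s) = R.ca j s - R.ca i s * R.C j i := by
  rw [ca_eq_cav, rt_sr, cav_sub, cav_single, ← ca_eq_cav]

theorem sr_sr (i : Λ) (s : ι) : R.sr i (R.sr i s) = s := by
  apply R.rt_injective
  rw [rt_sr, rt_sr, ca_sr, C_diag]
  ext j
  by_cases h : j = i
  · subst h; simp; ring
  · simp [h]

theorem sr_sim (i : Λ) : R.sr i (R.sim i) = R.neg (R.sim i) := by
  apply R.rt_injective
  rw [rt_sr, rt_neg, rt_sim]
  have : R.ca i (R.sim i) = 2 := R.C_diag i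
  rw [this]
  ext j
  by_cases h : j = i
  · subst h; simp
  · simp [h]

theorem sr_neg (i : Λ) (s : ι) : R.sr i (R.neg s) = R.neg (R.sr i s) := by
  apply R.rt_injective
  rw [rt_sr, rt_neg, rt_neg, rt_sr, ca_neg]
  ext j
  by_cases h : j = i
  · subst h; simp; ring
  · simp [h]

/-- the simple reflection on the root lattice -/
def srv (i : Λ) (v : Λ → ℤ) : Λ → ℤ := v - Pi.single i (R.cav i v)

theorem rt_sr' (i : Λ) (s : ι) : R.rt (R.sr i s) = R.srv i (R.rt s) := by
  rw [rt_sr, srv, ca_eq_cav]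

theorem form_srv (i : Λ) (v w : Λ → ℤ) : R.form (R.srv i v) (R.srv i w) = R.form v w := by
  simp only [srv, form_sub_left, form_sub_right, form_single, cav_single, C_diag]
  rw [form_symm R v (Pi.single _ _), form_single]
  ring

theorem nrm_sr (i : Λ) (s : ι) : R.nrm (R.sr i s) = R.nrm s := by
  have h1 := R.form_rt_self (R.sr i s)
  rw [rt_sr', form_srv, form_rt_self] at h1
  omega

theorem A_sr (i : Λ) (r s : ι) : R.A (R.sr i r) (R.sr i s) = R.A r s := by
  have h1 := R.form_rt (R.sr i r) (R.rt (R.sr i s))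
  rw [rt_sr', rt_sr', form_srv, form_rt, nrm_sr, ← rt_sr', ← A_eq_Av, ← A_eq_Av] at h1
  exact (mul_left_cancel₀ (R.nrm_pos r).ne' h1).symm

theorem co_sr (i : Λ) (s : ι) : R.co (R.sr i s) = R.co s - Pi.single i (R.A s (R.sim i)) := by
  refine R.co_eq_of (R.nrm_sr i s) fun j => ?_
  rw [rt_sr]
  by_cases h : j = i
  · subst h
    have h1 := R.nrm_A s (R.sim j)
    rw [nrm_sim, A_sim] at h1
    have h2 := R.co_nrm s j
    simp only [Pi.sub_apply, Pi.single_eq_same]
    linear_combination h1 - h2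
  · simp [h, R.co_nrm]

theorem keyv_nonneg {v : Λ → ℤ} (hv : 0 ≤ v) : 0 ≤ R.keyv v :=
  sum_nonneg fun i _ => mul_nonneg (R.κ_pos i).le (hv i)

theorem keyv_pos {v : Λ → ℤ} (hv : 0 ≤ v) (h0 : v ≠ 0) : 0 < R.keyv v := by
  obtain ⟨i, hi⟩ := Function.ne_iff.1 h0
  exact sum_pos' (fun i _ => mul_nonneg (R.κ_pos i).le (hv i))
    ⟨i, mem_univ _, mul_pos (R.κ_pos i) (lt_of_le_of_ne (hv i) (Ne.symm hi))⟩

theorem pos_iff_key {r : ι} : R.Pos r ↔ 0 < R.keyv (R.rt r) := by
  refine ⟨fun h => R.keyv_pos h (R.rt_ne_zero r), fun h => ?_⟩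
  rcases R.pos_or_neg r with h1 | h1
  · exact h1
  · have := R.keyv_nonneg (v := -R.rt r) (neg_nonneg.2 h1)
    rw [keyv_neg] at this; omega

theorem pos_neg_iff {r : ι} : R.Pos (R.neg r) ↔ ¬R.Pos r := by
  rw [pos_iff_key, pos_iff_key, rt_neg, keyv_neg]
  have : R.keyv (R.rt r) ≠ 0 := by
    intro h
    rcases R.pos_or_neg r with h1 | h1
    · have := R.keyv_pos h1 (R.rt_ne_zero r); omega
    · have := R.keyv_pos (v := -R.rt r) (neg_nonneg.2 h1) (neg_ne_zero.2 (R.rt_ne_zero r))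
      rw [keyv_neg] at this; omega
  omega

theorem not_pos_iff {r : ι} : ¬R.Pos r ↔ R.rt r ≤ 0 := by
  rw [← pos_neg_iff, Pos, rt_neg, neg_nonneg]

theorem pos_of_coeff_pos {r : ι} {i : Λ} (h : 0 < R.rt r i) : R.Pos r := by
  by_contra hn
  have := R.not_pos_iff.1 hn i
  simp at this; omega

theorem not_pos_of_coeff_neg {r : ι} {i : Λ} (h : R.rt r i < 0) : ¬R.Pos r := by
  intro hn
  have := hn i
  simp at this; omega

theorem pos_sim (i : Λ) : R.Pos (R.sim i) := by
  apply R.pos_of_coeff_pos (i := i)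
  simp [rt_sim]

theorem not_pos_neg_sim (i : Λ) : ¬R.Pos (R.neg (R.sim i)) := by
  rw [pos_neg_iff]; simp [pos_sim]

theorem co_pos_iff (r : ι) (i : Λ) : 0 < R.co r i ↔ 0 < R.rt r i := by
  have h := R.co_nrm r i
  have := R.nrm_pos r
  have := R.d_pos i
  constructor <;> intro h1 <;> by_contra h2 <;> push Not at h2 <;> nlinarith

theorem co_neg_iff (r : ι) (i : Λ) : R.co r i < 0 ↔ R.rt r i < 0 := by
  have h := R.co_nrm r i
  have := R.nrm_pos r
  have := R.d_pos i
  constructor <;> intro h1 <;> by_contra h2 <;> push Not at h2 <;> nlinarith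

theorem co_eq_zero_iff (r : ι) (i : Λ) : R.co r i = 0 ↔ R.rt r i = 0 := by
  have := R.co_pos_iff r i
  have := R.co_neg_iff r i
  omega

theorem pos_iff_co {r : ι} : R.Pos r ↔ 0 ≤ R.co r := by
  refine forall_congr' fun i => ?_
  have := R.co_neg_iff r i
  simp only [Pi.zero_apply]
  omega

theorem not_pos_iff_co {r : ι} : ¬R.Pos r ↔ R.co r ≤ 0 := by
  rw [← pos_neg_iff, pos_iff_co, co_neg, neg_nonneg]

theorem reduced {r : ι} {i : Λ} (h : ∀ j, j ≠ i → R.rt r j = 0) : r = R.sim i ∨ r = R.neg (R.sim i) := by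
  have h1 := R.A_self r
  have hr : R.rt r = Pi.single i (R.rt r i) := by
    ext j
    by_cases hj : j = i
    · subst hj; simp
    · simp [hj, h j hj]
  rw [A, sum_eq_single i (fun j _ hj => by simp [(R.co_eq_zero_iff r j).2 (h j hj)]) (by simp),
    ca_eq_cav, hr, cav_single, C_diag] at h1
  have h2 : R.co r i * R.rt r i = 1 := by linarith
  rcases Int.eq_one_or_neg_one_of_mul_eq_one' h2 with ⟨-, h3⟩ | ⟨-, h3⟩
  · left; apply R.rt_injective; rw [hr, h3, rt_sim]
  · right; apply R.rt_injective; rw [hr, h3, rt_neg, rt_sim, Pi.single_neg]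

theorem exists_coeff_pos_of_ne {r : ι} {i : Λ} (hr : R.Pos r) (hne : r ≠ R.sim i) :
    ∃ j, j ≠ i ∧ 0 < R.rt r j := by
  by_contra hh
  push Not at hh
  have h0 : ∀ j, j ≠ i → R.rt r j = 0 := fun j hj => le_antisymm (hh j hj) (hr j)
  rcases R.reduced h0 with h | h
  · exact hne h
  · exact R.not_pos_neg_sim i (h ▸ hr)

theorem pos_sr {i : Λ} {r : ι} (hr : R.Pos r) (hne : r ≠ R.sim i) : R.Pos (R.sr i r) := by
  obtain ⟨j, hj, h⟩ := R.exists_coeff_pos_of_ne hr hne
  apply R.pos_of_coeff_pos (i := j)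
  rw [rt_sr]; simpa [hj] using h

theorem exists_descent {r : ι} (hr : R.Pos r) : ∃ i, 0 < R.ca i r ∧ 0 < R.rt r i := by
  by_contra hh
  push Not at hh
  have h1 := R.A_self r
  have : R.A r r ≤ 0 := by
    refine sum_nonpos fun j _ => ?_
    have h2 := R.pos_iff_co.1 hr j
    simp only [Pi.zero_apply] at h2
    rcases h2.eq_or_lt with h3 | h3
    · simp [← h3]
    · have := (R.co_pos_iff r j).1 h3
      have h4 : R.ca j r ≤ 0 := by
        by_contra h5; push Not at h5; exact absurd (hh j h5) (not_le.2 this)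
      exact mul_nonpos_of_nonneg_of_nonpos h2 h4
  omega

/-- the height of a root -/
def ht (r : ι) : ℤ := ∑ i, R.rt r i

theorem ht_pos {r : ι} (hr : R.Pos r) : 0 < R.ht r := by
  obtain ⟨i, -, hi⟩ := R.exists_descent hr
  exact sum_pos' (fun j _ => hr j) ⟨i, mem_univ _, hi⟩

theorem ht_sr (i : Λ) (r : ι) : R.ht (R.sr i r) = R.ht r - R.ca i r := by
  simp [ht, rt_sr, sum_sub_distrib]

/-- Induction over positive roots by simple reflections. -/
theorem pos_induction {P : ι → Prop} (hsim : ∀ i, P (R.sim i))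
    (hstep : ∀ i r, R.Pos r → r ≠ R.sim i → 0 < R.ca i r → 0 < R.rt r i → P (R.sr i r) → P r) :
    ∀ r, R.Pos r → P r := by
  intro r hr
  induction' hn : (R.ht r).toNat using Nat.strong_induction_on with n ih generalizing r
  obtain ⟨i, hi, hi'⟩ := R.exists_descent hr
  by_cases hne : r = R.sim i
  · rw [hne]; exact hsim i
  · refine hstep i r hr hne hi hi' (ih _ ?_ _ (R.pos_sr hr hne) rfl)
    have h1 := R.ht_pos (R.pos_sr hr hne)
    rw [← hn]
    rw [ht_sr] at h1 ⊢
    omega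

/-- `k` is a positive integral combination `i r + j s` with `i, j ≥ 1`. -/
def Cone (r s k : ι) : Prop := ∃ i j : ℕ, 0 < i ∧ 0 < j ∧ R.rt k = (i : ℤ) • R.rt r + (j : ℤ) • R.rt s

theorem Cone.symm {R : RS ι Λ} {r s k : ι} (h : R.Cone r s k) : R.Cone s r k := by
  obtain ⟨i, j, hi, hj, h⟩ := h
  exact ⟨j, i, hj, hi, by rw [h, add_comm]⟩

theorem Cone.pos {R : RS ι Λ} {r s k : ι} (h : R.Cone r s k) (hr : R.Pos r) (hs : R.Pos s) : R.Pos k := by
  obtain ⟨i, j, hi, hj, h⟩ := h
  rw [Pos, h]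
  exact add_nonneg (smul_nonneg (by positivity) hr) (smul_nonneg (by positivity) hs)

theorem Cone.lt_left {R : RS ι Λ} {r s k : ι} (h : R.Cone r s k) (hr : R.Pos r) (hs : R.Pos s) : r < k := by
  obtain ⟨i, j, hi, hj, h⟩ := h
  rw [R.lt_iff_key, h, keyv_add, keyv_smul, keyv_smul]
  have h1 := R.pos_iff_key.1 hr
  have h2 := R.pos_iff_key.1 hs
  have : (1 : ℤ) ≤ i := by exact_mod_cast hi
  have : (1 : ℤ) ≤ j := by exact_mod_cast hj
  nlinarith

theorem Cone.lt_right {R : RS ι Λ} {r s k : ι} (h : R.Cone r s k) (hr : R.Pos r) (hs : R.Pos s) : s < k :=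
  h.symm.lt_left hs hr

theorem Cone.neg {R : RS ι Λ} {r s k : ι} (h : R.Cone r s k) : R.Cone (R.neg r) (R.neg s) (R.neg k) := by
  obtain ⟨i, j, hi, hj, h⟩ := h
  exact ⟨i, j, hi, hj, by rw [rt_neg, rt_neg, rt_neg, h]; simp [add_comm]⟩

theorem Cone.not_pos {R : RS ι Λ} {r s k : ι} (h : R.Cone r s k) (hr : ¬R.Pos r) (hs : ¬R.Pos s) :
    ¬R.Pos k :=
  R.pos_neg_iff.1 (h.neg.pos (R.pos_neg_iff.2 hr) (R.pos_neg_iff.2 hs))

theorem pos_of_lt {r s : ι} (hr : R.Pos r) (h : r ≤ s) : R.Pos s := by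
  rw [pos_iff_key] at hr ⊢
  exact lt_of_lt_of_le hr (R.key_mono.monotone h)

theorem ne_neg_of_pos {r s : ι} (hr : R.Pos r) (hs : R.Pos s) : s ≠ R.neg r := by
  rintro rfl
  exact R.pos_neg_iff.1 hs hr

/-- A set of roots closed under positive integral combinations. -/
def Closed (S : Set ι) : Prop := ∀ r ∈ S, ∀ s ∈ S, ∀ k, R.Cone r s k → k ∈ S

theorem closed_pos : R.Closed {r | R.Pos r} := fun _ hr _ hs _ h => h.pos hr hs

theorem closed_neg : R.Closed {r | ¬R.Pos r} := fun _ hr _ hs _ h => h.not_pos hr hs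

theorem Closed.inter {R : RS ι Λ} {S T : Set ι} (hS : R.Closed S) (hT : R.Closed T) : R.Closed (S ∩ T) :=
  fun r hr s hs k h => ⟨hS r hr.1 s hs.1 k h, hT r hr.2 s hs.2 k h⟩

end RS

end H20
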