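import Mathlib
import Cfsg.Prelude.Def_ChevStructure
import Cfsg.Agent.H20.Roots

/-!
`H20.Good D`: the finitely many table facts which make a `ChevalleyDatum` a root system `RS`.
-/

set_option autoImplicit false

namespace H20

open Finset Cfsg.Lie

/-- `a • x + y` on lists -/
def lin (a : ℤ) (x y : List ℤ) : List ℤ := List.zipWith (fun p q => a * p + q) x y

/-- dot product of lists -/
def dot (x y : List ℤ) : ℤ := (List.zipWith (fun p q => p * q) x y).sum

theorem getD_lin (a : ℤ) {x y : List ℤ} {l : ℕ} (hx : x.length = l) (hy : y.length = l) (i : Fin l) :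
    (lin a x y).getD i 0 = a * x.getD i 0 + y.getD i 0 := by
  have h1 : (i : ℕ) < x.length := by omega
  have h2 : (i : ℕ) < y.length := by omega
  simp [lin, List.getD_eq_getElem?_getD, List.getElem?_zipWith, List.getElem?_eq_getElem h1,
    List.getElem?_eq_getElem h2]

theorem dot_eq_sum {x y : List ℤ} {l : ℕ} (hx : x.length = l) (hy : y.length = l) :
    dot x y = ∑ i : Fin l, x.getD i 0 * y.getD i 0 := by
  induction l generalizing x y with
  | zero =>
    rw [List.length_eq_zero_iff] at hx hy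
    subst hx hy; simp [dot]
  | succ l ih =>
    obtain ⟨a, x, rfl⟩ := List.exists_cons_of_length_eq_add_one hx
    obtain ⟨b, y, rfl⟩ := List.exists_cons_of_length_eq_add_one hy
    simp only [List.length_cons, Nat.add_right_cancel_iff] at hx hy
    rw [Fin.sum_univ_succ]
    have := ih hx hy
    simp only [dot] at this
    simp [dot, this]

/-- Auxiliary tables for a datum: root coefficients, the order functional, squared lengths of the
simple roots and of all roots, the Cartan matrix, and for every root a pair of roots in whose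
commutator it occurs with a unit coefficient. -/
structure Aux where
  rtL : List (List ℤ)
  κL : List ℤ
  dL : List ℤ
  nrmL : List ℤ
  CL : List (List ℤ)
  witL : List (ℕ × ℕ)

namespace Aux

variable (a : Aux) (D : ChevalleyDatum)

def row (r : ℕ) : List ℤ := a.rtL.getD r []

def coRow (D : ChevalleyDatum) (r : ℕ) : List ℤ := (D.coroot.toList.getD r #[]).toList

def chk1 : Prop :=
  (∀ i < D.rank, D.simple i < D.nroots) ∧ (∀ r < D.nroots, D.neg r < D.nroots) ∧
  (∀ r < D.nroots, (coRow D r).length = D.rank ∧ (a.row r).length = D.rank) ∧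
  a.κL.length = D.rank ∧ a.dL.length = D.rank ∧
  (∀ i < D.rank, 0 < a.κL.getD i 0 ∧ 0 < a.dL.getD i 0 ∧ (a.CL.getD i []).length = D.rank) ∧
  (∀ r < D.nroots - 1, dot a.κL (a.row r) < dot a.κL (a.row (r + 1))) ∧
  (∀ r < D.nroots, 0 < a.nrmL.getD r 0 ∧
    (coRow D r).map (· * a.nrmL.getD r 0) = List.zipWith (fun p q => p * q) (a.row r) a.dL) ∧
  (∀ i < D.rank, ∀ j < D.rank, (a.CL.getD i []).getD j 0 = D.cartan i (D.simple j) ∧
    a.dL.getD i 0 * (a.CL.getD i []).getD j 0 = a.dL.getD j 0 * (a.CL.getD j []).getD i 0 ∧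
    (a.row (D.simple i)).getD j 0 = if j = i then 1 else 0) ∧
  (∀ r < D.nroots, a.row (D.neg r) = (a.row r).map (fun x => -x) ∧
    ((∀ x ∈ a.row r, 0 ≤ x) ∨ (∀ x ∈ a.row r, x ≤ 0)) ∧
    dot (coRow D r) (a.CL.map fun c => dot (a.row r) c) = 2) ∧
  a.CL.length = D.rank

def chk2 : Prop :=
  ∀ i < D.rank, ∀ s < D.nroots, D.cartan i s = dot (a.row s) (a.CL.getD i []) ∧
    D.reflectRoot i s < D.nroots ∧
    a.row (D.reflectRoot i s) = lin (-D.cartan i s) (a.row (D.simple i)) (a.row s)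

def chk3 : Prop :=
  ∀ r < D.nroots, ∀ e ∈ (D.chain.toList.getD r #[]).toList, e.1 < D.nroots ∧ ∀ q ∈ e.2.toList.zipIdx,
    q.1.1 < D.nroots ∧ a.row q.1.1 = lin ((q.2 + 1 : ℕ) : ℤ) (a.row r) (a.row e.1)

def chk4 : Prop :=
  ∀ s < D.nroots, (a.witL.getD s (0, 0)).1 < D.nroots ∧ (a.witL.getD s (0, 0)).2 < D.nroots ∧
    (a.witL.getD s (0, 0)).2 ≠ (a.witL.getD s (0, 0)).1 ∧
    (a.witL.getD s (0, 0)).2 ≠ D.neg (a.witL.getD s (0, 0)).1 ∧
    ((D.commTerms (a.witL.getD s (0, 0)).1 (a.witL.getD s (0, 0)).2).map Prod.fst).count s = 1 ∧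
    ∃ c ∈ D.commTerms (a.witL.getD s (0, 0)).1 (a.witL.getD s (0, 0)).2,
      c.1 = s ∧ (c.2.1 = 1 ∨ c.2.1 = -1) ∧ (c.2.2.1 = 1 ∨ c.2.2.2 = 1)

instance instDecChk1 : Decidable (a.chk1 D) := by unfold chk1; infer_instance
instance instDecChk2 : Decidable (a.chk2 D) := by unfold chk2; infer_instance
instance instDecChk3 : Decidable (a.chk3 D) := by unfold chk3; infer_instance
instance instDecChk4 : Decidable (a.chk4 D) := by unfold chk4; infer_instance

end Aux

/-- A datum together with verified auxiliary tables. -/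
structure Good (D : ChevalleyDatum) where
  aux : Aux
  h1 : aux.chk1 D
  h2 : aux.chk2 D
  h3 : aux.chk3 D
  h4 : aux.chk4 D

theorem array_getD_toList {α : Type*} (x : Array α) (i : ℕ) (v : α) : x.getD i v = x.toList.getD i v := by
  simp [Array.getD_eq_getD_getElem?, List.getD_eq_getElem?_getD]

theorem coRow_getD (D : ChevalleyDatum) (r i : ℕ) :
    (Aux.coRow D r).getD i 0 = (D.coroot.getD r #[]).getD i 0 := by
  rw [Aux.coRow, array_getD_toList, array_getD_toList]

namespace Good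

variable {D : ChevalleyDatum} (g : Good D)

theorem simple_lt (g : Good D) {i : ℕ} (hi : i < D.rank) : D.simple i < D.nroots := g.h1.1 i hi

theorem neg_lt (g : Good D) {r : ℕ} (hr : r < D.nroots) : D.neg r < D.nroots := g.h1.2.1 r hr

theorem reflect_lt (g : Good D) {i s : ℕ} (hi : i < D.rank) (hs : s < D.nroots) :
    D.reflectRoot i s < D.nroots := (g.h2 i hi s hs).2.1

theorem row_length (r : Fin D.nroots) : (g.aux.row r).length = D.rank := (g.h1.2.2.1 r r.2).2

theorem coRow_length (g : Good D) (r : Fin D.nroots) : (Aux.coRow D r).length = D.rank :=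
  (g.h1.2.2.1 r r.2).1

/-- The root system of a good datum. -/
def rs : RS (Fin D.nroots) (Fin D.rank) where
  rt r i := (g.aux.row r).getD i 0
  co r i := (D.coroot.getD r #[]).getD i 0
  ca i s := D.cartan i s
  sim i := ⟨D.simple i, g.simple_lt i.2⟩
  neg r := ⟨D.neg r, g.neg_lt r.2⟩
  sr i s := ⟨D.reflectRoot i s, g.reflect_lt i.2 s.2⟩
  κ i := g.aux.κL.getD i 0
  d i := g.aux.dL.getD i 0
  nrm r := g.aux.nrmL.getD r 0
  κ_pos i := (g.h1.2.2.2.2.2.1 i i.2).1
  key_mono := by
    obtain ⟨-, -, hl, hκ, -, -, hk, -⟩ := g.h1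
    have key : ∀ n, ∀ r, r + n + 1 < D.nroots →
        dot g.aux.κL (g.aux.row r) < dot g.aux.κL (g.aux.row (r + n + 1)) := by
      intro n
      induction n with
      | zero => intro r hr; exact hk r (by omega)
      | succ n ih => intro r hr; exact (ih r (by omega)).trans (hk (r + n + 1) (by omega))
    intro r s hrs
    have h := key (s - r - 1) r (by have := s.2; have : (r : ℕ) < s := hrs; omega)
    have e : (r : ℕ) + (s - r - 1) + 1 = s := by have : (r : ℕ) < s := hrs; omega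
    rw [e, dot_eq_sum hκ (g.row_length r), dot_eq_sum hκ (g.row_length s)] at h
    exact h
  d_pos i := (g.h1.2.2.2.2.2.1 i i.2).2.1
  nrm_pos r := (g.h1.2.2.2.2.2.2.2.1 r r.2).1
  co_nrm r i := by
    have h := congrArg (fun l => l.getD i 0) (g.h1.2.2.2.2.2.2.2.1 r r.2).2
    have h1 : (i : ℕ) < (Aux.coRow D r).length := by rw [g.coRow_length]; exact i.2
    have h2 : (i : ℕ) < (g.aux.row r).length := by rw [g.row_length]; exact i.2
    have h3 : (i : ℕ) < g.aux.dL.length := by rw [g.h1.2.2.2.2.1]; exact i.2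
    rw [← coRow_getD]
    simpa [List.getD_eq_getElem?_getD, List.getElem?_zipWith, List.getElem?_eq_getElem h1,
      List.getElem?_eq_getElem h2, List.getElem?_eq_getElem h3] using h
  symm i j := by
    have h := g.h1.2.2.2.2.2.2.2.2.1
    have h1 := h i i.2 j j.2
    have h2 := h j j.2 i i.2
    rw [← h1.1, ← h2.1]
    exact h1.2.1
  rt_sim i := by
    ext j
    rw [(g.h1.2.2.2.2.2.2.2.2.1 i i.2 j j.2).2.2, Pi.single_apply]
    simp [Fin.ext_iff]
  rt_neg r := by
    ext j
    have h2 : (j : ℕ) < (g.aux.row r).length := by rw [g.row_length]; exact j.2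
    simp only [(g.h1.2.2.2.2.2.2.2.2.2.1 r r.2).1, Pi.neg_apply]
    simp [List.getD_eq_getElem?_getD, List.getElem?_eq_getElem h2]
  ca_lin i s := by
    rw [(g.h2 i i.2 s s.2).1, dot_eq_sum (g.row_length s) (g.h1.2.2.2.2.2.1 i i.2).2.2]
    refine sum_congr rfl fun j _ => ?_
    rw [(g.h1.2.2.2.2.2.2.2.2.1 i i.2 j j.2).1]
  rt_sr i s := by
    ext j
    have hs := g.row_length ⟨D.simple i, g.simple_lt i.2⟩
    simp only [(g.h2 i i.2 s s.2).2.2, Pi.sub_apply]
    rw [getD_lin _ hs (g.row_length s), (g.h1.2.2.2.2.2.2.2.2.1 i i.2 j j.2).2.2, Pi.single_apply]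
    by_cases h : j = i
    · subst h; simp; ring
    · have : (j : ℕ) ≠ i := fun h' => h (Fin.ext h')
      simp [h, this]
  pos_or_neg r := by
    rcases (g.h1.2.2.2.2.2.2.2.2.2.1 r r.2).2.1 with h | h
    · left; intro j
      have h2 : (j : ℕ) < (g.aux.row r).length := by rw [g.row_length]; exact j.2
      simp only [List.getD_eq_getElem?_getD, List.getElem?_eq_getElem h2, Option.getD_some]
      exact h _ (List.getElem_mem _)
    · right; intro j
      have h2 : (j : ℕ) < (g.aux.row r).length := by rw [g.row_length]; exact j.2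
      simp only [List.getD_eq_getElem?_getD, List.getElem?_eq_getElem h2, Option.getD_some]
      exact h _ (List.getElem_mem _)
  A_self' r := by
    have h := (g.h1.2.2.2.2.2.2.2.2.2.1 r r.2).2.2
    have hC := g.h1.2.2.2.2.2.2.2.2.2.2
    rw [dot_eq_sum (g.coRow_length r) (by simpa using hC)] at h
    rw [← h]
    refine sum_congr rfl fun j _ => ?_
    rw [coRow_getD, (g.h2 j j.2 r r.2).1]
    have h2 : (j : ℕ) < g.aux.CL.length := by rw [hC]; exact j.2
    simp [List.getD_eq_getElem?_getD, List.getElem?_eq_getElem h2]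

@[simp] theorem rs_sim_val (i : Fin D.rank) : (g.rs.sim i : ℕ) = D.simple i := rfl
@[simp] theorem rs_neg_val (r : Fin D.nroots) : (g.rs.neg r : ℕ) = D.neg r := rfl
@[simp] theorem rs_sr_val (i : Fin D.rank) (r : Fin D.nroots) : (g.rs.sr i r : ℕ) = D.reflectRoot i r := rfl
theorem rs_ca (i : Fin D.rank) (r : Fin D.nroots) : g.rs.ca i r = D.cartan i r := rfl
theorem rs_co (r : Fin D.nroots) (i : Fin D.rank) : g.rs.co r i = (D.coroot.getD r #[]).getD i 0 := rfl
theorem rs_rt (r : Fin D.nroots) (i : Fin D.rank) : g.rs.rt r i = (g.aux.row r).getD i 0 := rfl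

theorem rs_A (r s : Fin D.nroots) :
    g.rs.A r s = ∑ i ∈ range D.rank, (D.coroot.getD r #[]).getD i 0 * D.cartan i s := by
  rw [RS.A, ← Fin.sum_univ_eq_sum_range (fun i => (D.coroot.getD r #[]).getD i 0 * D.cartan i s)]
  rfl

theorem forall_coroot_iff (g : Good D) (r : Fin D.nroots) (P : ℤ → Prop) :
    (∀ c ∈ (D.coroot.getD r #[]).toList, P c) ↔ ∀ i, P (g.rs.co r i) := by
  have hl : (D.coroot.getD r #[]).toList.length = D.rank := by
    rw [array_getD_toList]; exact g.coRow_length r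
  constructor
  · intro h i
    have h2 : (i : ℕ) < (D.coroot.getD r #[]).toList.length := by rw [hl]; exact i.2
    rw [rs_co, array_getD_toList, List.getD_eq_getElem?_getD, List.getElem?_eq_getElem h2]
    exact h _ (List.getElem_mem _)
  · intro h c hc
    obtain ⟨i, hi, rfl⟩ := List.getElem_of_mem hc
    have := h ⟨i, hl ▸ hi⟩
    rw [rs_co, array_getD_toList, List.getD_eq_getElem?_getD, List.getElem?_eq_getElem hi] at this
    exact this

theorem isPosRoot_iff (r : Fin D.nroots) : D.IsPosRoot r ↔ g.rs.Pos r := by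
  rw [ChevalleyDatum.IsPosRoot, g.forall_coroot_iff r (fun c => 0 ≤ c), RS.pos_iff_co]
  exact ⟨fun h => h.2, fun h => ⟨r.2, h⟩⟩

theorem isNegRoot_iff (r : Fin D.nroots) : D.IsNegRoot r ↔ ¬g.rs.Pos r := by
  rw [ChevalleyDatum.IsNegRoot, g.forall_coroot_iff r (fun c => c ≤ 0), RS.not_pos_iff_co]
  exact ⟨fun h => h.2, fun h => ⟨r.2, h⟩⟩

theorem inRootSub_iff (J : Set ℕ) (r : Fin D.nroots) :
    D.InRootSub J r ↔ ∀ i : Fin D.rank, (i : ℕ) ∉ J → g.rs.rt r i = 0 := by
  constructor
  · rintro ⟨-, h⟩ i hi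
    exact (g.rs.co_eq_zero_iff r i).1 (h i i.2 hi)
  · intro h
    exact ⟨r.2, fun i hi hJ => (g.rs.co_eq_zero_iff r ⟨i, hi⟩).2 (h ⟨i, hi⟩ hJ)⟩

theorem chainRoot_sound {r s : Fin D.nroots} {k u : ℕ} (hk : 1 ≤ k) (h : D.chainRoot r s k = some u) :
    ∃ hu : u < D.nroots, g.rs.rt ⟨u, hu⟩ = (k : ℤ) • g.rs.rt r + g.rs.rt s := by
  unfold ChevalleyDatum.chainRoot ChevalleyDatum.chainEntry at h
  split at h
  · simp at h
  · rename_i e he
    have he1 : e.1 = s := by simpa using List.find?_some he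
    have he2 := List.mem_of_find?_eq_some he
    rw [array_getD_toList] at he2
    obtain ⟨-, h3⟩ := g.h3 r r.2 e he2
    rw [Option.map_eq_some_iff] at h
    obtain ⟨q, hq, rfl⟩ := h
    have hm : (q, k - 1) ∈ e.2.toList.zipIdx := by
      rw [List.mem_zipIdx_iff_getElem?]; simpa using hq
    obtain ⟨h4, h5⟩ := h3 _ hm
    refine ⟨h4, ?_⟩
    ext j
    simp only [rs_rt, Pi.add_apply, Pi.smul_apply, smul_eq_mul]
    simp only at h5
    rw [h5, he1, getD_lin _ (g.row_length r) (g.row_length s), Nat.sub_add_cancel hk]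

theorem commTerms_sound {r s : Fin D.nroots} {c : ℕ × ℤ × ℕ × ℕ} (hc : c ∈ D.commTerms r s) :
    ∃ hu : c.1 < D.nroots, 0 < c.2.2.1 ∧ 0 < c.2.2.2 ∧
      g.rs.rt ⟨c.1, hu⟩ = (c.2.2.1 : ℤ) • g.rs.rt r + (c.2.2.2 : ℤ) • g.rs.rt s := by
  unfold ChevalleyDatum.commTerms at hc
  simp only [List.mem_filterMap, List.mem_cons, List.not_mem_nil, or_false, Option.map_eq_some_iff] at hc
  obtain ⟨c', hc', k, hk, rfl⟩ := hc
  rcases hc' with rfl | rfl | rfl | rfl | rfl | rfl | rfl
  · obtain ⟨hu, h⟩ := g.chainRoot_sound (by norm_num) hk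
    exact ⟨hu, by norm_num, by norm_num, by simpa using h⟩
  · obtain ⟨hu, h⟩ := g.chainRoot_sound (by norm_num) hk
    exact ⟨hu, by norm_num, by norm_num, by simpa using h⟩
  · obtain ⟨hu, h⟩ := g.chainRoot_sound (by norm_num) hk
    exact ⟨hu, by norm_num, by norm_num, by simpa [add_comm] using h⟩
  · obtain ⟨hu, h⟩ := g.chainRoot_sound (by norm_num) hk
    exact ⟨hu, by norm_num, by norm_num, by simpa using h⟩
  · obtain ⟨hu, h⟩ := g.chainRoot_sound (by norm_num) hk
    exact ⟨hu, by norm_num, by norm_num, by simpa [add_comm] using h⟩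
  · simp only [Option.bind_eq_some_iff] at hk
    obtain ⟨k', hk1, hk2⟩ := hk
    obtain ⟨hu', h'⟩ := g.chainRoot_sound (by norm_num) hk1
    obtain ⟨hu, h⟩ := g.chainRoot_sound (r := ⟨k', hu'⟩) (by norm_num) hk2
    refine ⟨hu, by norm_num, by norm_num, ?_⟩
    simp only [h, h']
    module
  · simp only [Option.bind_eq_some_iff] at hk
    obtain ⟨k', hk1, hk2⟩ := hk
    obtain ⟨hu', h'⟩ := g.chainRoot_sound (by norm_num) hk1
    obtain ⟨hu, h⟩ := g.chainRoot_sound (r := ⟨k', hu'⟩) (by norm_num) hk2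
    refine ⟨hu, by norm_num, by norm_num, ?_⟩
    simp only [h, h']
    module

theorem commTerms_cone {r s : Fin D.nroots} {c : ℕ × ℤ × ℕ × ℕ} (hc : c ∈ D.commTerms r s) :
    ∃ hu : c.1 < D.nroots, g.rs.Cone r s ⟨c.1, hu⟩ := by
  obtain ⟨hu, h1, h2, h3⟩ := g.commTerms_sound hc
  exact ⟨hu, _, _, h1, h2, h3⟩

end Good

end H20
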