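import Mathlib
import Cfsg.Agent.H20.Roots

/-!
The Weyl group of an `RS` as a permutation group of the roots; inversion sets, length, reduced
words, parabolic subgroups, longest elements, reflections in arbitrary roots.
-/

set_option autoImplicit false

namespace H20

open Finset

namespace RS

variable {ι Λ : Type} [LinearOrder ι] [Fintype Λ] [DecidableEq Λ] (R : RS ι Λ)

/-- The simple reflection as a permutation of the roots. -/
def s (i : Λ) : Equiv.Perm ι := ⟨R.sr i, R.sr i, R.sr_sr i, R.sr_sr i⟩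

theorem s_apply (i : Λ) (r : ι) : R.s i r = R.sr i r := rfl

theorem s_mul_s (i : Λ) : R.s i * R.s i = 1 := by
  ext r; simp [s_apply, sr_sr]

theorem s_inv (i : Λ) : (R.s i)⁻¹ = R.s i := inv_eq_of_mul_eq_one_right (R.s_mul_s i)

theorem s_s (i : Λ) (r : ι) : R.s i (R.s i r) = r := R.sr_sr i r

theorem s_sim (i : Λ) : R.s i (R.sim i) = R.neg (R.sim i) := R.sr_sim i

theorem mul_s_s (w : Equiv.Perm ι) (i : Λ) : w * R.s i * R.s i = w := by
  rw [mul_assoc, s_mul_s, mul_one]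

theorem s_s_mul (w : Equiv.Perm ι) (i : Λ) : R.s i * (R.s i * w) = w := by
  rw [← mul_assoc, s_mul_s, one_mul]

/-- The product of a word in the simple reflections. -/
def wp (l : List Λ) : Equiv.Perm ι := (l.map R.s).prod

@[simp] theorem wp_nil : R.wp [] = 1 := rfl

@[simp] theorem wp_cons (i : Λ) (l : List Λ) : R.wp (i :: l) = R.s i * R.wp l := by simp [wp]

@[simp] theorem wp_append (l l' : List Λ) : R.wp (l ++ l') = R.wp l * R.wp l' := by simp [wp]

theorem wp_reverse (l : List Λ) : R.wp l.reverse = (R.wp l)⁻¹ := by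
  induction l with
  | nil => simp
  | cons i l ih => simp [ih, s_inv]

/-- The parabolic subgroup `W_J`. -/
def WJ (J : Set Λ) : Subgroup (Equiv.Perm ι) := Subgroup.closure (R.s '' J)

/-- The Weyl group. -/
def W : Subgroup (Equiv.Perm ι) := R.WJ Set.univ

theorem s_mem_WJ {J : Set Λ} {i : Λ} (hi : i ∈ J) : R.s i ∈ R.WJ J :=
  Subgroup.subset_closure ⟨i, hi, rfl⟩

theorem s_mem_W (i : Λ) : R.s i ∈ R.W := R.s_mem_WJ (Set.mem_univ i)

theorem WJ_mono {J K : Set Λ} (h : J ⊆ K) : R.WJ J ≤ R.WJ K :=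
  Subgroup.closure_mono (Set.image_mono h)

theorem WJ_le_W (J : Set Λ) : R.WJ J ≤ R.W := R.WJ_mono (Set.subset_univ J)

theorem wp_mem_WJ {J : Set Λ} {l : List Λ} (h : ∀ i ∈ l, i ∈ J) : R.wp l ∈ R.WJ J := by
  induction l with
  | nil => exact one_mem _
  | cons i l ih =>
    rw [wp_cons]
    exact mul_mem (R.s_mem_WJ (h i (by simp))) (ih fun j hj => h j (by simp [hj]))

theorem wp_mem_W (l : List Λ) : R.wp l ∈ R.W := R.wp_mem_WJ fun _ _ => Set.mem_univ _

theorem mem_WJ_iff {J : Set Λ} {w : Equiv.Perm ι} :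
    w ∈ R.WJ J ↔ ∃ l : List Λ, (∀ i ∈ l, i ∈ J) ∧ R.wp l = w := by
  refine ⟨fun h => ?_, by rintro ⟨l, hl, rfl⟩; exact R.wp_mem_WJ hl⟩
  induction h using Subgroup.closure_induction with
  | mem x hx => obtain ⟨i, hi, rfl⟩ := hx; exact ⟨[i], by simpa using hi, by simp⟩
  | one => exact ⟨[], by simp, rfl⟩
  | mul x y _ _ hx hy =>
    obtain ⟨l, hl, rfl⟩ := hx
    obtain ⟨l', hl', rfl⟩ := hy
    refine ⟨l ++ l', fun i hi => ?_, by simp⟩
    rcases List.mem_append.1 hi with h | h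
    exacts [hl i h, hl' i h]
  | inv x _ hx =>
    obtain ⟨l, hl, rfl⟩ := hx
    exact ⟨l.reverse, fun i hi => hl i (List.mem_reverse.1 hi), R.wp_reverse l⟩

theorem mem_W_iff {w : Equiv.Perm ι} : w ∈ R.W ↔ ∃ l : List Λ, R.wp l = w := by
  simp [W, mem_WJ_iff]

theorem WJ_induction_left {J : Set Λ} {P : Equiv.Perm ι → Prop} (h1 : P 1)
    (hs : ∀ i ∈ J, ∀ w ∈ R.WJ J, P w → P (R.s i * w)) : ∀ w ∈ R.WJ J, P w := by
  intro w hw
  obtain ⟨l, hl, rfl⟩ := R.mem_WJ_iff.1 hw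
  induction l with
  | nil => exact h1
  | cons i l ih =>
    have hl' : ∀ j ∈ l, j ∈ J := fun j hj => hl j (by simp [hj])
    rw [wp_cons]
    exact hs i (hl i (by simp)) _ (R.wp_mem_WJ hl') (ih hl' (R.wp_mem_WJ hl'))

theorem WJ_induction_right {J : Set Λ} {P : Equiv.Perm ι → Prop} (h1 : P 1)
    (hs : ∀ i ∈ J, ∀ w ∈ R.WJ J, P w → P (w * R.s i)) : ∀ w ∈ R.WJ J, P w := by
  intro w hw
  have := R.WJ_induction_left (J := J) (P := fun w => P w⁻¹) (by simpa using h1)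
    (fun i hi w hw h => by rw [mul_inv_rev, s_inv]; exact hs i hi _ (inv_mem hw) h) w⁻¹ (inv_mem hw)
  simpa using this

theorem W_induction_left {P : Equiv.Perm ι → Prop} (h1 : P 1)
    (hs : ∀ i, ∀ w ∈ R.W, P w → P (R.s i * w)) : ∀ w ∈ R.W, P w :=
  R.WJ_induction_left h1 fun i _ => hs i

theorem W_induction_right {P : Equiv.Perm ι → Prop} (h1 : P 1)
    (hs : ∀ i, ∀ w ∈ R.W, P w → P (w * R.s i)) : ∀ w ∈ R.W, P w :=
  R.WJ_induction_right h1 fun i _ => hs i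

variable {R}

theorem W_neg {w : Equiv.Perm ι} (hw : w ∈ R.W) (r : ι) : w (R.neg r) = R.neg (w r) := by
  revert r
  refine R.W_induction_left (P := fun w => ∀ r, w (R.neg r) = R.neg (w r)) (by simp) ?_ w hw
  intro i w _ h r
  simp [h, s_apply, sr_neg]

theorem W_A {w : Equiv.Perm ι} (hw : w ∈ R.W) (r t : ι) : R.A (w r) (w t) = R.A r t := by
  revert r t
  refine R.W_induction_left (P := fun w => ∀ r t, R.A (w r) (w t) = R.A r t) (by simp) ?_ w hw
  intro i w _ h r t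
  simp [h, s_apply, A_sr]

theorem W_nrm {w : Equiv.Perm ι} (hw : w ∈ R.W) (r : ι) : R.nrm (w r) = R.nrm r := by
  revert r
  refine R.W_induction_left (P := fun w => ∀ r, R.nrm (w r) = R.nrm r) (by simp) ?_ w hw
  intro i w _ h r
  simp [h, s_apply, nrm_sr]

variable (R) in
/-- the simple reflection as a linear map of the root lattice -/
def srL (i : Λ) : (Λ → ℤ) →ₗ[ℤ] (Λ → ℤ) where
  toFun := R.srv i
  map_add' v w := by simp only [srv, cav_add, Pi.single_add]; abel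
  map_smul' c v := by
    simp only [srv, cav_smul, smul_sub, RingHom.id_apply]
    rw [← Pi.single_smul', smul_eq_mul]

theorem W_lin {w : Equiv.Perm ι} (hw : w ∈ R.W) :
    ∃ f : (Λ → ℤ) →ₗ[ℤ] (Λ → ℤ), ∀ r, R.rt (w r) = f (R.rt r) := by
  refine R.W_induction_left (P := fun w => ∃ f : (Λ → ℤ) →ₗ[ℤ] (Λ → ℤ), ∀ r, R.rt (w r) = f (R.rt r))
    ⟨LinearMap.id, by simp⟩ ?_ w hw
  rintro i w _ ⟨f, hf⟩
  refine ⟨(R.srL i).comp f, fun r => ?_⟩
  simp only [Equiv.Perm.coe_mul, Function.comp_apply, s_apply, rt_sr', hf, LinearMap.coe_comp]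
  rfl

theorem rt_eq_sum (r : ι) : R.rt r = ∑ i, R.rt r i • R.rt (R.sim i) := by
  ext j
  simp [rt_sim, Pi.single_apply]

theorem W_rt {w : Equiv.Perm ι} (hw : w ∈ R.W) (r : ι) :
    R.rt (w r) = ∑ i, R.rt r i • R.rt (w (R.sim i)) := by
  obtain ⟨f, hf⟩ := W_lin hw
  rw [hf, rt_eq_sum r, map_sum]
  simp only [map_smul, hf]
  simp [rt_sim, Pi.single_apply]

theorem W_co {w : Equiv.Perm ι} (hw : w ∈ R.W) (r : ι) :
    R.co (w r) = ∑ i, R.co r i • R.co (w (R.sim i)) := by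
  refine R.co_eq_of (W_nrm hw r) fun j => ?_
  rw [W_rt hw r]
  simp only [Finset.sum_apply, Pi.smul_apply, smul_eq_mul, sum_mul]
  refine sum_congr rfl fun i _ => ?_
  have h1 := R.co_nrm r i
  have h2 := R.co_nrm (w (R.sim i)) j
  rw [W_nrm hw, nrm_sim] at h2
  linear_combination (-R.rt r i) * h2 - R.co (w (R.sim i)) j * h1

theorem Cone.map {r s k : ι} (h : R.Cone r s k) {w : Equiv.Perm ι} (hw : w ∈ R.W) :
    R.Cone (w r) (w s) (w k) := by
  obtain ⟨f, hf⟩ := W_lin hw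
  obtain ⟨i, j, hi, hj, h⟩ := h
  exact ⟨i, j, hi, hj, by rw [hf, hf, hf, h, map_add, map_smul, map_smul]⟩

theorem cone_map_iff {r s k : ι} {w : Equiv.Perm ι} (hw : w ∈ R.W) :
    R.Cone (w r) (w s) (w k) ↔ R.Cone r s k :=
  ⟨fun h => by simpa using h.map (inv_mem hw), fun h => h.map hw⟩

theorem Closed.preimage {S : Set ι} (hS : R.Closed S) {w : Equiv.Perm ι} (hw : w ∈ R.W) :
    R.Closed (w ⁻¹' S) := fun _ hr _ hs _ h => hS _ hr _ hs _ (h.map hw)

theorem Closed.image {S : Set ι} (hS : R.Closed S) {w : Equiv.Perm ι} (hw : w ∈ R.W) :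
    R.Closed (w '' S) := by
  have := hS.preimage (inv_mem hw)
  rwa [Equiv.image_eq_preimage_symm]

/-- The root subsystem `Φ_J`. -/
def Phi (J : Set Λ) : Set ι := {r | ∀ i, i ∉ J → R.rt r i = 0}

theorem sim_mem_Phi {J : Set Λ} {i : Λ} : R.sim i ∈ R.Phi J ↔ i ∈ J := by
  constructor
  · intro h; by_contra hi; simpa [rt_sim] using h i hi
  · intro hi j hj
    have : j ≠ i := fun h => hj (h ▸ hi)
    simp [rt_sim, this]

theorem neg_mem_Phi {J : Set Λ} {r : ι} : R.neg r ∈ R.Phi J ↔ r ∈ R.Phi J := by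
  simp [Phi, rt_neg]

theorem Phi_univ : R.Phi Set.univ = Set.univ := by
  ext r; simp [Phi]

theorem Phi_empty : R.Phi ∅ = ∅ := by
  ext r
  simp only [Phi, Set.mem_empty_iff_false, not_false_eq_true, forall_const, Set.mem_ofPred_eq, iff_false]
  intro h; exact R.rt_ne_zero r (funext h)

theorem Phi_mono {J K : Set Λ} (h : J ⊆ K) : R.Phi J ⊆ R.Phi K := fun _ hr i hi => hr i fun h' => hi (h h')

theorem closed_Phi (J : Set Λ) : R.Closed (R.Phi J) := by
  rintro r hr s hs k ⟨a, b, -, -, h⟩ i hi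
  simp [h, hr i hi, hs i hi]

theorem WJ_rt {J : Set Λ} {w : Equiv.Perm ι} (hw : w ∈ R.WJ J) (r : ι) {i : Λ} (hi : i ∉ J) :
    R.rt (w r) i = R.rt r i := by
  revert r
  refine R.WJ_induction_left (P := fun w => ∀ r, R.rt (w r) i = R.rt r i) (by simp) ?_ w hw
  intro j hj w _ h r
  have : i ≠ j := fun h => hi (h ▸ hj)
  simp [h, s_apply, rt_sr, this]

theorem WJ_mem_Phi {J K : Set Λ} (hJK : J ⊆ K) {w : Equiv.Perm ι} (hw : w ∈ R.WJ J) {r : ι} :
    w r ∈ R.Phi K ↔ r ∈ R.Phi K :=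
  forall_congr' fun i => imp_congr_right fun hi => by rw [WJ_rt hw r fun h => hi (hJK h)]

theorem WJ_pos_of_not_mem {J : Set Λ} {w : Equiv.Perm ι} (hw : w ∈ R.WJ J) {r : ι} (hr : r ∉ R.Phi J) :
    R.Pos (w r) ↔ R.Pos r := by
  simp only [Phi, Set.mem_ofPred_eq, not_forall] at hr
  obtain ⟨i, hi, h⟩ := hr
  have h1 := WJ_rt hw r hi
  rcases lt_or_gt_of_ne h with h2 | h2
  · exact iff_of_false (R.not_pos_of_coeff_neg (h1 ▸ h2)) (R.not_pos_of_coeff_neg h2)
  · exact iff_of_true (R.pos_of_coeff_pos (h1 ▸ h2)) (R.pos_of_coeff_pos h2)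

theorem closed_pos_not_Phi (J : Set Λ) : R.Closed {r | R.Pos r ∧ r ∉ R.Phi J} := by
  rintro r hr s hs k hk
  refine ⟨hk.pos hr.1 hs.1, fun h => hr.2 fun i hi => ?_⟩
  obtain ⟨a, b, ha, hb, hk⟩ := hk
  have h1 := h i hi
  have h2 := hr.1 i
  have h3 := hs.1 i
  simp only [hk, Pi.add_apply, Pi.smul_apply, smul_eq_mul, Pi.zero_apply] at h1 h2 h3
  have : (0 : ℤ) < a := by exact_mod_cast ha
  have : (0 : ℤ) < b := by exact_mod_cast hb
  nlinarith

/-- A positive root outside `Φ_J` plus a root of `Φ_J` is a positive root outside `Φ_J`. -/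
theorem Cone.pos_not_Phi {J : Set Λ} {r s k : ι} (hk : R.Cone r s k) (hr : r ∈ R.Phi J)
    (hs : R.Pos s) (hs' : s ∉ R.Phi J) : R.Pos k ∧ k ∉ R.Phi J := by
  simp only [Phi, Set.mem_ofPred_eq, not_forall] at hs'
  obtain ⟨i, hi, h⟩ := hs'
  obtain ⟨a, b, ha, hb, hk⟩ := hk
  have h1 : 0 < R.rt k i := by
    have h2 := hs i
    simp only [hk, Pi.add_apply, Pi.smul_apply, smul_eq_mul, hr i hi, Pi.zero_apply] at h2 ⊢
    have : (0 : ℤ) < b := by exact_mod_cast hb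
    have : 0 < R.rt s i := lt_of_le_of_ne h2 (Ne.symm h)
    positivity
  exact ⟨R.pos_of_coeff_pos h1, fun h' => h1.ne' (h' i hi)⟩

theorem mem_Phi_singleton {i : Λ} {r : ι} : r ∈ R.Phi {i} ↔ r = R.sim i ∨ r = R.neg (R.sim i) := by
  constructor
  · intro h; exact R.reduced fun j hj => h j hj
  · rintro (rfl | rfl)
    · exact sim_mem_Phi.2 rfl
    · exact neg_mem_Phi.2 (sim_mem_Phi.2 rfl)

theorem pos_of_simple_pos {J : Set Λ} {w : Equiv.Perm ι} (hw : w ∈ R.W)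
    (h : ∀ i ∈ J, R.Pos (w (R.sim i))) {r : ι} (hr : R.Pos r) (hJ : r ∈ R.Phi J) : R.Pos (w r) := by
  rw [Pos, W_rt hw]
  refine sum_nonneg fun i _ => ?_
  by_cases hi : i ∈ J
  · exact smul_nonneg (hr i) (h i hi)
  · simp [hJ i hi]

theorem not_pos_of_simple_neg {J : Set Λ} {w : Equiv.Perm ι} (hw : w ∈ R.W)
    (h : ∀ i ∈ J, ¬R.Pos (w (R.sim i))) {r : ι} (hr : R.Pos r) (hJ : r ∈ R.Phi J) : ¬R.Pos (w r) := by
  rw [not_pos_iff, W_rt hw]
  refine sum_nonpos fun i _ => ?_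
  by_cases hi : i ∈ J
  · exact smul_nonpos_of_nonneg_of_nonpos (hr i) (R.not_pos_iff.1 (h i hi))
  · simp [hJ i hi]

theorem exists_WJ_sim_of_pos {J : Set Λ} {r : ι} (hr : R.Pos r) (hJ : r ∈ R.Phi J) :
    ∃ w ∈ R.WJ J, ∃ i ∈ J, r = w (R.sim i) := by
  revert hJ
  refine R.pos_induction (P := fun r => r ∈ R.Phi J → ∃ w ∈ R.WJ J, ∃ i ∈ J, r = w (R.sim i)) ?_ ?_ r hr
  · intro i hi
    exact ⟨1, one_mem _, i, sim_mem_Phi.1 hi, rfl⟩
  · intro i r _ _ _ hi ih hJ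
    have hiJ : i ∈ J := by by_contra h; exact hi.ne' (hJ i h)
    obtain ⟨w, hw, j, hj, h⟩ := ih ((WJ_mem_Phi subset_rfl (R.s_mem_WJ hiJ)).2 hJ)
    refine ⟨R.s i * w, mul_mem (R.s_mem_WJ hiJ) hw, j, hj, ?_⟩
    rw [Equiv.Perm.mul_apply, ← h, s_apply, sr_sr]

theorem exists_WJ_sim {J : Set Λ} {r : ι} (hJ : r ∈ R.Phi J) :
    ∃ w ∈ R.WJ J, ∃ i ∈ J, r = w (R.sim i) := by
  by_cases hr : R.Pos r
  · exact exists_WJ_sim_of_pos hr hJ
  · obtain ⟨w, hw, i, hi, h⟩ := exists_WJ_sim_of_pos (R.pos_neg_iff.2 hr) (neg_mem_Phi.2 hJ)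
    refine ⟨w * R.s i, mul_mem hw (R.s_mem_WJ hi), i, hi, ?_⟩
    rw [Equiv.Perm.mul_apply, s_sim, W_neg (R.WJ_le_W J hw), ← h, neg_neg]

variable (R) in
theorem exists_W_sim (r : ι) : ∃ w ∈ R.W, ∃ i, r = w (R.sim i) := by
  obtain ⟨w, hw, i, -, h⟩ := exists_WJ_sim (R := R) (J := Set.univ) (r := r) (by simp [Phi_univ])
  exact ⟨w, hw, i, h⟩

/-! ### Reflections -/

variable (R) in
/-- `σ` is the reflection in the root `r`. -/
def IsRf (r : ι) (σ : Equiv.Perm ι) : Prop := ∀ t, R.rt (σ t) = R.rt t - R.A r t • R.rt r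

theorem IsRf.unique {r : ι} {σ τ : Equiv.Perm ι} (h : R.IsRf r σ) (h' : R.IsRf r τ) : σ = τ := by
  ext t; apply R.rt_injective; rw [h, h']

theorem isRf_sim (i : Λ) : R.IsRf (R.sim i) (R.s i) := by
  intro t
  rw [s_apply, rt_sr, A_sim, rt_sim, ← Pi.single_smul', smul_eq_mul, mul_one]

theorem IsRf.conj {r : ι} {σ w : Equiv.Perm ι} (h : R.IsRf r σ) (hw : w ∈ R.W) :
    R.IsRf (w r) (w * σ * w⁻¹) := by
  intro t
  obtain ⟨f, hf⟩ := W_lin hw
  obtain ⟨t, rfl⟩ := w.surjective t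
  simp only [Equiv.Perm.coe_mul, Function.comp_apply, Equiv.Perm.coe_inv, Equiv.symm_apply_apply]
  rw [hf, h, map_sub, map_smul, ← hf, ← hf, W_A hw]

theorem IsRf.neg {r : ι} {σ : Equiv.Perm ι} (h : R.IsRf r σ) : R.IsRf (R.neg r) σ := by
  intro t
  rw [h, A_neg_left, rt_neg]; simp

variable (R) in
theorem exists_isRf (r : ι) : ∃ σ ∈ R.W, R.IsRf r σ := by
  obtain ⟨w, hw, i, rfl⟩ := R.exists_W_sim r
  exact ⟨_, mul_mem (mul_mem hw (R.s_mem_W i)) (inv_mem hw), (isRf_sim i).conj hw⟩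

variable (R) in
/-- The reflection in the root `r`. -/
noncomputable def rf (r : ι) : Equiv.Perm ι := (R.exists_isRf r).choose

variable (R) in
theorem rf_mem_W (r : ι) : R.rf r ∈ R.W := (R.exists_isRf r).choose_spec.1

variable (R) in
theorem isRf_rf (r : ι) : R.IsRf r (R.rf r) := (R.exists_isRf r).choose_spec.2

variable (R) in
theorem rt_rf (r t : ι) : R.rt (R.rf r t) = R.rt t - R.A r t • R.rt r := R.isRf_rf r t

variable (R) in
theorem ca_rf (i : Λ) (r t : ι) : R.ca i (R.rf r t) = R.ca i t - R.A r t * R.ca i r := by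
  rw [ca_eq_cav, rt_rf, cav_sub, cav_smul, ← ca_eq_cav, ← ca_eq_cav]

variable (R) in
theorem rf_sim (i : Λ) : R.rf (R.sim i) = R.s i := (R.isRf_rf _).unique (isRf_sim i)

variable (R) in
theorem rf_neg (r : ι) : R.rf (R.neg r) = R.rf r := (R.isRf_rf _).unique (R.isRf_rf r).neg

theorem rf_conj {w : Equiv.Perm ι} (hw : w ∈ R.W) (r : ι) : R.rf (w r) = w * R.rf r * w⁻¹ :=
  (R.isRf_rf _).unique ((R.isRf_rf r).conj hw)

variable (R) in
theorem rf_self (r : ι) : R.rf r r = R.neg r := by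
  apply R.rt_injective
  rw [rt_rf, A_self, rt_neg]; module

variable (R) in
theorem rf_neg_self (r : ι) : R.rf r (R.neg r) = r := by
  rw [W_neg (R.rf_mem_W r), rf_self, neg_neg]

variable (R) in
theorem A_rf_right (r t : ι) : R.A r (R.rf r t) = -R.A r t := by
  rw [A_eq_Av, rt_rf, Av_sub, Av_smul, ← A_eq_Av, ← A_eq_Av, A_self]; ring

variable (R) in
theorem rf_rf (r t : ι) : R.rf r (R.rf r t) = t := by
  apply R.rt_injective
  rw [rt_rf, rt_rf, A_rf_right]; module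

variable (R) in
theorem rf_mul_rf (r : ι) : R.rf r * R.rf r = 1 := by
  ext t; simp [rf_rf]

variable (R) in
theorem co_rf (r t : ι) : R.co (R.rf r t) = R.co t - R.A t r • R.co r := by
  refine R.co_eq_of (W_nrm (R.rf_mem_W r) t) fun j => ?_
  rw [rt_rf]
  have h1 := R.nrm_A r t
  have h2 := R.co_nrm t j
  have h3 := R.co_nrm r j
  simp only [Pi.sub_apply, Pi.smul_apply, smul_eq_mul]
  linear_combination -h2 + R.A r t * h3 - R.co r j * h1

theorem rf_mem_WJ {J : Set Λ} {r : ι} (hr : r ∈ R.Phi J) : R.rf r ∈ R.WJ J := by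
  obtain ⟨w, hw, i, hi, rfl⟩ := exists_WJ_sim hr
  rw [rf_conj (R.WJ_le_W J hw), rf_sim]
  exact mul_mem (mul_mem hw (R.s_mem_WJ hi)) (inv_mem hw)

theorem mul_s_eq_of_sim {w : Equiv.Perm ι} (hw : w ∈ R.W) {i j : Λ} (h : w (R.sim i) = R.sim j) :
    w * R.s i = R.s j * w := by
  have := rf_conj hw (R.sim i)
  rw [h, rf_sim, rf_sim] at this
  rw [this]; group

/-- The exchange condition. -/
theorem exchange (l : List Λ) (i : Λ) (h : ¬R.Pos (R.wp l (R.sim i))) :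
    ∃ a j b, l = a ++ j :: b ∧ R.wp b (R.sim i) = R.sim j := by
  induction l with
  | nil => exact absurd (R.pos_sim i) h
  | cons j l ih =>
    by_cases hp : R.Pos (R.wp l (R.sim i))
    · refine ⟨[], j, l, rfl, ?_⟩
      by_contra hne
      exact h (by rw [wp_cons]; exact R.pos_sr hp hne)
    · obtain ⟨a, k, b, rfl, hb⟩ := ih hp
      exact ⟨j :: a, k, b, rfl, hb⟩

theorem wp_delete {a b : List Λ} {i j : Λ} (hb : R.wp b (R.sim i) = R.sim j) :
    R.wp (a ++ j :: b) * R.s i = R.wp (a ++ b) := by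
  simp only [wp_append, wp_cons]
  rw [mul_assoc, mul_assoc, mul_s_eq_of_sim (R.wp_mem_W b) hb, s_s_mul]

/-! ### Inversions and length -/

variable [Fintype ι]

variable (R) in
/-- The inversion set. -/
def inv (w : Equiv.Perm ι) : Finset ι := univ.filter fun r => R.Pos r ∧ ¬R.Pos (w r)

theorem mem_inv {w : Equiv.Perm ι} {r : ι} : r ∈ R.inv w ↔ R.Pos r ∧ ¬R.Pos (w r) := by simp [inv]

variable (R) in
/-- The length. -/
def len (w : Equiv.Perm ι) : ℕ := (R.inv w).card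

theorem inv_one : R.inv 1 = ∅ := by ext r; simp [mem_inv]

theorem len_one : R.len 1 = 0 := by simp [len, inv_one]

theorem closed_inv {w : Equiv.Perm ι} (hw : w ∈ R.W) : R.Closed (R.inv w : Set ι) := by
  intro r hr s hs k hk
  simp only [mem_coe, mem_inv] at *
  exact ⟨hk.pos hr.1 hs.1, (hk.map hw).not_pos hr.2 hs.2⟩

omit [Fintype ι] in
theorem closed_pos_pos {w : Equiv.Perm ι} (hw : w ∈ R.W) : R.Closed {r | R.Pos r ∧ R.Pos (w r)} :=
  fun _ hr _ hs _ hk => ⟨hk.pos hr.1 hs.1, (hk.map hw).pos hr.2 hs.2⟩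

/-- The inversion set of a product whose lengths add. -/
theorem mem_inv_mul {a b : Equiv.Perm ι} (ha : a ∈ R.W) (hb : b ∈ R.W)
    (h : ∀ r ∈ R.inv b, ¬R.Pos (a (b r))) (r : ι) :
    r ∈ R.inv (a * b) ↔ r ∈ R.inv b ∨ b r ∈ R.inv a := by
  simp only [mem_inv, Equiv.Perm.mul_apply] at h ⊢
  constructor
  · rintro ⟨h1, h2⟩
    by_cases h3 : R.Pos (b r)
    · exact Or.inr ⟨h3, h2⟩
    · exact Or.inl ⟨h1, h3⟩
  · rintro (h1 | ⟨h1, h2⟩)
    · exact ⟨h1.1, h r h1⟩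
    · refine ⟨?_, h2⟩
      by_contra h3
      have := h (R.neg r) ⟨R.pos_neg_iff.2 h3, by rw [W_neg hb, pos_neg_iff]; simpa using h1⟩
      rw [W_neg hb, W_neg ha, pos_neg_iff] at this
      exact this h2

theorem len_mul {a b : Equiv.Perm ι} (ha : a ∈ R.W) (hb : b ∈ R.W)
    (h : ∀ r ∈ R.inv b, ¬R.Pos (a (b r))) : R.len (a * b) = R.len a + R.len b := by
  have h1 : R.inv (a * b) = R.inv b ∪ (R.inv a).map b⁻¹.toEmbedding := by
    ext r
    rw [mem_inv_mul ha hb h, mem_union, mem_map_equiv]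
    rfl
  rw [len, h1, card_union_of_disjoint, card_map, add_comm]; · rfl
  rw [disjoint_left]
  intro r hr hr'
  rw [mem_map_equiv, mem_inv] at hr'
  exact (mem_inv.1 hr).2 hr'.1

theorem inv_s (i : Λ) : R.inv (R.s i) = {R.sim i} := by
  ext r
  rw [mem_inv, mem_singleton]
  constructor
  · rintro ⟨h1, h2⟩
    by_contra h
    exact h2 (R.pos_sr h1 h)
  · rintro rfl
    exact ⟨R.pos_sim i, by rw [s_sim]; exact R.not_pos_neg_sim i⟩

theorem len_s (i : Λ) : R.len (R.s i) = 1 := by simp [len, inv_s]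

theorem len_inv {w : Equiv.Perm ι} (hw : w ∈ R.W) : R.len w⁻¹ = R.len w := by
  refine card_bij (fun r _ => R.neg (w⁻¹ r)) ?_ ?_ ?_
  · intro r hr
    rw [mem_inv] at hr ⊢
    refine ⟨R.pos_neg_iff.2 hr.2, ?_⟩
    rw [W_neg hw, pos_neg_iff]; simpa using hr.1
  · intro r _ s _ h
    simpa using R.neg_injective h
  · intro r hr
    rw [mem_inv] at hr
    refine ⟨R.neg (w r), ?_, by rw [W_neg (inv_mem hw)]; simp [neg_neg]⟩
    rw [mem_inv, W_neg (inv_mem hw), pos_neg_iff, pos_neg_iff]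
    simpa using hr.symm

theorem len_mul_s_of_pos {w : Equiv.Perm ι} (hw : w ∈ R.W) {i : Λ} (h : R.Pos (w (R.sim i))) :
    R.len (w * R.s i) = R.len w + 1 := by
  rw [len_mul hw (R.s_mem_W i), len_s]
  intro r hr
  rw [inv_s, mem_singleton] at hr
  rw [hr, s_sim, W_neg hw, pos_neg_iff]
  simpa using h

theorem len_mul_s_of_neg {w : Equiv.Perm ι} (hw : w ∈ R.W) {i : Λ} (h : ¬R.Pos (w (R.sim i))) :
    R.len (w * R.s i) + 1 = R.len w := by
  rw [← len_mul_s_of_pos (mul_mem hw (R.s_mem_W i)), mul_s_s]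
  rw [Equiv.Perm.mul_apply, s_sim, W_neg hw, pos_neg_iff]
  exact h

theorem len_s_mul_of_pos {w : Equiv.Perm ι} (hw : w ∈ R.W) {i : Λ} (h : R.Pos (w⁻¹ (R.sim i))) :
    R.len (R.s i * w) = R.len w + 1 := by
  rw [← len_inv (mul_mem (R.s_mem_W i) hw), mul_inv_rev, s_inv, len_mul_s_of_pos (inv_mem hw) h, len_inv hw]

theorem len_s_mul_of_neg {w : Equiv.Perm ι} (hw : w ∈ R.W) {i : Λ} (h : ¬R.Pos (w⁻¹ (R.sim i))) :
    R.len (R.s i * w) + 1 = R.len w := by
  rw [← len_inv (mul_mem (R.s_mem_W i) hw), mul_inv_rev, s_inv, len_mul_s_of_neg (inv_mem hw) h, len_inv hw]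

theorem len_wp_le (l : List Λ) : R.len (R.wp l) ≤ l.length := by
  induction l using List.reverseRecOn with
  | nil => simp [len_one]
  | append_singleton l i ih =>
    simp only [wp_append, wp_cons, wp_nil, mul_one, List.length_append, List.length_singleton]
    by_cases h : R.Pos (R.wp l (R.sim i))
    · rw [len_mul_s_of_pos (R.wp_mem_W l) h]; omega
    · have := len_mul_s_of_neg (R.wp_mem_W l) h; omega

theorem exists_reduced_word {J : Set Λ} {w : Equiv.Perm ι} (hw : w ∈ R.WJ J) :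
    ∃ l : List Λ, (∀ i ∈ l, i ∈ J) ∧ R.wp l = w ∧ l.length = R.len w := by
  refine R.WJ_induction_right
    (P := fun w => ∃ l : List Λ, (∀ i ∈ l, i ∈ J) ∧ R.wp l = w ∧ l.length = R.len w)
    ⟨[], by simp, rfl, by simp [len_one]⟩ ?_ w hw
  rintro i hi w hw ⟨l, hl, rfl, hlen⟩
  by_cases h : R.Pos (R.wp l (R.sim i))
  · refine ⟨l ++ [i], ?_, by simp, by simp [len_mul_s_of_pos (R.wp_mem_W l) h, hlen]⟩
    intro j hj
    rcases List.mem_append.1 hj with h' | h'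
    · exact hl j h'
    · rw [List.mem_singleton.1 h']; exact hi
  · obtain ⟨a, j, b, rfl, hb⟩ := exchange l i h
    refine ⟨a ++ b, fun k hk => hl k ?_, (wp_delete hb).symm, ?_⟩
    · simp only [List.mem_append, List.mem_cons] at hk ⊢; tauto
    · have := len_mul_s_of_neg (R.wp_mem_W _) h
      simp only [List.length_append, List.length_cons] at hlen ⊢
      omega

theorem eq_one_of_len_eq_zero {w : Equiv.Perm ι} (hw : w ∈ R.W) (h : R.len w = 0) : w = 1 := by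
  obtain ⟨l, -, rfl, hl⟩ := exists_reduced_word hw
  rw [h, List.length_eq_zero_iff] at hl
  simp [hl]

theorem eq_one_of_pos {w : Equiv.Perm ι} (hw : w ∈ R.W) (h : ∀ r, R.Pos r → R.Pos (w r)) : w = 1 := by
  apply eq_one_of_len_eq_zero hw
  rw [len, card_eq_zero, eq_empty_iff_forall_notMem]
  intro r hr
  rw [mem_inv] at hr
  exact hr.2 (h r hr.1)

theorem inv_subset_Phi {J : Set Λ} {w : Equiv.Perm ι} (hw : w ∈ R.WJ J) {r : ι} (hr : r ∈ R.inv w) :
    r ∈ R.Phi J := by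
  by_contra h
  rw [mem_inv, WJ_pos_of_not_mem hw h] at hr
  exact hr.2 hr.1

theorem exists_right_descent {J : Set Λ} {w : Equiv.Perm ι} (hw : w ∈ R.WJ J) (h1 : w ≠ 1) :
    ∃ i ∈ J, ¬R.Pos (w (R.sim i)) := by
  by_contra h
  push Not at h
  refine h1 (eq_one_of_pos (R.WJ_le_W J hw) fun r hr => ?_)
  by_cases hJ : r ∈ R.Phi J
  · exact pos_of_simple_pos (R.WJ_le_W J hw) h hr hJ
  · exact (WJ_pos_of_not_mem hw hJ).2 hr

theorem eq_one_of_simple_pos {J : Set Λ} {w : Equiv.Perm ι} (hw : w ∈ R.WJ J)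
    (h : ∀ i ∈ J, R.Pos (w (R.sim i))) : w = 1 := by
  by_contra h1
  obtain ⟨i, hi, h2⟩ := exists_right_descent hw h1
  exact h2 (h i hi)

/-- Induction along reduced words, on the right. -/
theorem WJ_len_induction {J : Set Λ} {P : Equiv.Perm ι → Prop} (h1 : P 1)
    (hs : ∀ i ∈ J, ∀ w ∈ R.WJ J, R.Pos (w (R.sim i)) → P w → P (w * R.s i)) : ∀ w ∈ R.WJ J, P w := by
  intro w hw
  induction' hn : R.len w using Nat.strong_induction_on with n ih generalizing w
  by_cases h : w = 1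
  · rw [h]; exact h1
  obtain ⟨i, hi, h2⟩ := exists_right_descent hw h
  have h3 := len_mul_s_of_neg (R.WJ_le_W J hw) h2
  have h4 : w * R.s i ∈ R.WJ J := mul_mem hw (R.s_mem_WJ hi)
  have := hs i hi _ h4 (by rw [Equiv.Perm.mul_apply, s_sim, W_neg (R.WJ_le_W J hw), pos_neg_iff]; exact h2)
    (ih _ (by omega) _ h4 rfl)
  rwa [mul_s_s] at this

/-- Induction along reduced words, on the left. -/
theorem WJ_len_induction_left {J : Set Λ} {P : Equiv.Perm ι → Prop} (h1 : P 1)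
    (hs : ∀ i ∈ J, ∀ w ∈ R.WJ J, R.Pos (w⁻¹ (R.sim i)) → P w → P (R.s i * w)) : ∀ w ∈ R.WJ J, P w := by
  intro w hw
  have := WJ_len_induction (R := R) (J := J) (P := fun w => P w⁻¹) (by simpa using h1)
    (fun i hi w hw hp h => by
      rw [mul_inv_rev, s_inv]; exact hs i hi _ (inv_mem hw) (by simpa using hp) h) w⁻¹ (inv_mem hw)
  simpa using this

theorem mem_WJ_of_inv_subset {J : Set Λ} {w : Equiv.Perm ι} (hw : w ∈ R.W)
    (h : ∀ r ∈ R.inv w, r ∈ R.Phi J) : w ∈ R.WJ J := by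
  revert h
  refine WJ_len_induction (J := Set.univ) (P := fun w => (∀ r ∈ R.inv w, r ∈ R.Phi J) → w ∈ R.WJ J)
    (fun _ => one_mem _) ?_ w hw
  intro i _ w hw hp ih h
  have hm := mem_inv_mul hw (R.s_mem_W i) (by
    intro r hr
    rw [inv_s, mem_singleton] at hr
    rw [hr, s_sim, W_neg hw, pos_neg_iff]
    simpa using hp)
  have hi : i ∈ J := sim_mem_Phi.1 (h _ ((hm _).2 (Or.inl (by simp [inv_s]))))
  refine mul_mem (ih fun r hr => ?_) (R.s_mem_WJ hi)
  have := h (R.s i r) ((hm _).2 (Or.inr (by rwa [s_s])))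
  exact (WJ_mem_Phi subset_rfl (R.s_mem_WJ hi)).1 this

/-- The word-relation principle: a family `ν` of elements indexed by the roots which is permuted by
conjugation like the roots defines a homomorphism on `W`. -/
theorem word_eq_one {Γ : Type*} [Group Γ] (ν : ι → Γ) (h2 : ∀ i, ν (R.sim i) * ν (R.sim i) = 1)
    (hc : ∀ i r, ν (R.sim i) * ν r = ν (R.s i r) * ν (R.sim i)) (l : List Λ) (hl : R.wp l = 1) :
    (l.map fun i => ν (R.sim i)).prod = 1 := by
  have hconj : ∀ (l : List Λ) r, (l.map fun i => ν (R.sim i)).prod * ν r =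
      ν (R.wp l r) * (l.map fun i => ν (R.sim i)).prod := by
    intro l
    induction l with
    | nil => simp
    | cons i l ih =>
      intro r
      simp only [List.map_cons, List.prod_cons, wp_cons, Equiv.Perm.mul_apply]
      rw [mul_assoc, ih, ← mul_assoc, hc, mul_assoc]
  have key : ∀ l : List Λ, ∃ l' : List Λ, R.wp l' = R.wp l ∧ l'.length = R.len (R.wp l) ∧
      (l'.map fun i => ν (R.sim i)).prod = (l.map fun i => ν (R.sim i)).prod := by
    intro l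
    induction l using List.reverseRecOn with
    | nil => exact ⟨[], rfl, by simp [len_one], rfl⟩
    | append_singleton l i ih =>
      obtain ⟨l', h1, h3, h4⟩ := ih
      by_cases h : R.Pos (R.wp l (R.sim i))
      · exact ⟨l' ++ [i], by simp [h1], by simp [len_mul_s_of_pos (R.wp_mem_W l) h, h3], by simp [h4]⟩
      · have h' := h
        rw [← h1] at h'
        obtain ⟨a, j, b, rfl, hb⟩ := exchange l' i h'
        refine ⟨a ++ b, by rw [← wp_delete hb, h1]; simp, ?_, ?_⟩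
        · have := len_mul_s_of_neg (R.wp_mem_W _) h
          simp only [List.length_append, List.length_cons, wp_append, wp_cons, wp_nil, mul_one] at h3 ⊢
          omega
        · rw [List.map_append (l₁ := l), List.prod_append, ← h4]
          simp only [List.map_append, List.prod_append, List.map_cons, List.prod_cons, List.map_nil,
            List.prod_nil, mul_one, mul_assoc]
          rw [hconj, hb, ← mul_assoc (ν _) (ν _), h2, one_mul]
  obtain ⟨l', -, h3, h4⟩ := key l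
  rw [hl, len_one, List.length_eq_zero_iff] at h3
  rw [← h4, h3]; rfl

/-! ### Longest elements -/

variable (R) in
theorem exists_w0 (J : Set Λ) : ∃ w ∈ R.WJ J, ∀ i ∈ J, ¬R.Pos (w (R.sim i)) := by
  classical
  obtain ⟨w, hw, hmax⟩ := exists_max_image (univ.filter fun w : Equiv.Perm ι => w ∈ R.WJ J) R.len
    ⟨1, by simp⟩
  simp only [mem_filter, mem_univ, true_and] at hw hmax
  refine ⟨w, hw, fun i hi hp => ?_⟩
  have := hmax _ (mul_mem hw (R.s_mem_WJ hi))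
  rw [len_mul_s_of_pos (R.WJ_le_W J hw) hp] at this
  omega

variable (R) in
/-- The longest element of `W_J`. -/
noncomputable def w0 (J : Set Λ) : Equiv.Perm ι := (R.exists_w0 J).choose

variable (R) in
theorem w0_mem (J : Set Λ) : R.w0 J ∈ R.WJ J := (R.exists_w0 J).choose_spec.1

variable (R) in
theorem w0_mem_W (J : Set Λ) : R.w0 J ∈ R.W := R.WJ_le_W J (R.w0_mem J)

theorem w0_sim {J : Set Λ} {i : Λ} (hi : i ∈ J) : ¬R.Pos (R.w0 J (R.sim i)) :=
  (R.exists_w0 J).choose_spec.2 i hi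

theorem pos_w0_iff {J : Set Λ} {r : ι} (hJ : r ∈ R.Phi J) : R.Pos (R.w0 J r) ↔ ¬R.Pos r := by
  constructor
  · intro h hr
    exact not_pos_of_simple_neg (R.w0_mem_W J) (fun i hi => w0_sim hi) hr hJ h
  · intro hr
    have := not_pos_of_simple_neg (R.w0_mem_W J) (fun i hi => w0_sim hi) (R.pos_neg_iff.2 hr)
      (neg_mem_Phi.2 hJ)
    rw [W_neg (R.w0_mem_W J), pos_neg_iff] at this
    simpa using this

theorem mem_inv_w0 {J : Set Λ} {r : ι} : r ∈ R.inv (R.w0 J) ↔ R.Pos r ∧ r ∈ R.Phi J :=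
  ⟨fun h => ⟨(mem_inv.1 h).1, inv_subset_Phi (R.w0_mem J) h⟩,
    fun h => mem_inv.2 ⟨h.1, by rw [pos_w0_iff h.2]; simpa using h.1⟩⟩

theorem eq_w0 {J : Set Λ} {w : Equiv.Perm ι} (hw : w ∈ R.WJ J) (h : ∀ i ∈ J, ¬R.Pos (w (R.sim i))) :
    w = R.w0 J := by
  have : R.w0 J * w = 1 := by
    refine eq_one_of_simple_pos (mul_mem (R.w0_mem J) hw) fun i hi => ?_
    rw [Equiv.Perm.mul_apply, pos_w0_iff ((WJ_mem_Phi subset_rfl hw).2 (sim_mem_Phi.2 hi))]
    exact h i hi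
  have h2 : R.w0 J * R.w0 J = 1 := by
    refine eq_one_of_simple_pos (mul_mem (R.w0_mem J) (R.w0_mem J)) fun i hi => ?_
    rw [Equiv.Perm.mul_apply, pos_w0_iff ((WJ_mem_Phi subset_rfl (R.w0_mem J)).2 (sim_mem_Phi.2 hi))]
    exact w0_sim hi
  exact mul_left_cancel (this.trans h2.symm)

variable (R) in
theorem w0_mul_w0 (J : Set Λ) : R.w0 J * R.w0 J = 1 := by
  refine eq_one_of_simple_pos (mul_mem (R.w0_mem J) (R.w0_mem J)) fun i hi => ?_
  rw [Equiv.Perm.mul_apply, pos_w0_iff ((WJ_mem_Phi subset_rfl (R.w0_mem J)).2 (sim_mem_Phi.2 hi))]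
  exact w0_sim hi

variable (R) in
theorem w0_inv (J : Set Λ) : (R.w0 J)⁻¹ = R.w0 J := inv_eq_of_mul_eq_one_right (R.w0_mul_w0 J)

variable (R) in
theorem w0_w0 (J : Set Λ) (r : ι) : R.w0 J (R.w0 J r) = r := by
  rw [← Equiv.Perm.mul_apply, w0_mul_w0]; rfl

theorem pos_w0_univ_iff {r : ι} : R.Pos (R.w0 Set.univ r) ↔ ¬R.Pos r := pos_w0_iff (by simp [Phi_univ])

/-! ### Minimal coset representatives -/

theorem len_mul_of_simple_pos {J : Set Λ} {d v : Equiv.Perm ι} (hd : d ∈ R.W)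
    (h : ∀ i ∈ J, R.Pos (d (R.sim i))) (hv : v ∈ R.WJ J) : ∀ r ∈ R.inv v, ¬R.Pos (d (v r)) := by
  intro r hr
  have h1 := inv_subset_Phi hv hr
  have h2 := pos_of_simple_pos hd h (R.pos_neg_iff.2 (mem_inv.1 hr).2)
    (neg_mem_Phi.2 ((WJ_mem_Phi subset_rfl hv).2 h1))
  rwa [W_neg hd, pos_neg_iff] at h2

theorem exists_coset_decomp (J : Set Λ) {w : Equiv.Perm ι} (hw : w ∈ R.W) :
    ∃ v ∈ R.WJ J, ∀ i ∈ J, R.Pos ((w * v⁻¹) (R.sim i)) := by
  classical
  obtain ⟨v, hv, hmin⟩ := exists_min_image (univ.filter fun v : Equiv.Perm ι => v ∈ R.WJ J)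
    (fun v => R.len (w * v⁻¹)) ⟨1, by simp⟩
  simp only [mem_filter, mem_univ, true_and] at hv hmin
  refine ⟨v, hv, fun i hi => ?_⟩
  by_contra hp
  have := hmin _ (mul_mem (R.s_mem_WJ hi) hv)
  have h2 := len_mul_s_of_neg (mul_mem hw (inv_mem (R.WJ_le_W J hv))) hp
  rw [mul_inv_rev, s_inv, ← mul_assoc] at this
  omega

theorem coset_decomp_unique {J : Set Λ} {d d' : Equiv.Perm ι} (hd : d ∈ R.W)
    (h : ∀ i ∈ J, R.Pos (d (R.sim i))) (h' : ∀ i ∈ J, R.Pos (d' (R.sim i))) (hv : d⁻¹ * d' ∈ R.WJ J) :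
    d = d' := by
  have h1 : d⁻¹ * d' = 1 := by
    refine eq_one_of_simple_pos hv fun i hi => ?_
    by_contra hn
    have := len_mul_of_simple_pos hd h hv (R.sim i) (mem_inv.2 ⟨R.pos_sim i, hn⟩)
    simp only [Equiv.Perm.coe_mul, Equiv.Perm.coe_inv, Function.comp_apply, Equiv.apply_symm_apply] at this
    exact this (h' i hi)
  exact inv_mul_eq_one.1 h1

/-- Two roots that are not opposite lie in a common positive system. -/
theorem exists_common_pos {r t : ι} (h : t ≠ R.neg r) : ∃ w ∈ R.W, R.Pos (w r) ∧ R.Pos (w t) := by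
  obtain ⟨w, hw, i, rfl⟩ := R.exists_W_sim r
  by_cases hp : R.Pos (w⁻¹ t)
  · exact ⟨w⁻¹, inv_mem hw, by simpa using R.pos_sim i, hp⟩
  · refine ⟨R.w0 Set.univ * R.s i * w⁻¹, mul_mem (mul_mem (R.w0_mem_W _) (R.s_mem_W i)) (inv_mem hw), ?_, ?_⟩
    · simp only [Equiv.Perm.coe_mul, Equiv.Perm.coe_inv, Function.comp_apply, Equiv.symm_apply_apply]
      rw [pos_w0_univ_iff, s_sim]; exact R.not_pos_neg_sim i
    · simp only [Equiv.Perm.mul_apply]
      rw [pos_w0_univ_iff, ← pos_neg_iff, ← W_neg (R.s_mem_W i)]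
      refine R.pos_sr (R.pos_neg_iff.2 hp) fun h' => h ?_
      rw [← W_neg hw, ← h', neg_neg]; simp

end RS

end H20
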