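import Mathlib
import Cfsg.Agent.H20.Weyl

/-!
Groups with root elements satisfying additivity and a weak form of Chevalley's commutator formula:
the subgroups `X_S`, normal forms in any order.
-/

set_option autoImplicit false

namespace H20

open Finset

variable {ι Λ : Type} [LinearOrder ι] [Fintype Λ] [DecidableEq Λ]

/-- Root elements `x r t` in a group `G`, additive in `t`, with the weak commutator formula. -/
structure WRG (R : RS ι Λ) (K : Type*) [Field K] (G : Type*) [Group G] where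
  x : ι → K → G
  x_add : ∀ r t u, x r (t + u) = x r t * x r u
  comm : ∀ r s, s ≠ R.neg r → ∀ t u,
    x r t * x s u * (x r t)⁻¹ * (x s u)⁻¹ ∈ Subgroup.closure {g | ∃ k, R.Cone r s k ∧ ∃ c, g = x k c}

namespace WRG

variable {R : RS ι Λ} {K : Type*} [Field K] {G : Type*} [Group G] (X : WRG R K G)

@[simp] theorem x_zero (r : ι) : X.x r 0 = 1 := by
  have := X.x_add r 0 0
  rw [add_zero] at this
  exact left_eq_mul.1 this

theorem x_inv (r : ι) (t : K) : (X.x r t)⁻¹ = X.x r (-t) := by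
  rw [inv_eq_iff_mul_eq_one, ← x_add, add_neg_cancel, x_zero]

theorem x_mul_x (r : ι) (t u : K) : X.x r t * X.x r u = X.x r (t + u) := (X.x_add r t u).symm

/-- The subgroup generated by the root subgroups `X_r`, `r ∈ S`. -/
def XS (S : Set ι) : Subgroup G := Subgroup.closure {g | ∃ r ∈ S, ∃ t, g = X.x r t}

theorem x_mem_XS {S : Set ι} {r : ι} (hr : r ∈ S) (t : K) : X.x r t ∈ X.XS S :=
  Subgroup.subset_closure ⟨r, hr, t, rfl⟩

theorem XS_le_iff {S : Set ι} {M : Subgroup G} : X.XS S ≤ M ↔ ∀ r ∈ S, ∀ t, X.x r t ∈ M := by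
  rw [XS, Subgroup.closure_le]
  constructor
  · intro h r hr t; exact h ⟨r, hr, t, rfl⟩
  · rintro h _ ⟨r, hr, t, rfl⟩; exact h r hr t

theorem XS_mono {S T : Set ι} (h : S ⊆ T) : X.XS S ≤ X.XS T :=
  X.XS_le_iff.2 fun _ hr t => X.x_mem_XS (h hr) t

theorem XS_empty : X.XS ∅ = ⊥ := le_bot_iff.1 (X.XS_le_iff.2 (by simp))

theorem XS_union (S T : Set ι) : X.XS (S ∪ T) = X.XS S ⊔ X.XS T := by
  refine le_antisymm (X.XS_le_iff.2 ?_)
    (sup_le (X.XS_mono Set.subset_union_left) (X.XS_mono Set.subset_union_right))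
  rintro r (hr | hr) t
  · exact Subgroup.mem_sup_left (X.x_mem_XS hr t)
  · exact Subgroup.mem_sup_right (X.x_mem_XS hr t)

theorem XS_induction {S : Set ι} {P : G → Prop} (h1 : P 1)
    (hx : ∀ r ∈ S, ∀ t, ∀ g ∈ X.XS S, P g → P (X.x r t * g)) : ∀ g ∈ X.XS S, P g := by
  intro g hg
  induction hg using Subgroup.closure_induction_left with
  | one => exact h1
  | mul_left x hx' y hy ih => obtain ⟨r, hr, t, rfl⟩ := hx'; exact hx r hr t y hy ih
  | inv_mul_cancel x hx' y hy ih =>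
    obtain ⟨r, hr, t, rfl⟩ := hx'; rw [x_inv]; exact hx r hr _ y hy ih

theorem XS_induction_right {S : Set ι} {P : G → Prop} (h1 : P 1)
    (hx : ∀ r ∈ S, ∀ t, ∀ g ∈ X.XS S, P g → P (g * X.x r t)) : ∀ g ∈ X.XS S, P g := by
  intro g hg
  have := X.XS_induction (S := S) (P := fun g => P g⁻¹) (by simpa using h1)
    (fun r hr t g hg h => by rw [mul_inv_rev, x_inv]; exact hx r hr _ _ (inv_mem hg) h) g⁻¹ (inv_mem hg)
  simpa using this

theorem mem_XS_singleton {r : ι} {g : G} : g ∈ X.XS {r} ↔ ∃ t, g = X.x r t := by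
  refine ⟨fun h => ?_, by rintro ⟨t, rfl⟩; exact X.x_mem_XS (Set.mem_singleton r) t⟩
  refine X.XS_induction (P := fun g => ∃ t, g = X.x r t) ⟨0, by simp⟩ ?_ g h
  rintro _ rfl t _ - ⟨u, rfl⟩
  exact ⟨t + u, (X.x_add _ _ _).symm⟩

theorem comm_mem {r s : ι} (h : s ≠ R.neg r) {T : Set ι} (hT : ∀ k, R.Cone r s k → k ∈ T) (t u : K) :
    X.x r t * X.x s u * (X.x r t)⁻¹ * (X.x s u)⁻¹ ∈ X.XS T := by
  refine Subgroup.closure_mono ?_ (X.comm r s h t u)
  rintro _ ⟨k, hk, c, rfl⟩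
  exact ⟨k, hT k hk, c, rfl⟩

theorem commute_of_no_cone {r s : ι} (h : s ≠ R.neg r) (hT : ∀ k, ¬R.Cone r s k) (t u : K) :
    X.x r t * X.x s u = X.x s u * X.x r t := by
  have := X.comm_mem h (T := ∅) (fun k hk => hT k hk) t u
  rw [XS_empty, Subgroup.mem_bot] at this
  rw [← mul_inv_eq_one, ← this]; group

theorem conj_mem_of_gen {S : Set ι} {M : Subgroup G} {a : G}
    (h : ∀ r ∈ S, ∀ t, a * X.x r t * a⁻¹ ∈ M) {g : G} (hg : g ∈ X.XS S) : a * g * a⁻¹ ∈ M := by
  refine X.XS_induction (P := fun g => a * g * a⁻¹ ∈ M) (by simp) ?_ g hg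
  intro r hr t g _ ih
  have : a * (X.x r t * g) * a⁻¹ = a * X.x r t * a⁻¹ * (a * g * a⁻¹) := by group
  rw [this]; exact mul_mem (h r hr t) ih

theorem x_conj_mem {r : ι} {T : Set ι} (h : ∀ s ∈ T, s ≠ R.neg r)
    (hT : ∀ s ∈ T, ∀ k, R.Cone r s k → k ∈ T) (t : K) {g : G} (hg : g ∈ X.XS T) :
    X.x r t * g * (X.x r t)⁻¹ ∈ X.XS T := by
  refine X.conj_mem_of_gen (fun s hs u => ?_) hg
  have := mul_mem (X.comm_mem (h s hs) (hT s hs) t u) (X.x_mem_XS hs u)
  simpa using this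

/-- `X_S` normalises `X_T` when `T` is stable under adding roots of `S`. -/
theorem conj_mem_XS {S T : Set ι} (h : ∀ r ∈ S, ∀ s ∈ T, s ≠ R.neg r)
    (hT : ∀ r ∈ S, ∀ s ∈ T, ∀ k, R.Cone r s k → k ∈ T) {a g : G} (ha : a ∈ X.XS S) (hg : g ∈ X.XS T) :
    a * g * a⁻¹ ∈ X.XS T := by
  revert g
  refine X.XS_induction (P := fun a => ∀ {g}, g ∈ X.XS T → a * g * a⁻¹ ∈ X.XS T) (by simp) ?_ a ha
  intro r hr t a _ ih g hg
  have : X.x r t * a * g * (X.x r t * a)⁻¹ = X.x r t * (a * g * a⁻¹) * (X.x r t)⁻¹ := by group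
  rw [this]
  exact X.x_conj_mem (h r hr) (hT r hr) t (ih hg)

theorem XS_le_normalizer {S T : Set ι} (h : ∀ r ∈ S, ∀ s ∈ T, s ≠ R.neg r)
    (hT : ∀ r ∈ S, ∀ s ∈ T, ∀ k, R.Cone r s k → k ∈ T) :
    X.XS S ≤ Subgroup.normalizer (X.XS T : Set G) := by
  intro a ha
  rw [Subgroup.mem_normalizer_iff]
  refine fun g => ⟨fun hg => X.conj_mem_XS h hT ha hg, fun hg => ?_⟩
  have := X.conj_mem_XS h hT (inv_mem ha) hg
  simpa [mul_assoc] using this

/-- The ordered product `∏_{r ∈ L} x_r(t_r)`. -/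
def P (L : List ι) (t : ι → K) : G := (L.map fun r => X.x r (t r)).prod

@[simp] theorem P_nil (t : ι → K) : X.P [] t = 1 := rfl

@[simp] theorem P_cons (r : ι) (L : List ι) (t : ι → K) : X.P (r :: L) t = X.x r (t r) * X.P L t := by
  simp [P]

@[simp] theorem P_append (L L' : List ι) (t : ι → K) : X.P (L ++ L') t = X.P L t * X.P L' t := by
  simp [P]

theorem P_congr {L : List ι} {t t' : ι → K} (h : ∀ r ∈ L, t r = t' r) : X.P L t = X.P L t' := by
  unfold P
  rw [List.map_congr_left fun r hr => by rw [h r hr]]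

theorem P_zero (L : List ι) : X.P L 0 = 1 := by
  induction L with
  | nil => rfl
  | cons r L ih => simp [ih]

theorem P_mem_of {L : List ι} {S : Set ι} {t : ι → K} (h : ∀ r ∈ L, r ∈ S ∨ t r = 0) :
    X.P L t ∈ X.XS S := by
  induction L with
  | nil => exact one_mem _
  | cons r L ih =>
    rw [P_cons]
    refine mul_mem ?_ (ih fun s hs => h s (by simp [hs]))
    rcases h r (by simp) with h1 | h1
    · exact X.x_mem_XS h1 _
    · simp [h1]

theorem P_mem {L : List ι} {S : Set ι} (h : ∀ r ∈ L, r ∈ S) (t : ι → K) : X.P L t ∈ X.XS S :=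
  X.P_mem_of fun r hr => Or.inl (h r hr)

theorem P_filter (L : List ι) (p : ι → Prop) [DecidablePred p] (t : ι → K) :
    X.P (L.filter p) t = X.P L fun r => if p r then t r else 0 := by
  induction L with
  | nil => rfl
  | cons r L ih =>
    by_cases h : p r <;> simp [h, ih]

section filtration

variable {S T : Set ι} (hS : R.Closed S) (hpos : ∀ r ∈ S, R.Pos r) (hTS : T ⊆ S)
  (hT : ∀ r ∈ T, ∀ k ∈ S, r < k → k ∈ T)

include hS hpos hTS hT

theorem conj_mem_upper {a g : G} (ha : a ∈ X.XS S) (hg : g ∈ X.XS T) : a * g * a⁻¹ ∈ X.XS T :=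
  X.conj_mem_XS (fun r hr s hs => R.ne_neg_of_pos (hpos r hr) (hpos s (hTS hs)))
    (fun r hr s hs k hk => hT s hs k (hS r hr s (hTS hs) k hk)
      (hk.lt_right (hpos r hr) (hpos s (hTS hs)))) ha hg

theorem central_mod_upper {m : ι} (hm : m ∈ S) (hmT : ∀ k ∈ S, m < k → k ∈ T) (a : K) {g : G}
    (hg : g ∈ X.XS S) : ∃ y ∈ X.XS T, g * X.x m a = X.x m a * g * y := by
  refine X.XS_induction_right (P := fun g => ∃ y ∈ X.XS T, g * X.x m a = X.x m a * g * y)
    ⟨1, one_mem _, by simp⟩ ?_ g hg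
  rintro r hr t g - ⟨y, hy, h⟩
  have h1 := X.comm_mem (R.ne_neg_of_pos (hpos m hm) (hpos r hr)) (T := T)
    (fun k hk => hmT k (hS m hm r hr k hk) (hk.lt_left (hpos m hm) (hpos r hr))) (-a) (-t)
  rw [← x_inv, ← x_inv, inv_inv, inv_inv] at h1
  refine ⟨(X.x r t)⁻¹ * y * (X.x r t)⁻¹⁻¹ * ((X.x m a)⁻¹ * (X.x r t)⁻¹ * X.x m a * X.x r t)⁻¹,
    mul_mem (X.conj_mem_upper hS hpos hTS hT (inv_mem (X.x_mem_XS hr t)) hy) (inv_mem h1), ?_⟩
  calc g * X.x r t * X.x m a
      = g * X.x m a * (X.x r t * ((X.x m a)⁻¹ * (X.x r t)⁻¹ * X.x m a * X.x r t)⁻¹) := by group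
    _ = _ := by rw [h]; group

theorem P_mul_x {m : ι} (hmT : ∀ k ∈ S, m < k → k ∈ T) {L : List ι} (hL : L.Nodup)
    (hLS : ∀ r ∈ L, r ∈ S) (hm : m ∈ L) (t : ι → K) (a : K) :
    ∃ y ∈ X.XS T, X.P L t * X.x m a = X.P L (Function.update t m (t m + a)) * y := by
  obtain ⟨L₁, L₂, rfl⟩ := List.append_of_mem hm
  have h1 : m ∉ L₁ := fun h => (List.nodup_append.1 hL).2.2 m h m (by simp) rfl
  have h2 : m ∉ L₂ := (List.nodup_cons.1 (List.nodup_append.1 hL).2.1).1
  obtain ⟨y, hy, h⟩ := X.central_mod_upper hS hpos hTS hT (hLS m hm) hmT a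
    (X.P_mem (L := L₂) (fun r hr => hLS r (by simp [hr])) t)
  refine ⟨y, hy, ?_⟩
  simp only [P_append, P_cons, Function.update_self]
  rw [X.P_congr (L := L₁) (t := Function.update t m (t m + a)) (t' := t) fun r hr =>
      Function.update_of_ne (fun h : r = m => h1 (h ▸ hr)) _ _,
    X.P_congr (L := L₂) (t := Function.update t m (t m + a)) (t' := t) fun r hr =>
      Function.update_of_ne (fun h : r = m => h2 (h ▸ hr)) _ _, x_add]
  simp only [mul_assoc]
  rw [h]; simp only [mul_assoc]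

theorem P_congr_mod {L : List ι} (hLS : ∀ r ∈ L, r ∈ S) {t t' : ι → K}
    (h : ∀ r ∈ L, r ∉ T → t r = t' r) : ∃ y ∈ X.XS T, X.P L t = X.P L t' * y := by
  induction L with
  | nil => exact ⟨1, one_mem _, by simp⟩
  | cons r L ih =>
    have hLS' : ∀ s ∈ L, s ∈ S := fun s hs => hLS s (by simp [hs])
    obtain ⟨y, hy, h1⟩ := ih hLS' fun s hs => h s (by simp [hs])
    by_cases hr : r ∈ T
    · refine ⟨(X.P L t')⁻¹ * X.x r (-t' r + t r) * (X.P L t')⁻¹⁻¹ * y,
        mul_mem (X.conj_mem_upper hS hpos hTS hT (inv_mem (X.P_mem hLS' t')) (X.x_mem_XS hr _)) hy, ?_⟩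
      rw [P_cons, P_cons, h1, x_add, ← x_inv]; group
    · exact ⟨y, hy, by rw [P_cons, P_cons, h1, h r (by simp) hr, mul_assoc]⟩

end filtration

theorem mem_XS_insert {S T : Set ι} (hS : R.Closed S) (hpos : ∀ r ∈ S, R.Pos r) (hTS : T ⊆ S)
    (hT : ∀ r ∈ T, ∀ k ∈ S, r < k → k ∈ T) {m : ι} (hm : m ∈ S) {g : G} (hg : g ∈ X.XS (insert m T)) :
    ∃ a, ∃ y ∈ X.XS T, g = X.x m a * y := by
  refine X.XS_induction (P := fun g => ∃ a, ∃ y ∈ X.XS T, g = X.x m a * y) ⟨0, 1, one_mem _, by simp⟩ ?_ g hg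
  rintro r (rfl | hr) t _ - ⟨a, y, hy, rfl⟩
  · exact ⟨t + a, y, hy, by rw [x_add, mul_assoc]⟩
  · refine ⟨a, (X.x m a)⁻¹ * X.x r t * (X.x m a)⁻¹⁻¹ * y, mul_mem
      (X.conj_mem_upper hS hpos hTS hT (inv_mem (X.x_mem_XS hm a)) (X.x_mem_XS hr t)) hy, by group⟩

variable [Fintype ι]

/-- Descending induction over upper subsets of `S`. -/
theorem upper_induction {S : Set ι} {Q : Set ι → Prop} (h0 : Q S)
    (hstep : ∀ (m : ι) (T : Set ι), m ∈ S → T ⊆ S → (∀ r ∈ T, m < r) → (∀ k ∈ S, m < k → k ∈ T) →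
      Q (insert m T) → Q T) : Q ∅ := by
  classical
  have key : ∀ n, ∀ T : Finset ι, T.card = n → (T : Set ι) ⊆ S → (∀ r ∈ T, ∀ k ∈ S, r < k → k ∈ T) →
      Q T → Q ∅ := by
    intro n
    induction n with
    | zero =>
      intro T hT _ _ hQ
      rw [card_eq_zero] at hT
      simpa [hT] using hQ
    | succ n ih =>
      intro T hT hTS hup hQ
      have hne : T.Nonempty := card_pos.1 (by omega)
      set m := T.min' hne with hm
      have hmT : m ∈ T := T.min'_mem hne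
      refine ih (T.erase m) (by rw [card_erase_of_mem hmT]; omega)
        (fun r hr => hTS (mem_of_mem_erase hr)) ?_ ?_
      · intro r hr k hk hrk
        refine mem_erase.2 ⟨?_, hup r (mem_of_mem_erase hr) k hk hrk⟩
        exact (lt_of_le_of_lt (T.min'_le r (mem_of_mem_erase hr)) hrk).ne'
      · refine hstep m _ (hTS hmT) (fun r hr => hTS (mem_of_mem_erase hr)) ?_ ?_ ?_
        · intro r hr
          rw [mem_coe, mem_erase] at hr
          exact lt_of_le_of_ne (T.min'_le r hr.2) (Ne.symm hr.1)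
        · intro k hk hmk
          exact mem_coe.2 (mem_erase.2 ⟨hmk.ne', hup m hmT k hk hmk⟩)
        · rwa [← coe_insert, insert_erase hmT]
  refine key _ (univ.filter (· ∈ S)) rfl (fun r hr => by simpa using hr) (fun r _ k hk _ => by simpa using hk) ?_
  simpa using h0

/-- Existence of the normal form, in any order. -/
theorem exists_P {S : Set ι} (hS : R.Closed S) (hpos : ∀ r ∈ S, R.Pos r) {L : List ι} (hL : L.Nodup)
    (hLS : ∀ r, r ∈ L ↔ r ∈ S) {g : G} (hg : g ∈ X.XS S) : ∃ t, g = X.P L t := by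
  have := upper_induction (S := S) (Q := fun T => ∃ t, ∃ y ∈ X.XS T, g = X.P L t * y)
    ⟨0, g, hg, by simp [P_zero]⟩ (by
      rintro m T hm hTS hmT hup ⟨t, y, hy, rfl⟩
      have hT : ∀ r ∈ T, ∀ k ∈ S, r < k → k ∈ T := fun r hr k hk h => hup k hk ((hmT r hr).trans h)
      obtain ⟨a, y', hy', rfl⟩ := X.mem_XS_insert hS hpos hTS hT hm hy
      obtain ⟨z, hz, h⟩ := X.P_mul_x hS hpos hTS hT hup hL (fun r => (hLS r).1) ((hLS m).2 hm) t a
      exact ⟨_, z * y', mul_mem hz hy', by rw [← mul_assoc, h, mul_assoc]⟩)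
  obtain ⟨t, y, hy, rfl⟩ := this
  rw [XS_empty, Subgroup.mem_bot] at hy
  exact ⟨t, by simp [hy]⟩

/-- `X_{S₁ ∪ S₂} = X_{S₁} X_{S₂}`. -/
theorem exists_mul_of_union {S S₁ S₂ : Set ι} (hS : R.Closed S) (hpos : ∀ r ∈ S, R.Pos r)
    (h : ∀ r ∈ S, r ∈ S₁ ∨ r ∈ S₂) {g : G} (hg : g ∈ X.XS S) :
    ∃ a ∈ X.XS (S ∩ S₁), ∃ b ∈ X.XS (S ∩ S₂), g = a * b := by
  classical
  obtain ⟨t, rfl⟩ := X.exists_P hS hpos
    (L := (univ.filter fun r => r ∈ S ∧ r ∈ S₁).toList ++ (univ.filter fun r => r ∈ S ∧ r ∉ S₁).toList)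
    (by
      rw [List.nodup_append]
      refine ⟨nodup_toList _, nodup_toList _, ?_⟩
      simp only [mem_toList, mem_filter, mem_univ, true_and]
      rintro a ha b hb rfl
      exact hb.2 ha.2)
    (by intro r; simp only [List.mem_append, mem_toList, mem_filter, mem_univ, true_and]; tauto) hg
  refine ⟨_, X.P_mem ?_ t, _, X.P_mem ?_ t, X.P_append _ _ t⟩
  · intro r hr; simpa using hr
  · intro r hr
    simp only [mem_toList, mem_filter, mem_univ, true_and] at hr
    exact ⟨hr.1, (h r hr.1).resolve_left hr.2⟩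

/-- Non-degeneracy of the filtration of `U`. -/
def ND (X : WRG R K G) : Prop := ∀ r a, R.Pos r → X.x r a ∈ X.XS {s | r < s} → a = 0

/-- Uniqueness of the normal form, in any order. -/
theorem P_injective (hnd : X.ND) {S : Set ι} (hS : R.Closed S) (hpos : ∀ r ∈ S, R.Pos r) {L : List ι}
    (hL : L.Nodup) (hLS : ∀ r ∈ L, r ∈ S) {t t' : ι → K} (h : X.P L t = X.P L t') :
    ∀ r ∈ L, t r = t' r := by
  classical
  have := upper_induction (S := S) (Q := fun T => ∀ r ∈ L, r ∉ T → t r = t' r)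
    (fun r hr h => absurd (hLS r hr) h) (by
      intro m T hm hTS hmT hup hQ r hr hrT
      by_cases hrm : r = m
      swap
      · exact hQ r hr (by simp [hrm, hrT])
      subst hrm
      have hT : ∀ r ∈ T, ∀ k ∈ S, r < k → k ∈ T := fun r hr k hk h => hup k hk ((hmT r hr).trans h)
      obtain ⟨y, hy, h1⟩ := X.P_mul_x hS hpos hTS hT hup hL hLS hr t (t' r - t r)
      obtain ⟨z, hz, h2⟩ := X.P_congr_mod hS hpos hTS hT hLS
        (t := Function.update t r (t r + (t' r - t r))) (t' := t') (by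
          intro s hs hsT
          by_cases hsr : s = r
          · subst hsr; simp
          · rw [Function.update_of_ne hsr]; exact hQ s hs (by simp [hsr, hsT]))
      rw [h2, h, mul_assoc, mul_right_inj] at h1
      have := hnd r (t' r - t r) (hpos r hm) (h1 ▸ X.XS_mono hmT (mul_mem hz hy))
      exact (sub_eq_zero.1 this).symm)
  exact fun r hr => this r hr (by simp)

omit [Fintype ι] in
theorem ND.x_eq_one {X : WRG R K G} (hnd : X.ND) {r : ι} (hr : R.Pos r) {a : K} (h : X.x r a = 1) : a = 0 :=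
  hnd r a hr (h ▸ one_mem _)

/-- the list of all positive roots -/
noncomputable def posList (R : RS ι Λ) : List ι := (univ.filter R.Pos).toList

theorem mem_posList {r : ι} : r ∈ posList R ↔ R.Pos r := by simp [posList]

theorem nodup_posList : (posList R).Nodup := nodup_toList _

theorem exists_P_of_subset {S : Set ι} (hS : R.Closed S) (hpos : ∀ r ∈ S, R.Pos r) {L : List ι}
    (hL : L.Nodup) (hLS : ∀ r ∈ S, r ∈ L) {g : G} (hg : g ∈ X.XS S) :
    ∃ t, (∀ r, r ∉ S → t r = 0) ∧ g = X.P L t := by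
  classical
  obtain ⟨t, rfl⟩ := X.exists_P hS hpos (L := L.filter (· ∈ S)) (hL.filter _)
    (fun r => by simp only [List.mem_filter, decide_eq_true_eq]; exact ⟨fun h => h.2, fun h => ⟨hLS r h, h⟩⟩) hg
  exact ⟨_, fun r hr => by simp [hr], X.P_filter L _ t⟩

theorem XS_inf (hnd : X.ND) {S T : Set ι} (hS : R.Closed S) (hT : R.Closed T) (hSp : ∀ r ∈ S, R.Pos r)
    (hTp : ∀ r ∈ T, R.Pos r) : X.XS S ⊓ X.XS T = X.XS (S ∩ T) := by
  refine le_antisymm ?_ (le_inf (X.XS_mono Set.inter_subset_left) (X.XS_mono Set.inter_subset_right))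
  rintro g ⟨h1, h2⟩
  obtain ⟨t, ht, h3⟩ := X.exists_P_of_subset hS hSp nodup_posList (fun r hr => mem_posList.2 (hSp r hr)) h1
  obtain ⟨t', ht', h4⟩ := X.exists_P_of_subset hT hTp nodup_posList (fun r hr => mem_posList.2 (hTp r hr)) h2
  have h5 := X.P_injective hnd R.closed_pos (fun _ h => h) nodup_posList (fun r => mem_posList.1)
    (h3.symm.trans h4)
  rw [h3]
  refine X.P_mem_of fun r hr => ?_
  by_cases hrS : r ∈ S
  · by_cases hrT : r ∈ T
    · exact Or.inl ⟨hrS, hrT⟩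
    · exact Or.inr ((h5 r hr).trans (ht' r hrT))
  · exact Or.inr (ht r hrS)

theorem mem_of_x_mem_XS (hnd : X.ND) {T : Set ι} (hT : R.Closed T) (hTp : ∀ r ∈ T, R.Pos r) {r : ι}
    (hr : R.Pos r) {a : K} (ha : a ≠ 0) (h : X.x r a ∈ X.XS T) : r ∈ T := by
  by_contra hrT
  obtain ⟨t', ht', h4⟩ := X.exists_P_of_subset hT hTp nodup_posList (fun r hr => mem_posList.2 (hTp r hr)) h
  classical
  have h3 : X.x r a = X.P (posList R) (fun s => if s = r then a else 0) := by
    rw [← X.P_filter (posList R) (· = r) (fun _ => a)]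
    have : (posList R).filter (· = r) = [r] := by
      rw [List.filter_eq, List.count_eq_one_of_mem nodup_posList (mem_posList.2 hr)]; rfl
    simp [this]
  have h5 := X.P_injective hnd R.closed_pos (fun _ h => h) nodup_posList (fun r => mem_posList.1)
    (h3.symm.trans h4) r (mem_posList.2 hr)
  simp only [if_true, ht' r hrT] at h5
  exact ha h5

/-- Coordinates on `X_S`. -/
noncomputable def XSEquiv (hnd : X.ND) {S : Finset ι} (hS : R.Closed (S : Set ι))
    (hpos : ∀ r ∈ S, R.Pos r) : (S → K) ≃ X.XS S := by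
  classical
  refine Equiv.ofBijective (fun t => ⟨X.P S.toList (fun r => if h : r ∈ S then t ⟨r, h⟩ else 0),
    X.P_mem (fun r hr => by simpa using hr) _⟩) ⟨fun t t' h => ?_, fun g => ?_⟩
  · have := X.P_injective hnd hS hpos (nodup_toList S) (fun r hr => by simpa using hr) (congrArg Subtype.val h)
    ext r
    simpa using this r (by simp)
  · obtain ⟨t, ht⟩ := X.exists_P hS hpos (nodup_toList S) (fun r => by simp) g.2
    refine ⟨fun r => t r, Subtype.ext ?_⟩
    rw [ht]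
    exact X.P_congr fun r hr => by rw [dif_pos (by simpa using hr)]

theorem card_XS (hnd : X.ND) {S : Finset ι} (hS : R.Closed (S : Set ι)) (hpos : ∀ r ∈ S, R.Pos r) :
    Nat.card (X.XS S) = Nat.card K ^ S.card := by
  rw [← Nat.card_congr (X.XSEquiv hnd hS hpos), Nat.card_fun]
  simp

omit [Fintype ι] in
/-- Transport of root elements along an element of the Weyl group. -/
def comap (w : Equiv.Perm ι) (hw : w ∈ R.W) : WRG R K G where
  x r := X.x (w r)
  x_add r := X.x_add (w r)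
  comm r s h t u := by
    refine Subgroup.closure_mono ?_ (X.comm (w r) (w s) (by rw [← RS.W_neg hw]; simpa using h) t u)
    rintro _ ⟨k, hk, c, rfl⟩
    refine ⟨w⁻¹ k, ?_, c, by simp⟩
    simpa using hk.map (inv_mem hw)

omit [Fintype ι] in
theorem comap_XS (w : Equiv.Perm ι) (hw : w ∈ R.W) (S : Set ι) : (X.comap w hw).XS S = X.XS (w '' S) := by
  unfold XS
  congr 1
  ext g
  constructor
  · rintro ⟨r, hr, t, rfl⟩; exact ⟨w r, ⟨r, hr, rfl⟩, t, rfl⟩
  · rintro ⟨_, ⟨r, hr, rfl⟩, t, rfl⟩; exact ⟨r, hr, t, rfl⟩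

omit [Fintype ι] in
/-- Image of root elements under a homomorphism. -/
def map {G' : Type*} [Group G'] (f : G →* G') : WRG R K G' where
  x r t := f (X.x r t)
  x_add r t u := by rw [X.x_add, map_mul]
  comm r s h t u := by
    have := Subgroup.mem_map_of_mem f (X.comm r s h t u)
    rw [MonoidHom.map_closure] at this
    simp only [map_mul, map_inv] at this
    refine Subgroup.closure_mono ?_ this
    rintro _ ⟨_, ⟨k, hk, c, rfl⟩, rfl⟩
    exact ⟨k, hk, c, rfl⟩

omit [Fintype ι] in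
theorem map_XS_eq {G' : Type*} [Group G'] {Y : WRG R K G'} (f : G →* G') (hf : ∀ r t, f (X.x r t) = Y.x r t)
    (S : Set ι) : (X.XS S).map f = Y.XS S := by
  rw [XS, MonoidHom.map_closure, XS]
  congr 1
  ext g
  constructor
  · rintro ⟨_, ⟨r, hr, t, rfl⟩, rfl⟩; exact ⟨r, hr, t, hf r t⟩
  · rintro ⟨r, hr, t, rfl⟩; exact ⟨_, ⟨r, hr, t, rfl⟩, hf r t⟩

omit [Fintype ι] in
theorem map_P {G' : Type*} [Group G'] {Y : WRG R K G'} (f : G →* G') (hf : ∀ r t, f (X.x r t) = Y.x r t)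
    (L : List ι) (t : ι → K) : f (X.P L t) = Y.P L t := by
  induction L with
  | nil => simp
  | cons r L ih => simp [ih, hf]

end WRG

end H20
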