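import Mathlib
import Cfsg.Agent.H20.WRG

/-!
Root groups: the elements `n_r(t)`, `h_r(t)`, the subgroups `U, V, H, N, B`, the action of `N` on the
roots, the torus `hmap`.
-/

set_option autoImplicit false

namespace H20

open Finset

variable {ι Λ : Type} [LinearOrder ι] [Fintype Λ] [DecidableEq Λ]

namespace WRG

variable {R : RS ι Λ} {K : Type*} [Field K] {G : Type*} [Group G] (X : WRG R K G)

def n (r : ι) (t : K) : G := X.x r t * X.x (R.neg r) (-t⁻¹) * X.x r t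
def h (r : ι) (t : K) : G := X.n r t * X.n r (-1)
def U : Subgroup G := X.XS {r | R.Pos r}
def V : Subgroup G := X.XS {r | ¬R.Pos r}
def H : Subgroup G := Subgroup.closure {g | ∃ r t, t ≠ 0 ∧ g = X.h r t}
def N : Subgroup G := X.H ⊔ Subgroup.closure {g | ∃ r, g = X.n r 1}
def B : Subgroup G := X.U ⊔ X.H
def grp : Subgroup G := X.XS Set.univ

theorem n_inv (r : ι) (t : K) : (X.n r t)⁻¹ = X.n r (-t) := by
  simp [n, x_inv, mul_assoc]

theorem h_one (r : ι) : X.h r 1 = 1 := by rw [h, ← n_inv, mul_inv_cancel]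

theorem n_eq_h_mul (r : ι) (t : K) : X.n r t = X.h r t * X.n r 1 := by
  rw [h, ← n_inv]; group

theorem x_mem_grp (r : ι) (t : K) : X.x r t ∈ X.grp := X.x_mem_XS (Set.mem_univ r) t

theorem n_mem_XS {S : Set ι} {r : ι} (hr : r ∈ S) (hr' : R.neg r ∈ S) (t : K) : X.n r t ∈ X.XS S :=
  mul_mem (mul_mem (X.x_mem_XS hr _) (X.x_mem_XS hr' _)) (X.x_mem_XS hr _)

theorem h_mem_XS {S : Set ι} {r : ι} (hr : r ∈ S) (hr' : R.neg r ∈ S) (t : K) : X.h r t ∈ X.XS S :=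
  mul_mem (X.n_mem_XS hr hr' _) (X.n_mem_XS hr hr' _)

theorem XS_le_grp (S : Set ι) : X.XS S ≤ X.grp := X.XS_mono (Set.subset_univ S)

theorem h_mem_H (r : ι) {t : K} (ht : t ≠ 0) : X.h r t ∈ X.H := Subgroup.subset_closure ⟨r, t, ht, rfl⟩

theorem H_le_iff {M : Subgroup G} : X.H ≤ M ↔ ∀ r t, t ≠ 0 → X.h r t ∈ M := by
  rw [H, Subgroup.closure_le]
  exact ⟨fun h r t ht => h ⟨r, t, ht, rfl⟩, by rintro h _ ⟨r, t, ht, rfl⟩; exact h r t ht⟩

theorem H_le_N : X.H ≤ X.N := le_sup_left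
theorem H_le_B : X.H ≤ X.B := le_sup_right
theorem U_le_B : X.U ≤ X.B := le_sup_left

theorem n_mem_N (r : ι) {t : K} (ht : t ≠ 0) : X.n r t ∈ X.N := by
  rw [n_eq_h_mul]
  exact mul_mem (X.H_le_N (X.h_mem_H r ht)) (Subgroup.mem_sup_right (Subgroup.subset_closure ⟨r, rfl⟩))

theorem N_le_iff {M : Subgroup G} : X.N ≤ M ↔ ∀ r t, t ≠ 0 → X.n r t ∈ M := by
  refine ⟨fun h r t ht => h (X.n_mem_N r ht), fun h => sup_le (X.H_le_iff.2 fun r t ht => ?_) ?_⟩
  · exact mul_mem (h r t ht) (h r _ (by simp))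
  · rw [Subgroup.closure_le]; rintro _ ⟨r, rfl⟩; exact h r 1 one_ne_zero

theorem H_le_grp : X.H ≤ X.grp := X.H_le_iff.2 fun _ t _ => X.h_mem_XS (Set.mem_univ _) (Set.mem_univ _) t
theorem N_le_grp : X.N ≤ X.grp := X.N_le_iff.2 fun _ t _ => X.n_mem_XS (Set.mem_univ _) (Set.mem_univ _) t
theorem U_le_grp : X.U ≤ X.grp := X.XS_le_grp _
theorem V_le_grp : X.V ≤ X.grp := X.XS_le_grp _
theorem B_le_grp : X.B ≤ X.grp := sup_le X.U_le_grp X.H_le_grp

theorem U_sup_V : X.U ⊔ X.V = X.grp := by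
  rw [U, V, ← XS_union, grp]; congr 1; ext r; simp [em]

/-- `g` permutes the root subgroups according to `w`, with scalars `c`. -/
structure ActsBy (g : G) (w : Equiv.Perm ι) (c : ι → K) : Prop where
  mem : w ∈ R.W
  inv : ∀ r, c r * c (R.neg r) = 1
  conj : ∀ r u, g * X.x r u * g⁻¹ = X.x (w r) (c r * u)

/-- `g` permutes the root subgroups according to `w`. -/
def Acts (g : G) (w : Equiv.Perm ι) : Prop := ∃ c, X.ActsBy g w c

variable {X}

theorem ActsBy.ne_zero {g : G} {w : Equiv.Perm ι} {c : ι → K} (h : X.ActsBy g w c) (r : ι) : c r ≠ 0 :=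
  left_ne_zero_of_mul_eq_one (h.inv r)

theorem actsBy_one : X.ActsBy 1 1 fun _ => 1 := ⟨one_mem _, by simp, by simp⟩

theorem ActsBy.mul {g g' : G} {w w' : Equiv.Perm ι} {c c' : ι → K} (h : X.ActsBy g w c)
    (h' : X.ActsBy g' w' c') : X.ActsBy (g * g') (w * w') fun r => c (w' r) * c' r := by
  refine ⟨mul_mem h.mem h'.mem, fun r => ?_, fun r u => ?_⟩
  · rw [RS.W_neg h'.mem]
    linear_combination c (w' r) * c (R.neg (w' r)) * h'.inv r + h.inv (w' r)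
  · have : g * g' * X.x r u * (g * g')⁻¹ = g * (g' * X.x r u * g'⁻¹) * g⁻¹ := by group
    rw [this, h'.conj, h.conj, mul_assoc]; rfl

theorem ActsBy.symm {g : G} {w : Equiv.Perm ι} {c : ι → K} (h : X.ActsBy g w c) :
    X.ActsBy g⁻¹ w⁻¹ fun r => (c (w⁻¹ r))⁻¹ := by
  refine ⟨inv_mem h.mem, fun r => ?_, fun r u => ?_⟩
  · rw [RS.W_neg (inv_mem h.mem), ← mul_inv, h.inv, inv_one]
  · have := h.conj (w⁻¹ r) ((c (w⁻¹ r))⁻¹ * u)
    rw [mul_inv_cancel_left₀ (h.ne_zero _)] at this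
    simp only [Equiv.Perm.coe_inv, Equiv.apply_symm_apply] at this
    rw [← this]; simp [mul_assoc]

theorem Acts.mem {g : G} {w : Equiv.Perm ι} (h : X.Acts g w) : w ∈ R.W := h.choose_spec.mem

theorem acts_one : X.Acts 1 1 := ⟨_, actsBy_one⟩

theorem Acts.mul {g g' : G} {w w' : Equiv.Perm ι} (h : X.Acts g w) (h' : X.Acts g' w') :
    X.Acts (g * g') (w * w') := ⟨_, h.choose_spec.mul h'.choose_spec⟩

theorem Acts.inv {g : G} {w : Equiv.Perm ι} (h : X.Acts g w) : X.Acts g⁻¹ w⁻¹ := ⟨_, h.choose_spec.symm⟩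

theorem Acts.conj_x {g : G} {w : Equiv.Perm ι} (h : X.Acts g w) (r : ι) :
    ∃ c, c ≠ 0 ∧ ∀ u, g * X.x r u * g⁻¹ = X.x (w r) (c * u) :=
  ⟨_, h.choose_spec.ne_zero r, h.choose_spec.conj r⟩

theorem Acts.conj_mem {g : G} {w : Equiv.Perm ι} (h : X.Acts g w) {S T : Set ι} (hST : ∀ r ∈ S, w r ∈ T)
    {a : G} (ha : a ∈ X.XS S) : g * a * g⁻¹ ∈ X.XS T := by
  refine X.conj_mem_of_gen (fun r hr t => ?_) ha
  obtain ⟨c, -, hc⟩ := h.conj_x r
  rw [hc]; exact X.x_mem_XS (hST r hr) _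

theorem Acts.conj_mem' {g : G} {w : Equiv.Perm ι} (h : X.Acts g w) {S T : Set ι}
    (hST : ∀ r ∈ S, w⁻¹ r ∈ T) {a : G} (ha : a ∈ X.XS S) : g⁻¹ * a * g ∈ X.XS T := by
  simpa using h.inv.conj_mem hST ha

theorem Acts.map_XS {g : G} {w : Equiv.Perm ι} (h : X.Acts g w) (S : Set ι) :
    (X.XS S).map (MulAut.conj g).toMonoidHom = X.XS (w '' S) := by
  apply le_antisymm
  · rintro _ ⟨a, ha, rfl⟩
    exact h.conj_mem (fun r hr => Set.mem_image_of_mem _ hr) ha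
  · intro a ha
    refine ⟨g⁻¹ * a * g, h.conj_mem' ?_ ha, by simp [mul_assoc]⟩
    rintro _ ⟨r, hr, rfl⟩; simpa using hr

theorem ActsBy.conj_n {g : G} {w : Equiv.Perm ι} {c : ι → K} (h : X.ActsBy g w c) (s : ι) (u : K) :
    g * X.n s u * g⁻¹ = X.n (w s) (c s * u) := by
  have h1 : g * X.n s u * g⁻¹ =
      (g * X.x s u * g⁻¹) * (g * X.x (R.neg s) (-u⁻¹) * g⁻¹) * (g * X.x s u * g⁻¹) := by
    rw [n]; group
  rw [h1, h.conj, h.conj, n, RS.W_neg h.mem, mul_inv, ← eq_inv_of_mul_eq_one_right (h.inv s)]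
  simp

theorem ActsBy.conj_P {g : G} {w : Equiv.Perm ι} {c : ι → K} (h : X.ActsBy g w c) (L : List ι)
    (t : ι → K) : g * X.P L t * g⁻¹ = X.P (L.map w) fun r => c (w⁻¹ r) * t (w⁻¹ r) := by
  induction L with
  | nil => simp
  | cons r L ih =>
    rw [List.map_cons, P_cons, P_cons, ← ih]
    simp only [Equiv.Perm.coe_inv, Equiv.symm_apply_apply]
    rw [← h.conj]; group

end WRG

/-- Root elements satisfying all of Steinberg's relations and their standard consequences. -/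
structure SRG (R : RS ι Λ) (K : Type*) [Field K] (G : Type*) [Group G] extends WRG R K G where
  η : ι → ι → K
  η_sq : ∀ r s, η r s * η r s = 1
  η_neg : ∀ r s, η r (R.neg s) = η r s
  η_rf : ∀ r s, η r (R.rf r s) * η r s = (-1) ^ R.A r s
  conj_n : ∀ r s t u, t ≠ 0 → toWRG.n r t * x s u * (toWRG.n r t)⁻¹ = x (R.rf r s) (η r s * t ^ (-R.A r s) * u)
  h_mul : ∀ r t u, t ≠ 0 → u ≠ 0 → toWRG.h r t * toWRG.h r u = toWRG.h r (t * u)

namespace SRG

open WRG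

variable {R : RS ι Λ} {K : Type*} [Field K] {G : Type*} [Group G] (X : SRG R K G)

theorem actsBy_n (r : ι) {t : K} (ht : t ≠ 0) :
    X.ActsBy (X.n r t) (R.rf r) fun s => X.η r s * t ^ (-R.A r s) := by
  refine ⟨R.rf_mem_W r, fun s => ?_, fun s u => X.conj_n r s t u ht⟩
  rw [X.η_neg, RS.A_neg_right, neg_neg, zpow_neg]
  have := zpow_ne_zero (R.A r s) ht
  field_simp
  linear_combination X.η_sq r s

theorem acts_n (r : ι) {t : K} (ht : t ≠ 0) : X.Acts (X.n r t) (R.rf r) := ⟨_, X.actsBy_n r ht⟩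

theorem acts_n_sim (i : Λ) {t : K} (ht : t ≠ 0) : X.Acts (X.n (R.sim i) t) (R.s i) :=
  R.rf_sim i ▸ X.acts_n _ ht

theorem actsBy_h (r : ι) {t : K} (ht : t ≠ 0) : X.ActsBy (X.h r t) 1 fun s => t ^ R.A r s := by
  have := (X.actsBy_n r ht).mul (X.actsBy_n r (t := -1) (by simp))
  rw [RS.rf_mul_rf] at this
  convert this using 2 with s
  · rfl
  rw [RS.A_rf_right, neg_neg]
  have h1 := X.η_rf r s
  have h2 : (-1 : K) ^ R.A r s * (-1) ^ (-R.A r s) = 1 := by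
    rw [← zpow_add₀ (by simp)]; simp
  linear_combination -(t ^ R.A r s) * h2 - t ^ R.A r s * (-1) ^ (-R.A r s) * h1

theorem h_conj_x (r s : ι) {t : K} (ht : t ≠ 0) (u : K) :
    X.h r t * X.x s u * (X.h r t)⁻¹ = X.x s (t ^ R.A r s * u) := (X.actsBy_h r ht).conj s u

theorem h_inv (r : ι) {t : K} (ht : t ≠ 0) : (X.h r t)⁻¹ = X.h r t⁻¹ := by
  rw [inv_eq_iff_mul_eq_one, X.h_mul r _ _ ht (inv_ne_zero ht), mul_inv_cancel₀ ht, h_one]

theorem n_mul_n (r : ι) {t u : K} (ht : t ≠ 0) (hu : u ≠ 0) : X.n r t * X.n r u = X.h r (-(t * u⁻¹)) := by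
  have h1 : X.n r u = (X.h r (-u) * X.n r 1)⁻¹ := by rw [← n_eq_h_mul, n_inv, neg_neg]
  rw [h1, n_eq_h_mul _ r t, mul_inv_rev, X.h_inv r (neg_ne_zero.2 hu)]
  rw [show -(t * u⁻¹) = t * (-u)⁻¹ by rw [inv_neg]; ring,
    ← X.h_mul r _ _ ht (inv_ne_zero (neg_ne_zero.2 hu))]
  group

variable {X} in
theorem ActsBy_conj_h {g : G} {w : Equiv.Perm ι} {c : ι → K} (h : X.ActsBy g w c) (s : ι) {u : K}
    (hu : u ≠ 0) : g * X.h s u * g⁻¹ = X.h (w s) u := by
  have h1 : g * X.h s u * g⁻¹ = (g * X.n s u * g⁻¹) * (g * X.n s (-1) * g⁻¹) := by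
    rw [WRG.h]; group
  have hc := h.ne_zero s
  rw [h1, h.conj_n, h.conj_n, X.n_mul_n _ (mul_ne_zero hc hu) (by simpa using hc)]
  congr 1
  field_simp

variable {X} in
theorem Acts_conj_h {g : G} {w : Equiv.Perm ι} (h : X.Acts g w) (s : ι) {u : K}
    (hu : u ≠ 0) : g * X.h s u * g⁻¹ = X.h (w s) u := ActsBy_conj_h h.choose_spec s hu

theorem h_comm (r s : ι) {t u : K} (ht : t ≠ 0) (hu : u ≠ 0) : X.h r t * X.h s u = X.h s u * X.h r t := by
  have := ActsBy_conj_h (X.actsBy_h r ht) s hu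
  rw [← mul_inv_eq_iff_eq_mul, this]; rfl

theorem n_neg (r : ι) {t : K} (ht : t ≠ 0) : X.n r t = X.n (R.neg r) (X.η r r * t⁻¹) := by
  have := (X.actsBy_n r ht).conj_n r t
  rw [mul_inv_cancel_right, RS.rf_self, RS.A_self] at this
  rw [this]; congr 1
  rw [zpow_neg, zpow_ofNat]; field_simp

theorem η_ne_zero (r s : ι) : X.η r s ≠ 0 := left_ne_zero_of_mul_eq_one (X.η_sq r s)

theorem h_neg (r : ι) {t : K} (ht : t ≠ 0) : X.h (R.neg r) t = X.h r t⁻¹ := by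
  have h0 := X.η_ne_zero (R.neg r) (R.neg r)
  rw [WRG.h, X.n_neg _ ht, X.n_neg (R.neg r) (t := -1) (by simp), R.neg_neg,
    X.n_mul_n _ (mul_ne_zero h0 (inv_ne_zero ht)) (by simpa using h0)]
  congr 1
  field_simp

theorem h_rf (r s : ι) {u : K} (hu : u ≠ 0) : X.h (R.rf r s) u = X.h s u * X.h r (u ^ (-R.A s r)) := by
  have h1 := ActsBy_conj_h (X.actsBy_n r one_ne_zero) s hu
  have h2 := (X.actsBy_h s (inv_ne_zero hu)).conj_n r 1
  rw [← X.h_inv s hu, inv_inv] at h2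
  rw [← h1, WRG.h.eq_1 _ r, ← n_inv, zpow_neg, ← inv_zpow, ← mul_one (u⁻¹ ^ _)]
  simp only [Equiv.Perm.coe_one, id_eq] at h2
  rw [← h2]; group

/-- `t ↦ h_r(t)` as a homomorphism. -/
def hs (r : ι) : Kˣ →* G where
  toFun t := X.h r t
  map_one' := X.h_one r
  map_mul' t u := (X.h_mul r _ _ t.ne_zero u.ne_zero).symm

/-- The torus `(c_i) ↦ ∏ h_{p_i}(c_i)`. -/
noncomputable def hmap : (Λ → Kˣ) →* G :=
  MonoidHom.noncommPiCoprod (fun i => X.hs (R.sim i)) fun _ _ _ t u => X.h_comm _ _ t.ne_zero u.ne_zero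

theorem hmap_single (i : Λ) (t : Kˣ) : X.hmap (Pi.mulSingle i t) = X.h (R.sim i) t :=
  MonoidHom.noncommPiCoprod_mulSingle _ _ _

theorem h_eq_hmap (r : ι) (t : Kˣ) : X.h r t = X.hmap fun i => t ^ R.co r i := by
  have key : ∀ r, R.Pos r → ∀ t : Kˣ, X.h r t = X.hmap fun i => t ^ R.co r i := by
    refine R.pos_induction (fun i t => ?_) fun i r _ _ _ _ ih t => ?_
    · rw [← hmap_single]; congr 1; ext1 j
      by_cases h : j = i
      · subst h; simp [RS.co_sim]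
      · simp [RS.co_sim, h]
    · have h1 := X.h_rf (R.sim i) (R.sr i r) t.ne_zero
      rw [RS.rf_sim, RS.s_apply, RS.sr_sr, ih, ← Units.val_zpow_eq_zpow_val, ← hmap_single, ← map_mul] at h1
      rw [h1]; congr 1; ext1 j
      have h2 := R.co_sr i (R.sr i r)
      rw [RS.sr_sr] at h2
      rw [h2]
      by_cases h : j = i
      · subst h; simp [zpow_sub]
      · simp [h]
  by_cases hr : R.Pos r
  · exact key r hr t
  · have := key _ (R.pos_neg_iff.2 hr) t⁻¹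
    rw [X.h_neg _ (Units.ne_zero _)] at this
    simpa [RS.co_neg] using this

theorem H_eq_range : X.H = X.hmap.range := by
  apply le_antisymm
  · refine X.H_le_iff.2 fun r t ht => ⟨_, (X.h_eq_hmap r (Units.mk0 t ht)).symm⟩
  · rintro _ ⟨c, rfl⟩
    induction c using Pi.mulSingle_induction with
    | one => simp
    | mul f g hf hg => rw [map_mul]; exact mul_mem hf hg
    | mulSingle i t => rw [hmap_single]; exact X.h_mem_H _ t.ne_zero

theorem hmap_mem_H (c : Λ → Kˣ) : X.hmap c ∈ X.H := X.H_eq_range ▸ ⟨c, rfl⟩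

theorem mem_H_iff {g : G} : g ∈ X.H ↔ ∃ c, X.hmap c = g := by rw [H_eq_range]; rfl

theorem H_comm {a b : G} (ha : a ∈ X.H) (hb : b ∈ X.H) : a * b = b * a := by
  obtain ⟨c, rfl⟩ := X.mem_H_iff.1 ha
  obtain ⟨d, rfl⟩ := X.mem_H_iff.1 hb
  rw [← map_mul, ← map_mul, mul_comm]

end SRG

/-- The character of the torus attached to a root. -/
def RS.chi (R : RS ι Λ) {K : Type*} [Field K] (s : ι) : (Λ → Kˣ) →* Kˣ where
  toFun c := ∏ i, c i ^ R.ca i s
  map_one' := by simp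
  map_mul' c d := by simp [mul_zpow, prod_mul_distrib]

theorem RS.chi_apply (R : RS ι Λ) {K : Type*} [Field K] (s : ι) (c : Λ → Kˣ) :
    R.chi s c = ∏ i, c i ^ R.ca i s := rfl

theorem RS.chi_single (R : RS ι Λ) {K : Type*} [Field K] (s : ι) (i : Λ) (t : Kˣ) :
    R.chi s (Pi.mulSingle i t) = t ^ R.ca i s := by
  rw [chi_apply, prod_eq_single i (fun j _ hj => by simp [hj]) (by simp)]; simp

theorem RS.chi_neg (R : RS ι Λ) {K : Type*} [Field K] (s : ι) (c : Λ → Kˣ) :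
    R.chi (R.neg s) c = (R.chi s c)⁻¹ := by
  simp [chi_apply, ca_neg]

theorem RS.chi_eq_prod (R : RS ι Λ) {K : Type*} [Field K] (s : ι) (c : Λ → Kˣ) :
    R.chi s c = ∏ j, R.chi (R.sim j) c ^ R.rt s j := by
  simp only [chi_apply, ← prod_zpow, ← zpow_mul]
  rw [prod_comm]
  refine prod_congr rfl fun i _ => ?_
  rw [R.ca_lin]
  simp only [mul_comm (R.ca _ _)]
  induction (univ : Finset Λ) using Finset.cons_induction with
  | empty => simp
  | cons a s ha ih => rw [sum_cons, prod_cons, zpow_add, ih]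

namespace SRG

open WRG

variable {R : RS ι Λ} {K : Type*} [Field K] {G : Type*} [Group G] (X : SRG R K G)

theorem actsBy_hmap (c : Λ → Kˣ) : X.ActsBy (X.hmap c) 1 fun s => R.chi s c := by
  induction c using Pi.mulSingle_induction with
  | one => simpa using actsBy_one
  | mul f g hf hg => simpa using hf.mul hg
  | mulSingle i t =>
    simpa [hmap_single, RS.chi_single, RS.A_sim] using X.actsBy_h (R.sim i) t.ne_zero

theorem acts_of_mem_H {g : G} (hg : g ∈ X.H) : X.Acts g 1 := by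
  obtain ⟨c, rfl⟩ := X.mem_H_iff.1 hg
  exact ⟨_, X.actsBy_hmap c⟩

theorem H_conj_mem {g : G} (hg : g ∈ X.H) {S : Set ι} {a : G} (ha : a ∈ X.XS S) : g * a * g⁻¹ ∈ X.XS S :=
  (X.acts_of_mem_H hg).conj_mem (fun _ hr => hr) ha

theorem H_conj_mem' {g : G} (hg : g ∈ X.H) {S : Set ι} {a : G} (ha : a ∈ X.XS S) : g⁻¹ * a * g ∈ X.XS S :=
  (X.acts_of_mem_H hg).conj_mem' (fun _ hr => hr) ha

theorem H_le_normalizer (S : Set ι) : X.H ≤ Subgroup.normalizer (X.XS S : Set G) := by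
  intro a ha
  rw [Subgroup.mem_normalizer_iff]
  refine fun g => ⟨fun hg => X.H_conj_mem ha hg, fun hg => ?_⟩
  simpa [mul_assoc] using X.H_conj_mem' ha hg

variable {X} in
theorem Acts_conj_H {g : G} {w : Equiv.Perm ι} (h : X.Acts g w) {a : G} (ha : a ∈ X.H) :
    g * a * g⁻¹ ∈ X.H := by
  have : X.H ≤ X.H.comap (MulAut.conj g).toMonoidHom := X.H_le_iff.2 fun r t ht => by
    simp only [Subgroup.mem_comap, MulEquiv.toMonoidHom_eq_coe, MonoidHom.coe_coe, MulAut.conj_apply]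
    rw [Acts_conj_h h r ht]; exact X.h_mem_H _ ht
  exact this ha

theorem exists_acts_of_mem_N {g : G} (hg : g ∈ X.N) : ∃ w, X.Acts g w := by
  let M : Subgroup G :=
    { carrier := {g | ∃ w, X.Acts g w}
      one_mem' := ⟨1, acts_one⟩
      mul_mem' := fun ⟨_, h⟩ ⟨_, h'⟩ => ⟨_, h.mul h'⟩
      inv_mem' := fun ⟨_, h⟩ => ⟨_, h.inv⟩ }
  exact (X.N_le_iff (M := M)).2 (fun r t ht => ⟨_, X.acts_n r ht⟩) hg

theorem N_conj_H {g a : G} (hg : g ∈ X.N) (ha : a ∈ X.H) : g * a * g⁻¹ ∈ X.H :=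
  Acts_conj_H (X.exists_acts_of_mem_N hg).choose_spec ha

theorem N_conj_H' {g a : G} (hg : g ∈ X.N) (ha : a ∈ X.H) : g⁻¹ * a * g ∈ X.H := by
  simpa using X.N_conj_H (inv_mem hg) ha

theorem H_normal_N : (X.H.subgroupOf X.N).Normal :=
  ⟨fun _ ha g => X.N_conj_H g.2 ha⟩

theorem mem_XS_sup_H {S : Set ι} {g : G} : g ∈ X.XS S ⊔ X.H ↔ ∃ u ∈ X.XS S, ∃ a ∈ X.H, g = u * a := by
  refine ⟨fun hg => ?_, by
    rintro ⟨u, hu, a, ha, rfl⟩; exact mul_mem (Subgroup.mem_sup_left hu) (Subgroup.mem_sup_right ha)⟩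
  let M : Subgroup G :=
    { carrier := {g | ∃ u ∈ X.XS S, ∃ a ∈ X.H, g = u * a}
      one_mem' := ⟨1, one_mem _, 1, one_mem _, by simp⟩
      mul_mem' := by
        rintro _ _ ⟨u, hu, a, ha, rfl⟩ ⟨u', hu', a', ha', rfl⟩
        exact ⟨u * (a * u' * a⁻¹), mul_mem hu (X.H_conj_mem ha hu'), a * a', mul_mem ha ha', by group⟩
      inv_mem' := by
        rintro _ ⟨u, hu, a, ha, rfl⟩
        exact ⟨a⁻¹ * u⁻¹ * a, X.H_conj_mem' ha (inv_mem hu), a⁻¹, inv_mem ha, by group⟩ }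
  exact (sup_le (fun u hu => ⟨u, hu, 1, one_mem _, by simp⟩) (fun a ha => ⟨1, one_mem _, a, ha, by simp⟩) :
    X.XS S ⊔ X.H ≤ M) hg

theorem mem_B_iff {g : G} : g ∈ X.B ↔ ∃ u ∈ X.U, ∃ a ∈ X.H, g = u * a := X.mem_XS_sup_H

/-- The product of the `n_{p_i}(1)` along a word. -/
def nw (l : List Λ) : G := (l.map fun i => X.n (R.sim i) 1).prod

@[simp] theorem nw_nil : X.nw [] = 1 := rfl
@[simp] theorem nw_cons (i : Λ) (l : List Λ) : X.nw (i :: l) = X.n (R.sim i) 1 * X.nw l := by simp [nw]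
@[simp] theorem nw_append (l l' : List Λ) : X.nw (l ++ l') = X.nw l * X.nw l' := by simp [nw]

theorem nw_mem_N (l : List Λ) : X.nw l ∈ X.N := by
  induction l with
  | nil => exact one_mem _
  | cons i l ih => rw [nw_cons]; exact mul_mem (X.n_mem_N _ one_ne_zero) ih

theorem nw_mem_XS {J : Set Λ} {l : List Λ} (hl : ∀ i ∈ l, i ∈ J) : X.nw l ∈ X.XS (R.Phi J) := by
  induction l with
  | nil => exact one_mem _
  | cons i l ih =>
    rw [nw_cons]
    have := RS.sim_mem_Phi (R := R).2 (hl i (by simp))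
    exact mul_mem (X.n_mem_XS this (RS.neg_mem_Phi.2 this) _) (ih fun j hj => hl j (by simp [hj]))

theorem acts_nw (l : List Λ) : X.Acts (X.nw l) (R.wp l) := by
  induction l with
  | nil => exact acts_one
  | cons i l ih => rw [nw_cons, RS.wp_cons]; exact (X.acts_n_sim i one_ne_zero).mul ih

theorem exists_N_acts {w : Equiv.Perm ι} (hw : w ∈ R.W) : ∃ g ∈ X.N, X.Acts g w := by
  obtain ⟨l, rfl⟩ := R.mem_W_iff.1 hw
  exact ⟨_, X.nw_mem_N l, X.acts_nw l⟩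

theorem exists_nw_of_mem_N {g : G} (hg : g ∈ X.N) : ∃ l, ∃ a ∈ X.H, g = X.nw l * a := by
  have hinv : ∀ l, ∃ l', ∃ a ∈ X.H, (X.nw l)⁻¹ = X.nw l' * a := by
    intro l
    induction l with
    | nil => exact ⟨[], 1, one_mem _, by simp⟩
    | cons i l ih =>
      obtain ⟨l', a, ha, h⟩ := ih
      refine ⟨l' ++ [i], (X.n (R.sim i) 1)⁻¹ * a * X.n (R.sim i) 1 * (X.n (R.sim i) 1 * X.n (R.sim i) 1)⁻¹,
        mul_mem (X.N_conj_H' (X.n_mem_N _ one_ne_zero) ha) (inv_mem ?_), ?_⟩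
      · rw [X.n_mul_n _ one_ne_zero one_ne_zero]; exact X.h_mem_H _ (by simp)
      · rw [nw_cons, mul_inv_rev, h]; simp [mul_assoc]
  let M : Subgroup G :=
    { carrier := {g | ∃ l, ∃ a ∈ X.H, g = X.nw l * a}
      one_mem' := ⟨[], 1, one_mem _, by simp⟩
      mul_mem' := by
        rintro _ _ ⟨l, a, ha, rfl⟩ ⟨l', a', ha', rfl⟩
        exact ⟨l ++ l', (X.nw l')⁻¹ * a * X.nw l' * a', mul_mem (X.N_conj_H' (X.nw_mem_N l') ha) ha',
          by rw [nw_append]; group⟩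
      inv_mem' := by
        rintro _ ⟨l, a, ha, rfl⟩
        obtain ⟨l', b, hb, h⟩ := hinv l
        exact ⟨l', (X.nw l')⁻¹ * a⁻¹ * X.nw l' * b, mul_mem (X.N_conj_H' (X.nw_mem_N l') (inv_mem ha)) hb,
          by rw [mul_inv_rev, h]; group⟩ }
  have hH : X.H ≤ M := fun a ha => ⟨[], a, ha, by simp⟩
  have hnw : ∀ l, X.nw l ∈ M := fun l => ⟨l, 1, one_mem _, by simp⟩
  refine (X.N_le_iff (M := M)).2 (fun r t ht => ?_) hg
  obtain ⟨w, hw, i, rfl⟩ := R.exists_W_sim r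
  obtain ⟨l, rfl⟩ := R.mem_W_iff.1 hw
  obtain ⟨c, hc⟩ := X.acts_nw l
  have := hc.conj_n (R.sim i) ((c (R.sim i))⁻¹ * t)
  rw [mul_inv_cancel_left₀ (hc.ne_zero _)] at this
  rw [← this, n_eq_h_mul]
  refine mul_mem (mul_mem (hnw l) (mul_mem (hH (X.h_mem_H _ ?_)) ?_)) (inv_mem (hnw l))
  · exact mul_ne_zero (inv_ne_zero (hc.ne_zero _)) ht
  · simpa using hnw [i]

theorem nw_mem_H [Fintype ι] {l : List Λ} (hl : R.wp l = 1) : X.nw l ∈ X.H := by
  have := X.H_normal_N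
  let ν : ι → X.N ⧸ X.H.subgroupOf X.N := fun r => QuotientGroup.mk ⟨X.n r 1, X.n_mem_N r one_ne_zero⟩
  have h := RS.word_eq_one ν (fun i => by
      rw [← QuotientGroup.mk_mul, QuotientGroup.eq_one_iff, Subgroup.mem_subgroupOf]
      change X.n _ 1 * X.n _ 1 ∈ _
      rw [X.n_mul_n _ one_ne_zero one_ne_zero]; exact X.h_mem_H _ (by simp))
    (fun i r => by
      rw [← QuotientGroup.mk_mul, ← QuotientGroup.mk_mul, eq_comm, QuotientGroup.eq, Subgroup.mem_subgroupOf]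
      change (X.n _ 1 * X.n _ 1)⁻¹ * (X.n _ 1 * X.n _ 1) ∈ _
      obtain ⟨c, hc⟩ := X.acts_n_sim i (t := 1) one_ne_zero
      have h1 := hc.conj_n r 1
      rw [mul_inv_eq_iff_eq_mul, mul_one, n_eq_h_mul _ (R.s i r)] at h1
      rw [h1]
      have := X.N_conj_H' (mul_mem (X.n_mem_N (R.s i r) one_ne_zero) (X.n_mem_N (R.sim i) one_ne_zero))
        (X.h_mem_H (R.s i r) (hc.ne_zero r))
      simpa [mul_assoc] using this) l hl
  have h2 : ∀ l : List Λ, (l.map fun i => ν (R.sim i)).prod = QuotientGroup.mk ⟨X.nw l, X.nw_mem_N l⟩ := by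
    intro l
    induction l with
    | nil => rfl
    | cons i l ih =>
      rw [List.map_cons, List.prod_cons, ih, ← QuotientGroup.mk_mul]
      congr 1
  rw [h2, QuotientGroup.eq_one_iff, Subgroup.mem_subgroupOf] at h
  exact h

/-- A subgroup containing `U` and the `n_p` contains everything. -/
theorem grp_le_of {M : Subgroup G} (hU : ∀ i t, X.x (R.sim i) t ∈ M) (hn : ∀ i, X.n (R.sim i) 1 ∈ M) :
    X.grp ≤ M := by
  have hnw : ∀ l, X.nw l ∈ M := by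
    intro l
    induction l with
    | nil => exact one_mem _
    | cons i l ih => rw [nw_cons]; exact mul_mem (hn i) ih
  refine X.XS_le_iff.2 fun r _ t => ?_
  obtain ⟨w, hw, i, rfl⟩ := R.exists_W_sim r
  obtain ⟨l, rfl⟩ := R.mem_W_iff.1 hw
  obtain ⟨c, hc, h⟩ := (X.acts_nw l).conj_x (R.sim i)
  have := h (c⁻¹ * t)
  rw [mul_inv_cancel_left₀ hc] at this
  rw [← this]
  exact mul_mem (mul_mem (hnw l) (hU i _)) (inv_mem (hnw l))

theorem grp_le_of_simple {M : Subgroup G} (hU : ∀ i t, X.x (R.sim i) t ∈ M)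
    (hV : ∀ i t, X.x (R.neg (R.sim i)) t ∈ M) : X.grp ≤ M :=
  X.grp_le_of hU fun i => mul_mem (mul_mem (hU i _) (hV i _)) (hU i _)

theorem B_sup_N : X.B ⊔ X.N = X.grp :=
  le_antisymm (sup_le X.B_le_grp X.N_le_grp) (X.grp_le_of
    (fun i t => Subgroup.mem_sup_left (X.U_le_B (X.x_mem_XS (R.pos_sim i) t)))
    fun _ => Subgroup.mem_sup_right (X.n_mem_N _ one_ne_zero))

end SRG

/-- A root group which is non-degenerate: the normal form in `U` is unique and `B ∩ V = 1`. -/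
structure RG (R : RS ι Λ) (K : Type*) [Field K] (G : Type*) [Group G] extends SRG R K G where
  nd1 : toWRG.ND
  nd2 : toWRG.B ⊓ toWRG.V = ⊥

end H20
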