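import Mathlib
import Cfsg.Agent.H20.RG
import Cfsg.Agent.H20.Good

/-!
The link between the abstract root groups and the subgroups of `Def_ChevStructure`.
-/

set_option autoImplicit false

namespace H20

open Finset Cfsg.Lie

/-- Steinberg's relations (R1), (R2) in the form given by the tables of `D`. -/
structure Rel (D : ChevalleyDatum) (K : Type*) [Field K] (G : Type*) [Group G] where
  x : ℕ → K → G
  x_add : ∀ r, r < D.nroots → ∀ t u, x r (t + u) = x r t * x r u
  comm : ∀ r s, r < D.nroots → s < D.nroots → s ≠ r → s ≠ D.neg r → ∀ t u,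
    x s u * x r t = x r t * x s u * ((D.commWord K r s t u).map fun p => x p.1 p.2).prod

namespace Rel

variable {D : ChevalleyDatum} {K : Type*} [Field K] {G : Type*} [Group G] (Y : Rel D K G)

theorem x_zero {r : ℕ} (hr : r < D.nroots) : Y.x r 0 = 1 := by
  have := Y.x_add r hr 0 0
  rw [add_zero] at this
  exact left_eq_mul.1 this

theorem x_inv {r : ℕ} (hr : r < D.nroots) (t : K) : (Y.x r t)⁻¹ = Y.x r (-t) := by
  rw [inv_eq_iff_mul_eq_one, ← Y.x_add r hr, add_neg_cancel, Y.x_zero hr]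

/-- The abstract root elements of a solution of the relations. -/
def toWRG (g : Good D) : WRG g.rs K G where
  x r := Y.x r
  x_add r := Y.x_add r r.2
  comm r s h t u := by
    by_cases hrs : s = r
    · subst hrs
      rw [← Y.x_add _ s.2, add_comm, Y.x_add _ s.2]
      simp
    have h1 := Y.comm r s r.2 s.2 (fun h' => hrs (Fin.ext h')) (fun h' => h (Fin.ext h')) (-t) (-u)
    rw [← Y.x_inv r.2, ← Y.x_inv s.2] at h1
    have h2 : Y.x r t * Y.x s u * (Y.x r t)⁻¹ * (Y.x s u)⁻¹ =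
        (((D.commWord K r s (-t) (-u)).map fun p => Y.x p.1 p.2).prod)⁻¹ := by
      rw [eq_inv_iff_mul_eq_one]
      calc _ = Y.x r t * Y.x s u * ((Y.x r t)⁻¹ * (Y.x s u)⁻¹ *
          ((D.commWord K r s (-t) (-u)).map fun p => Y.x p.1 p.2).prod) := by group
        _ = 1 := by rw [← h1]; group
    rw [h2]
    refine inv_mem (list_prod_mem ?_)
    intro a ha
    simp only [ChevalleyDatum.commWord, List.map_map, List.mem_map, Function.comp_apply] at ha
    obtain ⟨c, hc, rfl⟩ := ha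
    obtain ⟨hu, hcone⟩ := g.commTerms_cone hc
    exact Subgroup.subset_closure ⟨⟨c.1, hu⟩, hcone, _, rfl⟩

@[simp] theorem toWRG_x (g : Good D) (r : Fin D.nroots) (t : K) : (Y.toWRG g).x r t = Y.x r t := rfl

end Rel

/-- The root elements `X` are the matrices of the datum. -/
def IsMat {D : ChevalleyDatum} {g : Good D} {F : Type*} [Field F] (X : WRG g.rs F (GL D.Idx F)) : Prop :=
  ∀ (r : Fin D.nroots) (t : F), (X.x r t : Matrix D.Idx D.Idx F) = D.x F r t

namespace IsMat

variable {D : ChevalleyDatum} {g : Good D} {F : Type*} [Field F] {X : WRG g.rs F (GL D.Idx F)}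
  (hX : IsMat X)

include hX

theorem XS_eq (p : ℕ → Prop) (hp : ∀ r, p r → r < D.nroots) :
    Subgroup.closure {a : GL D.Idx F | ∃ (r : ℕ) (t : F), p r ∧ (a : Matrix D.Idx D.Idx F) = D.x F r t} =
      X.XS {r | p r} := by
  unfold WRG.XS
  congr 1
  ext a
  constructor
  · rintro ⟨r, t, hr, h⟩
    exact ⟨⟨r, hp r hr⟩, hr, t, Units.ext (by rw [h, hX])⟩
  · rintro ⟨r, hr, t, rfl⟩
    exact ⟨r, t, hr, hX r t⟩

theorem eq_x {a : GL D.Idx F} {r : ℕ} (hr : r < D.nroots) {t : F} :
    (a : Matrix D.Idx D.Idx F) = D.x F r t ↔ a = X.x ⟨r, hr⟩ t := by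
  rw [← Units.val_inj, hX]

theorem U_eq : D.posUnipotent F = X.U := by
  rw [ChevalleyDatum.posUnipotent, hX.XS_eq _ fun r h => h.1, WRG.U]
  simp only [g.isPosRoot_iff]

theorem V_eq : D.negUnipotent F = X.V := by
  rw [ChevalleyDatum.negUnipotent, hX.XS_eq _ fun r h => h.1, WRG.V]
  simp only [g.isNegRoot_iff]

theorem rootSubgroup_eq (r : Fin D.nroots) : D.rootSubgroup F r = X.XS {r} := by
  unfold WRG.XS ChevalleyDatum.rootSubgroup
  congr 1
  ext a
  simp only [Set.mem_singleton_iff, exists_eq_left, Set.mem_ofPred_eq, hX.eq_x r.2]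

theorem grp_eq : D.group F = X.grp := by
  unfold WRG.grp WRG.XS ChevalleyDatum.group
  congr 1
  ext a
  simp only [Set.mem_univ, true_and, Set.mem_ofPred_eq, ← Units.val_inj, hX _ _, ChevalleyDatum.x,
    Fin.is_lt, dite_true]

theorem coe_n (r : Fin D.nroots) (t : F) : (X.n r t : Matrix D.Idx D.Idx F) = D.nMat F r t := by
  simp [WRG.n, ChevalleyDatum.nMat, ChevalleyDatum.wordMat, ChevalleyDatum.nWord, hX _ _, mul_assoc]

theorem coe_h (r : Fin D.nroots) (t : F) : (X.h r t : Matrix D.Idx D.Idx F) = D.hMat F r t := by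
  rw [WRG.h, Units.val_mul, hX.coe_n, hX.coe_n]
  simp [ChevalleyDatum.hMat, ChevalleyDatum.nMat, ChevalleyDatum.wordMat, ChevalleyDatum.hWord]

theorem eq_n {a : GL D.Idx F} {r : ℕ} (hr : r < D.nroots) {t : F} :
    (a : Matrix D.Idx D.Idx F) = D.nMat F r t ↔ a = X.n ⟨r, hr⟩ t := by
  rw [← Units.val_inj, hX.coe_n]

theorem eq_h {a : GL D.Idx F} {r : ℕ} (hr : r < D.nroots) {t : F} :
    (a : Matrix D.Idx D.Idx F) = D.hMat F r t ↔ a = X.h ⟨r, hr⟩ t := by
  rw [← Units.val_inj, hX.coe_h]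

theorem H_eq : D.diagonalSubgroup F = X.H := by
  unfold WRG.H ChevalleyDatum.diagonalSubgroup
  congr 1
  ext a
  constructor
  · rintro ⟨r, t, hr, ht, h⟩; exact ⟨⟨r, hr⟩, t, ht, (hX.eq_h hr).1 h⟩
  · rintro ⟨r, t, ht, rfl⟩; exact ⟨r, t, r.2, ht, hX.coe_h r t⟩

theorem N_eq : D.monomialSubgroup F = X.N := by
  unfold WRG.N ChevalleyDatum.monomialSubgroup
  rw [hX.H_eq]
  congr 2
  ext a
  constructor
  · rintro ⟨r, hr, h⟩; exact ⟨⟨r, hr⟩, (hX.eq_n hr).1 h⟩
  · rintro ⟨r, rfl⟩; exact ⟨r, r.2, hX.coe_n r 1⟩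

theorem B_eq : D.borelSubgroup F = X.B := by
  rw [ChevalleyDatum.borelSubgroup, hX.U_eq, hX.H_eq, WRG.B]

theorem coe_P (L : List (Fin D.nroots)) (t : ℕ → F) :
    (X.P L (fun r => t r) : Matrix D.Idx D.Idx F) = D.wordMat F (L.map fun r => ((r : ℕ), t r)) := by
  induction L with
  | nil => simp [ChevalleyDatum.wordMat]
  | cons r L ih =>
    rw [WRG.P_cons, Units.val_mul, ih, hX]
    simp [ChevalleyDatum.wordMat]

theorem coe_word (w : List (ℕ × F)) (hw : ∀ p ∈ w, p.1 < D.nroots) :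
    ((w.pmap (fun p (h : p.1 < D.nroots) => X.x ⟨p.1, h⟩ p.2) hw).prod : GL D.Idx F) =
      (D.wordMat F w : Matrix D.Idx D.Idx F) := by
  induction w with
  | nil => simp [ChevalleyDatum.wordMat]
  | cons p w ih =>
    rw [List.pmap_cons, List.prod_cons, Units.val_mul, ih, hX]
    simp [ChevalleyDatum.wordMat]

end IsMat

/-- The package delivered by the matrix side: exact relations, the root group axioms, the matrices,
and the triviality of the kernel of the action of `H` on the root subgroups. -/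
structure MatRG {D : ChevalleyDatum} (g : Good D) (F : Type*) [Field F] where
  Y : Rel D F (GL D.Idx F)
  X : RG g.rs F (GL D.Idx F)
  eq : X.toWRG = Y.toWRG g
  isMat : IsMat X.toWRG
  adj : ∀ c : Fin D.rank → Fˣ, (∀ s, g.rs.chi s c = 1) → X.hmap c = 1

end H20
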