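import Mathlib
import Cfsg.Agent.H20.Weyl
import Cfsg.Agent.H20.Good
import Cfsg.Agent.H8.Exchange

/-!
The action of the Weyl group on coweights, Poincaré polynomials through orbits, the Coxeter
presentation.
-/

set_option autoImplicit false

namespace H20

open Finset

namespace RS

variable {ι Λ : Type} [LinearOrder ι] [Fintype Λ] [DecidableEq Λ] (R : RS ι Λ)

/-- pairing of a root with a coweight -/
def pr (r : ι) (f : Λ → ℤ) : ℤ := ∑ i, R.rt r i * f i

/-- action of a permutation of the roots on coweights -/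
def cact (w : Equiv.Perm ι) (f : Λ → ℤ) : Λ → ℤ := fun j => R.pr (w⁻¹ (R.sim j)) f

/-- simple reflection on coweights -/
def sv (i : Λ) (f : Λ → ℤ) : Λ → ℤ := fun j => -f i * R.C i j + f j

theorem pr_sim (j : Λ) (f : Λ → ℤ) : R.pr (R.sim j) f = f j := by
  simp [pr, rt_sim, Pi.single_apply]

theorem pr_neg (r : ι) (f : Λ → ℤ) : R.pr (R.neg r) f = -R.pr r f := by
  simp [pr, rt_neg]

theorem cact_one (f : Λ → ℤ) : R.cact 1 f = f := by
  ext j; simp [cact, pr_sim]

theorem cact_s (i : Λ) (f : Λ → ℤ) : R.cact (R.s i) f = R.sv i f := by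
  ext j
  simp only [cact, s_inv, s_apply, pr, rt_sr, rt_sim, sv, C, Pi.sub_apply, sub_mul, sum_sub_distrib]
  simp [Pi.single_apply]; ring

variable {R}

theorem pr_cact {w : Equiv.Perm ι} (hw : w ∈ R.W) (r : ι) (f : Λ → ℤ) :
    R.pr r (R.cact w f) = R.pr (w⁻¹ r) f := by
  simp only [pr, cact]
  rw [W_rt (inv_mem hw) r]
  simp only [Finset.sum_apply, Pi.smul_apply, smul_eq_mul, mul_sum, sum_mul]
  rw [sum_comm]
  simp only [mul_assoc]

theorem cact_mul {b : Equiv.Perm ι} (hb : b ∈ R.W) (a : Equiv.Perm ι) (f : Λ → ℤ) :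
    R.cact (a * b) f = R.cact a (R.cact b f) := by
  ext j
  rw [cact, cact, pr_cact hb, mul_inv_rev, Equiv.Perm.mul_apply]

theorem pr_nonneg {J : Set Λ} {f : Λ → ℤ} (hf : ∀ j ∈ J, 0 ≤ f j) {r : ι} (hr : R.Pos r)
    (hJ : r ∈ R.Phi J) : 0 ≤ R.pr r f := by
  refine sum_nonneg fun j _ => ?_
  by_cases hj : j ∈ J
  · exact mul_nonneg (hr j) (hf j hj)
  · simp [hJ j hj]

theorem pr_pos {J J' : Set Λ} {f : Λ → ℤ} (hf : ∀ j ∈ J, 0 ≤ f j) (hf' : ∀ j ∈ J, f j = 0 → j ∈ J') {r : ι}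
    (hr : R.Pos r) (hJ : r ∈ R.Phi J) (hJ' : r ∉ R.Phi J') : 0 < R.pr r f := by
  simp only [Phi, Set.mem_ofPred_eq, not_forall] at hJ'
  obtain ⟨i, hi, h⟩ := hJ'
  have hiJ : i ∈ J := by by_contra h'; exact h (hJ i h')
  refine sum_pos' (fun j _ => ?_) ⟨i, mem_univ _, mul_pos (lt_of_le_of_ne (hr i) (Ne.symm h))
    (lt_of_le_of_ne (hf i hiJ) fun h0 => hi (hf' i hiJ h0.symm))⟩
  by_cases hj : j ∈ J
  · exact mul_nonneg (hr j) (hf j hj)
  · simp [hJ j hj]

theorem cact_of_mem_WJ {J : Set Λ} {f : Λ → ℤ} (hf : ∀ j ∈ J, f j = 0) {v : Equiv.Perm ι}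
    (hv : v ∈ R.WJ J) : R.cact v f = f := by
  refine R.WJ_induction_left (P := fun v => R.cact v f = f) (R.cact_one f) (fun i hi w hw h => ?_) v hv
  rw [cact_mul (R.WJ_le_W J hw), h, cact_s]
  ext j; simp [sv, hf i hi]

variable [Fintype ι]

theorem mem_WJ_of_dominant {J J' : Set Λ} {f : Λ → ℤ} (hf : ∀ j ∈ J, 0 ≤ f j)
    (hf' : ∀ j ∈ J, f j = 0 → j ∈ J') {w : Equiv.Perm ι} (hw : w ∈ R.WJ J)
    (h : ∀ j ∈ J, 0 ≤ R.cact w f j) : w ∈ R.WJ J' := by
  revert h
  refine WJ_len_induction (P := fun w => (∀ j ∈ J, 0 ≤ R.cact w f j) → w ∈ R.WJ J') (fun _ => one_mem _) ?_ w hw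
  intro i hi w hw hp ih h
  have hW := R.WJ_le_W J hw
  have h1 := pr_nonneg h hp ((WJ_mem_Phi subset_rfl hw).2 (sim_mem_Phi.2 hi))
  rw [pr_cact (mul_mem hW (R.s_mem_W i)), mul_inv_rev, s_inv] at h1
  simp only [Equiv.Perm.coe_mul, Equiv.Perm.coe_inv, Function.comp_apply, Equiv.symm_apply_apply, s_sim,
    pr_neg, pr_sim] at h1
  have h2 : f i = 0 := le_antisymm (by omega) (hf i hi)
  have h3 : R.cact (w * R.s i) f = R.cact w f := by
    rw [cact_mul (R.s_mem_W i), cact_of_mem_WJ (J := {i}) (by rintro _ rfl; exact h2)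
      (R.s_mem_WJ (Set.mem_singleton i))]
  exact mul_mem (ih (h3 ▸ h)) (R.s_mem_WJ (hf' i hi h2))

theorem eq_one_of_cact_eq {f : Λ → ℤ} (hf : ∀ j, 0 < f j) {w : Equiv.Perm ι} (hw : w ∈ R.W)
    (h : R.cact w f = f) : w = 1 := by
  have := mem_WJ_of_dominant (J := Set.univ) (J' := ∅) (fun j _ => (hf j).le)
    (fun j _ h => (hf j).ne' h) hw (fun j _ => by rw [h]; exact (hf j).le)
  simpa [WJ] using this

variable (R) in
open Classical in
/-- number of positive roots of `Φ_J` on which the coweight is negative -/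
noncomputable def nneg (J : Set Λ) (f : Λ → ℤ) : ℕ :=
  (univ.filter fun r => R.Pos r ∧ r ∈ R.Phi J ∧ R.pr r f < 0).card

theorem len_eq_nneg {J J' : Set Λ} {f : Λ → ℤ} (hf : ∀ j ∈ J, 0 ≤ f j) (hf' : ∀ j ∈ J, f j = 0 → j ∈ J')
    {d : Equiv.Perm ι} (hd : d ∈ R.WJ J) (h : ∀ j ∈ J', R.Pos (d (R.sim j))) :
    R.len d = R.nneg J (R.cact d f) := by
  have hW := R.WJ_le_W J hd
  rw [← len_inv hW, len, nneg]
  congr 1
  ext r
  simp only [mem_inv, mem_filter, mem_univ, true_and, pr_cact hW]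
  refine and_congr_right fun hr => ⟨fun h1 => ?_, fun h1 h2 => ?_⟩
  · have h2 := inv_subset_Phi (inv_mem hd) (mem_inv.2 ⟨hr, h1⟩)
    refine ⟨h2, ?_⟩
    have := pr_pos hf hf' (R.pos_neg_iff.2 h1) (neg_mem_Phi.2 ((WJ_mem_Phi subset_rfl (inv_mem hd)).2 h2))
      (fun h3 => by
        have := pos_of_simple_pos hW h (R.pos_neg_iff.2 h1) h3
        rw [W_neg hW, pos_neg_iff] at this
        exact this (by simpa using hr))
    rw [pr_neg] at this; omega
  · exact absurd (pr_nonneg hf h2 ((WJ_mem_Phi subset_rfl (inv_mem hd)).2 h1.1)) (not_le.2 h1.2)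

variable (R) in
open Classical in
/-- The Poincaré sum of `F ∩ W_J`. -/
noncomputable def poin {A : Type*} [CommSemiring A] (F : Subgroup (Equiv.Perm ι)) (J : Set Λ) (y : A) : A :=
  ∑ w ∈ univ.filter (fun w => w ∈ F ∧ w ∈ R.WJ J), y ^ R.len w

theorem poin_empty {A : Type*} [CommSemiring A] (F : Subgroup (Equiv.Perm ι)) (y : A) :
    R.poin F ∅ y = 1 := by
  rw [poin, sum_eq_single 1]
  · simp [len_one]
  · intro b hb h
    simp only [mem_filter] at hb
    have := hb.2.2
    simp only [WJ, Set.image_empty, Subgroup.closure_empty, Subgroup.mem_bot] at this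
    exact absurd this h
  · simp

theorem poin_step {A : Type*} [CommSemiring A] {F : Subgroup (Equiv.Perm ι)} {J J' : Set Λ} (hJ : J' ⊆ J)
    {f : Λ → ℤ} (hf : ∀ j ∈ J, 0 ≤ f j) (hf' : ∀ j ∈ J, f j = 0 → j ∈ J') (hf0 : ∀ j ∈ J', f j = 0)
    (hF : ∀ w ∈ F, ∃ v ∈ F, v ∈ R.WJ J' ∧ ∀ j ∈ J', R.Pos ((w * v⁻¹) (R.sim j)))
    (O : Finset (Λ → ℤ)) (hO : ∀ x, x ∈ O ↔ ∃ w ∈ F, w ∈ R.WJ J ∧ R.cact w f = x) (y : A) :
    R.poin F J y = (∑ x ∈ O, y ^ R.nneg J x) * R.poin F J' y := by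
  classical
  set D := univ.filter (fun d => (d ∈ F ∧ d ∈ R.WJ J) ∧ ∀ j ∈ J', R.Pos (d (R.sim j))) with hD
  have hmD : ∀ d, d ∈ D ↔ (d ∈ F ∧ d ∈ R.WJ J) ∧ ∀ j ∈ J', R.Pos (d (R.sim j)) := by simp [hD]
  have h1 : ∑ x ∈ O, y ^ R.nneg J x = ∑ d ∈ D, y ^ R.len d := by
    symm
    refine sum_bij (fun d _ => R.cact d f) ?_ ?_ ?_ ?_
    · intro d hd; rw [hmD] at hd; exact (hO _).2 ⟨d, hd.1.1, hd.1.2, rfl⟩
    · intro d hd d' hd' h
      rw [hmD] at hd hd'
      refine coset_decomp_unique (R.WJ_le_W J hd.1.2) hd.2 hd'.2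
        (mem_WJ_of_dominant hf hf' (mul_mem (inv_mem hd.1.2) hd'.1.2) ?_)
      rw [cact_mul (R.WJ_le_W J hd'.1.2), ← h, ← cact_mul (R.WJ_le_W J hd.1.2), inv_mul_cancel, cact_one]
      exact hf
    · intro x hx
      obtain ⟨w, h1, h2, rfl⟩ := (hO x).1 hx
      obtain ⟨v, h3, h4, h5⟩ := hF w h1
      refine ⟨w * v⁻¹, (hmD _).2 ⟨⟨mul_mem h1 (inv_mem h3), mul_mem h2 (inv_mem (R.WJ_mono hJ h4))⟩, h5⟩, ?_⟩
      rw [cact_mul (inv_mem (R.WJ_le_W _ h4)), cact_of_mem_WJ hf0 (inv_mem h4)]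
    · intro d hd
      rw [hmD] at hd
      rw [len_eq_nneg hf hf' hd.1.2 hd.2]
  rw [h1, poin, poin, sum_mul_sum, ← sum_product']
  symm
  refine sum_bij (fun p _ => p.1 * p.2) ?_ ?_ ?_ ?_
  · rintro ⟨d, v⟩ h
    simp only [mem_product, hmD, mem_filter, mem_univ, true_and] at h ⊢
    exact ⟨mul_mem h.1.1.1 h.2.1, mul_mem h.1.1.2 (R.WJ_mono hJ h.2.2)⟩
  · rintro ⟨d, v⟩ h ⟨d', v'⟩ h' e
    simp only [mem_product, hmD, mem_filter, mem_univ, true_and] at h h' e
    have : d = d' := by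
      refine coset_decomp_unique (R.WJ_le_W J h.1.1.2) h.1.2 h'.1.2 ?_
      have : d⁻¹ * d' = v * v'⁻¹ := by
        rw [inv_mul_eq_iff_eq_mul, ← mul_assoc, e, mul_inv_cancel_right]
      rw [this]; exact mul_mem h.2.2 (inv_mem h'.2.2)
    subst this
    rw [mul_left_cancel e]
  · intro w hw
    simp only [mem_filter, mem_univ, true_and] at hw
    obtain ⟨v, h3, h4, h5⟩ := hF w hw.1
    refine ⟨(w * v⁻¹, v), ?_, by simp⟩
    simp only [mem_product, hmD, mem_filter, mem_univ, true_and]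
    exact ⟨⟨⟨mul_mem hw.1 (inv_mem h3), mul_mem hw.2 (inv_mem (R.WJ_mono hJ h4))⟩, h5⟩, h3, h4⟩
  · rintro ⟨d, v⟩ h
    simp only [mem_product, hmD, mem_filter, mem_univ, true_and] at h
    have hW := R.WJ_le_W J h.1.1.2
    rw [len_mul hW (R.WJ_le_W _ h.2.2) (len_mul_of_simple_pos hW h.1.2 h.2.2), pow_add]

theorem W_coset (J : Set Λ) : ∀ w ∈ R.W, ∃ v ∈ R.W, v ∈ R.WJ J ∧ ∀ j ∈ J, R.Pos ((w * v⁻¹) (R.sim j)) := by
  intro w hw
  obtain ⟨v, h1, h2⟩ := exists_coset_decomp J hw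
  exact ⟨v, R.WJ_le_W J h1, h1, h2⟩

theorem card_eq_poin (F : Subgroup (Equiv.Perm ι)) (hF : F ≤ R.W) : Nat.card F = R.poin F Set.univ (1 : ℕ) := by
  classical
  rw [poin]
  simp only [one_pow, sum_const, smul_eq_mul, mul_one]
  rw [Nat.card_eq_fintype_card, Fintype.card_subtype]
  congr 1
  ext w
  simp only [mem_filter, mem_univ, true_and]
  exact ⟨fun h => ⟨h, hF h⟩, fun h => h.1⟩

theorem sum_eq_poin {A : Type*} [CommSemiring A] (F : Subgroup (Equiv.Perm ι)) (hF : F ≤ R.W)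
    [DecidablePred (· ∈ F)] (y : A) : ∑ w ∈ univ.filter (· ∈ F), y ^ R.len w = R.poin F Set.univ y := by
  rw [poin]
  congr 1
  ext w
  simp only [mem_filter, mem_univ, true_and]
  exact ⟨fun h => ⟨h, hF h⟩, fun h => h.1⟩

omit [Fintype ι] in
theorem conj_mem_WJ {J J' : Set Λ} {u : Equiv.Perm ι} (hu : u ∈ R.W)
    (h : ∀ j ∈ J, u (R.sim j) ∈ R.Phi J') {v : Equiv.Perm ι} (hv : v ∈ R.WJ J) : u * v * u⁻¹ ∈ R.WJ J' := by
  refine R.WJ_induction_left (P := fun v => u * v * u⁻¹ ∈ R.WJ J') (by simp) (fun i hi w _ ih => ?_) v hv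
  have := rf_mem_WJ (h i hi)
  rw [rf_conj hu, rf_sim] at this
  simpa [mul_assoc] using mul_mem this ih

/-- A subgroup of `W` generated by longest elements of parabolic subgroups, with the dichotomy
property, is a Coxeter group. -/
theorem exists_coxeter_equiv {F : Subgroup (Equiv.Perm ι)} (hF : F ≤ R.W) {I : Type} (J : I → Set Λ)
    (hmem : ∀ i, R.w0 (J i) ∈ F) (hne : ∀ i, (J i).Nonempty)
    (hinj : Function.Injective fun i => R.w0 (J i))
    (hgen : F ≤ Subgroup.closure (Set.range fun i => R.w0 (J i)))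
    (hd : ∀ w ∈ F, ∀ i, (∀ j ∈ J i, R.Pos (w (R.sim j))) ∨ (∀ j ∈ J i, ¬R.Pos (w (R.sim j))))
    (M : CoxeterMatrix I) (hM : ∀ i j, M i j = orderOf (R.w0 (J i) * R.w0 (J j))) :
    ∃ e : F ≃* M.Group, ∀ i, e ⟨R.w0 (J i), hmem i⟩ = M.simple i := by
  let D : H8.GenSys I F :=
    { σ := fun i => ⟨R.w0 (J i), hmem i⟩
      sq := fun i => Subtype.ext (R.w0_mul_w0 _)
      gen := by
        rintro ⟨w, hw⟩
        have : ∃ l : List I, (l.map fun i => R.w0 (J i)).prod = w := by
          have h := hgen hw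
          clear hw
          induction h using Subgroup.closure_induction_left with
          | one => exact ⟨[], rfl⟩
          | mul_left x hx y _ ih =>
            obtain ⟨i, rfl⟩ := hx; obtain ⟨l, rfl⟩ := ih; exact ⟨i :: l, by simp⟩
          | inv_mul_cancel x hx y _ ih =>
            obtain ⟨i, rfl⟩ := hx; obtain ⟨l, rfl⟩ := ih; exact ⟨i :: l, by simp [w0_inv]⟩
        obtain ⟨l, rfl⟩ := this
        refine ⟨l, Subtype.ext ?_⟩
        simp [Function.comp_def] }
  have hex : D.Exchange := by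
    refine D.exchange_of_family (fun i => {w | ∀ j ∈ J i, R.Pos ((w : Equiv.Perm ι)⁻¹ (R.sim j))})
      (fun i j _ => by simpa using R.pos_sim j) ?_ ?_
    · intro i w hw h
      obtain ⟨j, hj⟩ := hne i
      have h1 := h j hj
      have hW := inv_mem (hF w.2)
      have h2 := pos_of_simple_pos hW hw (R.pos_neg_iff.2 (w0_sim hj))
        (neg_mem_Phi.2 ((WJ_mem_Phi subset_rfl (R.w0_mem _)).2 (sim_mem_Phi.2 hj)))
      rw [W_neg hW, pos_neg_iff] at h2
      exact h2 (by simpa [D, w0_inv] using h1)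
    · intro i k w hw h
      have hW := inv_mem (hF w.2)
      have h1 := (hd _ (inv_mem (w * D.σ k).2) i).resolve_left h
      have h2 : ∀ j ∈ J i, (w : Equiv.Perm ι)⁻¹ (R.sim j) ∈ R.Phi (J k) := fun j hj =>
        (mem_inv_w0.1 (mem_inv.2 ⟨hw j hj, by simpa [D, w0_inv] using h1 j hj⟩)).2
      have h3 := conj_mem_WJ hW h2 (R.w0_mem (J i))
      have h4 := mul_mem (mul_mem (inv_mem w.2) (hmem i)) (inv_mem (inv_mem w.2))
      rcases hd _ h4 k with h5 | h5
      · have := eq_one_of_simple_pos h3 h5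
        obtain ⟨j, hj⟩ := hne i
        have h6 : R.w0 (J i) = 1 := by
          calc R.w0 (J i) = w * ((w : Equiv.Perm ι)⁻¹ * R.w0 (J i) * (w : Equiv.Perm ι)⁻¹⁻¹) * (w : Equiv.Perm ι)⁻¹ := by
                group
            _ = 1 := by rw [this]; group
        exact absurd (by simpa [h6] using R.pos_sim j) (w0_sim (R := R) hj)
      · have := eq_w0 h3 h5
        apply Subtype.ext
        simp only [D, Subgroup.coe_mul]
        rw [← this]; group
  have hinj' : Function.Injective D.σ := fun i j h => hinj (congrArg Subtype.val h)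
  obtain ⟨cs, hcs⟩ := hex.exists_coxeterSystem hinj'
  have hMM : D.coxeterMatrix hinj' = M := by
    ext i j
    rw [hM]
    simp only [H8.GenSys.coxeterMatrix, Matrix.of_apply]
    rw [← Subgroup.orderOf_coe]; rfl
  subst hMM
  refine ⟨cs.mulEquiv, fun i => ?_⟩
  have := hcs i
  rw [CoxeterSystem.simple] at this
  rw [← cs.mulEquiv.apply_symm_apply (CoxeterMatrix.simple _ i)]
  congr 1
  exact this.symm

theorem w0_single (i : Λ) : R.w0 {i} = R.s i :=
  (RS.eq_w0 (R.s_mem_WJ (Set.mem_singleton i)) (by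
    rintro _ rfl; rw [RS.s_sim]; exact R.not_pos_neg_sim _)).symm

/-- The Weyl group is the Coxeter group of its Coxeter matrix. -/
theorem exists_coxeter_equiv_W (M : CoxeterMatrix Λ) (hM : ∀ i j, M i j = orderOf (R.s i * R.s j)) :
    ∃ e : R.W ≃* M.Group, ∀ i, e ⟨R.s i, R.s_mem_W i⟩ = M.simple i := by
  obtain ⟨e, he⟩ := exists_coxeter_equiv (R := R) le_rfl (fun i : Λ => {i}) (fun i => R.w0_mem_W _)
    (fun i => Set.singleton_nonempty i)
    (by
      intro i j h
      simp only [w0_single] at h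
      have := inv_s (R := R) i
      rw [h, inv_s] at this
      exact R.sim_injective (by simpa using this.symm))
    (by simp [w0_single, W, WJ]) (fun w _ i => by simpa using em _) M (by simpa [w0_single] using hM)
  exact ⟨e, fun i => by simpa [w0_single] using he i⟩

end RS

/-! ### Computing with lists -/

/-- simple reflection on coweights given as lists -/
def svL (CL : List (List ℤ)) (i : ℕ) (x : List ℤ) : List ℤ := lin (-x.getD i 0) (CL.getD i []) x

/-- a word of simple reflections on coweights given as lists -/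
def wordL (CL : List (List ℤ)) (ω : List ℕ) (x : List ℤ) : List ℤ := ω.foldr (svL CL) x

/-- every element is `f` or is mapped by a generator to a later element -/
def reach (CL : List (List ℤ)) (gens : List (List ℕ)) (f : List ℤ) : List (List ℤ) → Bool
  | [] => true
  | x :: rest => (x == f || gens.any fun ω => rest.contains (wordL CL ω x)) && reach CL gens f rest

/-- the positive roots supported in `J` -/
def posJ (rtL : List (List ℤ)) (J : List ℕ) : List (List ℤ) :=
  rtL.filter fun v => v.all (fun c => decide (0 ≤ c)) && v.zipIdx.all fun p => p.1 == 0 || J.contains p.2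

/-- the certificate for one step of a parabolic chain -/
def orbChk (a : Aux) (l n : ℕ) (J J' : List ℕ) (gens : List (List ℕ)) (f : List ℤ) (L PJ : List (List ℤ))
    (exps : List ℕ) : Prop :=
  a.rtL.length = n ∧ (∀ ω ∈ gens, ∀ i ∈ ω, i < l) ∧ (∀ x ∈ L, x.length = l) ∧ L.Nodup ∧ f ∈ L ∧
  (∀ j ∈ J', j ∈ J ∧ f.getD j 0 = 0) ∧ (∀ j ∈ J, 0 ≤ f.getD j 0 ∧ (f.getD j 0 = 0 → j ∈ J')) ∧
  (∀ x ∈ L, ∀ ω ∈ gens, wordL a.CL ω x ∈ L) ∧ reach a.CL gens f L = true ∧ posJ a.rtL J = PJ ∧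
  L.map (fun x => (PJ.filter fun v => dot v x < 0).length) = exps

instance instDecOrbChk (a : Aux) (l n : ℕ) (J J' : List ℕ) (gens : List (List ℕ)) (f : List ℤ)
    (L PJ : List (List ℤ)) (exps : List ℕ) : Decidable (orbChk a l n J J' gens f L PJ exps) := by
  unfold orbChk; infer_instance

/-- `x ≠ f` for `k` steps and then `x = f` -/
def iterChk (CL : List (List ℤ)) (ω : List ℕ) (f : List ℤ) : ℕ → List ℤ → Bool
  | 0, x => x == f
  | k + 1, x => x != f && iterChk CL ω f k (wordL CL ω x)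

theorem card_filter_getD {α : Type*} (L : List α) (v : α) (p : α → Bool) {n : ℕ} (hn : L.length = n) :
    (univ.filter fun r : Fin n => p (L.getD r v)).card = (L.filter p).length := by
  subst hn
  rw [card_filter]
  induction L with
  | nil => simp
  | cons a L ih =>
    simp only [List.length_cons, Fin.sum_univ_succ, Fin.val_succ, List.getD_cons_succ, ih, Fin.val_zero,
      List.getD_cons_zero, List.filter_cons]
    split <;> simp [add_comm]

namespace Good

open Cfsg.Lie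

variable {D : ChevalleyDatum} (g : Good D)

/-- a list as a coweight -/
def vec (D : ChevalleyDatum) (x : List ℤ) : Fin D.rank → ℤ := fun j => x.getD j 0

/-- a set of simple roots given as a list -/
def JS (D : ChevalleyDatum) (J : List ℕ) : Set (Fin D.rank) := {j | (j : ℕ) ∈ J}

/-- simple reflection with a natural number index -/
def sN (i : ℕ) : Equiv.Perm (Fin D.nroots) := if h : i < D.rank then g.rs.s ⟨i, h⟩ else 1

/-- word of simple reflections with natural number indices -/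
def wN (ω : List ℕ) : Equiv.Perm (Fin D.nroots) := (ω.map g.sN).prod

theorem wN_nil : g.wN [] = 1 := rfl

theorem wN_cons (i : ℕ) (ω : List ℕ) : g.wN (i :: ω) = g.sN i * g.wN ω := by simp [wN]

theorem wN_append (ω ω' : List ℕ) : g.wN (ω ++ ω') = g.wN ω * g.wN ω' := by simp [wN]

theorem sN_val (i : Fin D.rank) : g.sN i = g.rs.s i := by simp [sN]

theorem sN_mem_WJ {J : List ℕ} {i : ℕ} (hi : i ∈ J) : g.sN i ∈ g.rs.WJ (JS D J) := by
  unfold sN
  split
  · exact g.rs.s_mem_WJ hi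
  · exact one_mem _

theorem wN_mem_WJ {J ω : List ℕ} (h : ∀ i ∈ ω, i ∈ J) : g.wN ω ∈ g.rs.WJ (JS D J) := by
  induction ω with
  | nil => exact one_mem _
  | cons i ω ih =>
    rw [wN_cons]
    exact mul_mem (g.sN_mem_WJ (h i (by simp))) (ih fun j hj => h j (by simp [hj]))

theorem wN_mem_W (ω : List ℕ) : g.wN ω ∈ g.rs.W := g.rs.WJ_le_W _ (g.wN_mem_WJ fun _ h => h)

theorem vec_injective {x y : List ℤ} (hx : x.length = D.rank) (hy : y.length = D.rank)
    (h : vec D x = vec D y) : x = y := by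
  refine List.ext_getElem (hx.trans hy.symm) fun i h1 h2 => ?_
  have := congrFun h ⟨i, hx ▸ h1⟩
  simpa [vec, List.getD_eq_getElem?_getD, List.getElem?_eq_getElem h1, List.getElem?_eq_getElem h2] using this

theorem cact_wN {ω : List ℕ} (hω : ∀ i ∈ ω, i < D.rank) {x : List ℤ} (hx : x.length = D.rank) :
    (wordL g.aux.CL ω x).length = D.rank ∧ g.rs.cact (g.wN ω) (vec D x) = vec D (wordL g.aux.CL ω x) := by
  induction ω with
  | nil => exact ⟨hx, g.rs.cact_one _⟩
  | cons i ω ih =>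
    obtain ⟨h1, h2⟩ := ih fun j hj => hω j (by simp [hj])
    have hi : i < D.rank := hω i (by simp)
    have hC := (g.h1.2.2.2.2.2.1 i hi).2.2
    have e : wordL g.aux.CL (i :: ω) x = svL g.aux.CL i (wordL g.aux.CL ω x) := rfl
    refine ⟨by rw [e, svL, lin, List.length_zipWith, hC, h1, min_self], ?_⟩
    rw [wN_cons, RS.cact_mul (g.wN_mem_W ω), h2, e, sN, dif_pos hi, RS.cact_s]
    ext j
    simp only [RS.sv, vec, svL]
    rw [getD_lin _ hC h1, (g.h1.2.2.2.2.2.2.2.2.1 i hi j j.2).1]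
    rfl

theorem pr_vec (r : Fin D.nroots) {x : List ℤ} (hx : x.length = D.rank) :
    g.rs.pr r (vec D x) = dot (g.aux.row r) x := by
  rw [dot_eq_sum (g.row_length r) hx]; rfl

theorem pos_Phi_iff (J : List ℕ) (r : Fin D.nroots) :
    (g.rs.Pos r ∧ r ∈ g.rs.Phi (JS D J)) ↔ ((g.aux.row r).all (fun c => decide (0 ≤ c)) &&
      (g.aux.row r).zipIdx.all fun p => p.1 == 0 || J.contains p.2) = true := by
  have hl := g.row_length r
  simp only [Bool.and_eq_true, List.all_eq_true, decide_eq_true_eq, Bool.or_eq_true, beq_iff_eq,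
    List.contains_iff_mem]
  refine and_congr ⟨fun h c hc => ?_, fun h i => ?_⟩ ⟨fun h p hp => ?_, fun h i hi => ?_⟩
  · obtain ⟨i, hi, rfl⟩ := List.getElem_of_mem hc
    simpa [rs_rt, List.getD_eq_getElem?_getD, List.getElem?_eq_getElem hi] using h ⟨i, by rw [← hl]; exact hi⟩
  · have hi : (i : ℕ) < (g.aux.row r).length := by rw [hl]; exact i.2
    simpa [rs_rt, List.getD_eq_getElem?_getD, List.getElem?_eq_getElem hi] using h _ (List.getElem_mem hi)
  · rw [List.mem_zipIdx_iff_getElem?] at hp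
    obtain ⟨hi, hp⟩ := List.getElem?_eq_some_iff.1 hp
    by_cases hJ : p.2 ∈ J
    · exact Or.inr hJ
    · left
      have := h ⟨p.2, by rw [← hl]; exact hi⟩ hJ
      simpa [rs_rt, List.getD_eq_getElem?_getD, List.getElem?_eq_getElem hi, hp] using this
  · have hi' : (i : ℕ) < (g.aux.row r).length := by rw [hl]; exact i.2
    have := h ((g.aux.row r)[i], i) (by rw [List.mem_zipIdx_iff_getElem?]; simp)
    simpa [rs_rt, List.getD_eq_getElem?_getD, List.getElem?_eq_getElem hi'] using this.resolve_right hi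

theorem poin_of_orbChk {A : Type*} [CommSemiring A] {F : Subgroup (Equiv.Perm (Fin D.nroots))}
    {J J' : List ℕ} {gens : List (List ℕ)} {f : List ℤ} {L PJ : List (List ℤ)} {exps : List ℕ}
    (h : orbChk g.aux D.rank D.nroots J J' gens f L PJ exps)
    (hF : ∀ w ∈ F, ∃ v ∈ F, v ∈ g.rs.WJ (JS D J') ∧ ∀ j ∈ JS D J', g.rs.Pos ((w * v⁻¹) (g.rs.sim j)))
    (hgen : F ⊓ g.rs.WJ (JS D J) = Subgroup.closure {w | ∃ ω ∈ gens, w = g.wN ω}) (y : A) :
    g.rs.poin F (JS D J) y = (exps.map (y ^ ·)).sum * g.rs.poin F (JS D J') y := by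
  classical
  obtain ⟨hn, hω, hL, hnd, hf, hJ', hJ, hcl, hre, hPJ, hexp⟩ := h
  rw [RS.poin_step (J := JS D J) (J' := JS D J') (f := vec D f) (fun j hj => (hJ' j hj).1)
    (fun j hj => (hJ j hj).1) (fun j hj => (hJ j hj).2) (fun j hj => (hJ' j hj).2) hF
    ((L.map (vec D)).toFinset) ?_ y]
  · congr 1
    rw [List.sum_toFinset _ (hnd.map_on fun x hx y hy h => vec_injective (hL x hx) (hL y hy) h), ← hexp,
      List.map_map, List.map_map]
    congr 1
    refine List.map_congr_left fun x hx => ?_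
    simp only [Function.comp_apply]
    congr 1
    rw [← hPJ, posJ, List.filter_filter, ← card_filter_getD _ [] _ hn, RS.nneg]
    congr 1
    ext r
    simp only [mem_filter, mem_univ, true_and, ← and_assoc, g.pos_Phi_iff, g.pr_vec r (hL x hx)]
    simp [Aux.row, and_comm]
  · intro x
    simp only [List.mem_toFinset, List.mem_map]
    constructor
    · rintro ⟨z, hz, rfl⟩
      have key : ∀ L' : List (List ℤ), (∀ x ∈ L', x.length = D.rank) → reach g.aux.CL gens f L' = true →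
          ∀ z ∈ L', ∃ w ∈ F ⊓ g.rs.WJ (JS D J), g.rs.cact w (vec D f) = vec D z := by
        intro L' hL' hre
        induction L' with
        | nil => simp
        | cons a L' ih =>
          simp only [reach, Bool.and_eq_true, Bool.or_eq_true, beq_iff_eq, List.any_eq_true,
            List.contains_iff_mem] at hre
          have ih' := ih (fun x hx => hL' x (by simp [hx])) hre.2
          intro z hz
          rcases List.mem_cons.1 hz with rfl | hz
          · rcases hre.1 with rfl | ⟨ω, hω', hm⟩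
            · exact ⟨1, one_mem _, g.rs.cact_one _⟩
            · obtain ⟨w, hw, h1⟩ := ih' _ hm
              refine ⟨(g.wN ω)⁻¹ * w, mul_mem (inv_mem ?_) hw, ?_⟩
              · rw [hgen]; exact Subgroup.subset_closure ⟨ω, hω', rfl⟩
              · rw [RS.cact_mul (g.rs.WJ_le_W _ hw.2), h1, ← (g.cact_wN (hω ω hω') (hL' z (by simp))).2,
                  ← RS.cact_mul (g.wN_mem_W ω), inv_mul_cancel, RS.cact_one]
          · exact ih' z hz
      obtain ⟨w, hw, h1⟩ := key L hL hre z hz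
      exact ⟨w, hw.1, hw.2, h1⟩
    · rintro ⟨w, h1, h2, rfl⟩
      have hw : w ∈ Subgroup.closure {w | ∃ ω ∈ gens, w = g.wN ω} := hgen ▸ ⟨h1, h2⟩
      have hw' : w ∈ Submonoid.closure {w | ∃ ω ∈ gens, w = g.wN ω} := by
        rw [← Subgroup.closure_toSubmonoid_of_finite]; exact hw
      clear hw h1 h2
      induction hw' using Submonoid.closure_induction_left with
      | one => exact ⟨f, hf, (g.rs.cact_one _).symm⟩
      | mul_left a ha w hw ih =>
        obtain ⟨ω, hω', rfl⟩ := ha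
        obtain ⟨z, hz, h⟩ := ih
        have hW : w ∈ g.rs.W := by
          refine (Submonoid.closure_le (S := g.rs.W.toSubmonoid)).2 ?_ hw
          rintro _ ⟨ω, -, rfl⟩; exact g.wN_mem_W ω
        exact ⟨_, hcl z hz ω hω', by rw [RS.cact_mul hW, ← h, (g.cact_wN (hω ω hω') (hL z hz)).2]⟩

theorem W_inf_WJ (J : List ℕ) : g.rs.W ⊓ g.rs.WJ (JS D J) =
    Subgroup.closure {w | ∃ ω ∈ J.map (fun i => [i]), w = g.wN ω} := by
  rw [inf_eq_right.2 (g.rs.WJ_le_W _)]
  apply le_antisymm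
  · refine Subgroup.closure_mono ?_
    rintro _ ⟨i, hi, rfl⟩
    exact ⟨[i], List.mem_map.2 ⟨i, hi, rfl⟩, by simp [wN, sN_val]⟩
  · rw [Subgroup.closure_le]
    rintro _ ⟨ω, hω, rfl⟩
    obtain ⟨i, hi, rfl⟩ := List.mem_map.1 hω
    exact g.wN_mem_WJ (by simpa using hi)

theorem poin_W_of_orbChk {A : Type*} [CommSemiring A] {J J' : List ℕ} {f : List ℤ} {L PJ : List (List ℤ)}
    {exps : List ℕ} (h : orbChk g.aux D.rank D.nroots J J' (J.map fun i => [i]) f L PJ exps) (y : A) :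
    g.rs.poin g.rs.W (JS D J) y = (exps.map (y ^ ·)).sum * g.rs.poin g.rs.W (JS D J') y :=
  g.poin_of_orbChk h (RS.W_coset _) (g.W_inf_WJ J) y

theorem JS_nil : JS D [] = ∅ := by ext; simp [JS]

theorem JS_range : JS D (List.range D.rank) = Set.univ := by ext; simp [JS]

theorem orderOf_wN {ω : List ℕ} (hω : ∀ i ∈ ω, i < D.rank) {m : ℕ}
    (h : iterChk g.aux.CL ω (List.replicate D.rank 1) m
      (wordL g.aux.CL ω (List.replicate D.rank 1)) = true) : orderOf (g.wN ω) = m + 1 := by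
  set f := List.replicate D.rank (1 : ℤ) with hf
  have hfl : f.length = D.rank := by simp [hf]
  have hpos : ∀ j, 0 < vec D f j := by
    intro j; simp [vec, hf, List.getD_eq_getElem?_getD]
  have key : ∀ m k x, x.length = D.rank → g.rs.cact (g.wN ω ^ k) (vec D f) = vec D x →
      iterChk g.aux.CL ω f m x = true → g.wN ω ^ (k + m) = 1 ∧ ∀ j < m, g.wN ω ^ (k + j) ≠ 1 := by
    intro m
    induction m with
    | zero =>
      intro k x _ h1 h2
      simp only [iterChk, beq_iff_eq] at h2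
      subst h2
      exact ⟨RS.eq_one_of_cact_eq hpos (pow_mem (g.wN_mem_W ω) _) h1, by simp⟩
    | succ m ih =>
      intro k x hx h1 h2
      simp only [iterChk, Bool.and_eq_true, bne_iff_ne, ne_eq] at h2
      obtain ⟨h3, h4⟩ := ih (k + 1) _ (g.cact_wN hω hx).1 (by
        rw [pow_succ', RS.cact_mul (pow_mem (g.wN_mem_W ω) _), h1, (g.cact_wN hω hx).2]) h2.2
      refine ⟨by rw [← h3]; congr 1; omega, fun j hj => ?_⟩
      rcases j with _ | j
      · intro h5
        rw [add_zero] at h5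
        rw [h5, RS.cact_one] at h1
        exact h2.1 (vec_injective hfl hx h1).symm
      · have := h4 j (by omega)
        rwa [show k + 1 + j = k + (j + 1) by omega] at this
  obtain ⟨h1, h2⟩ := key m 1 _ (g.cact_wN hω hfl).1 (by rw [pow_one, (g.cact_wN hω hfl).2]) h
  rw [orderOf_eq_iff (by omega)]
  refine ⟨by rwa [add_comm], fun k hk hk0 => ?_⟩
  have := h2 (k - 1) (by omega)
  rwa [show 1 + (k - 1) = k by omega] at this

end Good

end H20
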