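import Mathlib
import Cfsg.Agent.H20.RG

/-!
Bruhat decomposition in root groups.
-/

set_option autoImplicit false

namespace H20

open Finset

variable {ι Λ : Type} [LinearOrder ι] [Fintype Λ] [DecidableEq Λ]

/-- `S` is a closed set of positive roots adapted to the parabolic subgroup `W_J`. -/
structure RS.Adm (R : RS ι Λ) (J : Set Λ) (S : Set ι) : Prop where
  closed : R.Closed S
  pos : ∀ r ∈ S, R.Pos r
  sim : ∀ i ∈ J, R.sim i ∈ S
  stab : ∀ w ∈ R.WJ J, ∀ r ∈ S, R.Pos (w r) → w r ∈ S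

theorem RS.adm_pos (R : RS ι Λ) (J : Set Λ) : R.Adm J {r | R.Pos r} :=
  ⟨R.closed_pos, fun _ h => h, fun i _ => R.pos_sim i, fun _ _ _ _ h => h⟩

theorem RS.adm_Phi (R : RS ι Λ) (J : Set Λ) : R.Adm J {r | R.Pos r ∧ r ∈ R.Phi J} :=
  ⟨R.closed_pos.inter (RS.closed_Phi J), fun _ h => h.1, fun i hi => ⟨R.pos_sim i, RS.sim_mem_Phi.2 hi⟩,
    fun _ hw _ hr h => ⟨h, (RS.WJ_mem_Phi subset_rfl hw).2 hr.2⟩⟩

theorem RS.not_cone_self (R : RS ι Λ) (s k : ι) : ¬R.Cone s s k := by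
  rintro ⟨p, q, hp, hq, hk⟩
  rw [← add_smul] at hk
  obtain ⟨w', hw', j, rfl⟩ := R.exists_W_sim s
  obtain ⟨k, rfl⟩ := w'.surjective k
  obtain ⟨f, hf⟩ := RS.W_lin (inv_mem hw')
  have h2 := congrArg f hk
  rw [map_smul, ← hf, ← hf] at h2
  simp only [Equiv.Perm.coe_inv, Equiv.symm_apply_apply, RS.rt_sim] at h2
  have h3 := congrFun h2 j
  rcases R.reduced (r := k) (i := j) (fun l hl => by simp [h2, hl]) with h4 | h4
  · simp [h4, RS.rt_sim] at h3; omega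
  · simp [h4, RS.rt_sim, RS.rt_neg] at h3; omega

theorem RS.closed_singleton (R : RS ι Λ) (s : ι) : R.Closed {s} := by
  intro a ha b hb k hk
  rw [Set.mem_singleton_iff] at ha hb
  rw [ha, hb] at hk
  exact absurd hk (R.not_cone_self s k)

namespace SRG

open WRG

variable [Fintype ι] {R : RS ι Λ} {K : Type*} [Field K] {G : Type*} [Group G] (X : SRG R K G)

/-- The double coset `X_S n_w X_S`. -/
def Cell (S : Set ι) (w : Equiv.Perm ι) (g : G) : Prop :=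
  ∃ a ∈ X.XS S, ∃ n ∈ X.N, ∃ b ∈ X.XS S, X.Acts n w ∧ g = a * n * b

/-- The subgroup generated by `X_S`, `H` and the `n_{p_j}`, `j ∈ J`. -/
def PJ (J : Set Λ) (S : Set ι) : Subgroup G :=
  X.XS S ⊔ X.H ⊔ Subgroup.closure {g | ∃ j ∈ J, g = X.n (R.sim j) 1}

variable {X}

omit [Fintype ι] in
theorem Cell.mem_W {S : Set ι} {w : Equiv.Perm ι} {g : G} (h : X.Cell S w g) : w ∈ R.W := by
  obtain ⟨_, _, _, _, _, _, h, _⟩ := h; exact h.mem

omit [Fintype ι] in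
theorem Cell.mul_left {S : Set ι} {w : Equiv.Perm ι} {g a : G} (h : X.Cell S w g) (ha : a ∈ X.XS S) :
    X.Cell S w (a * g) := by
  obtain ⟨a', ha', n, hn, b, hb, h, rfl⟩ := h
  exact ⟨a * a', mul_mem ha ha', n, hn, b, hb, h, by group⟩

omit [Fintype ι] in
theorem Cell.mul_right {S : Set ι} {w : Equiv.Perm ι} {g a : G} (h : X.Cell S w g) (ha : a ∈ X.XS S) :
    X.Cell S w (g * a) := by
  obtain ⟨a', ha', n, hn, b, hb, h, rfl⟩ := h
  exact ⟨a', ha', n, hn, b * a, mul_mem hb ha, h, by group⟩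

omit [Fintype ι] in
theorem Cell.H_mul {S : Set ι} {w : Equiv.Perm ι} {g a : G} (h : X.Cell S w g) (ha : a ∈ X.H) :
    X.Cell S w (a * g) := by
  obtain ⟨a', ha', n, hn, b, hb, h, rfl⟩ := h
  exact ⟨a * a' * a⁻¹, X.H_conj_mem ha ha', a * n, mul_mem (X.H_le_N ha) hn, b, hb,
    by simpa using (X.acts_of_mem_H ha).mul h, by group⟩

omit [Fintype ι] in
theorem Cell.inv {S : Set ι} {w : Equiv.Perm ι} {g : G} (h : X.Cell S w g) : X.Cell S w⁻¹ g⁻¹ := by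
  obtain ⟨a', ha', n, hn, b, hb, h, rfl⟩ := h
  exact ⟨b⁻¹, inv_mem hb, n⁻¹, inv_mem hn, a'⁻¹, inv_mem ha', h.inv, by group⟩

omit [Fintype ι] in
theorem Cell.mul_H {S : Set ι} {w : Equiv.Perm ι} {g a : G} (h : X.Cell S w g) (ha : a ∈ X.H) :
    X.Cell S w (g * a) := by
  simpa using (h.inv.H_mul (inv_mem ha)).inv

omit [Fintype ι] in
theorem Cell.B_mul {w : Equiv.Perm ι} {g a : G} (h : X.Cell {r | R.Pos r} w g) (ha : a ∈ X.B) :
    X.Cell {r | R.Pos r} w (a * g) := by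
  obtain ⟨u, hu, b, hb, rfl⟩ := X.mem_B_iff.1 ha
  rw [mul_assoc]; exact (h.H_mul hb).mul_left hu

omit [Fintype ι] in
theorem Cell.mul_B {w : Equiv.Perm ι} {g a : G} (h : X.Cell {r | R.Pos r} w g) (ha : a ∈ X.B) :
    X.Cell {r | R.Pos r} w (g * a) := by
  obtain ⟨u, hu, b, hb, rfl⟩ := X.mem_B_iff.1 ha
  rw [← mul_assoc]; exact (h.mul_right hu).mul_H hb

omit [Fintype ι] in
theorem cell_of_mem_N {S : Set ι} {w : Equiv.Perm ι} {n : G} (hn : n ∈ X.N) (h : X.Acts n w) :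
    X.Cell S w n := ⟨1, one_mem _, n, hn, 1, one_mem _, h, by simp⟩

omit [Fintype ι] in
theorem Cell.mono {S T : Set ι} (hST : S ⊆ T) {w : Equiv.Perm ι} {g : G} (h : X.Cell S w g) :
    X.Cell T w g := by
  obtain ⟨a', ha', n, hn, b, hb, h, rfl⟩ := h
  exact ⟨a', X.XS_mono hST ha', n, hn, b, X.XS_mono hST hb, h, rfl⟩

omit [Fintype ι] in
theorem Cell.mem_grp {S : Set ι} {w : Equiv.Perm ι} {g : G} (h : X.Cell S w g) : g ∈ X.grp := by
  obtain ⟨a', ha', n, hn, b, hb, h, rfl⟩ := h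
  exact mul_mem (mul_mem (X.XS_le_grp _ ha') (X.N_le_grp hn)) (X.XS_le_grp _ hb)

theorem Cell.n_mul {J : Set Λ} {S : Set ι} (hA : R.Adm J S) {i : Λ} (hi : i ∈ J) {w : Equiv.Perm ι}
    (hw : w ∈ R.WJ J) {t : K} (ht : t ≠ 0) {g : G} (h : X.Cell S w g) :
    X.Cell S (R.s i * w) (X.n (R.sim i) t * g) ∨
      (¬R.Pos (w⁻¹ (R.sim i)) ∧ X.Cell S w (X.n (R.sim i) t * g)) := by
  obtain ⟨a, ha, n, hn, b, hb, h, rfl⟩ := h
  obtain ⟨a₁, ha₁, a₂, ha₂, rfl⟩ := X.exists_mul_of_union (S₁ := {r | r ≠ R.sim i}) (S₂ := {R.sim i})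
    hA.closed hA.pos (fun r _ => by simp [em']) ha
  obtain ⟨c, rfl⟩ := X.mem_XS_singleton.1 (X.XS_mono Set.inter_subset_right ha₂)
  have hni := X.acts_n_sim i ht
  have hmi := X.n_mem_N (R.sim i) ht
  have h1 : X.n (R.sim i) t * a₁ * (X.n (R.sim i) t)⁻¹ ∈ X.XS S :=
    hni.conj_mem (fun r hr => hA.stab _ (R.s_mem_WJ hi) r hr.1 (R.pos_sr (hA.pos r hr.1) hr.2)) ha₁
  by_cases hp : R.Pos (w⁻¹ (R.sim i))
  · left
    refine ⟨_, h1, _, mul_mem hmi hn, n⁻¹ * X.x (R.sim i) c * n * b, mul_mem (h.conj_mem' (S := {R.sim i}) ?_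
      (X.x_mem_XS (Set.mem_singleton _) c)) hb, hni.mul h, by group⟩
    rintro _ rfl
    exact hA.stab _ (inv_mem hw) _ (hA.sim i hi) hp
  by_cases hc : c = 0
  · left
    exact ⟨_, h1, _, mul_mem hmi hn, b, hb, hni.mul h, by simp [hc]; group⟩
  right
  refine ⟨hp, ?_⟩
  obtain ⟨c', hc', h2⟩ := hni.conj_x (R.sim i)
  have h3 := h2 c
  rw [RS.s_sim] at h3
  set d := -(c' * c)⁻¹ with hd
  have hd0 : d ≠ 0 := neg_ne_zero.2 (inv_ne_zero (mul_ne_zero hc' hc))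
  have h4 : X.x (R.neg (R.sim i)) (c' * c) = (X.x (R.sim i) d)⁻¹ * X.n (R.sim i) d * (X.x (R.sim i) d)⁻¹ := by
    rw [WRG.n, hd]; simp [mul_assoc]
  have h5 := (X.acts_n_sim i hd0).mul (hni.mul h)
  rw [RS.s_s_mul] at h5
  refine ⟨X.n (R.sim i) t * a₁ * (X.n (R.sim i) t)⁻¹ * (X.x (R.sim i) d)⁻¹,
    mul_mem h1 (inv_mem (X.x_mem_XS (hA.sim i hi) d)), _,
    mul_mem (X.n_mem_N _ hd0) (mul_mem hmi hn),
    (X.n (R.sim i) t * n)⁻¹ * (X.x (R.sim i) d)⁻¹ * (X.n (R.sim i) t * n) * b,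
    mul_mem ((hni.mul h).conj_mem' (S := {R.sim i}) ?_ (inv_mem (X.x_mem_XS (Set.mem_singleton _) d))) hb,
    h5, ?_⟩
  · rintro _ rfl
    refine hA.stab _ (inv_mem (mul_mem (R.s_mem_WJ hi) hw)) _ (hA.sim i hi) ?_
    rw [mul_inv_rev, RS.s_inv, Equiv.Perm.mul_apply, RS.s_sim, RS.W_neg (inv_mem (R.WJ_le_W J hw)),
      RS.pos_neg_iff]
    exact hp
  · calc X.n (R.sim i) t * (a₁ * X.x (R.sim i) c * n * b)
        = X.n (R.sim i) t * a₁ * (X.n (R.sim i) t)⁻¹ *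
          (X.n (R.sim i) t * X.x (R.sim i) c * (X.n (R.sim i) t)⁻¹) * X.n (R.sim i) t * n * b := by group
      _ = _ := by rw [h3, h4]; group

/-- Left multiplication of a cell by an element of the parabolic subgroup `PJ J S`. -/
theorem Cell.PJ_mul {J J' : Set Λ} {S : Set ι} (hA : R.Adm J' S) (hJ : J ⊆ J') {a : G} (ha : a ∈ X.PJ J S)
    {w : Equiv.Perm ι} (hw : w ∈ R.WJ J') {g : G} (h : X.Cell S w g) :
    ∃ v ∈ R.WJ J, X.Cell S (v * w) (a * g) := by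
  let Q : G → Prop := fun a => ∀ w ∈ R.WJ J', ∀ g, X.Cell S w g → ∃ v ∈ R.WJ J, X.Cell S (v * w) (a * g)
  have hQ : ∀ a b, Q a → Q b → Q (a * b) := by
    intro a b ha hb w hw g h
    obtain ⟨v, hv, h1⟩ := hb w hw g h
    obtain ⟨v', hv', h2⟩ := ha _ (mul_mem (R.WJ_mono hJ hv) hw) _ h1
    exact ⟨v' * v, mul_mem hv' hv, by simpa [mul_assoc] using h2⟩
  have hn : ∀ j ∈ J, ∀ t, t ≠ 0 → Q (X.n (R.sim j) t) := by
    intro j hj t ht w hw g h
    rcases h.n_mul hA (hJ hj) hw ht with h1 | h1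
    · exact ⟨_, R.s_mem_WJ hj, h1⟩
    · exact ⟨1, one_mem _, by simpa using h1.2⟩
  let M : Subgroup G :=
    { carrier := {a | Q a ∧ Q a⁻¹}
      one_mem' := by
        have : Q 1 := fun w _ g h => ⟨1, one_mem _, by simpa using h⟩
        exact ⟨this, by simpa using this⟩
      mul_mem' := fun ha hb => ⟨hQ _ _ ha.1 hb.1, by rw [mul_inv_rev]; exact hQ _ _ hb.2 ha.2⟩
      inv_mem' := fun ha => ⟨ha.2, by simpa using ha.1⟩ }
  have hle : X.PJ J S ≤ M := by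
    refine sup_le (sup_le (fun a ha => ⟨?_, ?_⟩) fun a ha => ⟨?_, ?_⟩) ?_
    · exact fun w _ g h => ⟨1, one_mem _, by simpa using h.mul_left ha⟩
    · exact fun w _ g h => ⟨1, one_mem _, by simpa using h.mul_left (inv_mem ha)⟩
    · exact fun w _ g h => ⟨1, one_mem _, by simpa using h.H_mul ha⟩
    · exact fun w _ g h => ⟨1, one_mem _, by simpa using h.H_mul (inv_mem ha)⟩
    · rw [Subgroup.closure_le]
      rintro _ ⟨j, hj, rfl⟩
      exact ⟨hn j hj 1 one_ne_zero, by rw [n_inv]; exact hn j hj _ (by simp)⟩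
  exact (hle ha).1 w hw g h

theorem exists_cell {J : Set Λ} {S : Set ι} (hA : R.Adm J S) {g : G} (hg : g ∈ X.PJ J S) :
    ∃ w ∈ R.WJ J, X.Cell S w g := by
  simpa using Cell.PJ_mul hA subset_rfl hg (one_mem _) (cell_of_mem_N (one_mem _) acts_one)

omit [Fintype ι] in
theorem nw_mem_PJ {J : Set Λ} (S : Set ι) {l : List Λ} (hl : ∀ i ∈ l, i ∈ J) : X.nw l ∈ X.PJ J S := by
  induction l with
  | nil => exact one_mem _
  | cons i l ih =>
    rw [nw_cons]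
    exact mul_mem (Subgroup.mem_sup_right (Subgroup.subset_closure ⟨i, hl i (by simp), rfl⟩))
      (ih fun j hj => hl j (by simp [hj]))

omit [Fintype ι] in
theorem XS_le_PJ (J : Set Λ) (S : Set ι) : X.XS S ≤ X.PJ J S := le_sup_left.trans le_sup_left

omit [Fintype ι] in
theorem H_le_PJ (J : Set Λ) (S : Set ι) : X.H ≤ X.PJ J S := le_sup_right.trans le_sup_left

omit [Fintype ι] in
theorem XS_Phi_le_PJ {J : Set Λ} {S : Set ι} (hS : ∀ i ∈ J, R.sim i ∈ S) : X.XS (R.Phi J) ≤ X.PJ J S := by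
  refine X.XS_le_iff.2 fun r hr t => ?_
  obtain ⟨w, hw, i, hi, rfl⟩ := RS.exists_WJ_sim hr
  obtain ⟨l, hl, rfl⟩ := R.mem_WJ_iff.1 hw
  obtain ⟨c, hc, h⟩ := (X.acts_nw l).conj_x (R.sim i)
  have := h (c⁻¹ * t)
  rw [mul_inv_cancel_left₀ hc] at this
  rw [← this]
  exact mul_mem (mul_mem (nw_mem_PJ S hl) (XS_le_PJ J S (X.x_mem_XS (hS i hi) _))) (inv_mem (nw_mem_PJ S hl))

omit [Fintype ι] in
theorem PJ_le {J : Set Λ} {S : Set ι} : X.PJ J S ≤ X.XS S ⊔ X.H ⊔ X.XS (R.Phi J) := by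
  refine sup_le le_sup_left (le_trans ?_ le_sup_right)
  rw [Subgroup.closure_le]
  rintro _ ⟨j, hj, rfl⟩
  exact X.n_mem_XS (RS.sim_mem_Phi.2 hj) (RS.neg_mem_Phi.2 (RS.sim_mem_Phi.2 hj)) _

omit [Fintype ι] in
theorem PJ_univ : X.PJ Set.univ {r | R.Pos r} = X.grp := by
  apply le_antisymm
  · exact PJ_le.trans (sup_le (sup_le (X.XS_le_grp _) X.H_le_grp) (X.XS_le_grp _))
  · have := XS_Phi_le_PJ (X := X) (J := Set.univ) (S := {r | R.Pos r}) fun i _ => R.pos_sim i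
    rwa [RS.Phi_univ] at this

theorem exists_cell_of_mem_grp {g : G} (hg : g ∈ X.grp) : ∃ w, X.Cell {r | R.Pos r} w g := by
  obtain ⟨w, -, h⟩ := exists_cell (R.adm_pos Set.univ) (PJ_univ (X := X) ▸ hg)
  exact ⟨w, h⟩

theorem exists_cell_levi {J : Set Λ} {g : G} (hg : g ∈ X.XS (R.Phi J) ⊔ X.H) :
    ∃ w ∈ R.WJ J, X.Cell {r | R.Pos r ∧ r ∈ R.Phi J} w g :=
  exists_cell (R.adm_Phi J) ((sup_le (XS_Phi_le_PJ (R.adm_Phi J).sim) (H_le_PJ _ _) :
    X.XS (R.Phi J) ⊔ X.H ≤ _) hg)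

theorem Cell.refine {J : Set Λ} {S : Set ι} (hA : R.Adm J S) {w : Equiv.Perm ι} (hw : w ∈ R.WJ J) {g : G}
    (h : X.Cell S w g) :
    ∃ a ∈ X.XS S, ∃ n ∈ X.N, ∃ b ∈ X.XS (S ∩ R.inv w), X.Acts n w ∧ g = a * n * b := by
  obtain ⟨a, ha, n, hn, b, hb, h, rfl⟩ := h
  obtain ⟨b₁, hb₁, b₂, hb₂, rfl⟩ := X.exists_mul_of_union (S₁ := {r | R.Pos (w r)}) (S₂ := R.inv w)
    hA.closed hA.pos (fun r hr => by
      by_cases hp : R.Pos (w r)
      · exact Or.inl hp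
      · exact Or.inr (RS.mem_inv.2 ⟨hA.pos r hr, hp⟩)) hb
  exact ⟨a * (n * b₁ * n⁻¹), mul_mem ha (h.conj_mem (fun r hr => hA.stab w hw r hr.1 hr.2) hb₁), n, hn,
    b₂, hb₂, h, by group⟩

theorem Cell.refine' {w : Equiv.Perm ι} {g : G} (h : X.Cell {r | R.Pos r} w g) :
    ∃ a ∈ X.U, ∃ n ∈ X.N, ∃ b ∈ X.XS (R.inv w), X.Acts n w ∧ g = a * n * b := by
  obtain ⟨a, ha, n, hn, b, hb, h1, h2⟩ := h.refine (R.adm_pos Set.univ) h.mem_W
  exact ⟨a, ha, n, hn, b, X.XS_mono Set.inter_subset_right hb, h1, h2⟩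

/-- Bruhat decomposition, existence. -/
theorem exists_bruhat {g : G} (hg : g ∈ X.grp) :
    ∃ w, ∃ a ∈ X.U, ∃ n ∈ X.N, ∃ b ∈ X.XS (R.inv w), X.Acts n w ∧ g = a * n * b := by
  obtain ⟨w, h⟩ := exists_cell_of_mem_grp hg
  exact ⟨w, h.refine'⟩

theorem XS_inv_le_U (w : Equiv.Perm ι) : X.XS (R.inv w) ≤ X.U :=
  X.XS_mono fun _ hr => (RS.mem_inv.1 hr).1

theorem exists_N_w0 : ∃ n ∈ X.N, X.Acts n (R.w0 Set.univ) := X.exists_N_acts (R.w0_mem_W _)

theorem Acts_w0_conj_U {n : G} (h : X.Acts n (R.w0 Set.univ)) {a : G} (ha : a ∈ X.U) : n * a * n⁻¹ ∈ X.V :=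
  h.conj_mem (fun r hr => by
    simp only [Set.mem_ofPred_eq] at hr ⊢; rw [RS.pos_w0_univ_iff]; simpa using hr) ha

theorem Acts_w0_conj_V {n : G} (h : X.Acts n (R.w0 Set.univ)) {a : G} (ha : a ∈ X.V) : n * a * n⁻¹ ∈ X.U :=
  h.conj_mem (fun r hr => by
    simp only [Set.mem_ofPred_eq] at hr ⊢; rw [RS.pos_w0_univ_iff]; simpa using hr) ha

end SRG

namespace RG

open WRG SRG

variable [Fintype ι] {R : RS ι Λ} {K : Type*} [Field K] {G : Type*} [Group G] (X : RG R K G)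

omit [Fintype ι] in
theorem x_eq_one {r : ι} {a : K} (h : X.x r a = 1) : a = 0 := by
  obtain ⟨w, hw, i, rfl⟩ := R.exists_W_sim r
  obtain ⟨n, -, hn⟩ := X.exists_N_acts (inv_mem hw)
  obtain ⟨c, hc, h1⟩ := hn.conj_x (w (R.sim i))
  have := h1 a
  rw [h] at this
  simp only [mul_one, mul_inv_cancel, Equiv.Perm.coe_inv, Equiv.symm_apply_apply] at this
  simpa [hc] using X.nd1.x_eq_one (R.pos_sim i) this.symm

omit [Fintype ι] in
theorem x_injective (r : ι) : Function.Injective (X.x r) := by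
  intro a b h
  have : X.x r (a - b) = 1 := by rw [sub_eq_add_neg, X.x_add, h, ← x_inv, mul_inv_cancel]
  exact sub_eq_zero.1 (X.x_eq_one this)

omit [Fintype ι] in
theorem eq_one_of_mem_B_V {g : G} (h1 : g ∈ X.B) (h2 : g ∈ X.V) : g = 1 := by
  have : g ∈ X.B ⊓ X.V := ⟨h1, h2⟩
  rwa [X.nd2, Subgroup.mem_bot] at this

theorem root_eq_of_x_eq {r s : ι} {a b : K} (ha : a ≠ 0) (h : X.x r a = X.x s b) : r = s := by
  obtain ⟨w, hw, i, rfl⟩ := R.exists_W_sim r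
  obtain ⟨s, rfl⟩ := w.surjective s
  obtain ⟨n, -, c, hc⟩ := X.exists_N_acts (inv_mem hw)
  have h1 := hc.conj (w (R.sim i)) a
  rw [h, hc.conj] at h1
  simp only [Equiv.Perm.coe_inv, Equiv.symm_apply_apply] at h1
  have ha' := mul_ne_zero (hc.ne_zero (w (R.sim i))) ha
  congr 1
  by_cases hs : R.Pos s
  · refine X.mem_of_x_mem_XS X.nd1 (T := {s}) ?_ (by rintro _ rfl; exact hs) (R.pos_sim i) ha'
      (h1 ▸ X.x_mem_XS (Set.mem_singleton s) _)
    exact R.closed_singleton s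
  · exact absurd (X.x_eq_one (X.eq_one_of_mem_B_V (X.U_le_B (X.x_mem_XS (R.pos_sim i) _))
      (h1 ▸ X.x_mem_XS hs _))) ha'

theorem acts_unique {g : G} {w w' : Equiv.Perm ι} (h : X.Acts g w) (h' : X.Acts g w') : w = w' := by
  ext r
  obtain ⟨c, hc, h1⟩ := h.conj_x r
  obtain ⟨c', -, h2⟩ := h'.conj_x r
  exact X.root_eq_of_x_eq (mul_ne_zero hc one_ne_zero) ((h1 1).symm.trans (h2 1))

theorem mem_H_of_acts_one {g : G} (hg : g ∈ X.N) (h : X.Acts g 1) : g ∈ X.H := by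
  obtain ⟨l, a, ha, rfl⟩ := X.exists_nw_of_mem_N hg
  have h1 := (X.acts_nw l).mul (X.acts_of_mem_H ha)
  rw [mul_one] at h1
  exact mul_mem (X.nw_mem_H (X.acts_unique h1 h)) ha

theorem inv_mul_mem_H {n n' : G} {w : Equiv.Perm ι} (hn : n ∈ X.N) (hn' : n' ∈ X.N) (h : X.Acts n w)
    (h' : X.Acts n' w) : n⁻¹ * n' ∈ X.H :=
  X.mem_H_of_acts_one (mul_mem (inv_mem hn) hn') (by simpa using h.inv.mul h')

theorem mul_inv_mem_H {n n' : G} {w : Equiv.Perm ι} (hn : n ∈ X.N) (hn' : n' ∈ X.N) (h : X.Acts n w)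
    (h' : X.Acts n' w) : n * n'⁻¹ ∈ X.H :=
  X.mem_H_of_acts_one (mul_mem hn (inv_mem hn')) (by simpa using h.mul h'.inv)

theorem eq_one_of_acts_of_conj {g : G} {w : Equiv.Perm ι} (h : X.Acts g w)
    (hg : ∀ i, g * X.x (R.sim i) 1 * g⁻¹ ∈ X.B) : w = 1 := by
  refine RS.eq_one_of_simple_pos (J := Set.univ) h.mem fun i _ => ?_
  by_contra hp
  obtain ⟨c, hc, h1⟩ := h.conj_x (R.sim i)
  have h2 := hg i
  rw [h1] at h2
  exact mul_ne_zero hc one_ne_zero (X.x_eq_one (X.eq_one_of_mem_B_V h2 (X.x_mem_XS hp _)))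

theorem eq_one_of_acts_of_mem_B {g : G} {w : Equiv.Perm ι} (h : X.Acts g w) (hg : g ∈ X.B) : w = 1 :=
  X.eq_one_of_acts_of_conj h fun i =>
    mul_mem (mul_mem hg (X.U_le_B (X.x_mem_XS (R.pos_sim i) _))) (inv_mem hg)

theorem B_inf_N : X.B ⊓ X.N = X.H := by
  refine le_antisymm (fun g hg => ?_) (le_inf X.H_le_B X.H_le_N)
  obtain ⟨w, hw⟩ := X.exists_acts_of_mem_N hg.2
  exact X.mem_H_of_acts_one hg.2 (X.eq_one_of_acts_of_mem_B hw hg.1 ▸ hw)

theorem mem_H_of_B_N {g : G} (h1 : g ∈ X.B) (h2 : g ∈ X.N) : g ∈ X.H := X.B_inf_N ▸ ⟨h1, h2⟩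

theorem eq_one_of_mem_U_H {g : G} (h1 : g ∈ X.U) (h2 : g ∈ X.H) : g = 1 := by
  obtain ⟨n, hn, h⟩ := exists_N_w0 (X := X.toSRG)
  have := X.eq_one_of_mem_B_V (X.H_le_B (X.N_conj_H hn h2)) (Acts_w0_conj_U h h1)
  simpa [mul_inv_eq_one] using this

theorem U_inf_H : X.U ⊓ X.H = ⊥ := le_bot_iff.1 fun _ hg => X.eq_one_of_mem_U_H hg.1 hg.2

theorem U_inf_N : X.U ⊓ X.N = ⊥ :=
  le_bot_iff.1 fun _ hg => X.eq_one_of_mem_U_H hg.1 (X.mem_H_of_B_N (X.U_le_B hg.1) hg.2)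

omit [Fintype ι] in
theorem B_inf_V_sup_H : X.B ⊓ (X.V ⊔ X.H) = X.H := by
  refine le_antisymm (fun g hg => ?_) (le_inf X.H_le_B le_sup_right)
  obtain ⟨v, hv, a, ha, rfl⟩ := X.mem_XS_sup_H.1 hg.2
  have : v = 1 := X.eq_one_of_mem_B_V ((mul_mem_cancel_right (X.H_le_B ha)).1 hg.1) hv
  simpa [this] using ha

theorem cell_one_iff {g : G} : X.Cell {r | R.Pos r} 1 g ↔ g ∈ X.B := by
  constructor
  · rintro ⟨a, ha, n, hn, b, hb, h, rfl⟩
    exact mul_mem (mul_mem (X.U_le_B ha) (X.H_le_B (X.mem_H_of_acts_one hn h))) (X.U_le_B hb)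
  · intro hg
    simpa using (cell_of_mem_N (X := X.toSRG) (one_mem _) acts_one).B_mul hg

theorem cell_unique {w w' : Equiv.Perm ι} {g : G} (h : X.Cell {r | R.Pos r} w g)
    (h' : X.Cell {r | R.Pos r} w' g) : w = w' := by
  have key : ∀ m, ∀ w w' : Equiv.Perm ι, ∀ g, R.len w' = m → R.len w' ≤ R.len w →
      X.Cell {r | R.Pos r} w g → X.Cell {r | R.Pos r} w' g → w = w' := by
    intro m
    induction m with
    | zero =>
      intro w w' g hm _ h h'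
      obtain rfl := RS.eq_one_of_len_eq_zero h'.mem_W hm
      obtain ⟨a, ha, n, hn, b, hb, h, rfl⟩ := h
      rw [cell_one_iff] at h'
      exact X.eq_one_of_acts_of_mem_B h
        ((mul_mem_cancel_left (X.U_le_B ha)).1 ((mul_mem_cancel_right (X.U_le_B hb)).1 h'))
    | succ m ih =>
      intro w w' g hm hle h h'
      have hw := h.mem_W
      have hw' := h'.mem_W
      obtain ⟨i, -, hi⟩ := RS.exists_right_descent (J := Set.univ) (inv_mem hw') (by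
        rintro h1
        rw [inv_eq_one] at h1
        rw [h1, RS.len_one] at hm; omega)
      have h1 := RS.len_s_mul_of_neg hw' hi
      obtain ⟨a, ha, n, hn, b, hb, hnw, rfl⟩ := h'
      have h2 : X.Cell {r | R.Pos r} w n := by
        simpa [mul_assoc] using (h.mul_left (inv_mem ha)).mul_right (inv_mem hb)
      have h3 : X.Cell {r | R.Pos r} (R.s i * w') (X.n (R.sim i) 1 * n) :=
        cell_of_mem_N (mul_mem (X.n_mem_N _ one_ne_zero) hn) ((X.acts_n_sim i one_ne_zero).mul hnw)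
      rcases h2.n_mul (R.adm_pos Set.univ) (Set.mem_univ i) hw one_ne_zero with h4 | ⟨-, h4⟩
      · refine mul_left_cancel (ih _ _ _ (by omega) ?_ h4 h3)
        by_cases hp : R.Pos (w⁻¹ (R.sim i))
        · rw [RS.len_s_mul_of_pos hw hp]; omega
        · have := RS.len_s_mul_of_neg hw hp; omega
      · have := ih _ _ _ (by omega) (by omega) h4 h3
        rw [this] at hle; omega
  rcases le_total (R.len w') (R.len w) with hle | hle
  · exact key _ _ _ _ rfl hle h h'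
  · exact (key _ _ _ _ rfl hle h' h).symm

/-- Bruhat decomposition, uniqueness. -/
theorem bruhat_unique {w w' : Equiv.Perm ι} {a a' n n' b b' : G} (ha : a ∈ X.U) (ha' : a' ∈ X.U)
    (hn : n ∈ X.N) (hn' : n' ∈ X.N) (hb : b ∈ X.XS (R.inv w)) (hb' : b' ∈ X.XS (R.inv w'))
    (hw : X.Acts n w) (hw' : X.Acts n' w') (h : a * n * b = a' * n' * b') :
    w = w' ∧ a = a' ∧ n = n' ∧ b = b' := by
  have h0 : w = w' := X.cell_unique (g := a * n * b) ⟨a, ha, n, hn, b, XS_inv_le_U _ hb, hw, rfl⟩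
    ⟨a', ha', n', hn', b', XS_inv_le_U _ hb', hw', h⟩
  subst h0
  have h1 := X.mul_inv_mem_H hn' hn hw' hw
  have h2 : n * (b' * b⁻¹) * n⁻¹ = (n' * n⁻¹)⁻¹ * (a'⁻¹ * a) := by
    rw [eq_comm, inv_mul_eq_iff_eq_mul]
    have : a = a' * n' * b' * b⁻¹ * n⁻¹ := by rw [← h]; group
    rw [this]; group
  have h3 : n * (b' * b⁻¹) * n⁻¹ = 1 := by
    refine X.eq_one_of_mem_B_V ?_ (hw.conj_mem (fun r hr => (RS.mem_inv.1 hr).2) (mul_mem hb' (inv_mem hb)))
    rw [h2]; exact mul_mem (inv_mem (X.H_le_B h1)) (X.U_le_B (mul_mem (inv_mem ha') ha))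
  have h4 : b = b' := by
    have : b' * b⁻¹ = 1 := by simpa [mul_inv_eq_one] using h3
    exact (mul_inv_eq_one.1 this).symm
  rw [h3, eq_comm, inv_mul_eq_one] at h2
  have h5 : n' * n⁻¹ = 1 := X.eq_one_of_mem_U_H (h2 ▸ mul_mem (inv_mem ha') ha) h1
  rw [h5, eq_comm, inv_mul_eq_one] at h2
  exact ⟨rfl, h2.symm, (mul_inv_eq_one.1 h5).symm, h4⟩

/-- The homomorphism `N → W`. -/
noncomputable def piN : X.N →* R.W where
  toFun n := ⟨(X.exists_acts_of_mem_N n.2).choose, (X.exists_acts_of_mem_N n.2).choose_spec.mem⟩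
  map_one' := Subtype.ext (X.acts_unique (X.exists_acts_of_mem_N (one_mem _)).choose_spec acts_one)
  map_mul' n n' := Subtype.ext (X.acts_unique (X.exists_acts_of_mem_N (mul_mem n.2 n'.2)).choose_spec
    ((X.exists_acts_of_mem_N n.2).choose_spec.mul (X.exists_acts_of_mem_N n'.2).choose_spec))

theorem acts_piN (n : X.N) : X.Acts n (X.piN n) := (X.exists_acts_of_mem_N n.2).choose_spec

theorem piN_eq {n : X.N} {w : Equiv.Perm ι} (h : X.Acts n w) : (X.piN n : Equiv.Perm ι) = w :=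
  X.acts_unique (X.acts_piN n) h

theorem piN_surjective : Function.Surjective X.piN := by
  intro w
  obtain ⟨n, hn, h⟩ := X.exists_N_acts w.2
  exact ⟨⟨n, hn⟩, Subtype.ext (X.piN_eq h)⟩

theorem piN_ker : X.piN.ker = X.H.subgroupOf X.N := by
  ext n
  rw [MonoidHom.mem_ker, Subgroup.mem_subgroupOf]
  constructor
  · intro h
    have := X.acts_piN n
    rw [h] at this
    exact X.mem_H_of_acts_one n.2 this
  · intro h
    exact Subtype.ext (X.piN_eq (X.acts_of_mem_H h))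

/-- An element of the group that normalises `B` lies in `B`. -/
theorem mem_B_of_conj {g : G} (hg : g ∈ X.grp) (h : ∀ u ∈ X.U, g * u * g⁻¹ ∈ X.B) : g ∈ X.B := by
  obtain ⟨w, a, ha, n, hn, b, hb, hw, rfl⟩ := exists_cell_of_mem_grp hg
  have : w = 1 := X.eq_one_of_acts_of_conj hw fun i => by
    have h1 := h (b⁻¹ * X.x (R.sim i) 1 * b) (mul_mem (mul_mem (inv_mem hb) (X.x_mem_XS (R.pos_sim i) _)) hb)
    have h2 := mul_mem (mul_mem (inv_mem (X.U_le_B ha)) h1) (X.U_le_B ha)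
    simpa [mul_assoc] using h2
  subst this
  exact X.cell_one_iff.1 ⟨a, ha, n, hn, b, hb, hw, rfl⟩

theorem chi_eq_one_of_commute {c : Λ → Kˣ} {u : G} (hu : u ∈ X.U) {s : ι}
    (hs : u ∉ X.XS {r | R.Pos r ∧ r ≠ s}) (h : X.hmap c * u = u * X.hmap c) : R.chi s c = 1 := by
  obtain ⟨t, rfl⟩ := X.exists_P R.closed_pos (fun _ h => h) nodup_posList (fun r => mem_posList) hu
  have h1 := (X.actsBy_hmap c).conj_P (posList R) t
  rw [h, mul_inv_cancel_right] at h1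
  simp only [Equiv.Perm.coe_one, List.map_id_fun, id_eq, inv_one] at h1
  have h2 := X.P_injective X.nd1 R.closed_pos (fun _ h => h) nodup_posList (fun r => mem_posList.1) h1
  by_cases ht : s ∈ posList R ∧ t s ≠ 0
  · have := h2 s ht.1
    ext
    exact (mul_left_eq_self₀.1 this.symm).resolve_right ht.2
  · refine absurd (X.P_mem_of fun r hr => ?_) hs
    by_cases hrs : r = s
    · subst hrs; right; by_contra h0; exact ht ⟨hr, h0⟩
    · exact Or.inl ⟨mem_posList.1 hr, hrs⟩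

omit [Fintype ι] in
theorem hmap_commute_x {c : Λ → Kˣ} {s : ι} (h : R.chi s c = 1) (t : K) :
    X.hmap c * X.x s t = X.x s t * X.hmap c := by
  have := (X.actsBy_hmap c).conj s t
  rw [h] at this
  simp only [Equiv.Perm.coe_one, id_eq, Units.val_one, one_mul] at this
  rw [← mul_inv_eq_iff_eq_mul, this]

omit [Fintype ι] in
theorem chi_eq_one_of_simple {c : Λ → Kˣ} (h : ∀ i, R.chi (R.sim i) c = 1) (s : ι) : R.chi s c = 1 := by
  rw [RS.chi_eq_prod]; simp [h]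

/-- The elements of the group commuting with all root elements. -/
theorem central_iff {g : G} (hg : g ∈ X.grp) :
    (∀ a ∈ X.grp, g * a = a * g) ↔ ∃ c, (∀ i, R.chi (R.sim i) c = 1) ∧ g = X.hmap c := by
  constructor
  · intro h
    have h1 : g ∈ X.B := X.mem_B_of_conj hg fun u hu => by
      rw [h u (X.U_le_grp hu), mul_inv_cancel_right]; exact X.U_le_B hu
    obtain ⟨n, hn, hw⟩ := exists_N_w0 (X := X.toSRG)
    obtain ⟨u, hu, a, ha, hua⟩ := X.mem_B_iff.1 h1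
    have h2 : g ∈ X.V ⊔ X.H := by
      have : g = (n * u * n⁻¹) * (n * a * n⁻¹) := by
        calc g = n * g * n⁻¹ := by rw [← h n (X.N_le_grp hn), mul_inv_cancel_right]
          _ = _ := by rw [hua]; group
      rw [this]
      exact mul_mem (Subgroup.mem_sup_left (Acts_w0_conj_U hw hu)) (Subgroup.mem_sup_right (X.N_conj_H hn ha))
    have h3 : g ∈ X.H := X.B_inf_V_sup_H ▸ ⟨h1, h2⟩
    obtain ⟨c, rfl⟩ := X.mem_H_iff.1 h3
    refine ⟨c, fun i => ?_, rfl⟩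
    have h4 := (X.actsBy_hmap c).conj (R.sim i) 1
    rw [h _ (X.x_mem_grp _ _), mul_inv_cancel_right] at h4
    have := X.x_injective _ h4
    ext; simpa using this.symm
  · rintro ⟨c, hc, rfl⟩
    refine X.XS_induction (by simp) fun r _ t a _ ih => ?_
    rw [← mul_assoc, X.hmap_commute_x (chi_eq_one_of_simple hc r), mul_assoc, ih, mul_assoc]

end RG

end H20
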