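import Mathlib
import Cfsg.Prelude.Def_LieExceptional
import Cfsg.Agent.H20.Bruhat
import Cfsg.Agent.H8.BNPair

/-!
Subgroups of a root group which are compatible with the Bruhat decomposition (`H20.Tw`): the whole
group, and the twisted groups.  (B,N)-pair, order formula, Weyl group, core, simplicity.
-/

set_option autoImplicit false

namespace H20

open Finset

variable {ι Λ : Type} [LinearOrder ι] [Fintype Λ] [DecidableEq Λ] [Fintype ι]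

namespace WRG

variable {R : RS ι Λ} {K : Type*} [Field K] {G : Type*} [Group G] (X : WRG R K G)

theorem isNilpotent_XS {S : Set ι} (hS : R.Closed S) (hpos : ∀ r ∈ S, R.Pos r) :
    Group.IsNilpotent (X.XS S) := by
  rw [Subgroup.isNilpotent_iff_lowerCentralSeries]
  have := upper_induction (S := S) (Q := fun T => ∃ n, (X.XS S).lowerCentralSeries n ≤ X.XS T)
    ⟨0, le_rfl⟩ (by
      rintro m T hm hTS hmT hup ⟨n, hn⟩
      have hT : ∀ r ∈ T, ∀ k ∈ S, r < k → k ∈ T := fun r hr k hk h => hup k hk ((hmT r hr).trans h)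
      refine ⟨n + 1, ?_⟩
      rw [Subgroup.lowerCentralSeries_succ, Subgroup.commutator_le]
      intro a ha g hg
      obtain ⟨c, y, hy, rfl⟩ := X.mem_XS_insert hS hpos hTS hT hm (hn ha)
      obtain ⟨z, hz, h⟩ := X.central_mod_upper hS hpos hTS hT hm hup c hg
      have hxg : X.x m c * g ∈ X.XS S := mul_mem (X.x_mem_XS hm c) hg
      have h2 : X.x m c * y * g * (X.x m c * y)⁻¹ * g⁻¹ = (X.x m c * y * (X.x m c)⁻¹) * (X.x m c * g * (g * X.x m c)⁻¹) *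
          (g * X.x m c * y⁻¹ * (g * X.x m c)⁻¹) := by
        group
      rw [commutatorElement_def, h2]
      refine mul_mem (mul_mem (X.conj_mem_upper hS hpos hTS hT (X.x_mem_XS hm c) hy) ?_)
        (X.conj_mem_upper hS hpos hTS hT (mul_mem hg (X.x_mem_XS hm c)) (inv_mem hy))
      rw [h]
      have := X.conj_mem_upper hS hpos hTS hT hxg (inv_mem hz)
      convert this using 1
      group)
  obtain ⟨n, hn⟩ := this
  exact ⟨n, le_bot_iff.1 (X.XS_empty ▸ hn)⟩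

end WRG

theorem SRG.isSolvable_B {R : RS ι Λ} {K : Type*} [Field K] {G : Type*} [Group G] (X : SRG R K G) :
    Group.IsSolvable X.B := by
  have : Group.IsNilpotent X.U := X.isNilpotent_XS R.closed_pos fun _ h => h
  refine Group.isSolvable_of_ker_le_range (Subgroup.inclusion X.U_le_B) (Abelianization.of (G := X.B)) ?_
  rw [Abelianization.ker_of, commutator_def, Subgroup.commutator_le]
  rintro ⟨a, ha⟩ - ⟨b, hb⟩ -
  obtain ⟨u, hu, h, hh, rfl⟩ := X.mem_B_iff.1 ha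
  obtain ⟨u', hu', h', hh', rfl⟩ := X.mem_B_iff.1 hb
  refine ⟨⟨u * (h * u' * h⁻¹) * (h' * u⁻¹ * h'⁻¹) * u'⁻¹, mul_mem (mul_mem (mul_mem hu (X.H_conj_mem hh hu'))
    (X.H_conj_mem hh' (inv_mem hu))) (inv_mem hu')⟩, Subtype.ext ?_⟩
  simp only [Subgroup.coe_inclusion, commutatorElement_def, Subgroup.coe_mul, Subgroup.coe_inv]
  have := X.H_comm hh hh'
  calc u * (h * u' * h⁻¹) * (h' * u⁻¹ * h'⁻¹) * u'⁻¹
      = u * h * u' * (h⁻¹ * (h' * h) * h⁻¹) * u⁻¹ * h'⁻¹ * u'⁻¹ := by group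
    _ = _ := by rw [← this]; group

/-- A subgroup `Γ` of a root group compatible with the Bruhat decomposition, with distinguished
subsets `J i` of the simple roots (the orbits of the diagram symmetry). -/
structure Tw {R : RS ι Λ} {K : Type*} [Field K] {G : Type*} [Group G] (X : RG R K G) (Γ : Subgroup G)
    (I : Type) where
  J : I → Set Λ
  nJ : I → G
  le : Γ ≤ X.grp
  bc : ∀ w a n b, a ∈ X.U → n ∈ X.N → b ∈ X.XS (R.inv w) → X.Acts n w → a * n * b ∈ Γ →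
    a ∈ Γ ∧ n ∈ Γ ∧ b ∈ Γ
  nJ_mem : ∀ i, nJ i ∈ Γ
  nJ_N : ∀ i, nJ i ∈ X.N
  nJ_acts : ∀ i, X.Acts (nJ i) (R.w0 (J i))
  J_inj : Function.Injective J
  J_nonempty : ∀ i, (J i).Nonempty
  dich : ∀ n w, n ∈ Γ → n ∈ X.N → X.Acts n w → ∀ i,
    (∀ j ∈ J i, R.Pos (w (R.sim j))) ∨ (∀ j ∈ J i, ¬R.Pos (w (R.sim j)))
  cover : ∀ j, ∃ i, j ∈ J i
  coord : ∀ i, ∀ j ∈ J i, ∃ u ∈ Γ, u ∈ X.XS {r | R.Pos r ∧ r ∈ R.Phi (J i)} ∧
    u ∉ X.XS {r | R.Pos r ∧ r ≠ R.sim j}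

namespace Tw

open WRG SRG

variable {R : RS ι Λ} {K : Type*} [Field K] {G : Type*} [Group G] {X : RG R K G} {Γ : Subgroup G}
  {I : Type} (T : Tw X Γ I)

/-- The Weyl group `W¹` of `Γ`. -/
def W1 (_T : Tw X Γ I) : Subgroup (Equiv.Perm ι) where
  carrier := {w | ∃ n ∈ Γ, n ∈ X.N ∧ X.Acts n w}
  one_mem' := ⟨1, one_mem _, one_mem _, acts_one⟩
  mul_mem' := fun ⟨n, h1, h2, h3⟩ ⟨n', h1', h2', h3'⟩ => ⟨n * n', mul_mem h1 h1', mul_mem h2 h2', h3.mul h3'⟩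
  inv_mem' := fun ⟨n, h1, h2, h3⟩ => ⟨n⁻¹, inv_mem h1, inv_mem h2, h3.inv⟩

theorem mem_W1 {w : Equiv.Perm ι} : w ∈ T.W1 ↔ ∃ n ∈ Γ, n ∈ X.N ∧ X.Acts n w := Iff.rfl

theorem W1_le_W : T.W1 ≤ R.W := fun _ ⟨_, _, _, h⟩ => h.mem

theorem w0J_mem (i : I) : R.w0 (T.J i) ∈ T.W1 := ⟨_, T.nJ_mem i, T.nJ_N i, T.nJ_acts i⟩

theorem dich' {w : Equiv.Perm ι} (hw : w ∈ T.W1) (i : I) :
    (∀ j ∈ T.J i, R.Pos (w (R.sim j))) ∨ (∀ j ∈ T.J i, ¬R.Pos (w (R.sim j))) := by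
  obtain ⟨n, h1, h2, h3⟩ := hw
  exact T.dich n w h1 h2 h3 i

theorem eq_one_or_w0 {w : Equiv.Perm ι} (hw : w ∈ T.W1) {i : I} (hJ : w ∈ R.WJ (T.J i)) :
    w = 1 ∨ w = R.w0 (T.J i) :=
  (T.dich' hw i).imp (RS.eq_one_of_simple_pos hJ) (RS.eq_w0 hJ)

theorem len_w0J_pos (i : I) : 0 < R.len (R.w0 (T.J i)) := by
  obtain ⟨j, hj⟩ := T.J_nonempty i
  exact card_pos.2 ⟨R.sim j, RS.mem_inv_w0.2 ⟨R.pos_sim j, RS.sim_mem_Phi.2 hj⟩⟩

omit [Fintype ι] in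
theorem _root_.H20.RS.simple_pos_mul_w0 [Fintype ι] {J : Set Λ} {w : Equiv.Perm ι} (hw : w ∈ R.W)
    (h : ∀ j ∈ J, ¬R.Pos (w (R.sim j))) : ∀ j ∈ J, R.Pos ((w * R.w0 J) (R.sim j)) := by
  intro j hj
  have h1 : R.neg (R.w0 J (R.sim j)) ∈ R.Phi J :=
    RS.neg_mem_Phi.2 ((RS.WJ_mem_Phi subset_rfl (R.w0_mem J)).2 (RS.sim_mem_Phi.2 hj))
  have := RS.not_pos_of_simple_neg hw h (R.pos_neg_iff.2 (RS.w0_sim hj)) h1
  rw [RS.W_neg hw, RS.pos_neg_iff] at this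
  simpa using this

theorem len_mul_w0J {w : Equiv.Perm ι} (hw : w ∈ R.W) {i : I} (h : ∀ j ∈ T.J i, R.Pos (w (R.sim j))) :
    R.len (w * R.w0 (T.J i)) = R.len w + R.len (R.w0 (T.J i)) :=
  RS.len_mul hw (R.w0_mem_W _) (RS.len_mul_of_simple_pos hw h (R.w0_mem _))

/-- `L` is a union of distinguished subsets. -/
def Sat (L : Set Λ) : Prop := ∀ i, ∀ j ∈ T.J i, j ∈ L → T.J i ⊆ L

theorem sat_univ : T.Sat Set.univ := fun _ _ _ _ => Set.subset_univ _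

theorem W1_induction {L : Set Λ} (hL : T.Sat L) {P : Equiv.Perm ι → Prop} (h1 : P 1)
    (hs : ∀ i, T.J i ⊆ L → ∀ w ∈ T.W1, w ∈ R.WJ L → (∀ j ∈ T.J i, R.Pos (w (R.sim j))) → P w →
      P (w * R.w0 (T.J i))) : ∀ w ∈ T.W1, w ∈ R.WJ L → P w := by
  intro w hw hwL
  induction' hn : R.len w using Nat.strong_induction_on with n ih generalizing w
  by_cases h : w = 1
  · rw [h]; exact h1
  obtain ⟨j, hj, h2⟩ := RS.exists_right_descent hwL h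
  obtain ⟨i, hi⟩ := T.cover j
  have hiL := hL i j hi hj
  have h3 := (T.dich' hw i).resolve_left fun h' => h2 (h' j hi)
  have h4 := RS.simple_pos_mul_w0 (T.W1_le_W hw) h3
  have h5 := mul_mem hw (T.w0J_mem i)
  have h6 := mul_mem hwL (R.WJ_mono hiL (R.w0_mem (T.J i)))
  have h7 := T.len_mul_w0J (T.W1_le_W h5) h4
  have h8 : w * R.w0 (T.J i) * R.w0 (T.J i) = w := by rw [mul_assoc, RS.w0_mul_w0, mul_one]
  rw [h8] at h7
  have := hs i hiL _ h5 h6 h4 (ih _ (by have := T.len_w0J_pos i; omega) _ h5 h6 rfl)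
  rwa [h8] at this

theorem W1_inf_WJ {L : Set Λ} (hL : T.Sat L) :
    T.W1 ⊓ R.WJ L = Subgroup.closure {w | ∃ i, T.J i ⊆ L ∧ w = R.w0 (T.J i)} := by
  apply le_antisymm
  · rintro w ⟨h1, h2⟩
    refine T.W1_induction hL (one_mem _) (fun i hi w _ _ _ h => mul_mem h ?_) w h1 h2
    exact Subgroup.subset_closure ⟨i, hi, rfl⟩
  · rw [Subgroup.closure_le]
    rintro _ ⟨i, hi, rfl⟩
    exact ⟨T.w0J_mem i, R.WJ_mono hi (R.w0_mem _)⟩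

theorem W1_eq_closure : T.W1 = Subgroup.closure (Set.range fun i => R.w0 (T.J i)) := by
  have := T.W1_inf_WJ T.sat_univ
  rw [inf_eq_left.2 (show T.W1 ≤ R.WJ Set.univ from T.W1_le_W)] at this
  rw [this]; congr 1; ext w; simp [eq_comm]

theorem exists_coset_decomp {L : Set Λ} (hL : T.Sat L) {w : Equiv.Perm ι} (hw : w ∈ T.W1) :
    ∃ v ∈ T.W1, v ∈ R.WJ L ∧ ∀ j ∈ L, R.Pos ((w * v⁻¹) (R.sim j)) := by
  classical
  obtain ⟨v, hv, hmin⟩ := exists_min_image (univ.filter fun v : Equiv.Perm ι => v ∈ T.W1 ∧ v ∈ R.WJ L)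
    (fun v => R.len (w * v⁻¹)) ⟨1, by simp⟩
  simp only [mem_filter, mem_univ, true_and] at hv hmin
  refine ⟨v, hv.1, hv.2, fun j hj => ?_⟩
  by_contra hp
  obtain ⟨i, hi⟩ := T.cover j
  have h0 := mul_mem hw (inv_mem hv.1)
  have h3 := (T.dich' h0 i).resolve_left fun h' => hp (h' j hi)
  have h4 := RS.simple_pos_mul_w0 (T.W1_le_W h0) h3
  have h7 := T.len_mul_w0J (T.W1_le_W (mul_mem h0 (T.w0J_mem i))) h4
  rw [mul_assoc, RS.w0_mul_w0, mul_one] at h7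
  have := hmin (R.w0 (T.J i) * v) ⟨mul_mem (T.w0J_mem i) hv.1,
    mul_mem (R.WJ_mono (hL i j hi hj) (R.w0_mem _)) hv.2⟩
  rw [mul_inv_rev, RS.w0_inv, ← mul_assoc] at this
  have := T.len_w0J_pos i
  omega

theorem w0_mem_W1 {L : Set Λ} (hL : T.Sat L) : R.w0 L ∈ T.W1 := by
  classical
  obtain ⟨w, hw, hmax⟩ := exists_max_image (univ.filter fun v : Equiv.Perm ι => v ∈ T.W1 ∧ v ∈ R.WJ L)
    R.len ⟨1, by simp⟩
  simp only [mem_filter, mem_univ, true_and] at hw hmax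
  rw [← RS.eq_w0 hw.2 fun j hj hp => ?_]
  · exact hw.1
  obtain ⟨i, hi⟩ := T.cover j
  have h3 := (T.dich' hw.1 i).resolve_right fun h' => h' j hi hp
  have := hmax _ ⟨mul_mem hw.1 (T.w0J_mem i), mul_mem hw.2 (R.WJ_mono (hL i j hi hj) (R.w0_mem _))⟩
  rw [T.len_mul_w0J (T.W1_le_W hw.1) h3] at this
  have := T.len_w0J_pos i
  omega

include T in
theorem exists_bruhat {g : G} (hg : g ∈ Γ) :
    ∃ w, ∃ a ∈ X.U ⊓ Γ, ∃ n ∈ X.N ⊓ Γ, ∃ b ∈ X.XS (R.inv w) ⊓ Γ, X.Acts n w ∧ g = a * n * b := by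
  obtain ⟨w, a, ha, n, hn, b, hb, h, rfl⟩ := SRG.exists_bruhat (T.le hg)
  obtain ⟨h1, h2, h3⟩ := T.bc w a n b ha hn hb h hg
  exact ⟨w, a, ⟨ha, h1⟩, n, ⟨hn, h2⟩, b, ⟨hb, h3⟩, h, rfl⟩

include T in
theorem exists_bruhat_of_cell {g : G} (hg : g ∈ Γ) {w : Equiv.Perm ι} (h : X.Cell {r | R.Pos r} w g) :
    ∃ a ∈ X.U ⊓ Γ, ∃ n ∈ X.N ⊓ Γ, ∃ b ∈ X.XS (R.inv w) ⊓ Γ, X.Acts n w ∧ g = a * n * b := by
  obtain ⟨a, ha, n, hn, b, hb, h', rfl⟩ := h.refine'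
  obtain ⟨h1, h2, h3⟩ := T.bc w a n b ha hn hb h' hg
  exact ⟨a, ⟨ha, h1⟩, n, ⟨hn, h2⟩, b, ⟨hb, h3⟩, h', rfl⟩

theorem mem_W1_of_cell {g : G} (hg : g ∈ Γ) {w : Equiv.Perm ι} (h : X.Cell {r | R.Pos r} w g) :
    w ∈ T.W1 := by
  obtain ⟨a, -, n, hn, b, -, h, -⟩ := T.exists_bruhat_of_cell hg h
  exact ⟨n, hn.2, hn.1, h⟩

include T in
theorem mem_B_iff {g : G} (hg : g ∈ Γ) : g ∈ X.B ↔ ∃ u ∈ X.U ⊓ Γ, ∃ a ∈ X.H ⊓ Γ, g = u * a := by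
  constructor
  · intro h
    obtain ⟨u, hu, a, ha, rfl⟩ := X.mem_B_iff.1 h
    obtain ⟨h1, h2, -⟩ := T.bc 1 u a 1 hu (X.H_le_N ha) (one_mem _) (X.acts_of_mem_H ha) (by simpa using hg)
    exact ⟨u, ⟨hu, h1⟩, a, ⟨ha, h2⟩, rfl⟩
  · rintro ⟨u, hu, a, ha, rfl⟩
    exact mul_mem (X.U_le_B hu.1) (X.H_le_B ha.1)

/-- Decomposition of `U_{wv}` for a product with additive lengths. -/
theorem exists_mul_of_len_add {w v : Equiv.Perm ι} (hw : w ∈ R.W) {n : G} (hnΓ : n ∈ Γ) (hn : n ∈ X.N)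
    (hnv : X.Acts n v) (h : ∀ r ∈ R.inv v, ¬R.Pos (w (v r))) {u : G} (hu : u ∈ X.XS (R.inv (w * v)) ⊓ Γ)
    (T : Tw X Γ I) :
    ∃ a ∈ X.XS (R.inv w) ⊓ Γ, ∃ b ∈ X.XS (R.inv v) ⊓ Γ, u = n⁻¹ * a * n * b := by
  obtain ⟨a, ha, b, hb, rfl⟩ := X.exists_mul_of_union (S₁ := {r | v r ∈ R.inv w}) (S₂ := R.inv v)
    (RS.closed_inv (mul_mem hw hnv.mem)) (fun r hr => (RS.mem_inv.1 hr).1)
    (fun r hr => ((RS.mem_inv_mul hw hnv.mem h r).1 hr).symm) hu.1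
  have ha' : n * a * n⁻¹ ∈ X.XS (R.inv w) := hnv.conj_mem (fun r hr => hr.2) ha
  have hb' := X.XS_mono Set.inter_subset_right hb
  obtain ⟨h1, -, h3⟩ := T.bc v (n * a * n⁻¹) n b (XS_inv_le_U w ha') hn hb' hnv
    (by simpa [mul_assoc] using mul_mem hnΓ hu.2)
  exact ⟨_, ⟨ha', h1⟩, b, ⟨hb', h3⟩, by group⟩

theorem card_Uw_mul {w v : Equiv.Perm ι} (hw : w ∈ R.W) (hv : v ∈ T.W1)
    (h : ∀ r ∈ R.inv v, ¬R.Pos (w (v r))) :
    Nat.card ↥(X.XS (R.inv (w * v)) ⊓ Γ) =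
      Nat.card ↥(X.XS (R.inv w) ⊓ Γ) * Nat.card ↥(X.XS (R.inv v) ⊓ Γ) := by
  obtain ⟨n, hnΓ, hn, hnv⟩ := hv
  rw [← Nat.card_prod]
  symm
  refine Nat.card_congr (Equiv.ofBijective (fun p => ⟨n⁻¹ * p.1 * n * p.2, mul_mem (hnv.conj_mem' ?_ p.1.2.1)
    (X.XS_mono (fun r hr => (RS.mem_inv_mul hw hnv.mem h r).2 (Or.inl hr)) p.2.2.1),
    Γ.mul_mem (Γ.mul_mem (Γ.mul_mem (Γ.inv_mem hnΓ) p.1.2.2) hnΓ) p.2.2.2⟩) ⟨?_, ?_⟩)
  · intro r hr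
    exact (RS.mem_inv_mul hw hnv.mem h _).2 (Or.inr (by simpa using hr))
  · rintro ⟨a, b⟩ ⟨a', b'⟩ hab
    simp only [Subtype.mk.injEq, mul_assoc, mul_right_inj] at hab
    obtain ⟨-, h1, -, h2⟩ := X.bruhat_unique (XS_inv_le_U w a.2.1) (XS_inv_le_U w a'.2.1) hn hn b.2.1 b'.2.1
      hnv hnv (by simpa [mul_assoc] using hab)
    exact Prod.ext (Subtype.ext h1) (Subtype.ext h2)
  · rintro ⟨u, hu⟩
    obtain ⟨a, ha, b, hb, rfl⟩ := exists_mul_of_len_add hw hnΓ hn hnv h hu T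
    exact ⟨(⟨a, ha⟩, ⟨b, hb⟩), rfl⟩

theorem card_Uw_eq_pow {A : Type*} [Semiring A] {y : A}
    (hy : ∀ i, (Nat.card ↥(X.XS (R.inv (R.w0 (T.J i))) ⊓ Γ) : A) = y ^ R.len (R.w0 (T.J i)))
    {w : Equiv.Perm ι} (hw : w ∈ T.W1) : (Nat.card ↥(X.XS (R.inv w) ⊓ Γ) : A) = y ^ R.len w := by
  refine T.W1_induction T.sat_univ (P := fun w => (Nat.card ↥(X.XS (R.inv w) ⊓ Γ) : A) = y ^ R.len w)
    (by simp [RS.inv_one, RS.len_one, XS_empty]) ?_ w hw (T.W1_le_W hw)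
  intro i _ w hw _ hp ih
  rw [T.card_Uw_mul (T.W1_le_W hw) (T.w0J_mem i) (RS.len_mul_of_simple_pos (T.W1_le_W hw) hp (R.w0_mem _)),
    T.len_mul_w0J (T.W1_le_W hw) hp, pow_add, Nat.cast_mul, ih, hy]

omit [Fintype ι] in
theorem _root_.H20.RS.inv_w0_univ [Fintype ι] : (R.inv (R.w0 Set.univ) : Set ι) = {r | R.Pos r} := by
  ext r; simp [RS.mem_inv_w0, RS.Phi_univ]

omit [Fintype ι] in
theorem _root_.H20.RS.inv_w0 [Fintype ι] (J : Set Λ) :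
    (R.inv (R.w0 J) : Set ι) = {r | R.Pos r ∧ r ∈ R.Phi J} := by
  ext r; simp [RS.mem_inv_w0]

/-- `U ∩ Γ` lies in every subgroup containing the `n_J` and the `X_{Φ_J⁺} ∩ Γ`. -/
theorem U_inf_le {M : Subgroup G} (hn : ∀ i, T.nJ i ∈ M)
    (hX : ∀ i, X.XS {r | R.Pos r ∧ r ∈ R.Phi (T.J i)} ⊓ Γ ≤ M) : X.U ⊓ Γ ≤ M := by
  have := T.W1_induction T.sat_univ (P := fun w => X.XS (R.inv w) ⊓ Γ ≤ M)
    (by simp [RS.inv_one, XS_empty]) (by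
      intro i _ w hw _ hp ih u hu
      obtain ⟨a, ha, b, hb, rfl⟩ := exists_mul_of_len_add (T.W1_le_W hw) (T.nJ_mem i) (T.nJ_N i) (T.nJ_acts i)
        (RS.len_mul_of_simple_pos (T.W1_le_W hw) hp (R.w0_mem _)) hu T
      rw [RS.inv_w0] at hb
      exact mul_mem (mul_mem (mul_mem (inv_mem (hn i)) (ih ha)) (hn i)) (hX i hb))
    _ (T.w0_mem_W1 T.sat_univ) (R.w0_mem _)
  rwa [RS.inv_w0_univ] at this

theorem exists_nJ_word {n : G} (hΓ : n ∈ Γ) (hn : n ∈ X.N) {M : Subgroup G} (hM : ∀ i, T.nJ i ∈ M) :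
    ∃ m ∈ M, m ∈ Γ ∧ m ∈ X.N ∧ m⁻¹ * n ∈ X.H := by
  obtain ⟨w, hw⟩ := X.exists_acts_of_mem_N hn
  have := T.W1_induction T.sat_univ (P := fun w => ∃ m ∈ M, m ∈ Γ ∧ m ∈ X.N ∧ X.Acts m w)
    ⟨1, one_mem _, one_mem _, one_mem _, acts_one⟩ (by
      rintro i _ w _ _ _ ⟨m, h1, h2, h3, h4⟩
      exact ⟨m * T.nJ i, mul_mem h1 (hM i), mul_mem h2 (T.nJ_mem i), mul_mem h3 (T.nJ_N i),
        h4.mul (T.nJ_acts i)⟩) w ⟨n, hΓ, hn, hw⟩ hw.mem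
  obtain ⟨m, h1, h2, h3, h4⟩ := this
  exact ⟨m, h1, h2, h3, X.inv_mul_mem_H h3 hn h4 hw⟩

/-- The order formula. -/
theorem card_eq [DecidablePred (· ∈ T.W1)] :
    Nat.card Γ = Nat.card ↥(X.U ⊓ Γ) * Nat.card ↥(X.H ⊓ Γ) *
      ∑ w ∈ univ.filter (· ∈ T.W1), Nat.card ↥(X.XS (R.inv w) ⊓ Γ) := by
  choose nn hΓ hN hA using fun w : T.W1 => T.mem_W1.1 w.2
  let f : ↥(X.U ⊓ Γ) × ↥(X.H ⊓ Γ) × (Σ w : T.W1, ↥(X.XS (R.inv w) ⊓ Γ)) → Γ := fun p =>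
    ⟨p.1 * (p.2.1 * nn p.2.2.1) * p.2.2.2, mul_mem (mul_mem p.1.2.2 (mul_mem p.2.1.2.2 (hΓ _))) p.2.2.2.2.2⟩
  have hact : ∀ (h : ↥(X.H ⊓ Γ)) (w : T.W1), X.Acts (h * nn w) w := fun h w => by
    simpa using (X.acts_of_mem_H h.2.1).mul (hA w)
  have hf : Function.Bijective f := by
    constructor
    · rintro ⟨a, h, w, b⟩ ⟨a', h', w', b'⟩ hab
      obtain ⟨h1, h2, h3, h4⟩ := X.bruhat_unique a.2.1 a'.2.1 (mul_mem (X.H_le_N h.2.1) (hN w))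
        (mul_mem (X.H_le_N h'.2.1) (hN w')) b.2.1 b'.2.1 (hact h w) (hact h' w') (congrArg Subtype.val hab)
      obtain rfl : w = w' := Subtype.ext h1
      rw [mul_left_inj] at h3
      rw [Subtype.ext h2, Subtype.ext h3, Subtype.ext h4]
    · rintro ⟨g, hg⟩
      obtain ⟨w, a, ha, n, hn, b, hb, h, rfl⟩ := T.exists_bruhat hg
      have hw : w ∈ T.W1 := ⟨n, hn.2, hn.1, h⟩
      exact ⟨(⟨a, ha⟩, ⟨n * (nn ⟨w, hw⟩)⁻¹, X.mul_inv_mem_H hn.1 (hN _) h (hA _),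
        Γ.mul_mem hn.2 (Γ.inv_mem (hΓ _))⟩, ⟨⟨w, hw⟩, ⟨b, hb⟩⟩), Subtype.ext (by simp [f])⟩
  rw [← Nat.card_congr (Equiv.ofBijective f hf), Nat.card_prod, Nat.card_prod, mul_assoc]
  by_cases hfin : Finite ↥(X.U ⊓ Γ)
  swap
  · have : Infinite ↥(X.U ⊓ Γ) := not_finite_iff_infinite.1 hfin
    rw [Nat.card_eq_zero_of_infinite, zero_mul, zero_mul]
  have : ∀ w : T.W1, Finite ↥(X.XS (R.inv w) ⊓ Γ) := fun w =>
    Finite.of_injective _ (Subgroup.inclusion_injective (inf_le_inf_right Γ (XS_inv_le_U (X := X.toSRG) w)))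
  rw [Nat.card_sigma, sum_subtype (univ.filter (· ∈ T.W1)) (p := (· ∈ T.W1)) (by simp)]

/-- The homomorphism `N¹ → W¹`. -/
noncomputable def piN1 : ↥(X.N ⊓ Γ) →* T.W1 :=
  (R.W.subtype.comp (X.piN.comp (Subgroup.inclusion inf_le_left))).codRestrict T.W1
    fun n => ⟨n, n.2.2, n.2.1, X.acts_piN ⟨n, n.2.1⟩⟩

theorem acts_piN1 (n : ↥(X.N ⊓ Γ)) : X.Acts n (T.piN1 n) := X.acts_piN ⟨n, n.2.1⟩

theorem piN1_surjective : Function.Surjective T.piN1 := by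
  rintro ⟨w, n, h1, h2, h3⟩
  exact ⟨⟨n, h2, h1⟩, Subtype.ext (X.acts_unique (T.acts_piN1 _) h3)⟩

theorem piN1_ker : T.piN1.ker = (X.H ⊓ Γ).subgroupOf (X.N ⊓ Γ) := by
  ext n
  rw [MonoidHom.mem_ker, Subgroup.mem_subgroupOf]
  constructor
  · intro h
    have := T.acts_piN1 n
    rw [h] at this
    exact ⟨X.mem_H_of_acts_one n.2.1 this, n.2.2⟩
  · intro h
    exact Subtype.ext (X.acts_unique (T.acts_piN1 n) (X.acts_of_mem_H h.1))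

theorem w0J_injective : Function.Injective fun i => R.w0 (T.J i) := by
  intro i i' h
  apply T.J_inj
  ext j
  simp only at h
  rw [← RS.sim_mem_Phi (R := R), ← RS.sim_mem_Phi (R := R)]
  have h1 := RS.mem_inv_w0 (R := R) (J := T.J i) (r := R.sim j)
  rw [h, RS.mem_inv_w0] at h1
  simpa [R.pos_sim j] using h1.symm

theorem nJ_mem_PJ (i : I) : T.nJ i ∈ X.PJ (T.J i) {r | R.Pos r} := by
  obtain ⟨l, hl, h⟩ := R.mem_WJ_iff.1 (R.w0_mem (T.J i))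
  have := X.inv_mul_mem_H (X.nw_mem_N l) (T.nJ_N i) (h ▸ X.acts_nw l) (T.nJ_acts i)
  simpa using mul_mem (nw_mem_PJ _ hl) (H_le_PJ _ _ this)

omit [Fintype ι] in
theorem mem_sub {M : Subgroup G} {g : Γ} : g ∈ (M ⊓ Γ).subgroupOf Γ ↔ (g : G) ∈ M :=
  ⟨fun h => h.1, fun h => ⟨h, g.2⟩⟩

theorem mem_doubleCoset_of_cell {g n : Γ} {w : Equiv.Perm ι} (hn : (n : G) ∈ X.N) (hw : X.Acts n w)
    (h : X.Cell {r | R.Pos r} w g) (T : Tw X Γ I) :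
    g ∈ DoubleCoset.doubleCoset n ((X.B ⊓ Γ).subgroupOf Γ : Set Γ) ((X.B ⊓ Γ).subgroupOf Γ) := by
  obtain ⟨a, ha, n', hn', b, hb, h1, h2⟩ := T.exists_bruhat_of_cell g.2 h
  rw [DoubleCoset.mem_doubleCoset]
  refine ⟨⟨a * (n' * (n : G)⁻¹), Γ.mul_mem ha.2 (Γ.mul_mem hn'.2 (Γ.inv_mem n.2))⟩, mem_sub.2 ?_, ⟨b, hb.2⟩,
    mem_sub.2 (X.U_le_B (XS_inv_le_U w hb.1)), Subtype.ext (by simp [h2, mul_assoc])⟩
  exact mul_mem (X.U_le_B ha.1) (X.H_le_B (X.mul_inv_mem_H hn'.1 hn h1 hw))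

/-- The (B,N)-pair of `Γ`. -/
def bn : Cfsg.BNPair Γ where
  B := (X.B ⊓ Γ).subgroupOf Γ
  N := (X.N ⊓ Γ).subgroupOf Γ
  S := {g | ∃ i, (g : G) = T.nJ i}
  sup_eq_top := by
    rw [eq_top_iff]
    rintro ⟨g, hg⟩ -
    obtain ⟨w, a, ha, n, hn, b, hb, h, rfl⟩ := T.exists_bruhat hg
    have : (⟨a * n * b, hg⟩ : Γ) = ⟨a, ha.2⟩ * ⟨n, hn.2⟩ * ⟨b, hb.2⟩ := rfl
    rw [this]
    exact mul_mem (mul_mem (Subgroup.mem_sup_left (mem_sub.2 (X.U_le_B ha.1)))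
      (Subgroup.mem_sup_right (mem_sub.2 hn.1)))
      (Subgroup.mem_sup_left (mem_sub.2 (X.U_le_B (XS_inv_le_U w hb.1))))
  conj_mem n hn t ht := mem_sub.2 (X.H_le_B (X.N_conj_H hn.1 (X.mem_H_of_B_N ht.1.1 ht.2.1)))
  subset := by rintro g ⟨i, hi⟩; exact ⟨by simpa [hi] using T.nJ_N i, g.2⟩
  sq_mem := by
    rintro g ⟨i, hi⟩
    refine mem_sub.2 (X.H_le_B (X.mem_H_of_acts_one (by simpa [hi] using mul_mem (T.nJ_N i) (T.nJ_N i)) ?_))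
    simpa [hi, RS.w0_mul_w0] using (T.nJ_acts i).mul (T.nJ_acts i)
  inj := by
    rintro g ⟨i, hi⟩ g' ⟨i', hi'⟩ h
    have := X.eq_one_of_acts_of_mem_B ((T.nJ_acts i).inv.mul (T.nJ_acts i')) (by simpa [hi, hi'] using h.1)
    obtain rfl : i = i' := T.w0J_injective (inv_mul_eq_one.1 this)
    exact Subtype.ext (hi.trans hi'.symm)
  closure_sup := by
    apply le_antisymm
    · refine sup_le ?_ inf_le_right
      rw [Subgroup.closure_le]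
      rintro g ⟨i, hi⟩; exact ⟨by simpa [hi] using T.nJ_N i, g.2⟩
    · rintro ⟨n, hnΓ⟩ hn
      obtain ⟨m, ⟨m', h1, rfl⟩, h2, h3, h4⟩ := T.exists_nJ_word hnΓ hn.1
        (M := (Subgroup.closure {g : Γ | ∃ i, (g : G) = T.nJ i}).map Γ.subtype)
        fun i => ⟨⟨_, T.nJ_mem i⟩, Subgroup.subset_closure ⟨i, rfl⟩, rfl⟩
      have : (⟨n, hnΓ⟩ : Γ) = m' * (m'⁻¹ * ⟨n, hnΓ⟩) := by group
      rw [this]
      exact mul_mem (Subgroup.mem_sup_left h1) (Subgroup.mem_sup_right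
        ⟨mem_sub.2 (X.H_le_B h4), mem_sub.2 (X.H_le_N h4)⟩)
  mul_mem_union := by
    rintro s ⟨i, hi⟩ n hn b hb
    obtain ⟨w, hw⟩ := X.exists_acts_of_mem_N hn.1
    obtain ⟨v, hv, h⟩ := ((cell_of_mem_N hn.1 hw).B_mul hb.1).PJ_mul (R.adm_pos Set.univ) (Set.subset_univ _)
      (T.nJ_mem_PJ i) hw.mem
    have h' : X.Cell {r | R.Pos r} (v * w) (s * b * n : Γ) := by simpa [hi, mul_assoc] using h
    have h1 := T.mem_W1_of_cell (s * b * n).2 h'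
    have h2 : w ∈ T.W1 := ⟨n, n.2, hn.1, hw⟩
    rcases T.eq_one_or_w0 ((mul_mem_cancel_right h2).1 h1) hv with rfl | rfl
    · right
      exact mem_doubleCoset_of_cell hn.1 hw (by simpa using h') T
    · left
      exact mem_doubleCoset_of_cell (by simpa [hi] using mul_mem (T.nJ_N i) hn.1)
        (by simpa [hi] using (T.nJ_acts i).mul hw) h' T
  conj_ne := by
    rintro s ⟨i, hi⟩ h
    obtain ⟨j, hj⟩ := T.J_nonempty i
    obtain ⟨u, huΓ, hu, hu'⟩ := T.coord i j hj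
    have h1 : s * ⟨u, huΓ⟩ * s ∈ ((X.B ⊓ Γ).subgroupOf Γ : Set Γ) := by
      rw [← h]
      exact ⟨⟨u, huΓ⟩, ⟨X.U_le_B (X.XS_mono (fun r hr => hr.1) hu), huΓ⟩, rfl⟩
    have h2 : T.nJ i * u * T.nJ i ∈ X.B := by simpa [hi] using h1.1
    have h3 : T.nJ i * T.nJ i ∈ X.H := X.mem_H_of_acts_one (mul_mem (T.nJ_N i) (T.nJ_N i))
      (by simpa [RS.w0_mul_w0] using (T.nJ_acts i).mul (T.nJ_acts i))
    have h4 : T.nJ i * u * (T.nJ i)⁻¹ = 1 := by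
      refine X.eq_one_of_mem_B_V ?_ ((T.nJ_acts i).conj_mem (fun r hr => ?_) hu)
      · simpa [mul_assoc] using mul_mem h2 (inv_mem (X.H_le_B h3))
      · simp only [Set.mem_ofPred_eq] at hr ⊢
        rw [RS.pos_w0_iff hr.2]; simpa using hr.1
    have : u = 1 := by simpa [mul_inv_eq_one] using h4
    exact hu' (this ▸ one_mem _)

theorem bn_B : T.bn.B = (X.B ⊓ Γ).subgroupOf Γ := rfl
theorem bn_N : T.bn.N = (X.N ⊓ Γ).subgroupOf Γ := rfl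
theorem bn_S : T.bn.S = {g : Γ | ∃ i, (g : G) = T.nJ i} := rfl

include T in
/-- A normal subgroup of `Γ` contained in `B` acts trivially on the root subgroups. -/
theorem normal_le_B {M : Subgroup Γ} [hM : M.Normal] (hB : ∀ g ∈ M, (g : G) ∈ X.B) {g : Γ} (hg : g ∈ M) :
    ∃ c, (∀ i, R.chi (R.sim i) c = 1) ∧ (g : G) = X.hmap c := by
  have hH : ∀ g ∈ M, (g : G) ∈ X.H := by
    intro g hg
    obtain ⟨n, hnΓ, hn, hw⟩ := T.w0_mem_W1 T.sat_univ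
    have h1 := hB _ (hM.conj_mem g hg ⟨n, hnΓ⟩⁻¹)
    obtain ⟨u, hu, a, ha, hua⟩ := X.mem_B_iff.1 h1
    have h2 : (g : G) = (n * u * n⁻¹) * (n * a * n⁻¹) := by
      calc (g : G) = n * (n⁻¹ * g * n⁻¹⁻¹) * n⁻¹ := by group
        _ = n * (u * a) * n⁻¹ := by rw [← hua]; rfl
        _ = _ := by group
    have h3 : (g : G) ∈ X.V ⊔ X.H := by
      rw [h2]
      exact mul_mem (Subgroup.mem_sup_left (Acts_w0_conj_U hw hu)) (Subgroup.mem_sup_right (X.N_conj_H hn ha))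
    exact X.B_inf_V_sup_H ▸ ⟨hB g hg, h3⟩
  obtain ⟨c, hc⟩ := X.mem_H_iff.1 (hH g hg)
  refine ⟨c, fun j => ?_, hc.symm⟩
  obtain ⟨i, hi⟩ := T.cover j
  obtain ⟨u, huΓ, hu, hu'⟩ := T.coord i j hi
  have huU : u ∈ X.U := X.XS_mono (fun r hr => hr.1) hu
  refine X.chi_eq_one_of_commute huU hu' ?_
  have h1 := hH _ (mul_mem hg (hM.conj_mem _ (inv_mem hg) ⟨u, huΓ⟩))
  have h2 : (g : G) * u * (g : G)⁻¹ * u⁻¹ = 1 :=
    X.eq_one_of_mem_U_H (mul_mem (X.H_conj_mem (hH g hg) huU) (inv_mem huU)) (by simpa [mul_assoc] using h1)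
  rw [hc, ← mul_inv_eq_iff_eq_mul, ← mul_inv_eq_one, h2]

include T in
theorem normalCore_eq_bot (adj : ∀ c : Λ → Kˣ, (∀ s, R.chi s c = 1) → X.hmap c = 1) :
    ((X.B ⊓ Γ).subgroupOf Γ).normalCore = ⊥ := by
  rw [eq_bot_iff]
  intro g hg
  obtain ⟨c, hc, h⟩ := T.normal_le_B (M := ((X.B ⊓ Γ).subgroupOf Γ).normalCore)
    (fun g hg => (Subgroup.normalCore_le _ hg).1) hg
  rw [adj c (RG.chi_eq_one_of_simple hc)] at h
  exact Subtype.ext h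

theorem irreducible
    (hirr : ∀ A : Set I, A.Nonempty → Aᶜ.Nonempty → ∃ i ∈ A, ∃ i' ∉ A,
      R.w0 (T.J i) * R.w0 (T.J i') ≠ R.w0 (T.J i') * R.w0 (T.J i)) : T.bn.Irreducible := by
  rintro S hS ⟨s, hs⟩ ⟨s', ⟨i', hi'⟩, hs'⟩
  obtain ⟨i, hi⟩ := hS hs
  obtain ⟨k, hk, k', hk', h⟩ := hirr {k | (⟨T.nJ k, T.nJ_mem k⟩ : Γ) ∈ S}
    ⟨i, by simpa [← hi] using hs⟩ ⟨i', by simpa [← hi'] using hs'⟩
  refine ⟨_, hk, ⟨T.nJ k', T.nJ_mem k'⟩, ⟨⟨k', rfl⟩, hk'⟩, fun hB => h ?_⟩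
  have := X.eq_one_of_acts_of_mem_B
    ((((T.nJ_acts k).mul (T.nJ_acts k')).mul (T.nJ_acts k).inv).mul (T.nJ_acts k').inv) hB.1
  rw [← mul_inv_eq_one, ← this]; group

include T in
theorem isSolvable_B : Group.IsSolvable ((X.B ⊓ Γ).subgroupOf Γ) := by
  have := X.isSolvable_B
  exact Group.isSolvable_of_isSolvable_injective
    (f := (Γ.subtype.comp ((X.B ⊓ Γ).subgroupOf Γ).subtype).codRestrict X.B fun g => g.2.1)
    (by
      intro a b h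
      have := congrArg Subtype.val h
      exact Subtype.ext (Subtype.ext this))

include T in
theorem not_isMulCommutative [Nonempty I] : ¬IsMulCommutative Γ := by
  intro hc
  obtain ⟨i⟩ := ‹Nonempty I›
  refine T.bn.conj_ne ⟨T.nJ i, T.nJ_mem i⟩ ⟨i, rfl⟩ ?_
  have hs := T.bn.sq_mem ⟨T.nJ i, T.nJ_mem i⟩ ⟨i, rfl⟩
  set s : Γ := ⟨T.nJ i, T.nJ_mem i⟩
  ext b
  constructor
  · rintro ⟨b, hb, rfl⟩
    simp only
    rw [hc.is_comm.comm s b, mul_assoc]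
    exact mul_mem hb hs
  · intro hb
    refine ⟨b * (s * s)⁻¹, mul_mem hb (inv_mem hs), ?_⟩
    simp only
    rw [hc.is_comm.comm s, mul_assoc, inv_mul_cancel_right]

theorem isSimpleGroup [Nonempty I] (adj : ∀ c : Λ → Kˣ, (∀ s, R.chi s c = 1) → X.hmap c = 1)
    (hirr : ∀ A : Set I, A.Nonempty → Aᶜ.Nonempty → ∃ i ∈ A, ∃ i' ∉ A,
      R.w0 (T.J i) * R.w0 (T.J i') ≠ R.w0 (T.J i') * R.w0 (T.J i))
    (hperf : commutator Γ = ⊤) : IsSimpleGroup Γ ∧ ¬IsMulCommutative Γ := by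
  have hn := T.not_isMulCommutative
  have : Nontrivial Γ := by
    by_contra h
    have := not_nontrivial_iff_subsingleton.1 h
    exact hn ⟨⟨fun a b => Subsingleton.elim _ _⟩⟩
  exact ⟨H8.BN.isSimpleGroup (T.irreducible hirr) T.isSolvable_B hperf (T.normalCore_eq_bot adj), hn⟩

end Tw

theorem RS.w0_singleton (R : RS ι Λ) (i : Λ) : R.w0 {i} = R.s i :=
  (RS.eq_w0 (R.s_mem_WJ (Set.mem_singleton i)) (by
    rintro _ rfl; rw [RS.s_sim]; exact R.not_pos_neg_sim _)).symm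

/-- The whole group as a Bruhat-compatible subgroup. -/
def RG.tw {R : RS ι Λ} {K : Type*} [Field K] {G : Type*} [Group G] (X : RG R K G) : Tw X X.grp Λ where
  J i := {i}
  nJ i := X.n (R.sim i) 1
  le := le_rfl
  bc _ _ _ _ ha hn hb _ _ := ⟨X.U_le_grp ha, X.N_le_grp hn, X.XS_le_grp _ hb⟩
  nJ_mem i := X.N_le_grp (X.n_mem_N _ one_ne_zero)
  nJ_N i := X.n_mem_N _ one_ne_zero
  nJ_acts i := by rw [RS.w0_singleton]; exact X.acts_n_sim i one_ne_zero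
  J_inj := Set.singleton_injective
  J_nonempty i := Set.singleton_nonempty i
  dich n w _ _ _ i := by simpa using em _
  cover j := ⟨j, rfl⟩
  coord := by
    intro i j hj
    obtain rfl : i = j := (Set.mem_singleton_iff.1 hj).symm
    refine ⟨X.x (R.sim i) 1, X.x_mem_grp _ _, X.x_mem_XS (by exact ⟨R.pos_sim i, RS.sim_mem_Phi.2 rfl⟩) _, fun h => ?_⟩
    have hc : R.Closed {r | R.Pos r ∧ r ≠ R.sim i} := by
      convert RS.closed_pos_not_Phi (R := R) {i} using 3 with r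
      refine and_congr_right fun hr => ?_
      rw [RS.mem_Phi_singleton, not_or]
      exact ⟨fun h => ⟨h, R.ne_neg_of_pos (R.pos_sim i) hr⟩, fun h => h.1⟩
    exact (X.mem_of_x_mem_XS X.nd1 hc (fun r hr => hr.1) (R.pos_sim i) one_ne_zero h).2 rfl

theorem RG.tw_W1 {R : RS ι Λ} {K : Type*} [Field K] {G : Type*} [Group G] (X : RG R K G) :
    X.tw.W1 = R.W := by
  refine le_antisymm X.tw.W1_le_W fun w hw => ?_
  obtain ⟨n, hn, h⟩ := X.exists_N_acts hw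
  exact ⟨n, X.N_le_grp hn, hn, h⟩

/-- The order of a finite Chevalley group. -/
theorem RG.card_grp {R : RS ι Λ} {K : Type*} [Field K] {G : Type*} [Group G] (X : RG R K G)
    [DecidablePred (· ∈ R.W)] :
    Nat.card X.grp = Nat.card K ^ (univ.filter R.Pos).card * Nat.card X.H *
      ∑ w ∈ univ.filter (· ∈ R.W), Nat.card K ^ R.len w := by
  classical
  have hU : X.U = X.XS (univ.filter R.Pos : Finset ι) := by simp [WRG.U]
  rw [X.tw.card_eq, inf_eq_left.2 X.U_le_grp, inf_eq_left.2 X.H_le_grp, hU,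
    X.card_XS X.nd1 (by simpa using R.closed_pos) (by simp)]
  congr 1
  refine sum_congr (by ext w; simp [X.tw_W1]) fun w hw => ?_
  rw [inf_eq_left.2 (X.XS_le_grp _), X.card_XS X.nd1 (RS.closed_inv (mem_filter.1 hw).2)
    (fun r hr => (RS.mem_inv.1 hr).1), RS.len]

end H20
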