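import Mathlib
import Cfsg.Prelude.Def_ChevE7
import Cfsg.Agent.H20.Good

set_option autoImplicit false
set_option maxRecDepth 100000

namespace H20

open Cfsg.Lie

def auxE7 : Aux where
  rtL := [[-2, -2, -3, -4, -3, -2, -1], [-1, -2, -3, -4, -3, -2, -1], [-1, -2, -2, -4, -3, -2, -1], [-1, -2, -2, -3, -3, -2, -1], [-1, -2, -2, -3, -2, -2, -1], [-1, -2, -2, -3, -2, -1, -1], [-1, -2, -2, -3, -2, -1, 0], [-1, -1, -2, -3, -3, -2, -1], [-1, -1, -2, -3, -2, -2, -1], [-1, -1, -2, -3, -2, -1, -1], [-1, -1, -2, -3, -2, -1, 0], [-1, -1, -2, -2, -2, -2, -1], [-1, -1, -2, -2, -2, -1, -1], [-1, -1, -2, -2, -2, -1, 0], [-1, -1, -2, -2, -1, -1, -1], [-1, -1, -2, -2, -1, -1, 0], [-1, -1, -2, -2, -1, 0, 0], [-1, -1, -1, -2, -2, -2, -1], [-1, -1, -1, -2, -2, -1, -1], [-1, -1, -1, -2, -2, -1,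 0], [-1, -1, -1, -2, -1, -1, -1], [-1, -1, -1, -2, -1, -1, 0], [-1, -1, -1, -2, -1, 0, 0], [-1, -1, -1, -1, -1, -1, -1], [-1, -1, -1, -1, -1, -1, 0], [-1, -1, -1, -1, -1, 0, 0], [-1, -1, -1, -1, 0, 0, 0], [-1, 0, -1, -1, -1, -1, -1], [-1, 0, -1, -1, -1, -1, 0], [-1, 0, -1, -1, -1, 0, 0], [-1, 0, -1, -1, 0, 0, 0], [-1, 0, -1, 0, 0, 0, 0], [-1, 0, 0, 0, 0, 0, 0], [0, -1, -1, -2, -2, -2, -1], [0, -1, -1, -2, -2, -1, -1], [0, -1, -1, -2, -2, -1, 0], [0, -1, -1, -2, -1, -1, -1], [0, -1, -1, -2, -1, -1, 0], [0, -1, -1, -2, -1, 0, 0], [0, -1, -1, -1, -1, -1, -1], [0, -1, -1, -1, -1, -1, 0], [0, -1, -1, -1, -1, 0, 0], [0, -1, -1, -1, 0, 0, 0], [0, -1, 0, -1, -1, -1, -1], [0, -1, 0, -1, -1, -1, 0], [0, -1, 0, -1, -1, 0, 0], [0, -1, 0, -1, 0, 0, 0], [0, -1, 0, 0, 0, 0, 0], [0, 0, -1,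 -1, -1, -1, -1], [0, 0, -1, -1, -1, -1, 0], [0, 0, -1, -1, -1, 0, 0], [0, 0, -1, -1, 0, 0, 0], [0, 0, -1, 0, 0, 0, 0], [0, 0, 0, -1, -1, -1, -1], [0, 0, 0, -1, -1, -1, 0], [0, 0, 0, -1, -1, 0, 0], [0, 0, 0, -1, 0, 0, 0], [0, 0, 0, 0, -1, -1, -1], [0, 0, 0, 0, -1, -1, 0], [0, 0, 0, 0, -1, 0, 0], [0, 0, 0, 0, 0, -1, -1], [0, 0, 0, 0, 0, -1, 0], [0, 0, 0, 0, 0, 0, -1], [0, 0, 0, 0, 0, 0, 1], [0, 0, 0, 0, 0, 1, 0], [0, 0, 0, 0, 0, 1, 1], [0, 0, 0, 0, 1, 0, 0], [0, 0, 0, 0, 1, 1, 0], [0, 0, 0, 0, 1, 1, 1], [0, 0, 0, 1, 0, 0, 0], [0, 0, 0, 1, 1, 0, 0], [0, 0, 0, 1, 1, 1, 0], [0, 0, 0, 1, 1, 1, 1], [0, 0, 1, 0, 0, 0, 0], [0, 0, 1, 1, 0, 0, 0], [0, 0, 1, 1, 1, 0, 0], [0, 0, 1, 1, 1, 1, 0], [0, 0, 1, 1, 1, 1, 1], [0, 1, 0, 0, 0, 0, 0], [0, 1, 0, 1, 0, 0, 0], [0, 1, 0, 1, 1, 0, 0],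 [0, 1, 0, 1, 1, 1, 0], [0, 1, 0, 1, 1, 1, 1], [0, 1, 1, 1, 0, 0, 0], [0, 1, 1, 1, 1, 0, 0], [0, 1, 1, 1, 1, 1, 0], [0, 1, 1, 1, 1, 1, 1], [0, 1, 1, 2, 1, 0, 0], [0, 1, 1, 2, 1, 1, 0], [0, 1, 1, 2, 1, 1, 1], [0, 1, 1, 2, 2, 1, 0], [0, 1, 1, 2, 2, 1, 1], [0, 1, 1, 2, 2, 2, 1], [1, 0, 0, 0, 0, 0, 0], [1, 0, 1, 0, 0, 0, 0], [1, 0, 1, 1, 0, 0, 0], [1, 0, 1, 1, 1, 0, 0], [1, 0, 1, 1, 1, 1, 0], [1, 0, 1, 1, 1, 1, 1], [1, 1, 1, 1, 0, 0, 0], [1, 1, 1, 1, 1, 0, 0], [1, 1, 1, 1, 1, 1, 0], [1, 1, 1, 1, 1, 1, 1], [1, 1, 1, 2, 1, 0, 0], [1, 1, 1, 2, 1, 1, 0], [1, 1, 1, 2, 1, 1, 1], [1, 1, 1, 2, 2, 1, 0], [1, 1, 1, 2, 2, 1, 1], [1, 1, 1, 2, 2, 2, 1], [1, 1, 2, 2, 1, 0, 0], [1, 1, 2, 2, 1, 1, 0], [1, 1, 2, 2, 1, 1, 1], [1, 1, 2, 2, 2, 1, 0], [1, 1, 2, 2, 2, 1, 1], [1, 1, 2, 2, 2, 2, 1],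 [1, 1, 2, 3, 2, 1, 0], [1, 1, 2, 3, 2, 1, 1], [1, 1, 2, 3, 2, 2, 1], [1, 1, 2, 3, 3, 2, 1], [1, 2, 2, 3, 2, 1, 0], [1, 2, 2, 3, 2, 1, 1], [1, 2, 2, 3, 2, 2, 1], [1, 2, 2, 3, 3, 2, 1], [1, 2, 2, 4, 3, 2, 1], [1, 2, 3, 4, 3, 2, 1], [2, 2, 3, 4, 3, 2, 1]]
  κL := [16777216, 1048576, 65536, 4096, 256, 16, 1]
  dL := [1, 1, 1, 1, 1, 1, 1]
  nrmL := [1, 1, 1, 1, 1, 1, 1, 1, 1, 1, 1, 1, 1, 1, 1, 1, 1, 1, 1, 1, 1, 1, 1, 1, 1, 1, 1, 1, 1, 1, 1, 1, 1, 1, 1, 1, 1, 1, 1, 1, 1, 1, 1, 1, 1, 1, 1, 1, 1, 1, 1, 1, 1, 1, 1, 1, 1, 1, 1, 1, 1, 1, 1, 1, 1, 1, 1, 1, 1, 1, 1, 1, 1, 1, 1, 1, 1, 1, 1, 1, 1, 1, 1, 1, 1, 1, 1, 1, 1, 1, 1, 1, 1, 1, 1, 1, 1, 1, 1, 1, 1, 1, 1, 1, 1, 1, 1, 1, 1, 1, 1, 1, 1, 1, 1, 1, 1, 1, 1, 1, 1, 1, 1, 1, 1, 1]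
  CL := [[2, 0, -1, 0, 0, 0, 0], [0, 2, 0, -1, 0, 0, 0], [-1, 0, 2, -1, 0, 0, 0], [0, -1, -1, 2, -1, 0, 0], [0, 0, 0, -1, 2, -1, 0], [0, 0, 0, 0, -1, 2, -1], [0, 0, 0, 0, 0, -1, 2]]
  witL := [(1, 32), (7, 42), (7, 46), (7, 47), (8, 47), (9, 47), (10, 47), (27, 35), (30, 33), (30, 34), (30, 35), (31, 33), (31, 34), (31, 35), (31, 36), (31, 37), (31, 38), (32, 33), (32, 34), (32, 35), (32, 36), (32, 37), (32, 38), (32, 39), (32, 40), (32, 41), (32, 42), (32, 48), (32, 49), (32, 50), (32, 51), (32, 52), (27, 77), (43, 49), (43, 50), (44, 50), (43, 51), (44, 51), (45, 51), (43, 52), (44, 52), (45, 52), (46, 52), (47, 53), (47, 54), (47, 55), (47, 56), (43, 72), (52, 53), (52, 54), (52, 55), (52, 56), (11, 108), (56, 57), (56, 58), (56, 59), (53, 68), (59, 60), (57, 63), (57,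 65), (4, 119), (60, 63), (5, 119), (6, 120), (5, 121), (6, 121), (4, 122), (5, 122), (6, 122), (3, 123), (4, 123), (5, 123), (6, 123), (2, 124), (3, 124), (4, 124), (5, 124), (6, 124), (7, 122), (7, 123), (8, 123), (9, 123), (10, 123), (7, 124), (8, 124), (9, 124), (10, 124), (11, 124), (12, 124), (13, 124), (14, 124), (15, 124), (16, 124), (1, 125), (2, 125), (3, 125), (4, 125), (5, 125), (6, 125), (7, 125), (8, 125), (9, 125), (10, 125), (11, 125), (12, 125), (13, 125), (14, 125), (15, 125), (16, 125), (17, 125), (18, 125), (19, 125), (20, 125), (21, 125), (22, 125), (23, 125), (24, 125), (25, 125), (26, 125), (27, 125), (28, 125), (29, 125), (30, 125), (31, 125), (32, 125), (93, 124)]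

theorem auxE7_chk1 : auxE7.chk1 chevE7 := by decide +kernel
theorem auxE7_chk2 : auxE7.chk2 chevE7 := by decide +kernel
theorem auxE7_chk3 : auxE7.chk3 chevE7 := by decide +kernel
theorem auxE7_chk4 : auxE7.chk4 chevE7 := by decide +kernel

def goodE7 : Good chevE7 := ⟨auxE7, auxE7_chk1, auxE7_chk2, auxE7_chk3, auxE7_chk4⟩

end H20
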