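import Mathlib
import Cfsg.Prelude.Def_ChevE8
import Cfsg.Agent.H20.Good

set_option autoImplicit false
set_option maxRecDepth 100000

namespace H20

open Cfsg.Lie

def auxE8 : Aux where
  rtL := [[-2, -3, -4, -6, -5, -4, -3, -2], [-2, -3, -4, -6, -5, -4, -3, -1], [-2, -3, -4, -6, -5, -4, -2, -1], [-2, -3, -4, -6, -5, -3, -2, -1], [-2, -3, -4, -6, -4, -3, -2, -1], [-2, -3, -4, -5, -4, -3, -2, -1], [-2, -3, -3, -5, -4, -3, -2, -1], [-2, -2, -4, -5, -4, -3, -2, -1], [-2, -2, -3, -5, -4, -3, -2, -1], [-2, -2, -3, -4, -4, -3, -2, -1], [-2, -2, -3, -4, -3, -3, -2, -1], [-2, -2, -3, -4, -3, -2, -2, -1], [-2, -2, -3, -4, -3, -2, -1, -1], [-2, -2, -3, -4, -3, -2, -1, 0], [-1, -3, -3, -5, -4, -3, -2, -1], [-1, -2, -3, -5, -4, -3, -2, -1], [-1, -2, -3, -4, -4, -3, -2, -1], [-1,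 -2, -3, -4, -3, -3, -2, -1], [-1, -2, -3, -4, -3, -2, -2, -1], [-1, -2, -3, -4, -3, -2, -1, -1], [-1, -2, -3, -4, -3, -2, -1, 0], [-1, -2, -2, -4, -4, -3, -2, -1], [-1, -2, -2, -4, -3, -3, -2, -1], [-1, -2, -2, -4, -3, -2, -2, -1], [-1, -2, -2, -4, -3, -2, -1, -1], [-1, -2, -2, -4, -3, -2, -1, 0], [-1, -2, -2, -3, -3, -3, -2, -1], [-1, -2, -2, -3, -3, -2, -2, -1], [-1, -2, -2, -3, -3, -2, -1, -1], [-1, -2, -2, -3, -3, -2, -1, 0], [-1, -2, -2, -3, -2, -2, -2, -1], [-1, -2, -2, -3, -2, -2, -1, -1], [-1, -2, -2, -3, -2, -2, -1, 0], [-1, -2, -2, -3, -2, -1, -1, -1], [-1, -2, -2, -3, -2, -1, -1, 0], [-1, -2, -2, -3, -2, -1, 0, 0], [-1, -1, -2, -3, -3, -3, -2, -1], [-1, -1, -2, -3, -3, -2, -2, -1], [-1, -1, -2, -3, -3, -2, -1, -1], [-1, -1, -2, -3, -3, -2, -1, 0], [-1, -1,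 -2, -3, -2, -2, -2, -1], [-1, -1, -2, -3, -2, -2, -1, -1], [-1, -1, -2, -3, -2, -2, -1, 0], [-1, -1, -2, -3, -2, -1, -1, -1], [-1, -1, -2, -3, -2, -1, -1, 0], [-1, -1, -2, -3, -2, -1, 0, 0], [-1, -1, -2, -2, -2, -2, -2, -1], [-1, -1, -2, -2, -2, -2, -1, -1], [-1, -1, -2, -2, -2, -2, -1, 0], [-1, -1, -2, -2, -2, -1, -1, -1], [-1, -1, -2, -2, -2, -1, -1, 0], [-1, -1, -2, -2, -2, -1, 0, 0], [-1, -1, -2, -2, -1, -1, -1, -1], [-1, -1, -2, -2, -1, -1, -1, 0], [-1, -1, -2, -2, -1, -1, 0, 0], [-1, -1, -2, -2, -1, 0, 0, 0], [-1, -1, -1, -2, -2, -2, -2, -1], [-1, -1, -1, -2, -2, -2, -1, -1], [-1, -1, -1, -2, -2, -2, -1, 0], [-1, -1, -1, -2, -2, -1, -1, -1], [-1, -1, -1, -2, -2, -1, -1, 0], [-1, -1, -1, -2, -2, -1, 0, 0], [-1, -1, -1, -2, -1, -1, -1, -1], [-1, -1, -1, -2, -1, -1,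 -1, 0], [-1, -1, -1, -2, -1, -1, 0, 0], [-1, -1, -1, -2, -1, 0, 0, 0], [-1, -1, -1, -1, -1, -1, -1, -1], [-1, -1, -1, -1, -1, -1, -1, 0], [-1, -1, -1, -1, -1, -1, 0, 0], [-1, -1, -1, -1, -1, 0, 0, 0], [-1, -1, -1, -1, 0, 0, 0, 0], [-1, 0, -1, -1, -1, -1, -1, -1], [-1, 0, -1, -1, -1, -1, -1, 0], [-1, 0, -1, -1, -1, -1, 0, 0], [-1, 0, -1, -1, -1, 0, 0, 0], [-1, 0, -1, -1, 0, 0, 0, 0], [-1, 0, -1, 0, 0, 0, 0, 0], [-1, 0, 0, 0, 0, 0, 0, 0], [0, -1, -1, -2, -2, -2, -2, -1], [0, -1, -1, -2, -2, -2, -1, -1], [0, -1, -1, -2, -2, -2, -1, 0], [0, -1, -1, -2, -2, -1, -1, -1], [0, -1, -1, -2, -2, -1, -1, 0], [0, -1, -1, -2, -2, -1, 0, 0], [0, -1, -1, -2, -1, -1, -1, -1], [0, -1, -1, -2, -1, -1, -1, 0], [0, -1, -1, -2, -1, -1, 0, 0], [0, -1, -1, -2, -1, 0, 0, 0], [0, -1, -1, -1,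 -1, -1, -1, -1], [0, -1, -1, -1, -1, -1, -1, 0], [0, -1, -1, -1, -1, -1, 0, 0], [0, -1, -1, -1, -1, 0, 0, 0], [0, -1, -1, -1, 0, 0, 0, 0], [0, -1, 0, -1, -1, -1, -1, -1], [0, -1, 0, -1, -1, -1, -1, 0], [0, -1, 0, -1, -1, -1, 0, 0], [0, -1, 0, -1, -1, 0, 0, 0], [0, -1, 0, -1, 0, 0, 0, 0], [0, -1, 0, 0, 0, 0, 0, 0], [0, 0, -1, -1, -1, -1, -1, -1], [0, 0, -1, -1, -1, -1, -1, 0], [0, 0, -1, -1, -1, -1, 0, 0], [0, 0, -1, -1, -1, 0, 0, 0], [0, 0, -1, -1, 0, 0, 0, 0], [0, 0, -1, 0, 0, 0, 0, 0], [0, 0, 0, -1, -1, -1, -1, -1], [0, 0, 0, -1, -1, -1, -1, 0], [0, 0, 0, -1, -1, -1, 0, 0], [0, 0, 0, -1, -1, 0, 0, 0], [0, 0, 0, -1, 0, 0, 0, 0], [0, 0, 0, 0, -1, -1, -1, -1], [0, 0, 0, 0, -1, -1, -1, 0], [0, 0, 0, 0, -1, -1, 0, 0], [0, 0, 0, 0, -1, 0, 0, 0], [0, 0, 0, 0, 0, -1, -1, -1],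 [0, 0, 0, 0, 0, -1, -1, 0], [0, 0, 0, 0, 0, -1, 0, 0], [0, 0, 0, 0, 0, 0, -1, -1], [0, 0, 0, 0, 0, 0, -1, 0], [0, 0, 0, 0, 0, 0, 0, -1], [0, 0, 0, 0, 0, 0, 0, 1], [0, 0, 0, 0, 0, 0, 1, 0], [0, 0, 0, 0, 0, 0, 1, 1], [0, 0, 0, 0, 0, 1, 0, 0], [0, 0, 0, 0, 0, 1, 1, 0], [0, 0, 0, 0, 0, 1, 1, 1], [0, 0, 0, 0, 1, 0, 0, 0], [0, 0, 0, 0, 1, 1, 0, 0], [0, 0, 0, 0, 1, 1, 1, 0], [0, 0, 0, 0, 1, 1, 1, 1], [0, 0, 0, 1, 0, 0, 0, 0], [0, 0, 0, 1, 1, 0, 0, 0], [0, 0, 0, 1, 1, 1, 0, 0], [0, 0, 0, 1, 1, 1, 1, 0], [0, 0, 0, 1, 1, 1, 1, 1], [0, 0, 1, 0, 0, 0, 0, 0], [0, 0, 1, 1, 0, 0, 0, 0], [0, 0, 1, 1, 1, 0, 0, 0], [0, 0, 1, 1, 1, 1, 0, 0], [0, 0, 1, 1, 1, 1, 1, 0], [0, 0, 1, 1, 1, 1, 1, 1], [0, 1, 0, 0, 0, 0, 0, 0], [0, 1, 0, 1, 0, 0, 0, 0], [0, 1, 0, 1, 1, 0, 0, 0], [0, 1, 0, 1, 1,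 1, 0, 0], [0, 1, 0, 1, 1, 1, 1, 0], [0, 1, 0, 1, 1, 1, 1, 1], [0, 1, 1, 1, 0, 0, 0, 0], [0, 1, 1, 1, 1, 0, 0, 0], [0, 1, 1, 1, 1, 1, 0, 0], [0, 1, 1, 1, 1, 1, 1, 0], [0, 1, 1, 1, 1, 1, 1, 1], [0, 1, 1, 2, 1, 0, 0, 0], [0, 1, 1, 2, 1, 1, 0, 0], [0, 1, 1, 2, 1, 1, 1, 0], [0, 1, 1, 2, 1, 1, 1, 1], [0, 1, 1, 2, 2, 1, 0, 0], [0, 1, 1, 2, 2, 1, 1, 0], [0, 1, 1, 2, 2, 1, 1, 1], [0, 1, 1, 2, 2, 2, 1, 0], [0, 1, 1, 2, 2, 2, 1, 1], [0, 1, 1, 2, 2, 2, 2, 1], [1, 0, 0, 0, 0, 0, 0, 0], [1, 0, 1, 0, 0, 0, 0, 0], [1, 0, 1, 1, 0, 0, 0, 0], [1, 0, 1, 1, 1, 0, 0, 0], [1, 0, 1, 1, 1, 1, 0, 0], [1, 0, 1, 1, 1, 1, 1, 0], [1, 0, 1, 1, 1, 1, 1, 1], [1, 1, 1, 1, 0, 0, 0, 0], [1, 1, 1, 1, 1, 0, 0, 0], [1, 1, 1, 1, 1, 1, 0, 0], [1, 1, 1, 1, 1, 1, 1, 0], [1, 1, 1, 1, 1, 1, 1, 1], [1, 1, 1, 2,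 1, 0, 0, 0], [1, 1, 1, 2, 1, 1, 0, 0], [1, 1, 1, 2, 1, 1, 1, 0], [1, 1, 1, 2, 1, 1, 1, 1], [1, 1, 1, 2, 2, 1, 0, 0], [1, 1, 1, 2, 2, 1, 1, 0], [1, 1, 1, 2, 2, 1, 1, 1], [1, 1, 1, 2, 2, 2, 1, 0], [1, 1, 1, 2, 2, 2, 1, 1], [1, 1, 1, 2, 2, 2, 2, 1], [1, 1, 2, 2, 1, 0, 0, 0], [1, 1, 2, 2, 1, 1, 0, 0], [1, 1, 2, 2, 1, 1, 1, 0], [1, 1, 2, 2, 1, 1, 1, 1], [1, 1, 2, 2, 2, 1, 0, 0], [1, 1, 2, 2, 2, 1, 1, 0], [1, 1, 2, 2, 2, 1, 1, 1], [1, 1, 2, 2, 2, 2, 1, 0], [1, 1, 2, 2, 2, 2, 1, 1], [1, 1, 2, 2, 2, 2, 2, 1], [1, 1, 2, 3, 2, 1, 0, 0], [1, 1, 2, 3, 2, 1, 1, 0], [1, 1, 2, 3, 2, 1, 1, 1], [1, 1, 2, 3, 2, 2, 1, 0], [1, 1, 2, 3, 2, 2, 1, 1], [1, 1, 2, 3, 2, 2, 2, 1], [1, 1, 2, 3, 3, 2, 1, 0], [1, 1, 2, 3, 3, 2, 1, 1], [1, 1, 2, 3, 3, 2, 2, 1], [1, 1, 2, 3, 3, 3, 2, 1], [1, 2, 2,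 3, 2, 1, 0, 0], [1, 2, 2, 3, 2, 1, 1, 0], [1, 2, 2, 3, 2, 1, 1, 1], [1, 2, 2, 3, 2, 2, 1, 0], [1, 2, 2, 3, 2, 2, 1, 1], [1, 2, 2, 3, 2, 2, 2, 1], [1, 2, 2, 3, 3, 2, 1, 0], [1, 2, 2, 3, 3, 2, 1, 1], [1, 2, 2, 3, 3, 2, 2, 1], [1, 2, 2, 3, 3, 3, 2, 1], [1, 2, 2, 4, 3, 2, 1, 0], [1, 2, 2, 4, 3, 2, 1, 1], [1, 2, 2, 4, 3, 2, 2, 1], [1, 2, 2, 4, 3, 3, 2, 1], [1, 2, 2, 4, 4, 3, 2, 1], [1, 2, 3, 4, 3, 2, 1, 0], [1, 2, 3, 4, 3, 2, 1, 1], [1, 2, 3, 4, 3, 2, 2, 1], [1, 2, 3, 4, 3, 3, 2, 1], [1, 2, 3, 4, 4, 3, 2, 1], [1, 2, 3, 5, 4, 3, 2, 1], [1, 3, 3, 5, 4, 3, 2, 1], [2, 2, 3, 4, 3, 2, 1, 0], [2, 2, 3, 4, 3, 2, 1, 1], [2, 2, 3, 4, 3, 2, 2, 1], [2, 2, 3, 4, 3, 3, 2, 1], [2, 2, 3, 4, 4, 3, 2, 1], [2, 2, 3, 5, 4, 3, 2, 1], [2, 2, 4, 5, 4, 3, 2, 1], [2, 3, 3, 5, 4, 3, 2, 1], [2, 3,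 4, 5, 4, 3, 2, 1], [2, 3, 4, 6, 4, 3, 2, 1], [2, 3, 4, 6, 5, 3, 2, 1], [2, 3, 4, 6, 5, 4, 2, 1], [2, 3, 4, 6, 5, 4, 3, 1], [2, 3, 4, 6, 5, 4, 3, 2]]
  κL := [268435456, 16777216, 1048576, 65536, 4096, 256, 16, 1]
  dL := [1, 1, 1, 1, 1, 1, 1, 1]
  nrmL := [1, 1, 1, 1, 1, 1, 1, 1, 1, 1, 1, 1, 1, 1, 1, 1, 1, 1, 1, 1, 1, 1, 1, 1, 1, 1, 1, 1, 1, 1, 1, 1, 1, 1, 1, 1, 1, 1, 1, 1, 1, 1, 1, 1, 1, 1, 1, 1, 1, 1, 1, 1, 1, 1, 1, 1, 1, 1, 1, 1, 1, 1, 1, 1, 1, 1, 1, 1, 1, 1, 1, 1, 1, 1, 1, 1, 1, 1, 1, 1, 1, 1, 1, 1, 1, 1, 1, 1, 1, 1, 1, 1, 1, 1, 1, 1, 1, 1, 1, 1, 1, 1, 1, 1, 1, 1, 1, 1, 1, 1, 1, 1, 1, 1, 1, 1, 1, 1, 1, 1, 1, 1, 1, 1, 1, 1, 1, 1, 1, 1, 1, 1, 1, 1, 1, 1, 1, 1, 1, 1, 1, 1, 1, 1, 1, 1, 1, 1, 1, 1, 1, 1, 1, 1, 1, 1, 1, 1, 1, 1, 1, 1, 1, 1, 1, 1, 1, 1, 1, 1, 1, 1, 1, 1,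 1, 1, 1, 1, 1, 1, 1, 1, 1, 1, 1, 1, 1, 1, 1, 1, 1, 1, 1, 1, 1, 1, 1, 1, 1, 1, 1, 1, 1, 1, 1, 1, 1, 1, 1, 1, 1, 1, 1, 1, 1, 1, 1, 1, 1, 1, 1, 1, 1, 1, 1, 1, 1, 1, 1, 1, 1, 1, 1, 1, 1, 1, 1, 1, 1, 1]
  CL := [[2, 0, -1, 0, 0, 0, 0, 0], [0, 2, 0, -1, 0, 0, 0, 0], [-1, 0, 2, -1, 0, 0, 0, 0], [0, -1, -1, 2, -1, 0, 0, 0], [0, 0, 0, -1, 2, -1, 0, 0], [0, 0, 0, 0, -1, 2, -1, 0], [0, 0, 0, 0, 0, -1, 2, -1], [0, 0, 0, 0, 0, 0, -1, 2]]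
  witL := [(27, 41), (27, 42), (28, 42), (27, 45), (30, 45), (26, 55), (14, 77), (15, 76), (15, 77), (16, 77), (17, 77), (18, 77), (19, 77), (20, 77), (15, 98), (36, 87), (21, 104), (22, 104), (23, 104), (24, 104), (25, 104), (36, 96), (36, 97), (37, 97), (38, 97), (39, 97), (36, 98), (37, 98), (38, 98), (39, 98), (40, 98), (41, 98), (42, 98), (43, 98), (44, 98), (45, 98), (71, 80), (74, 78), (74, 79), (74, 80), (75, 78), (75, 79), (75, 80), (75, 81), (75, 82), (75, 83), (76, 78), (76, 79), (76, 80), (76, 81), (76, 82), (76, 83), (76, 84), (76, 85), (76, 86), (76, 87), (77, 78), (77, 79), (77, 80), (77, 81), (77, 82), (77, 83), (77, 84), (77, 85), (77, 86), (77, 87), (77, 88), (77, 89), (77, 90), (77, 91), (77, 92), (77, 99), (77, 100), (77, 101), (77, 102), (77, 103),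 (77, 104), (71, 140), (93, 100), (93, 101), (94, 101), (93, 102), (94, 102), (95, 102), (93, 103), (94, 103), (95, 103), (96, 103), (93, 104), (94, 104), (95, 104), (96, 104), (97, 104), (98, 105), (98, 106), (98, 107), (98, 108), (98, 109), (93, 134), (104, 105), (104, 106), (104, 107), (104, 108), (104, 109), (46, 183), (109, 110), (109, 111), (109, 112), (109, 113), (40, 193), (113, 114), (113, 115), (113, 116), (110, 125), (116, 117), (114, 120), (114, 122), (0, 237), (117, 120), (0, 238), (1, 239), (2, 238), (2, 239), (3, 237), (3, 238), (3, 239), (4, 236), (4, 237), (4, 238), (4, 239), (5, 235), (5, 236), (5, 237), (5, 238), (5, 239), (6, 234), (6, 235), (6, 236), (6, 237), (6, 238), (6, 239), (15, 225), (16, 225), (17, 225), (18, 225), (19, 225), (20, 225), (8,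 235), (8, 236), (8, 237), (8, 238), (8, 239), (9, 236), (9, 237), (9, 238), (9, 239), (10, 237), (10, 238), (10, 239), (11, 238), (11, 239), (12, 239), (15, 231), (15, 232), (16, 232), (17, 232), (18, 232), (19, 232), (20, 232), (15, 235), (15, 236), (15, 237), (15, 238), (15, 239), (16, 236), (16, 237), (16, 238), (16, 239), (17, 237), (17, 238), (17, 239), (18, 238), (18, 239), (19, 239), (21, 236), (21, 237), (21, 238), (21, 239), (22, 237), (22, 238), (22, 239), (23, 238), (23, 239), (24, 239), (26, 237), (26, 238), (26, 239), (27, 238), (27, 239), (28, 239), (30, 238), (30, 239), (31, 239), (33, 239), (36, 237), (36, 238), (36, 239), (37, 238), (37, 239), (38, 239), (40, 238), (40, 239), (41, 239), (43, 239), (46, 238), (46, 239), (47, 239), (49, 239), (52, 239),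 (56, 238), (56, 239), (57, 239), (59, 239), (62, 239), (66, 239), (71, 239), (78, 238), (78, 239), (79, 239), (81, 239), (84, 239), (88, 239), (93, 239), (99, 239), (105, 239), (110, 239), (114, 239), (117, 239), (119, 239), (120, 238)]

theorem auxE8_chk1 : auxE8.chk1 chevE8 := by decide +kernel
theorem auxE8_chk2 : auxE8.chk2 chevE8 := by decide +kernel
theorem auxE8_chk3 : auxE8.chk3 chevE8 := by decide +kernel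
theorem auxE8_chk4 : auxE8.chk4 chevE8 := by decide +kernel

def goodE8 : Good chevE8 := ⟨auxE8, auxE8_chk1, auxE8_chk2, auxE8_chk3, auxE8_chk4⟩

end H20
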