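import Mathlib
import Cfsg.Prelude.Def_ChevG2
import Cfsg.Agent.H20.Good

set_option autoImplicit false
set_option maxRecDepth 100000

namespace H20

open Cfsg.Lie

def auxG2 : Aux where
  rtL := [[-3, -2], [-3, -1], [-2, -1], [-1, -1], [-1, 0], [0, -1], [0, 1], [1, 0], [1, 1], [2, 1], [3, 1], [3, 2]]
  κL := [16, 1]
  dL := [1, 3]
  nrmL := [3, 3, 1, 1, 1, 3, 3, 1, 1, 1, 3, 3]
  CL := [[2, -3], [-1, 2]]
  witL := [(1, 5), (0, 6), (0, 8), (1, 7), (0, 8), (1, 7), (0, 8), (0, 9), (1, 9), (5, 8), (0, 9), (1, 9)]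

theorem auxG2_chk1 : auxG2.chk1 chevG2 := by decide +kernel
theorem auxG2_chk2 : auxG2.chk2 chevG2 := by decide +kernel
theorem auxG2_chk3 : auxG2.chk3 chevG2 := by decide +kernel
theorem auxG2_chk4 : auxG2.chk4 chevG2 := by decide +kernel

def goodG2 : Good chevG2 := ⟨auxG2, auxG2_chk1, auxG2_chk2, auxG2_chk3, auxG2_chk4⟩

end H20
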