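import Mathlib
import Cfsg.Prelude.Def_ChevD4
import Cfsg.Agent.H20.Good

set_option autoImplicit false
set_option maxRecDepth 100000

namespace H20

open Cfsg.Lie

def auxD4 : Aux where
  rtL := [[-1, -2, -1, -1], [-1, -1, -1, -1], [-1, -1, -1, 0], [-1, -1, 0, -1], [-1, -1, 0, 0], [-1, 0, 0, 0], [0, -1, -1, -1], [0, -1, -1, 0], [0, -1, 0, -1], [0, -1, 0, 0], [0, 0, -1, 0], [0, 0, 0, -1], [0, 0, 0, 1], [0, 0, 1, 0], [0, 1, 0, 0], [0, 1, 0, 1], [0, 1, 1, 0], [0, 1, 1, 1], [1, 0, 0, 0], [1, 1, 0, 0], [1, 1, 0, 1], [1, 1, 1, 0], [1, 1, 1, 1], [1, 2, 1, 1]]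
  κL := [4096, 256, 16, 1]
  dL := [1, 1, 1, 1]
  nrmL := [1, 1, 1, 1, 1, 1, 1, 1, 1, 1, 1, 1, 1, 1, 1, 1, 1, 1, 1, 1, 1, 1, 1, 1]
  CL := [[2, -1, 0, 0], [-1, 2, -1, -1], [0, -1, 2, 0], [0, -1, 0, 2]]
  witL := [(1, 9), (5, 6), (5, 7), (5, 8), (5, 9), (1, 17), (7, 11), (6, 12), (6, 13), (7, 13), (1, 20), (1, 21), (2, 22), (3, 22), (1, 23), (2, 23), (3, 23), (4, 23), (6, 22), (6, 23), (7, 23), (8, 23), (9, 23), (14, 22)]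

theorem auxD4_chk1 : auxD4.chk1 chevD4 := by decide +kernel
theorem auxD4_chk2 : auxD4.chk2 chevD4 := by decide +kernel
theorem auxD4_chk3 : auxD4.chk3 chevD4 := by decide +kernel
theorem auxD4_chk4 : auxD4.chk4 chevD4 := by decide +kernel

def goodD4 : Good chevD4 := ⟨auxD4, auxD4_chk1, auxD4_chk2, auxD4_chk3, auxD4_chk4⟩

end H20
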