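import Mathlib
import Cfsg.Prelude.Def_Steinberg
import Cfsg.Agent.H20.Bruhat
import Cfsg.Agent.H20.DRG

/-!
Lifting of the root group structure along a homomorphism; Steinberg's presented group.
-/

set_option autoImplicit false

namespace H20

open Finset

section lift

variable {ι Λ : Type} [LinearOrder ι] [Fintype Λ] [DecidableEq Λ] [Fintype ι]
  {R : RS ι Λ} {K : Type*} [Field K] {G G' : Type*} [Group G] [Group G']

namespace WRG

/-- Every root subgroup is generated by other root subgroups of a common positive system. -/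
def Wit (Y : WRG R K G) : Prop :=
  ∀ s, ∃ w ∈ R.W, R.Pos (w s) ∧ ∀ u, Y.x s u ∈ Y.XS {k | R.Pos (w k) ∧ k ≠ s}

variable {Y : WRG R K G'} {θ : G' →* G}

omit [Fintype ι] in
theorem map_n {X : WRG R K G} (hθ : ∀ r t, θ (Y.x r t) = X.x r t) (r : ι) (t : K) : θ (Y.n r t) = X.n r t := by
  simp [n, hθ]

omit [Fintype ι] in
theorem map_h {X : WRG R K G} (hθ : ∀ r t, θ (Y.x r t) = X.x r t) (r : ι) (t : K) : θ (Y.h r t) = X.h r t := by
  simp [h, map_n hθ]

omit [Fintype ι] in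
theorem map_mem_XS {X : WRG R K G} (hθ : ∀ r t, θ (Y.x r t) = X.x r t) {S : Set ι} {a : G'} (ha : a ∈ Y.XS S) :
    θ a ∈ X.XS S := Y.map_XS_eq θ hθ S ▸ Subgroup.mem_map_of_mem θ ha

omit [Fintype ι] in
theorem map_H {X : WRG R K G} (hθ : ∀ r t, θ (Y.x r t) = X.x r t) : Y.H.map θ = X.H := by
  rw [H, MonoidHom.map_closure, H]
  congr 1
  ext g
  constructor
  · rintro ⟨_, ⟨r, t, ht, rfl⟩, rfl⟩; exact ⟨r, t, ht, map_h hθ r t⟩
  · rintro ⟨r, t, ht, rfl⟩; exact ⟨_, ⟨r, t, ht, rfl⟩, map_h hθ r t⟩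

omit [Fintype ι] in
theorem map_N {X : WRG R K G} (hθ : ∀ r t, θ (Y.x r t) = X.x r t) : Y.N.map θ = X.N := by
  rw [N, Subgroup.map_sup, map_H hθ, MonoidHom.map_closure, N]
  congr 2
  ext g
  constructor
  · rintro ⟨_, ⟨r, rfl⟩, rfl⟩; exact ⟨r, map_n hθ r 1⟩
  · rintro ⟨r, rfl⟩; exact ⟨_, ⟨r, rfl⟩, map_n hθ r 1⟩

omit [Fintype ι] in
theorem map_B {X : WRG R K G} (hθ : ∀ r t, θ (Y.x r t) = X.x r t) : Y.B.map θ = X.B := by
  rw [B, Subgroup.map_sup, map_H hθ, U, Y.map_XS_eq θ hθ]; rfl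

omit [Fintype ι] in
theorem _root_.H20.RG.nd_comap (X : RG R K G) {w : Equiv.Perm ι} (hw : w ∈ R.W) :
    (X.toWRG.comap w hw).ND := by
  intro r a hr h
  rw [comap_XS] at h
  obtain ⟨n, -, c, hc⟩ := X.exists_N_acts (inv_mem hw)
  have h1 := Acts.conj_mem ⟨c, hc⟩ (T := {s | r < s}) (by rintro _ ⟨k, hk, rfl⟩; simpa using hk) h
  have h2 : n * (X.toWRG.comap w hw).x r a * n⁻¹ = X.x r (c (w r) * a) := by
    have := hc.conj (w r) a
    simp only [Equiv.Perm.coe_inv, Equiv.symm_apply_apply] at this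
    exact this
  rw [h2] at h1
  exact (mul_eq_zero.1 (X.nd1 r _ hr h1)).resolve_left (hc.ne_zero _)

/-- `θ` is injective on the unipotent subgroup of every positive system. -/
theorem eq_of_map_eq {X : RG R K G} (hθ : ∀ r t, θ (Y.x r t) = X.x r t) {w : Equiv.Perm ι} (hw : w ∈ R.W)
    {a b : G'} (ha : a ∈ Y.XS {k | R.Pos (w k)}) (hb : b ∈ Y.XS {k | R.Pos (w k)}) (h : θ a = θ b) : a = b := by
  have hS : {k | R.Pos (w k)} = (w⁻¹ : Equiv.Perm ι) '' {k | R.Pos k} := by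
    ext k
    exact ⟨fun h => ⟨w k, h, by simp⟩, by rintro ⟨k, hk, rfl⟩; simpa using hk⟩
  rw [hS, ← Y.comap_XS w⁻¹ (inv_mem hw)] at ha hb
  obtain ⟨t, rfl⟩ := (Y.comap w⁻¹ (inv_mem hw)).exists_P R.closed_pos (fun _ h => h) nodup_posList
    (fun r => mem_posList) ha
  obtain ⟨t', rfl⟩ := (Y.comap w⁻¹ (inv_mem hw)).exists_P R.closed_pos (fun _ h => h) nodup_posList
    (fun r => mem_posList) hb
  rw [map_P (Y := X.toWRG.comap w⁻¹ (inv_mem hw)) _ θ (fun r t => hθ _ t),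
    map_P (Y := X.toWRG.comap w⁻¹ (inv_mem hw)) _ θ (fun r t => hθ _ t)] at h
  exact P_congr _ (P_injective _ (X.nd_comap (inv_mem hw)) R.closed_pos (fun _ h => h) nodup_posList
    (fun r => mem_posList.1) h)

theorem _root_.H20.RS.exists_w0_sim (R : RS ι Λ) (i : Λ) : ∃ j, R.w0 Set.univ (R.sim i) = R.neg (R.sim j) := by
  have hW := R.w0_mem_W Set.univ
  obtain ⟨j, -, hj⟩ := RS.exists_right_descent (J := Set.univ) (mul_mem (mul_mem hW (R.s_mem_W i)) hW) (by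
    intro h
    have h1 : R.s i = 1 := by
      calc R.s i = (R.w0 Set.univ)⁻¹ * (R.w0 Set.univ * R.s i * R.w0 Set.univ) * (R.w0 Set.univ)⁻¹ := by group
        _ = 1 := by rw [h, RS.w0_inv, mul_one, RS.w0_mul_w0]
    have := R.not_pos_neg_sim i
    rw [← RS.s_sim, h1] at this
    exact this (R.pos_sim i))
  refine ⟨j, ?_⟩
  simp only [Equiv.Perm.mul_apply] at hj
  rw [RS.pos_w0_univ_iff, not_not] at hj
  have h1 : R.neg (R.w0 Set.univ (R.sim j)) = R.sim i := by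
    by_contra h
    have := R.pos_sr (R.pos_neg_iff.2 (RS.w0_sim (Set.mem_univ j))) h
    rw [← RS.s_apply, RS.W_neg (R.s_mem_W i), RS.pos_neg_iff] at this
    exact this hj
  rw [← h1, RS.W_neg hW, RS.w0_w0]

theorem _root_.H20.RS.exists_pos_system {r s : ι} (h1 : s ≠ r) (h2 : s ≠ R.neg r) :
    ∃ w ∈ R.W, ∃ i, (w r = R.sim i ∨ w r = R.neg (R.sim i)) ∧ R.Pos (w s) ∧ w s ≠ R.sim i := by
  obtain ⟨w, hw, i, rfl⟩ := R.exists_W_sim r
  by_cases hp : R.Pos (w⁻¹ s)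
  · exact ⟨w⁻¹, inv_mem hw, i, Or.inl (by simp), hp, fun h => h1 (by rw [← h]; simp)⟩
  · obtain ⟨j, hj⟩ := R.exists_w0_sim i
    refine ⟨R.w0 Set.univ * w⁻¹, mul_mem (R.w0_mem_W _) (inv_mem hw), j, Or.inr (by simpa using hj), ?_, ?_⟩
    · rwa [Equiv.Perm.mul_apply, RS.pos_w0_univ_iff]
    · intro h
      apply h2
      have := congrArg R.neg h
      rw [← hj, ← RS.W_neg (mul_mem (R.w0_mem_W _) (inv_mem hw)), Equiv.Perm.mul_apply,
        EmbeddingLike.apply_eq_iff_eq] at this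
      rw [← this]; simp [R.neg_neg]

theorem lift_conj_n_ne {X : RG R K G} (hθ : ∀ r t, θ (Y.x r t) = X.x r t) {r s : ι} (h1 : s ≠ r)
    (h2 : s ≠ R.neg r) {t : K} (ht : t ≠ 0) (u : K) :
    Y.n r t * Y.x s u * (Y.n r t)⁻¹ = Y.x (R.rf r s) (X.η r s * t ^ (-R.A r s) * u) := by
  obtain ⟨w, hw, i, hi, hs, hs'⟩ := R.exists_pos_system h1 h2
  set T : Set ι := {k | R.Pos (w k) ∧ w k ≠ R.sim i} with hT
  have hT' : ∀ k, k ∈ T ↔ R.Pos (w k) ∧ w k ∉ R.Phi {i} := by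
    intro k
    refine and_congr_right fun hk => ?_
    rw [RS.mem_Phi_singleton, not_or]
    exact ⟨fun h => ⟨h, R.ne_neg_of_pos (R.pos_sim i) hk⟩, fun h => h.1⟩
  have hr : w r ∈ R.Phi {i} := RS.mem_Phi_singleton.2 hi
  have hS : ∀ a ∈ ({r, R.neg r} : Set ι), w a ∈ R.Phi {i} := by
    rintro a (rfl | rfl)
    · exact hr
    · rw [RS.W_neg hw]; exact RS.neg_mem_Phi.2 hr
  have h3 : Y.n r t * Y.x s u * (Y.n r t)⁻¹ ∈ Y.XS T := by
    refine Y.conj_mem_XS (S := {r, R.neg r}) ?_ ?_ (Y.n_mem_XS (by simp) (by simp) t) (Y.x_mem_XS (by exact ⟨hs, hs'⟩) u)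
    · rintro a ha k hk rfl
      rw [hT', RS.W_neg hw] at hk
      exact hk.2 (RS.neg_mem_Phi.2 (hS a ha))
    · intro a ha k hk m hm
      rw [hT'] at hk ⊢
      exact (hm.map hw).pos_not_Phi (hS a ha) hk.1 hk.2
  have h4 : R.Pos (w (R.rf r s)) := by
    have : w (R.rf r s) = R.s i (w s) := by
      have h5 : R.rf (w r) = R.s i := by
        rcases hi with h | h
        · rw [h, RS.rf_sim]
        · rw [h, RS.rf_neg, RS.rf_sim]
      rw [← h5, RS.rf_conj hw]; simp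
    rw [this]
    exact R.pos_sr hs hs'
  refine eq_of_map_eq hθ hw (Y.XS_mono (fun k hk => hk.1) h3) (Y.x_mem_XS h4 _) ?_
  rw [map_mul, map_mul, map_inv, map_n hθ, hθ, hθ, X.conj_n r s t u ht]

theorem lift_conj_n {X : RG R K G} (hθ : ∀ r t, θ (Y.x r t) = X.x r t) (hW : Y.Wit) (r s : ι)
    {t : K} (ht : t ≠ 0) (u : K) :
    Y.n r t * Y.x s u * (Y.n r t)⁻¹ = Y.x (R.rf r s) (X.η r s * t ^ (-R.A r s) * u) := by
  by_cases h : s ≠ r ∧ s ≠ R.neg r
  · exact lift_conj_n_ne hθ h.1 h.2 ht u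
  obtain ⟨w, hw, hs, h1⟩ := hW s
  have hw' := mul_mem hw (R.rf_mem_W r)
  refine eq_of_map_eq hθ hw' (Y.conj_mem_of_gen (fun k hk c => ?_) (h1 u)) (Y.x_mem_XS ?_ _) ?_
  · have h2 : k ≠ R.neg s := by
      rintro rfl
      have := hk.1
      rw [RS.W_neg hw, RS.pos_neg_iff] at this
      exact this hs
    have h3 : k ≠ r ∧ k ≠ R.neg r := by
      by_cases h4 : s = r
      · subst h4; exact ⟨hk.2, h2⟩
      · have h5 : s = R.neg r := by tauto
        subst h5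
        exact ⟨by simpa [R.neg_neg] using h2, hk.2⟩
    rw [lift_conj_n_ne hθ h3.1 h3.2 ht]
    exact Y.x_mem_XS (by simpa [RS.rf_rf] using hk.1) _
  · simpa [RS.rf_rf] using hs
  · rw [map_mul, map_mul, map_inv, map_n hθ, hθ, hθ, X.conj_n r s t u ht]

/-- The root group structure of a covering group. -/
def lift (Y : WRG R K G') (X : RG R K G) (θ : G' →* G) (hθ : ∀ r t, θ (Y.x r t) = X.x r t) (hW : Y.Wit)
    (hh : ∀ r t u, t ≠ 0 → u ≠ 0 → Y.h r t * Y.h r u = Y.h r (t * u)) : RG R K G' where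
  toWRG := Y
  η := X.η
  η_sq := X.η_sq
  η_neg := X.η_neg
  η_rf := X.η_rf
  conj_n r s t u ht := lift_conj_n hθ hW r s ht u
  h_mul := hh
  nd1 r a hr h := X.nd1 r a hr (hθ r a ▸ map_mem_XS hθ h)
  nd2 := by
    rw [eq_bot_iff]
    rintro g ⟨h1, h2⟩
    have h3 : θ g = 1 := X.eq_one_of_mem_B_V (map_B hθ ▸ Subgroup.mem_map_of_mem θ h1) (map_mem_XS hθ h2)
    have h4 : Y.V = Y.XS {k | R.Pos (R.w0 Set.univ k)} := by simp only [RS.pos_w0_univ_iff]; rfl
    exact eq_of_map_eq hθ (R.w0_mem_W _) (h4 ▸ h2) (one_mem _) (by rw [h3, map_one])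

end WRG

namespace RG

open WRG SRG

variable {Y : RG R K G'} {X : RG R K G} {θ : G' →* G} (hθ : ∀ r t, θ (Y.x r t) = X.x r t)

include hθ

omit [Fintype ι] in
theorem map_hmap (c : Λ → Kˣ) : θ (Y.hmap c) = X.hmap c := by
  induction c using Pi.mulSingle_induction with
  | one => simp
  | mul f g hf hg => simp [hf, hg]
  | mulSingle i t => rw [hmap_single, hmap_single, map_h hθ]

omit [Fintype ι] in
theorem map_acts {g : G'} {w : Equiv.Perm ι} (h : Y.Acts g w) : X.Acts (θ g) w := by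
  obtain ⟨c, hc⟩ := h
  exact ⟨c, hc.mem, hc.inv, fun r u => by rw [← hθ, ← hθ, ← hc.conj]; simp⟩

theorem mem_H_of_map_eq_one {g : G'} (hg : g ∈ Y.grp) (h : θ g = 1) : g ∈ Y.H := by
  obtain ⟨w, a, ha, n, hn, b, hb, hw, rfl⟩ := exists_bruhat hg
  obtain ⟨h1, h2, -, h4⟩ := X.bruhat_unique (w' := 1) (map_mem_XS hθ ha) (one_mem _)
    (map_N hθ ▸ Subgroup.mem_map_of_mem θ hn) (one_mem _) (map_mem_XS hθ hb) (one_mem _) (map_acts hθ hw)
    acts_one (by simpa using h)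
  subst h1
  have h5 : a = 1 := eq_of_map_eq hθ (one_mem _) ha (one_mem _) (by rw [h2, map_one])
  have h6 : b = 1 := eq_of_map_eq hθ (one_mem _) (XS_inv_le_U _ hb) (one_mem _) (by rw [h4, map_one])
  simpa [h5, h6] using Y.mem_H_of_acts_one hn hw

theorem map_eq_one_iff (adj : ∀ c : Λ → Kˣ, (∀ s, R.chi s c = 1) → X.hmap c = 1) {g : G'} (hg : g ∈ Y.grp) :
    θ g = 1 ↔ ∀ a ∈ Y.grp, g * a = a * g := by
  rw [Y.central_iff hg]
  constructor
  · intro h
    obtain ⟨c, rfl⟩ := Y.mem_H_iff.1 (mem_H_of_map_eq_one hθ hg h)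
    rw [map_hmap hθ] at h
    obtain ⟨c', h1, h2⟩ := (X.central_iff (one_mem _)).1 (by simp)
    refine ⟨c, fun i => ?_, rfl⟩
    have := (X.actsBy_hmap c).conj (R.sim i) 1
    rw [h] at this
    exact Units.ext (X.x_injective _ (by simpa using this)).symm
  · rintro ⟨c, hc, rfl⟩
    rw [map_hmap hθ, adj c (chi_eq_one_of_simple hc)]

end RG

end lift

open Cfsg.Lie

variable {D : ChevalleyDatum} {K : Type*} [Field K]

theorem Rel.wit {G : Type*} [Group G] (Y : Rel D K G) (g : Good D) : (Y.toWRG g).Wit := by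
  intro s
  obtain ⟨h1, h2, h3, h4, h5, c, hc, h6, h7, h8⟩ := g.h4 s s.2
  set r1 := (g.aux.witL.getD s (0, 0)).1
  set r2 := (g.aux.witL.getD s (0, 0)).2
  obtain ⟨w, hw, p1, p2⟩ := g.rs.exists_common_pos (r := ⟨r1, h1⟩) (t := ⟨r2, h2⟩) fun h => h4 (congrArg Fin.val h)
  have hcone : ∀ c ∈ D.commTerms r1 r2, ∃ h : c.1 < D.nroots, g.rs.Cone ⟨r1, h1⟩ ⟨r2, h2⟩ ⟨c.1, h⟩ :=
    fun c hc => g.commTerms_cone (r := ⟨r1, h1⟩) (s := ⟨r2, h2⟩) hc
  obtain ⟨_, hs⟩ := hcone c hc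
  simp only [h6, Fin.eta] at hs
  have hs' := hs.map hw
  refine ⟨w, hw, hs'.pos p1 p2, fun u => ?_⟩
  obtain ⟨a, b, hab⟩ : ∃ a b : K, (c.2.1 : K) * (-a) ^ c.2.2.1 * b ^ c.2.2.2 = u := by
    have h9 : (c.2.1 : K) * c.2.1 = 1 := by rcases h7 with h | h <;> simp [h]
    rcases h8 with h | h
    · exact ⟨-(c.2.1 * u), 1, by rw [h]; linear_combination u * h9⟩
    · exact ⟨-1, c.2.1 * u, by rw [h]; simp only [neg_neg, one_pow]; linear_combination u * h9⟩
  obtain ⟨L1, L2, hL⟩ := List.append_of_mem hc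
  have hcomm := Y.comm r1 r2 h1 h2 h3 h4 a b
  set M := (Y.toWRG g).XS {k | g.rs.Pos (w k) ∧ k ≠ s}
  have hx1 : Y.x r1 a ∈ M := (Y.toWRG g).x_mem_XS (r := ⟨r1, h1⟩)
    (by exact ⟨p1, fun h => (hs'.lt_left p1 p2).ne (congrArg w h)⟩) a
  have hx2 : Y.x r2 b ∈ M := (Y.toWRG g).x_mem_XS (r := ⟨r2, h2⟩)
    (by exact ⟨p2, fun h => (hs'.lt_right p1 p2).ne (congrArg w h)⟩) b
  have hLm : ∀ L : List (ℕ × ℤ × ℕ × ℕ), (∀ e ∈ L, e ∈ D.commTerms r1 r2) → (L.map Prod.fst).count (s : ℕ) = 0 →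
      (L.map fun e => Y.x e.1 ((e.2.1 : K) * (-a) ^ e.2.2.1 * b ^ e.2.2.2)).prod ∈ M := by
    intro L h1 h2
    refine list_prod_mem fun z hz => ?_
    obtain ⟨e, he, rfl⟩ := List.mem_map.1 hz
    obtain ⟨h3, h4⟩ := hcone e (h1 e he)
    refine (Y.toWRG g).x_mem_XS (r := ⟨e.1, h3⟩) ?_ _
    refine ⟨(h4.map hw).pos p1 p2, fun h => ?_⟩
    exact List.count_eq_zero.1 h2 (List.mem_map.2 ⟨e, he, congrArg Fin.val h⟩)
  rw [hL, List.map_append, List.map_cons, List.count_append, h6, List.count_cons_self] at h5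
  have e1 := hLm L1 (fun e he => by simp [hL, he]) (by omega)
  have e2 := hLm L2 (fun e he => by simp [hL, he]) (by omega)
  rw [ChevalleyDatum.commWord, List.map_map, hL, List.map_append, List.map_cons, List.prod_append,
    List.prod_cons] at hcomm
  simp only [Function.comp_def, h6, hab] at hcomm
  have := mul_mem (mul_mem (inv_mem e1) (mul_mem (inv_mem (mul_mem hx1 hx2)) (mul_mem hx2 hx1))) (inv_mem e2)
  rw [hcomm] at this
  simpa [mul_assoc] using this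

theorem stGen_eq (r : Fin D.nroots) (t : K) : D.stGen K r t = PresentedGroup.of (r, t) := by
  simp only [ChevalleyDatum.stGen, ChevalleyDatum.stX, r.2, dite_true]; rfl

theorem mk_stWord (w : List (ℕ × K)) :
    PresentedGroup.mk (D.steinbergRels K) (D.stWord w) = (w.map fun p => D.stGen K p.1 p.2).prod := by
  rw [ChevalleyDatum.stWord, map_list_prod, List.map_map]; rfl

variable (D K) in
/-- The generators of Steinberg's group satisfy (R1), (R2). -/
def stRel : Rel D K (D.SteinbergGroup K) where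
  x := D.stGen K
  x_add r hr t u := by
    have := PresentedGroup.one_of_mem (rels := D.steinbergRels K) (Or.inl (Or.inl ⟨r, t, u, hr, rfl⟩))
    rw [map_mul, map_mul, map_inv, mul_inv_eq_one] at this
    exact this.symm
  comm r s hr hs h1 h2 t u := by
    have := PresentedGroup.one_of_mem (rels := D.steinbergRels K)
      (Or.inl (Or.inr ⟨r, s, t, u, hr, hs, h1, h2, rfl⟩))
    rw [map_mul, map_inv, mul_inv_eq_one, mk_stWord] at this
    rw [← this]
    simp [ChevalleyDatum.stGen, mul_assoc]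

theorem Rel.h_eq {G : Type*} [Group G] (Y : Rel D K G) (g : Good D) (r : Fin D.nroots) (t : K) :
    (Y.toWRG g).h r t = ((D.hWord r t).map fun p => Y.x p.1 p.2).prod := by
  simp [WRG.h, WRG.n, ChevalleyDatum.hWord, ChevalleyDatum.nWord, mul_assoc]

theorem st_h (g : Good D) (r : Fin D.nroots) (t : K) :
    ((stRel D K).toWRG g).h r t = PresentedGroup.mk (D.steinbergRels K) (D.stH r t) := by
  rw [Rel.h_eq, ChevalleyDatum.stH, mk_stWord]; rfl

theorem st_h_mul (g : Good D) (r : Fin D.nroots) (t u : K) (ht : t ≠ 0) (hu : u ≠ 0) :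
    ((stRel D K).toWRG g).h r t * ((stRel D K).toWRG g).h r u = ((stRel D K).toWRG g).h r (t * u) := by
  have := PresentedGroup.one_of_mem (rels := D.steinbergRels K) (Or.inr ⟨r, t, u, r.2, ht, hu, rfl⟩)
  rw [map_mul, map_mul, map_inv, mul_inv_eq_one] at this
  simpa only [st_h] using this

theorem st_grp (g : Good D) : ((stRel D K).toWRG g).grp = ⊤ := by
  rw [eq_top_iff, ← PresentedGroup.closure_range_of, Subgroup.closure_le]
  rintro _ ⟨⟨r, t⟩, rfl⟩
  rw [← stGen_eq]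
  exact ((stRel D K).toWRG g).x_mem_grp r t

/-- The universal property of Steinberg's group. -/
theorem Rel.exists_st_hom {G : Type*} [Group G] (Y : Rel D K G) (g : Good D)
    (hh : ∀ r t u, t ≠ 0 → u ≠ 0 → (Y.toWRG g).h r t * (Y.toWRG g).h r u = (Y.toWRG g).h r (t * u)) :
    ∃ θ : D.SteinbergGroup K →* G, ∀ r t, r < D.nroots → θ (D.stGen K r t) = Y.x r t := by
  have hX : ∀ r t, r < D.nroots → FreeGroup.lift (fun p : Fin D.nroots × K => Y.x p.1 p.2) (D.stX r t) = Y.x r t := by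
    intro r t hr; simp [ChevalleyDatum.stX, hr]
  have hW : ∀ w : List (ℕ × K), (∀ p ∈ w, p.1 < D.nroots) →
      FreeGroup.lift (fun p : Fin D.nroots × K => Y.x p.1 p.2) (D.stWord w) = (w.map fun p => Y.x p.1 p.2).prod := by
    intro w hw
    rw [ChevalleyDatum.stWord, map_list_prod, List.map_map]
    exact congrArg _ (List.map_congr_left fun p hp => hX _ _ (hw p hp))
  have hH : ∀ (r : Fin D.nroots) t, FreeGroup.lift (fun p : Fin D.nroots × K => Y.x p.1 p.2) (D.stH r t) =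
      (Y.toWRG g).h r t := by
    intro r t
    rw [ChevalleyDatum.stH, hW, Rel.h_eq]
    have := g.neg_lt r.2
    simp [ChevalleyDatum.hWord, ChevalleyDatum.nWord, this]
  refine ⟨PresentedGroup.toGroup (f := fun p : Fin D.nroots × K => Y.x p.1 p.2) ?_, fun r t hr => hX r t hr⟩
  rintro _ ((⟨r, t, u, hr, rfl⟩ | ⟨r, s, t, u, hr, hs, h1, h2, rfl⟩) | ⟨r, t, u, hr, ht, hu, rfl⟩)
  · simp [hX, hr, Y.x_add]
  · simp only [map_mul, map_inv, hX _ _ hr, hX _ _ hs]
    rw [hW, mul_inv_eq_one, mul_assoc, mul_assoc, Y.comm r s hr hs h1 h2]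
    · group
    · intro p hp
      obtain ⟨c, hc, rfl⟩ := List.mem_map.1 hp
      exact (g.commTerms_cone (r := ⟨r, hr⟩) (s := ⟨s, hs⟩) hc).1
  · simp only [map_mul, map_inv]
    rw [hH ⟨r, hr⟩, hH ⟨r, hr⟩, hH ⟨r, hr⟩, hh _ _ _ ht hu, mul_inv_cancel]

namespace MatRG

variable {g : Good D} (M : MatRG g K)

theorem x_eq (r : Fin D.nroots) (t : K) : M.X.x r t = M.Y.x r t := by
  rw [M.eq]; rfl

theorem exists_θ : ∃ θ : D.SteinbergGroup K →* GL D.Idx K, ∀ (r : Fin D.nroots) t, θ (D.stGen K r t) = M.X.x r t := by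
  obtain ⟨θ, h⟩ := M.Y.exists_st_hom g (by rw [← M.eq]; exact M.X.h_mul)
  exact ⟨θ, fun r t => by rw [h _ _ r.2, x_eq]⟩

/-- The homomorphism from Steinberg's group onto the Chevalley group. -/
noncomputable def θ : D.SteinbergGroup K →* GL D.Idx K := M.exists_θ.choose

theorem θ_gen (r : Fin D.nroots) (t : K) : M.θ (D.stGen K r t) = M.X.x r t := M.exists_θ.choose_spec r t

/-- The root group structure of Steinberg's group. -/
noncomputable def St : RG g.rs K (D.SteinbergGroup K) :=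
  ((stRel D K).toWRG g).lift M.X M.θ M.θ_gen ((stRel D K).wit g) (st_h_mul g)

theorem St_toWRG : M.St.toWRG = (stRel D K).toWRG g := rfl

theorem St_x (r : Fin D.nroots) (t : K) : M.St.x r t = D.stGen K r t := rfl

theorem θ_x (r : Fin D.nroots) (t : K) : M.θ (M.St.x r t) = M.X.x r t := M.θ_gen r t

theorem St_grp : M.St.grp = ⊤ := st_grp g

theorem mem_St_grp (a : D.SteinbergGroup K) : a ∈ M.St.grp := M.St_grp ▸ Subgroup.mem_top a

theorem θ_range : M.θ.range = M.X.grp := by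
  rw [MonoidHom.range_eq_map, ← M.St_grp]
  exact WRG.map_XS_eq _ _ M.θ_x _

theorem θ_mem (a : D.SteinbergGroup K) : M.θ a ∈ M.X.grp := M.θ_range ▸ ⟨a, rfl⟩

theorem θ_ker : M.θ.ker = Subgroup.center (D.SteinbergGroup K) := by
  ext a
  rw [MonoidHom.mem_ker, RG.map_eq_one_iff M.θ_x M.adj (M.mem_St_grp a), Subgroup.mem_center_iff]
  exact ⟨fun h b => (h b (M.mem_St_grp b)).symm, fun h b _ => (h b).symm⟩

theorem mem_center_St {a : D.SteinbergGroup K} : a ∈ Subgroup.center (D.SteinbergGroup K) ↔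
    ∃ c, (∀ i, g.rs.chi (g.rs.sim i) c = 1) ∧ a = M.St.hmap c := by
  rw [← M.St.central_iff (M.mem_St_grp a), Subgroup.mem_center_iff]
  exact ⟨fun h b _ => (h b).symm, fun h b => (h b (M.mem_St_grp b)).symm⟩

theorem eq_one_of_central {a : GL D.Idx K} (ha : a ∈ M.X.grp) (h : ∀ b ∈ M.X.grp, a * b = b * a) : a = 1 := by
  obtain ⟨c, hc, rfl⟩ := (M.X.central_iff ha).1 h
  exact M.adj c (RG.chi_eq_one_of_simple hc)

end MatRG

theorem st_hom_ext {G : Type*} [Group G] {φ ψ : D.SteinbergGroup K →* G}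
    (h : ∀ (r : Fin D.nroots) t, φ (D.stGen K r t) = ψ (D.stGen K r t)) : φ = ψ := by
  refine PresentedGroup.ext fun p => ?_
  simpa only [stGen_eq] using h p.1 p.2

end H20
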