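import Mathlib
import Cfsg.Agent.H20.St

/-!
Consequences of the structure of Steinberg's group; the Bruhat normal form for matrices.
-/

set_option autoImplicit false

namespace H20

open Finset Cfsg.Lie

theorem RS.prod_chi_zpow {ι Λ : Type} [LinearOrder ι] [Fintype Λ] [DecidableEq Λ] (R : RS ι Λ)
    {K : Type*} [Field K] (c : Λ → Kˣ) (v : Λ → ℤ) :
    ∏ i, R.chi (R.sim i) c ^ v i = ∏ j, c j ^ ∑ i, R.ca j (R.sim i) * v i := by
  simp only [RS.chi_apply, ← prod_zpow, ← zpow_mul]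
  rw [prod_comm]
  refine prod_congr rfl fun i _ => ?_
  induction (univ : Finset Λ) using Finset.cons_induction with
  | empty => simp
  | cons a s ha ih => rw [sum_cons, prod_cons, zpow_add, ih]

theorem RS.eq_one_of_unimodular {ι Λ : Type} [LinearOrder ι] [Fintype Λ] [DecidableEq Λ] (R : RS ι Λ)
    {K : Type*} [Field K] (M : Λ → Λ → ℤ) (hM : ∀ j k, ∑ i, R.ca j (R.sim i) * M i k = if j = k then 1 else 0)
    {c : Λ → Kˣ} (hc : ∀ i, R.chi (R.sim i) c = 1) : c = 1 := by
  ext1 k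
  have := R.prod_chi_zpow c fun i => M i k
  simp only [hc, one_zpow, prod_const_one, hM] at this
  rw [prod_eq_single k (fun j _ hj => by simp [hj]) (by simp)] at this
  simpa using this.symm

namespace MatRG

variable {D : ChevalleyDatum} {K : Type*} [Field K] {g : Good D} (M : MatRG g K)

theorem grp_eq : D.group K = M.X.grp := M.isMat.grp_eq

/-- The homomorphism from Steinberg's group onto the Chevalley group. -/
noncomputable def θ' : D.SteinbergGroup K →* D.group K := M.θ.codRestrict _ fun a => M.grp_eq ▸ M.θ_mem a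

theorem coe_θ' (a : D.SteinbergGroup K) : (M.θ' a : GL D.Idx K) = M.θ a := rfl

theorem θ'_surjective : Function.Surjective M.θ' := by
  rintro ⟨a, ha⟩
  rw [grp_eq M, ← M.θ_range] at ha
  obtain ⟨b, rfl⟩ := ha
  exact ⟨b, rfl⟩

theorem θ'_ker : M.θ'.ker = Subgroup.center (D.SteinbergGroup K) := by
  rw [θ', MonoidHom.ker_codRestrict, θ_ker]

theorem coe_θ_gen {r : ℕ} (hr : r < D.nroots) (t : K) :
    (M.θ (D.stGen K r t) : Matrix D.Idx D.Idx K) = D.x K r t := by
  rw [M.θ_gen ⟨r, hr⟩, M.isMat]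

theorem St_H_eq : M.St.H = Subgroup.closure {h | ∃ (i : ℕ) (t : K), i < D.rank ∧ t ≠ 0 ∧
    h = PresentedGroup.mk (D.steinbergRels K) (D.stH (D.simple i) t)} := by
  apply le_antisymm
  · rw [SRG.H_eq_range]
    rintro _ ⟨c, rfl⟩
    induction c using Pi.mulSingle_induction with
    | one => simp
    | mul f g hf hg => rw [map_mul]; exact mul_mem hf hg
    | mulSingle i t =>
      rw [SRG.hmap_single]
      exact Subgroup.subset_closure ⟨i, t, i.2, t.ne_zero, st_h g _ _⟩
  · rw [Subgroup.closure_le]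
    rintro _ ⟨i, t, hi, ht, rfl⟩
    have := M.St.h_mem_H (g.rs.sim ⟨i, hi⟩) ht
    rw [St_toWRG, st_h] at this
    exact this

theorem map_le_V_iff {n : GL D.Idx K} {w : Equiv.Perm (Fin D.nroots)} (hw : M.X.Acts n w) (r : Fin D.nroots) :
    (D.rootSubgroup K r).map (MulAut.conj n).toMonoidHom ≤ D.negUnipotent K ↔ ¬g.rs.Pos (w r) := by
  rw [M.isMat.rootSubgroup_eq, M.isMat.V_eq, hw.map_XS, Set.image_singleton]
  refine ⟨fun h hp => ?_, fun h => M.X.XS_mono (Set.singleton_subset_iff.2 h)⟩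
  have := M.X.eq_one_of_mem_B_V (M.X.U_le_B (M.X.x_mem_XS (r := w r) hp 1))
    (h (M.X.x_mem_XS (Set.mem_singleton _) 1))
  exact one_ne_zero (M.X.x_eq_one this)

theorem Uw_eq {n : GL D.Idx K} {w : Equiv.Perm (Fin D.nroots)} (hw : M.X.Acts n w) :
    Subgroup.closure {x : GL D.Idx K | ∃ (r : ℕ) (t : K), D.IsPosRoot r ∧
      (D.rootSubgroup K r).map (MulAut.conj n).toMonoidHom ≤ D.negUnipotent K ∧
      (x : Matrix D.Idx D.Idx K) = D.x K r t} = M.X.XS (g.rs.inv w) := by
  have h1 := M.isMat.XS_eq (fun r => D.IsPosRoot r ∧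
    (D.rootSubgroup K r).map (MulAut.conj n).toMonoidHom ≤ D.negUnipotent K) fun r h => h.1.1
  simp only [and_assoc] at h1
  rw [h1]
  refine congrArg _ (Set.ext fun r => ?_)
  rw [Set.mem_ofPred_eq, mem_coe, RS.mem_inv, g.isPosRoot_iff, M.map_le_V_iff hw]

end MatRG

end H20
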