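import Mathlib
import Cfsg.Agent.H20.StApp
import Cfsg.Agent.H19.Tab

/-!
Maps `x_r(t) ↦ x_{ρ r}(γ_r f(t)^{λ_r})` which preserve Steinberg's relations: a finite check.
-/

set_option autoImplicit false

namespace H20

open Finset Cfsg.Lie

/-- root, coefficient and two exponents -/
abbrev Term : Type := ℕ × ℤ × ℕ × ℕ

/-- reduce the coefficients modulo `p` and drop the zero terms -/
def redT (p : ℕ) (L : List Term) : List Term :=
  (L.map fun c => (c.1, c.2.1 % (p : ℤ), c.2.2)).filter fun c => c.2.1 != 0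

/-- bit-packed data of a map between root elements -/
structure HomD where
  p : ℕ
  ρT : ℕ
  γT : ℕ
  lamT : ℕ

namespace HomD

variable (h : HomD)

def ρ (r : ℕ) : ℕ := H19.fld h.ρT 8 r
def γ (r : ℕ) : ℤ := bif Nat.beq (H19.fld h.γT 1 r) 0 then 1 else -1
def lam (r : ℕ) : ℕ := bif Nat.beq (H19.fld h.lamT 1 r) 0 then 1 else h.p

theorem γ_sq (r : ℕ) : h.γ r * h.γ r = 1 := by
  unfold γ; cases Nat.beq (H19.fld h.γT 1 r) 0 <;> rfl

def w1 (A : H19.Rec) (r s : ℕ) : List Term :=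
  (A.commTerms r s).map fun c =>
    (h.ρ c.1, h.γ c.1 * (c.2.1 * (-1) ^ c.2.2.1) ^ h.lam c.1, c.2.2.1 * h.lam c.1, c.2.2.2 * h.lam c.1)

def w2 (B : H19.Rec) (r s : ℕ) : List Term :=
  (B.commTerms (h.ρ r) (h.ρ s)).map fun c =>
    (c.1, c.2.1 * (-h.γ r) ^ c.2.2.1 * h.γ s ^ c.2.2.2, h.lam r * c.2.2.1, h.lam s * c.2.2.2)

def commB (B : H19.Rec) (k k' : ℕ) : Bool :=
  k == k' || (k' != B.neg k && (redT h.p (B.commTerms k k')).isEmpty)

def cmp (B : H19.Rec) (L L' : List Term) : Bool :=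
  L == L' || (L.isPerm L' && L.all fun a => L.all fun b => h.commB B a.1 b.1)

def chkRow (A B : H19.Rec) (r : ℕ) : Bool :=
  Nat.blt (h.ρ r) B.n && h.ρ (A.neg r) == B.neg (h.ρ r) && h.lam (A.neg r) == h.lam r && h.lam r != 0 &&
  (h.γ (A.neg r) * h.γ r * (-1) ^ h.lam r + 1) % (h.p : ℤ) == 0 &&
  H19.allB A.n fun s => Nat.beq s r || Nat.beq s (A.neg r) ||
    (h.ρ s != h.ρ r && h.ρ s != B.neg (h.ρ r) && h.cmp B (redT h.p (h.w1 A r s)) (redT h.p (h.w2 B r s)))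

/-- the map preserves Steinberg's relations -/
def Chk (D D' : ChevalleyDatum) : Prop :=
  (h.p = 0 ∨ h.p.Prime) ∧ ∀ r < D.nroots, h.chkRow (H19.recOf D) (H19.recOf D') r = true

theorem chk_of_agree {D D' : ChevalleyDatum} {T T' : H19.Fast} (a : H19.Agree D T) (a' : H19.Agree D' T')
    (hp : h.p = 0 ∨ h.p.Prime) (hc : H19.allB T.n (h.chkRow T.toRec T'.toRec) = true) : h.Chk D D' := by
  rw [Chk, a.recOf_eq, a'.recOf_eq, a.1]
  exact ⟨hp, H19.allB_iff.1 hc⟩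

variable {h} {D D' : ChevalleyDatum} (c : h.Chk D D')

include c

theorem Chk.row {r : ℕ} (hr : r < D.nroots) :
    h.ρ r < D'.nroots ∧ h.ρ (D.neg r) = D'.neg (h.ρ r) ∧ h.lam (D.neg r) = h.lam r ∧ h.lam r ≠ 0 ∧
    (h.p : ℤ) ∣ h.γ (D.neg r) * h.γ r * (-1) ^ h.lam r + 1 ∧
    ∀ s < D.nroots, s ≠ r → s ≠ D.neg r → h.ρ s ≠ h.ρ r ∧ h.ρ s ≠ D'.neg (h.ρ r) ∧
      h.cmp (H19.recOf D') (redT h.p (h.w1 (H19.recOf D) r s)) (redT h.p (h.w2 (H19.recOf D') r s)) = true := by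
  have := c.2 r hr
  simp only [chkRow, Bool.and_eq_true, Nat.blt_eq, beq_iff_eq, bne_iff_ne, H19.allB_iff, Bool.or_eq_true,
    Nat.beq_eq] at this
  obtain ⟨⟨⟨⟨⟨h1, h2⟩, h3⟩, h4⟩, h5⟩, h6⟩ := this
  refine ⟨h1, h2, h3, h4, Int.dvd_of_emod_eq_zero h5, fun s hs e1 e2 => ?_⟩
  have := ((h6 s hs).resolve_left (not_or.2 ⟨e1, e2⟩))
  exact ⟨this.1.1, this.1.2, this.2⟩

theorem Chk.ρ_lt {r : ℕ} (hr : r < D.nroots) : h.ρ r < D'.nroots := (c.row hr).1

theorem Chk.add_pow {K : Type*} [Field K] (hp : (h.p : K) = 0) {r : ℕ} (hr : r < D.nroots) (a b : K) :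
    (a + b) ^ h.lam r = a ^ h.lam r + b ^ h.lam r := by
  have h1 := (c.row hr).2.2.2.1
  unfold lam at h1 ⊢
  cases hb : Nat.beq (H19.fld h.lamT 1 r) 0
  · rw [hb] at h1
    have h2 : h.p.Prime := c.1.resolve_left h1
    have := (CharP.charP_iff_prime_eq_zero h2).2 hp
    have := Fact.mk h2
    exact add_pow_char a b h.p
  · simp

end HomD

namespace Rel

variable {D D' : ChevalleyDatum} {K K' : Type*} [Field K] [Field K'] {G : Type*} [Group G]

/-- evaluation of a list of terms -/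
def ev (Y : Rel D K G) (a b : K) (L : List Term) : G :=
  (L.map fun c => Y.x c.1 ((c.2.1 : K) * a ^ c.2.2.1 * b ^ c.2.2.2)).prod

theorem ev_redT (Y : Rel D K G) {p : ℕ} (hp : (p : K) = 0) (a b : K) {L : List Term}
    (hL : ∀ c ∈ L, c.1 < D.nroots) : Y.ev a b (redT p L) = Y.ev a b L := by
  induction L with
  | nil => rfl
  | cons c L ih =>
    have h1 : ((c.2.1 % (p : ℤ) : ℤ) : K) = c.2.1 := by
      rw [Int.emod_def]; simp [hp]
    have ih' := ih fun e he => hL e (by simp [he])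
    simp only [ev, redT, List.map_cons, List.filter_cons, List.prod_cons] at ih' ⊢
    split
    · simp only [List.map_cons, List.prod_cons, ih', h1]
    · rename_i h2
      simp only [bne_iff_ne, ne_eq, not_not] at h2
      rw [ih', ← h1, h2]
      simp [Y.x_zero (hL c (by simp))]

theorem mem_redT {p : ℕ} {L : List Term} {c : Term} (h : c ∈ redT p L) : ∃ e ∈ L, e.1 = c.1 := by
  simp only [redT, List.mem_filter, List.mem_map] at h
  obtain ⟨⟨e, he, rfl⟩, -⟩ := h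
  exact ⟨e, he, rfl⟩

theorem comm' (Y : Rel D K G) {r s : ℕ} (hr : r < D.nroots) (hs : s < D.nroots) (h1 : s ≠ r) (h2 : s ≠ D.neg r)
    (t u : K) : Y.x s u * Y.x r t = Y.x r t * Y.x s u * Y.ev (-t) u (D.commTerms r s) := by
  rw [Y.comm r s hr hs h1 h2, ChevalleyDatum.commWord, List.map_map]; rfl

theorem commute_of_commB (Y : Rel D K G) (g : Good D) {h : HomD} (hp : (h.p : K) = 0) {k k' : ℕ}
    (hk : k < D.nroots) (hk' : k' < D.nroots) (hc : h.commB (H19.recOf D) k k' = true) (t u : K) :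
    Commute (Y.x k t) (Y.x k' u) := by
  by_cases e : k' = k
  · subst e
    rw [Commute, SemiconjBy, ← Y.x_add _ hk, ← Y.x_add _ hk, add_comm]
  simp only [HomD.commB, Bool.or_eq_true, beq_iff_eq, Bool.and_eq_true, bne_iff_ne, List.isEmpty_iff] at hc
  obtain ⟨h1, h2⟩ := hc.resolve_left (Ne.symm e)
  have := Y.comm' hk hk' e h1 t u
  rw [← Y.ev_redT hp _ _ fun c hc => (g.commTerms_cone (r := ⟨k, hk⟩) (s := ⟨k', hk'⟩) hc).1] at this
  erw [h2] at this
  simpa [ev, Commute, SemiconjBy] using this.symm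

theorem ev_eq_of_cmp (Y : Rel D K G) (g : Good D) {h : HomD} (hp : (h.p : K) = 0) {L L' : List Term}
    (hL : ∀ c ∈ L, c.1 < D.nroots) (hc : h.cmp (H19.recOf D) L L' = true) (a b : K) :
    Y.ev a b L = Y.ev a b L' := by
  simp only [HomD.cmp, Bool.or_eq_true, beq_iff_eq, Bool.and_eq_true, List.isPerm_iff, List.all_eq_true] at hc
  rcases hc with rfl | ⟨h1, h2⟩
  · rfl
  · refine (h1.map _).prod_eq' ?_
    rw [List.pairwise_map]
    exact List.pairwise_of_forall_mem_list fun x hx y hy =>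
      Y.commute_of_commB g hp (hL x hx) (hL y hy) (h2 x hx y hy) _ _

/-- The twisted root elements. -/
def twist (Y : Rel D' K' G) (g : Good D) (g' : Good D') {h : HomD} (c : h.Chk D D') (hp : (h.p : K') = 0)
    (f : K →+* K') : Rel D K G where
  x r t := Y.x (h.ρ r) (h.γ r * f t ^ h.lam r)
  x_add r hr t u := by rw [map_add, c.add_pow hp hr, mul_add, Y.x_add _ (c.ρ_lt hr)]
  comm r s hr hs h1 h2 t u := by
    obtain ⟨e1, e2, e3⟩ := (c.row hr).2.2.2.2.2 s hs h1 h2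
    have hL1 : ∀ e ∈ h.w1 (H19.recOf D) r s, e.1 < D'.nroots := by
      intro e he
      obtain ⟨k, hk, rfl⟩ := List.mem_map.1 he
      exact c.ρ_lt (g.commTerms_cone (r := ⟨r, hr⟩) (s := ⟨s, hs⟩) hk).1
    have hL2 : ∀ e ∈ h.w2 (H19.recOf D') r s, e.1 < D'.nroots := by
      intro e he
      obtain ⟨k, hk, rfl⟩ := List.mem_map.1 he
      exact (g'.commTerms_cone (r := ⟨_, c.ρ_lt hr⟩) (s := ⟨_, c.ρ_lt hs⟩) hk).1
    have := Y.ev_eq_of_cmp g' hp (fun e he => by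
      obtain ⟨k, hk, e4⟩ := mem_redT he; exact e4 ▸ hL1 k hk) e3 (f t) (f u)
    rw [Y.ev_redT hp _ _ hL1, Y.ev_redT hp _ _ hL2] at this
    rw [Y.comm' (c.ρ_lt hr) (c.ρ_lt hs) e1 e2]
    congr 1
    simp only [ev, HomD.w1, HomD.w2, List.map_map, ChevalleyDatum.commWord] at this ⊢
    refine Eq.trans (congrArg _ (List.map_congr_left fun e _ => ?_))
      (this.symm.trans (congrArg _ (List.map_congr_left fun e _ => ?_)))
    · simp only [Function.comp_apply]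
      congr 1
      push_cast
      rw [← neg_mul, mul_pow, mul_pow, ← pow_mul, ← pow_mul]; ring
    · simp only [Function.comp_apply]
      congr 1
      push_cast
      rw [map_mul, map_mul, map_pow, map_pow, map_intCast, map_neg, neg_eq_neg_one_mul (f t)]
      simp only [mul_pow, pow_mul]; ring

theorem twist_h (Y : Rel D' K' G) (g : Good D) (g' : Good D') {h : HomD} (c : h.Chk D D') (hp : (h.p : K') = 0)
    (f : K →+* K') (X : SRG g'.rs K' G) (hX : X.toWRG = Y.toWRG g') (r : Fin D.nroots) {t : K} (ht : t ≠ 0) :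
    ((Y.twist g g' c hp f).toWRG g).h r t = X.h ⟨h.ρ r, c.ρ_lt r.2⟩ (f t ^ h.lam r) := by
  obtain ⟨-, h1, h2, h3, h4, -⟩ := c.row r.2
  have hγ : ((h.γ r : ℤ) : K') * h.γ r = 1 := by rw [← Int.cast_mul, h.γ_sq, Int.cast_one]
  have h5 : ((h.γ (D.neg r) : ℤ) : K') * h.γ r * (-1) ^ h.lam r + 1 = 0 := by
    obtain ⟨k, hk⟩ := h4
    have := congrArg (Int.cast : ℤ → K') hk
    simpa [hp] using this
  have hn : ∀ t : K, ((Y.twist g g' c hp f).toWRG g).n r t = X.n ⟨h.ρ r, c.ρ_lt r.2⟩ (h.γ r * f t ^ h.lam r) := by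
    intro t
    rw [hX]
    simp only [WRG.n, toWRG_x, twist, Good.rs_neg_val, h1, h2]
    congr 3
    rw [map_neg, map_inv₀, neg_eq_neg_one_mul (f t)⁻¹, mul_pow, inv_pow, mul_inv,
      ← eq_inv_of_mul_eq_one_left hγ]
    linear_combination (h.γ r * (f t ^ h.lam r)⁻¹) * h5 -
      (h.γ (D.neg r) * (-1) ^ h.lam r * (f t ^ h.lam r)⁻¹) * hγ
  have hγ0 : ((h.γ r : ℤ) : K') ≠ 0 := left_ne_zero_of_mul_eq_one hγ
  rw [WRG.h, hn, hn, X.n_mul_n _ (mul_ne_zero hγ0 (pow_ne_zero _ ((map_ne_zero f).2 ht)))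
    (mul_ne_zero hγ0 (pow_ne_zero _ ((map_ne_zero f).2 (by simp))))]
  congr 1
  have h6 : (-1 : K') ^ h.lam r = -1 := by
    have := c.add_pow hp r.2 1 (-1)
    rw [add_neg_cancel, zero_pow h3, one_pow] at this
    linear_combination -this
  rw [map_neg, map_one, h6]
  field_simp

/-- The homomorphism from Steinberg's group defined by checked data. -/
theorem exists_twist_hom (Y : Rel D' K' G) (g : Good D) (g' : Good D') {h : HomD} (c : h.Chk D D')
    (hp : (h.p : K') = 0) (f : K →+* K') (X : SRG g'.rs K' G) (hX : X.toWRG = Y.toWRG g') :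
    ∃ θ : D.SteinbergGroup K →* G,
      (∀ (r : Fin D.nroots) t, θ (D.stGen K r t) = X.x ⟨h.ρ r, c.ρ_lt r.2⟩ (h.γ r * f t ^ h.lam r)) ∧
      ∀ (r : Fin D.nroots) t, t ≠ 0 → θ (((stRel D K).toWRG g).h r t) = X.h ⟨h.ρ r, c.ρ_lt r.2⟩ (f t ^ h.lam r) := by
  obtain ⟨θ, hθ⟩ := (Y.twist g g' c hp f).exists_st_hom g fun r t u ht hu => by
    rw [twist_h _ _ _ _ _ _ X hX r ht, twist_h _ _ _ _ _ _ X hX r hu, twist_h _ _ _ _ _ _ X hX r (mul_ne_zero ht hu),
      X.h_mul _ _ _ (pow_ne_zero _ ((map_ne_zero f).2 ht)) (pow_ne_zero _ ((map_ne_zero f).2 hu)), map_mul, mul_pow]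
  refine ⟨θ, fun r t => by rw [hθ _ _ r.2, hX]; rfl, fun r t ht => ?_⟩
  rw [← twist_h _ g _ c hp f X hX r ht]
  exact WRG.map_h (fun r t => hθ _ _ r.2) r t

end Rel

end H20
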