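import Mathlib
import Cfsg.Agent.H20.Hom
import Cfsg.Agent.H19.FastD4

/-! Checked data of a map of root elements (generated). -/

set_option autoImplicit false

namespace H20

open Cfsg.Lie

def homD4a : HomD where
  p := 0
  ρT := 0x17161115100d140f130e0c12050b090408030a0702060100
  γT := 0x2a8154
  lamT := 0x0

theorem chkD4a : homD4a.Chk chevD4 chevD4 :=
  homD4a.chk_of_agree H19.agreeD4 H19.agreeD4 (Or.inl rfl) (by decide +kernel)

end H20
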