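import Mathlib
import Cfsg.Agent.H20.St
import Cfsg.Agent.H20.Tw

/-!
Endomorphisms permuting the root subgroups, their fixed points, and the twisted groups.
-/

set_option autoImplicit false

namespace H20

open Finset
open scoped commutatorElement

variable {ι Λ : Type} [LinearOrder ι] [Fintype Λ] [DecidableEq Λ] [Fintype ι]
  {R : RS ι Λ} {K : Type*} [Field K] {G G' : Type*} [Group G] [Group G']

/-- An endomorphism `x_r(t) ↦ x_{ρ r}(φ_r t)` coming from a symmetry of the diagram. -/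
structure Sym (X : RG R K G) where
  σ : G →* G
  ρ : Equiv.Perm ι
  π : Equiv.Perm Λ
  φ : ι → K → K
  σ_x : ∀ r t, σ (X.x r t) = X.x (ρ r) (φ r t)
  ρ_sim : ∀ i, ρ (R.sim i) = R.sim (π i)
  ρ_neg : ∀ r, ρ (R.neg r) = R.neg (ρ r)
  ρ_pos : ∀ r, R.Pos (ρ r) ↔ R.Pos r
  φ_inj : ∀ r, Function.Injective (φ r)
  φ_neg : ∀ r t, φ (R.neg r) (-t⁻¹) = -(φ r t)⁻¹

namespace Sym

open WRG SRG

variable {X : RG R K G} (S : Sym X)

omit [Fintype ι] in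
theorem φ_zero (r : ι) : S.φ r 0 = 0 := X.x_eq_one (r := S.ρ r) (by rw [← S.σ_x]; simp)

omit [Fintype ι] in
theorem φ_ne {r : ι} {t : K} (ht : t ≠ 0) : S.φ r t ≠ 0 := fun h => ht (S.φ_inj r (h.trans (S.φ_zero r).symm))

omit [Fintype ι] in
theorem σ_mem_XS {A B : Set ι} (h : ∀ r ∈ A, S.ρ r ∈ B) {a : G} (ha : a ∈ X.XS A) : S.σ a ∈ X.XS B :=
  (X.XS_le_iff (M := (X.XS B).comap S.σ)).2 (fun r hr t => by
    rw [Subgroup.mem_comap, S.σ_x]; exact X.x_mem_XS (h r hr) _) ha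

omit [Fintype ι] in
theorem σ_U {a : G} (ha : a ∈ X.U) : S.σ a ∈ X.U := S.σ_mem_XS (fun r hr => (S.ρ_pos r).2 hr) ha

omit [Fintype ι] in
theorem σ_V {a : G} (ha : a ∈ X.V) : S.σ a ∈ X.V := 
  S.σ_mem_XS (A := {r | ¬R.Pos r}) (B := {r | ¬R.Pos r}) (fun r hr h => hr ((S.ρ_pos r).1 h)) ha

omit [Fintype ι] in
theorem σ_grp {a : G} (ha : a ∈ X.grp) : S.σ a ∈ X.grp := S.σ_mem_XS (fun _ _ => Set.mem_univ _) ha

omit [Fintype ι] in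
theorem σ_n (r : ι) (t : K) : S.σ (X.n r t) = X.n (S.ρ r) (S.φ r t) := by
  simp only [WRG.n, map_mul, S.σ_x, S.ρ_neg, S.φ_neg]

omit [Fintype ι] in
theorem σ_N {a : G} (ha : a ∈ X.N) : S.σ a ∈ X.N :=
  (X.N_le_iff (M := X.N.comap S.σ)).2 (fun r t ht => by
    rw [Subgroup.mem_comap, S.σ_n]; exact X.n_mem_N _ (S.φ_ne ht)) ha

omit [Fintype ι] in
theorem σ_H {a : G} (ha : a ∈ X.H) : S.σ a ∈ X.H :=
  (X.H_le_iff (M := X.H.comap S.σ)).2 (fun r t ht => by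
    have h1 : S.φ r (-1) ≠ 0 := S.φ_ne (by simp)
    rw [Subgroup.mem_comap, WRG.h, map_mul, S.σ_n, S.σ_n, X.n_mul_n _ (S.φ_ne ht) h1]
    exact X.h_mem_H _ (neg_ne_zero.2 (mul_ne_zero (S.φ_ne ht) (inv_ne_zero h1)))) ha

theorem σ_acts {n : G} (hn : n ∈ X.N) {w : Equiv.Perm ι} (hw : X.Acts n w) :
    X.Acts (S.σ n) (S.ρ * w * S.ρ⁻¹) := by
  obtain ⟨w', hw'⟩ := X.exists_acts_of_mem_N (S.σ_N hn)
  convert hw'
  ext r
  obtain ⟨r, rfl⟩ := S.ρ.surjective r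
  obtain ⟨c, hc, h1⟩ := hw.conj_x r
  obtain ⟨c', hc', h2⟩ := hw'.conj_x (S.ρ r)
  have h3 := congrArg S.σ (h1 1)
  rw [map_mul, map_mul, map_inv, S.σ_x, S.σ_x, h2] at h3
  simpa using (X.root_eq_of_x_eq (mul_ne_zero hc' (S.φ_ne one_ne_zero)) h3).symm

theorem conj_s (i : Λ) : S.ρ * R.s i * S.ρ⁻¹ = R.s (S.π i) := by
  have h1 := S.σ_acts (X.n_mem_N (R.sim i) one_ne_zero) (X.acts_n_sim i one_ne_zero)
  rw [S.σ_n, S.ρ_sim] at h1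
  exact X.acts_unique h1 (X.acts_n_sim _ (S.φ_ne one_ne_zero))

theorem conj_mem_WJ {J J' : Set Λ} (h : ∀ j ∈ J, S.π j ∈ J') {w : Equiv.Perm ι} (hw : w ∈ R.WJ J) :
    S.ρ * w * S.ρ⁻¹ ∈ R.WJ J' := by
  refine R.WJ_induction_left (P := fun w => S.ρ * w * S.ρ⁻¹ ∈ R.WJ J') (by simp) (fun i hi w _ ih => ?_) w hw
  have := mul_mem (R.s_mem_WJ (h i hi)) ih
  rw [← S.conj_s] at this
  simpa [mul_assoc] using this

theorem ρ_mem_Phi {J J' : Set Λ} (h : ∀ j ∈ J, S.π j ∈ J') {r : ι} (hr : r ∈ R.Phi J) : S.ρ r ∈ R.Phi J' := by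
  obtain ⟨w, hw, i, hi, rfl⟩ := RS.exists_WJ_sim hr
  have := (RS.WJ_mem_Phi subset_rfl (S.conj_mem_WJ h hw)).2 (RS.sim_mem_Phi.2 (h i hi))
  simpa [← S.ρ_sim] using this

theorem ρ_mem_inv {w : Equiv.Perm ι} {r : ι} (hr : r ∈ R.inv w) : S.ρ r ∈ R.inv (S.ρ * w * S.ρ⁻¹) := by
  rw [RS.mem_inv] at hr ⊢
  simpa [S.ρ_pos] using hr

omit [Fintype ι] in
theorem σ_P (L : List ι) (t : ι → K) :
    S.σ (X.P L t) = X.P (L.map S.ρ) fun r => S.φ (S.ρ⁻¹ r) (t (S.ρ⁻¹ r)) := by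
  induction L with
  | nil => simp
  | cons r L ih => simp [ih, S.σ_x]

theorem eq_one_of_σ {a : G} (ha : a ∈ X.U) (h : S.σ a = 1) : a = 1 := by
  obtain ⟨t, rfl⟩ := X.exists_P R.closed_pos (fun _ h => h) nodup_posList (fun r => mem_posList) ha
  rw [S.σ_P, ← X.P_zero ((posList R).map S.ρ)] at h
  have := X.P_injective X.nd1 R.closed_pos (fun _ h => h) (nodup_posList.map S.ρ.injective) (by
    intro r hr
    obtain ⟨k, hk, rfl⟩ := List.mem_map.1 hr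
    exact (S.ρ_pos k).2 (mem_posList.1 hk)) h
  rw [← X.P_zero (posList R)]
  refine X.P_congr fun r hr => S.φ_inj r ?_
  simpa [S.φ_zero] using this _ (List.mem_map_of_mem hr)

theorem bruhat {w : Equiv.Perm ι} {a n b a' n' b' : G} {w' : Equiv.Perm ι} (ha : a ∈ X.U) (hn : n ∈ X.N)
    (hb : b ∈ X.XS (R.inv w)) (hw : X.Acts n w) (ha' : a' ∈ X.U) (hn' : n' ∈ X.N)
    (hb' : b' ∈ X.XS (R.inv w')) (hw' : X.Acts n' w') (h : S.σ (a * n * b) = a' * n' * b') :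
    S.ρ * w * S.ρ⁻¹ = w' ∧ S.σ a = a' ∧ S.σ n = n' ∧ S.σ b = b' :=
  X.bruhat_unique (S.σ_U ha) ha' (S.σ_N hn) hn' (S.σ_mem_XS (fun _ hr => S.ρ_mem_inv hr) hb) hb'
    (S.σ_acts hn hw) hw' (by simpa using h)

/-- An element with central image is central. -/
theorem central_of_σ {g : G} (hg : g ∈ X.grp) (h : ∀ a ∈ X.grp, S.σ g * a = a * S.σ g) :
    ∀ a ∈ X.grp, g * a = a * g := by
  obtain ⟨c, -, hc⟩ := (X.central_iff (S.σ_grp hg)).1 h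
  obtain ⟨w, a, ha, n, hn, b, hb, hw, rfl⟩ := exists_bruhat hg
  obtain ⟨h1, h2, h3, h4⟩ := S.bruhat (w' := 1) ha hn hb hw (one_mem _) (X.H_le_N (X.hmap_mem_H c)) (one_mem _)
    (X.acts_of_mem_H (X.hmap_mem_H c)) (by simpa using hc)
  have h5 : w = 1 := by simpa [mul_inv_eq_one] using h1
  subst h5
  rw [S.eq_one_of_σ ha h2, S.eq_one_of_σ (XS_inv_le_U _ hb) h4, one_mul, mul_one] at hg h ⊢
  obtain ⟨d, rfl⟩ := X.mem_H_iff.1 (X.mem_H_of_acts_one hn hw)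
  refine (X.central_iff hg).2 ⟨d, fun i => ?_, rfl⟩
  have h6 := congrArg S.σ ((X.actsBy_hmap d).conj (R.sim i) 1)
  rw [map_mul, map_mul, map_inv, h _ (S.σ_grp (X.x_mem_grp _ _)), mul_inv_cancel_right, S.σ_x, S.σ_x] at h6
  exact Units.ext (by simpa using (S.φ_inj _ (X.x_injective _ h6)).symm)

omit [Fintype ι] in
theorem σ_hmap {ψ : Λ → Kˣ →* Kˣ} (h : ∀ i (t : Kˣ), S.σ (X.h (R.sim i) t) = X.h (R.sim (S.π i)) (ψ i t))
    (c : Λ → Kˣ) : S.σ (X.hmap c) = X.hmap fun j => ψ (S.π⁻¹ j) (c (S.π⁻¹ j)) := by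
  induction c using Pi.mulSingle_induction with
  | one => simp only [Pi.one_apply, map_one]; exact (map_one X.hmap).symm
  | mul f g hf hg => rw [map_mul, map_mul, hf, hg, ← map_mul]; simp [Pi.mul_def]
  | mulSingle i t =>
    rw [hmap_single, h, ← hmap_single]
    congr 1
    ext1 j
    obtain ⟨j, rfl⟩ := S.π.surjective j
    by_cases hj : j = i
    · subst hj; simp
    · simp [hj]

/-- The fixed points. -/
def C : Subgroup G := S.σ.eqLocus (MonoidHom.id G) ⊓ X.grp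

omit [Fintype ι] in
theorem mem_C {a : G} : a ∈ S.C ↔ S.σ a = a ∧ a ∈ X.grp := Iff.rfl

theorem bc {w : Equiv.Perm ι} {a n b : G} (ha : a ∈ X.U) (hn : n ∈ X.N) (hb : b ∈ X.XS (R.inv w))
    (hw : X.Acts n w) (h : a * n * b ∈ S.C) : a ∈ S.C ∧ n ∈ S.C ∧ b ∈ S.C := by
  obtain ⟨-, h1, h2, h3⟩ := S.bruhat ha hn hb hw ha hn hb hw h.1
  exact ⟨⟨h1, X.U_le_grp ha⟩, ⟨h2, X.N_le_grp hn⟩, ⟨h3, X.XS_le_grp _ hb⟩⟩

theorem conj_eq_of_mem_C {w : Equiv.Perm ι} {n : G} (hC : n ∈ S.C) (hn : n ∈ X.N) (hw : X.Acts n w) :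
    S.ρ * w * S.ρ⁻¹ = w := X.acts_unique (S.σ_acts hn hw) (hC.1.symm ▸ hw)

theorem dich {w : Equiv.Perm ι} {n : G} (hC : n ∈ S.C) (hn : n ∈ X.N) (hw : X.Acts n w) {J : Set Λ}
    (hJ : ∀ j ∈ J, ∀ j' ∈ J, ∃ k : ℕ, (S.π ^ k) j = j') :
    (∀ j ∈ J, R.Pos (w (R.sim j))) ∨ (∀ j ∈ J, ¬R.Pos (w (R.sim j))) := by
  have h1 := S.conj_eq_of_mem_C hC hn hw
  have h2 : ∀ j, R.Pos (w (R.sim (S.π j))) ↔ R.Pos (w (R.sim j)) := by
    intro j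
    conv_lhs => rw [← h1, ← S.ρ_sim]
    simp [S.ρ_pos]
  have h3 : ∀ (k : ℕ) j, R.Pos (w (R.sim ((S.π ^ k) j))) ↔ R.Pos (w (R.sim j)) := by
    intro k j
    induction k with
    | zero => simp
    | succ k ih => rw [pow_succ', Equiv.Perm.mul_apply, h2, ih]
  by_contra h
  push Not at h
  obtain ⟨⟨j, hj, h4⟩, j', hj', h5⟩ := h
  obtain ⟨k, rfl⟩ := hJ j hj j' hj'
  exact h4 ((h3 k j).1 h5)

/-- The hypotheses on a subgroup generated by fixed unipotent elements. -/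
structure Gen (Γ : Subgroup G) (I : Type) where
  J : I → Set Λ
  J_inj : Function.Injective J
  J_nonempty : ∀ i, (J i).Nonempty
  cover : ∀ j, ∃ i, j ∈ J i
  orb : ∀ i, ∀ j ∈ J i, ∀ j' ∈ J i, ∃ k : ℕ, (S.π ^ k) j = j'
  le : Γ ≤ S.C
  pos : ∀ i, X.XS {r | R.Pos r ∧ r ∈ R.Phi (J i)} ⊓ S.C ≤ Γ
  neg : ∀ i, ∃ v ∈ Γ, v ∈ X.XS {r | ¬R.Pos r ∧ r ∈ R.Phi (J i)} ∧ v ≠ 1
  coord : ∀ i, ∀ j ∈ J i, ∃ u ∈ Γ, u ∈ X.XS {r | R.Pos r ∧ r ∈ R.Phi (J i)} ∧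
    u ∉ X.XS {r | R.Pos r ∧ r ≠ R.sim j}

namespace Gen

variable {S} {Γ : Subgroup G} {I : Type} (E : S.Gen Γ I)

theorem exists_nJ (i : I) : ∃ n ∈ Γ, n ∈ X.N ∧ X.Acts n (R.w0 (E.J i)) := by
  obtain ⟨v, hvΓ, hv, hv1⟩ := E.neg i
  obtain ⟨w, hw, h⟩ := exists_cell_levi (X := X.toSRG) (J := E.J i)
    (Subgroup.mem_sup_left (X.XS_mono (fun r hr => hr.2) hv))
  obtain ⟨a, ha, n, hn, b, hb, hnw, rfl⟩ := h.refine (R.adm_Phi _) hw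
  obtain ⟨h1, h2, h3⟩ := S.bc (X.XS_mono (fun r hr => hr.1) ha) hn (X.XS_mono Set.inter_subset_right hb) hnw
    (E.le hvΓ)
  have h4 := E.pos i ⟨ha, h1⟩
  have h5 := E.pos i ⟨X.XS_mono Set.inter_subset_left hb, h3⟩
  refine ⟨n, by simpa [mul_assoc] using mul_mem (mul_mem (inv_mem h4) hvΓ) (inv_mem h5), hn, ?_⟩
  rcases S.dich h2 hn hnw (E.orb i) with h6 | h6
  · refine absurd (X.eq_one_of_mem_B_V ?_ (X.XS_mono (fun r hr => hr.1) hv)) hv1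
    rw [RS.eq_one_of_simple_pos hw h6] at hnw
    exact mul_mem (mul_mem (X.U_le_B (X.XS_mono (fun r hr => hr.1) ha)) (X.H_le_B (X.mem_H_of_acts_one hn hnw)))
      (X.U_le_B (X.XS_mono (fun r hr => hr.1.1) hb))
  · rwa [← RS.eq_w0 hw h6]

/-- The structure on the group of all fixed points. -/
noncomputable def twC : Tw X S.C I where
  J := E.J
  nJ i := (E.exists_nJ i).choose
  le := inf_le_right
  bc _ _ _ _ ha hn hb hw h := S.bc ha hn hb hw h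
  nJ_mem i := E.le (E.exists_nJ i).choose_spec.1
  nJ_N i := (E.exists_nJ i).choose_spec.2.1
  nJ_acts i := (E.exists_nJ i).choose_spec.2.2
  J_inj := E.J_inj
  J_nonempty := E.J_nonempty
  dich _ _ hC hn hw i := S.dich hC hn hw (E.orb i)
  cover := E.cover
  coord i j hj := by
    obtain ⟨u, h1, h2⟩ := E.coord i j hj
    exact ⟨u, E.le h1, h2⟩

include E in
theorem U_inf_le : X.U ⊓ S.C ≤ Γ := E.twC.U_inf_le (fun i => (E.exists_nJ i).choose_spec.1) E.pos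

/-- The structure on the twisted group. -/
noncomputable def tw : Tw X Γ I where
  J := E.J
  nJ i := (E.exists_nJ i).choose
  le := E.le.trans inf_le_right
  bc _ _ _ _ ha hn hb hw h := by
    obtain ⟨h1, -, h3⟩ := S.bc ha hn hb hw (E.le h)
    have h4 := E.U_inf_le ⟨ha, h1⟩
    have h5 := E.U_inf_le ⟨XS_inv_le_U _ hb, h3⟩
    exact ⟨h4, by simpa [mul_assoc] using mul_mem (mul_mem (inv_mem h4) h) (inv_mem h5), h5⟩
  nJ_mem i := (E.exists_nJ i).choose_spec.1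
  nJ_N i := (E.exists_nJ i).choose_spec.2.1
  nJ_acts i := (E.exists_nJ i).choose_spec.2.2
  J_inj := E.J_inj
  J_nonempty := E.J_nonempty
  dich _ _ hC hn hw i := S.dich (E.le hC) hn hw (E.orb i)
  cover := E.cover
  coord := E.coord

theorem tw_J : E.tw.J = E.J := rfl

include E in
theorem V_inf_le : X.V ⊓ S.C ≤ Γ := by
  rintro v ⟨h1, h2⟩
  obtain ⟨n, hΓ, hn, hw⟩ := E.tw.w0_mem_W1 E.tw.sat_univ
  have := E.U_inf_le ⟨Acts_w0_conj_V hw h1, S.C.mul_mem (S.C.mul_mem (E.le hΓ) h2) (S.C.inv_mem (E.le hΓ))⟩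
  simpa [mul_assoc] using mul_mem (mul_mem (inv_mem hΓ) this) hΓ

include E in
theorem x_mem {r : ι} {t : K} (h1 : S.ρ r = r) (h2 : S.φ r t = t) : X.x r t ∈ Γ := by
  have h3 : X.x r t ∈ S.C := S.mem_C.2 ⟨by rw [S.σ_x, h1, h2], X.x_mem_grp r t⟩
  by_cases hr : R.Pos r
  · exact E.U_inf_le ⟨X.x_mem_XS hr t, h3⟩
  · exact E.V_inf_le ⟨X.x_mem_XS hr t, h3⟩

include E in
theorem XS_inf_eq {A : Set ι} (hA : ∀ r ∈ A, R.Pos r) : X.XS A ⊓ Γ = X.XS A ⊓ S.C :=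
  le_antisymm (inf_le_inf_left _ E.le) fun _ ha => ⟨ha.1, E.U_inf_le ⟨X.XS_mono hA ha.1, ha.2⟩⟩

include E in
/-- The fixed points of the torus normalise a group generated by fixed unipotent elements; commutators
with the longest element. -/
theorem H_conj_mem (hΓ : Γ ≤ (X.U ⊓ Γ) ⊔ (X.V ⊓ Γ)) {h : G} (hh : h ∈ X.H ⊓ S.C) {g : G} (hg : g ∈ Γ) :
    h * g * h⁻¹ ∈ Γ := by
  have : (X.U ⊓ Γ) ⊔ (X.V ⊓ Γ) ≤ Γ.comap (MulAut.conj h).toMonoidHom := by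
    refine sup_le (fun u hu => E.U_inf_le ⟨X.H_conj_mem hh.1 hu.1, ?_⟩)
      (fun u hu => E.V_inf_le ⟨X.H_conj_mem hh.1 hu.1, ?_⟩)
    all_goals exact S.C.mul_mem (S.C.mul_mem hh.2 (E.le hu.2)) (S.C.inv_mem hh.2)
  exact this (hΓ hg)

end Gen

end Sym

namespace Tw

open WRG SRG

variable {Y : RG R K G'} {X : RG R K G} {θ : G' →* G} (hθ : ∀ r t, θ (Y.x r t) = X.x r t)
  {Γ : Subgroup G'} {I : Type} (T : Tw Y Γ I)

include hθ T in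
theorem map_bc {w : Equiv.Perm ι} {a n b : G} (ha : a ∈ X.U) (hn : n ∈ X.N) (hb : b ∈ X.XS (R.inv w))
    (hw : X.Acts n w) (h : a * n * b ∈ Γ.map θ) :
    ∃ a' ∈ Y.U ⊓ Γ, ∃ n' ∈ Y.N ⊓ Γ, ∃ b' ∈ Y.XS (R.inv w) ⊓ Γ, Y.Acts n' w ∧ θ a' = a ∧ θ n' = n ∧ θ b' = b := by
  obtain ⟨g, hg, h⟩ := h
  obtain ⟨w', a', ha', n', hn', b', hb', hw', rfl⟩ := T.exists_bruhat hg
  obtain ⟨h1, h2, h3, h4⟩ := X.bruhat_unique (map_mem_XS hθ ha'.1) ha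
    (map_N hθ ▸ Subgroup.mem_map_of_mem θ hn'.1) hn (map_mem_XS hθ hb'.1) hb (RG.map_acts hθ hw') hw
    (by simpa using h)
  subst h1
  exact ⟨a', ha', n', hn', b', hb', hw', h2, h3, h4⟩

/-- The image of a Bruhat-compatible subgroup. -/
def map : Tw X (Γ.map θ) I where
  J := T.J
  nJ i := θ (T.nJ i)
  le := by
    rintro _ ⟨g, hg, rfl⟩
    exact map_mem_XS hθ (T.le hg)
  bc w a n b ha hn hb hw h := by
    obtain ⟨a', ha', n', hn', b', hb', -, rfl, rfl, rfl⟩ := T.map_bc hθ ha hn hb hw h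
    exact ⟨⟨_, ha'.2, rfl⟩, ⟨_, hn'.2, rfl⟩, ⟨_, hb'.2, rfl⟩⟩
  nJ_mem i := ⟨_, T.nJ_mem i, rfl⟩
  nJ_N i := map_N hθ ▸ Subgroup.mem_map_of_mem θ (T.nJ_N i)
  nJ_acts i := RG.map_acts hθ (T.nJ_acts i)
  J_inj := T.J_inj
  J_nonempty := T.J_nonempty
  dich n w h hn hw i := by
    obtain ⟨a', -, n', hn', b', -, h1, -⟩ := T.map_bc hθ (one_mem _) hn (one_mem _) hw (by simpa using h)
    exact T.dich n' w hn'.2 hn'.1 h1 i
  cover := T.cover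
  coord i j hj := by
    obtain ⟨u, h1, h2, h3⟩ := T.coord i j hj
    refine ⟨θ u, ⟨u, h1, rfl⟩, map_mem_XS hθ h2, fun h => h3 ?_⟩
    rw [← Y.map_XS_eq θ hθ] at h
    obtain ⟨u', h4, h5⟩ := h
    rwa [← eq_of_map_eq hθ (one_mem _) (Y.XS_mono (fun r hr => hr.1) h4) (Y.XS_mono (fun r hr => hr.1) h2) h5]

theorem map_J : (T.map hθ).J = T.J := rfl

include hθ T in
theorem map_XS_inf {A : Set ι} (hA : ∀ r ∈ A, R.Pos r) : X.XS A ⊓ Γ.map θ = (Y.XS A ⊓ Γ).map θ := by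
  apply le_antisymm
  · rintro a ⟨h1, h2⟩
    obtain ⟨a', ha', -, -, -, -, -, rfl, -⟩ := T.map_bc hθ (w := 1) (X.XS_mono hA h1) (one_mem _) (one_mem _)
      acts_one (by simpa using h2)
    rw [← Y.map_XS_eq θ hθ] at h1
    obtain ⟨u, h3, h4⟩ := h1
    obtain rfl := eq_of_map_eq hθ (one_mem _) (Y.XS_mono hA h3) ha'.1 h4
    exact ⟨u, ⟨h3, ha'.2⟩, rfl⟩
  · rintro _ ⟨a, ha, rfl⟩
    exact ⟨map_mem_XS hθ ha.1, a, ha.2, rfl⟩

include hθ T in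
theorem card_map_XS_inf {A : Set ι} (hA : ∀ r ∈ A, R.Pos r) :
    Nat.card ↥(X.XS A ⊓ Γ.map θ) = Nat.card ↥(Y.XS A ⊓ Γ) := by
  rw [T.map_XS_inf hθ hA]
  symm
  refine Nat.card_congr (Equiv.ofBijective (fun a => ⟨θ a, a, a.2, rfl⟩) ⟨fun a b h => Subtype.ext ?_, ?_⟩)
  · exact eq_of_map_eq hθ (one_mem _) (Y.XS_mono hA a.2.1) (Y.XS_mono hA b.2.1) (congrArg Subtype.val h)
  · rintro ⟨_, a, ha, rfl⟩; exact ⟨⟨a, ha⟩, rfl⟩

include hθ T in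
theorem map_H_inf : X.H ⊓ Γ.map θ = (Y.H ⊓ Γ).map θ := by
  apply le_antisymm
  · rintro a ⟨h1, h2⟩
    obtain ⟨-, -, n, hn, -, -, h3, -, rfl, -⟩ := T.map_bc hθ (w := 1) (one_mem _) (X.H_le_N h1) (one_mem _)
      (X.acts_of_mem_H h1) (by simpa using h2)
    exact ⟨n, ⟨Y.mem_H_of_acts_one hn.1 h3, hn.2⟩, rfl⟩
  · rintro _ ⟨a, ha, rfl⟩
    exact ⟨map_H hθ ▸ Subgroup.mem_map_of_mem θ ha.1, a, ha.2, rfl⟩

end Tw

namespace RG

open WRG SRG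

variable (X : RG R K G)

theorem eq_one_of_commute_hmap {A : Set ι} (hA : R.Closed A) (hpos : ∀ r ∈ A, R.Pos r) {c : Λ → Kˣ}
    (hc : ∀ r ∈ A, R.chi r c ≠ 1) {u : G} (hu : u ∈ X.XS A) (h : X.hmap c * u * (X.hmap c)⁻¹ = u) : u = 1 := by
  classical
  obtain ⟨t, rfl⟩ := X.exists_P hA hpos (nodup_toList (univ.filter (· ∈ A))) (by simp) hu
  have h1 := (X.actsBy_hmap c).conj_P (univ.filter (· ∈ A)).toList t
  rw [h] at h1
  simp only [Equiv.Perm.coe_one, List.map_id_fun, id_eq, inv_one] at h1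
  have h2 := X.P_injective X.nd1 hA hpos (nodup_toList _) (by simp) h1
  rw [← X.P_zero (univ.filter (· ∈ A)).toList]
  refine X.P_congr fun r hr => ?_
  exact (mul_left_eq_self₀.1 (h2 r hr).symm).resolve_left fun h3 => hc r (by simpa using hr) (Units.ext h3)

theorem finite_XS [Finite K] {A : Set ι} (hA : R.Closed A) (hpos : ∀ r ∈ A, R.Pos r) : Finite (X.XS A) := by
  classical
  have h1 : A = (univ.filter (· ∈ A) : Finset ι) := by simp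
  rw [h1]
  exact Finite.of_equiv _ (X.XSEquiv X.nd1 (by simpa using hA) (by simpa using hpos))

/-- A fixed-point-free element of the torus makes all elements commutators. -/
theorem XS_inf_le_commutator [Finite K] {Γ : Subgroup G} {A : Set ι} (hA : R.Closed A) (hpos : ∀ r ∈ A, R.Pos r)
    {c : Λ → Kˣ} (hc : ∀ r ∈ A, R.chi r c ≠ 1) (hΓ : X.hmap c ∈ Γ) : X.XS A ⊓ Γ ≤ ⁅Γ, Γ⁆ := by
  have := X.finite_XS hA hpos
  have : Finite ↥(X.XS A ⊓ Γ) := Finite.of_injective _ (Subgroup.inclusion_injective inf_le_left)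
  let f : ↥(X.XS A ⊓ Γ) → ↥(X.XS A ⊓ Γ) := fun u => ⟨u⁻¹ * (X.hmap c * u * (X.hmap c)⁻¹),
    mul_mem (inv_mem u.2) ⟨X.H_conj_mem (X.hmap_mem_H c) u.2.1, Γ.mul_mem (Γ.mul_mem hΓ u.2.2) (Γ.inv_mem hΓ)⟩⟩
  have hf : Function.Injective f := by
    intro u v h
    have h1 : (u : G)⁻¹ * (X.hmap c * u * (X.hmap c)⁻¹) = (v : G)⁻¹ * (X.hmap c * v * (X.hmap c)⁻¹) :=
      congrArg Subtype.val h
    have := X.eq_one_of_commute_hmap hA hpos hc (mul_mem v.2.1 (inv_mem u.2.1)) (by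
      calc X.hmap c * ((v : G) * (u : G)⁻¹) * (X.hmap c)⁻¹
          = v * ((v : G)⁻¹ * (X.hmap c * v * (X.hmap c)⁻¹)) * (X.hmap c * u * (X.hmap c)⁻¹)⁻¹ := by group
        _ = _ := by rw [← h1]; group)
    exact Subtype.ext (mul_inv_eq_one.1 this).symm
  intro a ha
  obtain ⟨u, hu⟩ := Finite.surjective_of_injective hf ⟨a, ha⟩
  have h1 : a = ⁅(u : G)⁻¹, X.hmap c⁆ := by
    have h2 : (u : G)⁻¹ * (X.hmap c * u * (X.hmap c)⁻¹) = a := congrArg Subtype.val hu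
    rw [← h2, commutatorElement_def]; group
  rw [h1]
  exact Subgroup.commutator_mem_commutator (Γ.inv_mem u.2.2) hΓ

end RG

theorem commutator_eq_top_iff {Γ : Subgroup G} : commutator Γ = ⊤ ↔ Γ ≤ ⁅Γ, Γ⁆ := by
  rw [← Subgroup.map_subtype_commutator]
  constructor
  · intro h; rw [h, ← MonoidHom.range_eq_map, Subgroup.range_subtype]
  · intro h
    rw [eq_top_iff]
    intro a _
    obtain ⟨b, hb, h1⟩ := h a.2
    rwa [← Subtype.ext h1]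

theorem Tw.commutator_eq_top {X : RG R K G} {Γ : Subgroup G} {I : Type} (T : Tw X Γ I)
    (hΓ : Γ ≤ (X.U ⊓ Γ) ⊔ (X.V ⊓ Γ))
    (h : ∀ i, X.XS {r | R.Pos r ∧ r ∈ R.Phi (T.J i)} ⊓ Γ ≤ ⁅Γ, Γ⁆) : commutator Γ = ⊤ := by
  have hc : ∀ g ∈ Γ, ∀ a ∈ ⁅Γ, Γ⁆, g * a * g⁻¹ ∈ ⁅Γ, Γ⁆ := by
    intro g hg a ha
    rw [← Subgroup.map_subtype_commutator] at ha ⊢
    obtain ⟨b, hb, rfl⟩ := ha
    exact ⟨_, Subgroup.Normal.conj_mem inferInstance b hb ⟨g, hg⟩, rfl⟩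
  have hU : X.U ⊓ Γ ≤ ⁅Γ, Γ⁆ := by
    have := T.W1_induction T.sat_univ (P := fun w => X.XS (R.inv w) ⊓ Γ ≤ ⁅Γ, Γ⁆)
      (by simp [RS.inv_one, WRG.XS_empty]) (by
        intro i _ w hw _ hp ih u hu
        obtain ⟨a, ha, b, hb, rfl⟩ := Tw.exists_mul_of_len_add (T.W1_le_W hw) (T.nJ_mem i) (T.nJ_N i) (T.nJ_acts i)
          (RS.len_mul_of_simple_pos (T.W1_le_W hw) hp (R.w0_mem _)) hu T
        rw [RS.inv_w0] at hb
        exact mul_mem (by simpa using hc _ (inv_mem (T.nJ_mem i)) _ (ih ha)) (h i hb))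
      _ (T.w0_mem_W1 T.sat_univ) (R.w0_mem _)
    rwa [RS.inv_w0_univ] at this
  refine commutator_eq_top_iff.2 (hΓ.trans (sup_le hU fun v hv => ?_))
  obtain ⟨n, h1, -, hw⟩ := T.w0_mem_W1 T.sat_univ
  have := hU ⟨SRG.Acts_w0_conj_V hw hv.1, Γ.mul_mem (Γ.mul_mem h1 hv.2) (Γ.inv_mem h1)⟩
  simpa [mul_assoc] using hc _ (inv_mem h1) _ this

end H20
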