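import Mathlib
import Cfsg.Agent.H20.Hom
import Cfsg.Agent.H20.Sym

/-!
Graph and field automorphisms of Steinberg's group and of the Chevalley group.
-/

set_option autoImplicit false

namespace H20

open Finset Cfsg.Lie

variable {D : ChevalleyDatum} {K : Type*} [Field K] {g : Good D}

/-- the map of roots is induced by a permutation of the simple roots -/
def HomD.Chk2 (h : HomD) (D : ChevalleyDatum) (πL : List ℕ) : Prop :=
  (∀ i < D.rank, πL.getD i 0 < D.rank ∧ h.ρ (D.simple i) = D.simple (πL.getD i 0) ∧ h.γ (D.simple i) = 1 ∧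
    h.γ (D.neg (D.simple i)) = 1) ∧
  ∀ r < D.nroots, (D.IsPosRoot (h.ρ r) ↔ D.IsPosRoot r)

instance HomD.instDecChk2 (h : HomD) (D : ChevalleyDatum) (πL : List ℕ) : Decidable (h.Chk2 D πL) := by
  unfold HomD.Chk2; infer_instance

namespace HomD

variable {h : HomD}

/-- the map of roots as a permutation -/
noncomputable def Chk.perm (c : h.Chk D D) (g : Good D) : Equiv.Perm (Fin D.nroots) :=
  Equiv.ofBijective (fun r => ⟨h.ρ r, c.ρ_lt r.2⟩) (Finite.injective_iff_bijective.1 (by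
    intro r s hrs
    by_contra h1
    have h2 : h.ρ r = h.ρ s := congrArg Fin.val hrs
    by_cases h3 : (r : ℕ) = D.neg s
    · rw [h3, (c.row s.2).2.1] at h2
      exact g.rs.neg_ne ⟨_, c.ρ_lt s.2⟩ (Fin.ext h2)
    · exact ((c.row s.2).2.2.2.2.2 r r.2 (fun h => h1 (Fin.ext h)) h3).1 h2))

theorem Chk.perm_val (c : h.Chk D D) (r : Fin D.nroots) : (c.perm g r : ℕ) = h.ρ r := rfl

/-- the permutation of the simple roots -/
noncomputable def Chk.π (c : h.Chk D D) (g : Good D) {πL : List ℕ} (c2 : h.Chk2 D πL) : Equiv.Perm (Fin D.rank) :=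
  Equiv.ofBijective (fun i => ⟨πL.getD i 0, (c2.1 i i.2).1⟩) (Finite.injective_iff_bijective.1 (by
    intro i j hij
    have h2 : πL.getD i 0 = πL.getD j 0 := congrArg Fin.val hij
    refine g.rs.sim_injective ((c.perm g).injective (Fin.ext ?_))
    simp only [Chk.perm_val, Good.rs_sim_val, (c2.1 _ (Fin.is_lt _)).2.1, h2]))

end HomD

namespace MatRG

variable (M : MatRG g K)

/-- The graph-field endomorphism of Steinberg's group. -/
noncomputable def sym {h : HomD} (c : h.Chk D D) {πL : List ℕ} (c2 : h.Chk2 D πL) (hp : (h.p : K) = 0)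
    (f : K →+* K) : Sym M.St where
  σ := ((stRel D K).exists_twist_hom g g c hp f M.St.toSRG rfl).choose
  ρ := c.perm g
  π := c.π g c2
  φ r t := h.γ r * f t ^ h.lam r
  σ_x := ((stRel D K).exists_twist_hom g g c hp f M.St.toSRG rfl).choose_spec.1
  ρ_sim i := Fin.ext (c2.1 i i.2).2.1
  ρ_neg r := Fin.ext (c.row r.2).2.1
  ρ_pos r := by rw [← g.isPosRoot_iff, ← g.isPosRoot_iff]; exact c2.2 r r.2
  φ_inj r a b hab := by
    have hγ : ((h.γ r : ℤ) : K) * h.γ r = 1 := by rw [← Int.cast_mul, h.γ_sq, Int.cast_one]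
    have h1 := mul_left_cancel₀ (left_ne_zero_of_mul_eq_one hγ) hab
    have h2 := c.add_pow hp r.2 (f a - f b) (f b)
    rw [sub_add_cancel, h1, right_eq_add, pow_eq_zero_iff (c.row r.2).2.2.2.1, sub_eq_zero] at h2
    exact f.injective h2
  φ_neg r t := by
    obtain ⟨-, -, h2, -, ⟨k, hk⟩, -⟩ := c.row r.2
    have hγ : ((h.γ r : ℤ) : K) * h.γ r = 1 := by rw [← Int.cast_mul, h.γ_sq, Int.cast_one]
    have h5 : ((h.γ (D.neg r) : ℤ) : K) * h.γ r * (-1) ^ h.lam r + 1 = 0 := by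
      simpa [hp] using congrArg (Int.cast : ℤ → K) hk
    rw [Good.rs_neg_val, h2, map_neg, map_inv₀, neg_eq_neg_one_mul (f t)⁻¹, mul_pow, inv_pow, mul_inv,
      ← eq_inv_of_mul_eq_one_left hγ]
    linear_combination (h.γ r * (f t ^ h.lam r)⁻¹) * h5 -
      (h.γ (D.neg r) * (-1) ^ h.lam r * (f t ^ h.lam r)⁻¹) * hγ

section

variable {h : HomD} (c : h.Chk D D) {πL : List ℕ} (c2 : h.Chk2 D πL) (hp : (h.p : K) = 0) (f : K →+* K)

theorem sym_ρ (r : Fin D.nroots) : ((M.sym c c2 hp f).ρ r : ℕ) = h.ρ r := rfl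
theorem sym_π (i : Fin D.rank) : ((M.sym c c2 hp f).π i : ℕ) = πL.getD i 0 := rfl
theorem sym_φ (r : Fin D.nroots) (t : K) : (M.sym c c2 hp f).φ r t = h.γ r * f t ^ h.lam r := rfl

theorem sym_gen {r : ℕ} (hr : r < D.nroots) (t : K) :
    (M.sym c c2 hp f).σ (D.stGen K r t) = D.stGen K (h.ρ r) (h.γ r * f t ^ h.lam r) :=
  (M.sym c c2 hp f).σ_x ⟨r, hr⟩ t

theorem sym_h (r : Fin D.nroots) {t : K} (ht : t ≠ 0) :
    (M.sym c c2 hp f).σ (M.St.h r t) = M.St.h ((M.sym c c2 hp f).ρ r) (f t ^ h.lam r) :=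
  ((stRel D K).exists_twist_hom g g c hp f M.St.toSRG rfl).choose_spec.2 r t ht

theorem sym_φ_surjective (hf : ∀ r < D.nroots, Function.Surjective fun t => f t ^ h.lam r) (r : Fin D.nroots) :
    Function.Surjective ((M.sym c c2 hp f).φ r) := by
  intro u
  obtain ⟨t, ht⟩ := hf r r.2 (h.γ r * u)
  refine ⟨t, ?_⟩
  simp only at ht
  rw [sym_φ, ht, ← mul_assoc, ← Int.cast_mul, h.γ_sq, Int.cast_one, one_mul]

end

theorem σ_surjective (S : Sym M.St) (hS : ∀ r, Function.Surjective (S.φ r)) : Function.Surjective S.σ := by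
  rw [← MonoidHom.range_eq_top, eq_top_iff, ← M.St_grp]
  refine M.St.XS_le_iff.2 fun r _ t => ?_
  obtain ⟨r, rfl⟩ := S.ρ.surjective r
  obtain ⟨t, rfl⟩ := hS r t
  exact ⟨_, S.σ_x r t⟩

theorem σ_mem_center_iff (S : Sym M.St) (hS : ∀ r, Function.Surjective (S.φ r)) {a : D.SteinbergGroup K} :
    S.σ a ∈ Subgroup.center (D.SteinbergGroup K) ↔ a ∈ Subgroup.center (D.SteinbergGroup K) := by
  simp only [Subgroup.mem_center_iff]
  refine ⟨fun h b => (S.central_of_σ (M.mem_St_grp a) (fun b _ => (h b).symm) b (M.mem_St_grp b)).symm,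
    fun h b => ?_⟩
  obtain ⟨b, rfl⟩ := M.σ_surjective S hS b
  rw [← map_mul, h, map_mul]

/-- The automorphism of the Chevalley group induced by a symmetry. -/
theorem exists_aut (S : Sym M.St) (hS : ∀ r, Function.Surjective (S.φ r)) :
    ∃ α : D.group K ≃* D.group K, (∀ a, α (M.θ' a) = M.θ' (S.σ a)) ∧
      ∀ (a : D.group K) (r : Fin D.nroots) (t : K), ((a : GL D.Idx K) : Matrix D.Idx D.Idx K) = D.x K r t →
        ((α a : GL D.Idx K) : Matrix D.Idx D.Idx K) = D.x K (S.ρ r) (S.φ r t) := by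
  have hk : M.θ'.ker = (M.θ'.comp S.σ).ker := by
    ext a
    rw [← MonoidHom.comap_ker, θ'_ker, Subgroup.mem_comap, M.σ_mem_center_iff S hS]
  let α : D.group K ≃* D.group K := (QuotientGroup.quotientKerEquivOfSurjective _ M.θ'_surjective).symm.trans
    ((QuotientGroup.quotientMulEquivOfEq hk).trans
      (QuotientGroup.quotientKerEquivOfSurjective _ (M.θ'_surjective.comp (M.σ_surjective S hS))))
  have h1 : ∀ a, α (M.θ' a) = M.θ' (S.σ a) := by
    intro a
    have : (QuotientGroup.quotientKerEquivOfSurjective _ M.θ'_surjective).symm (M.θ' a) = QuotientGroup.mk a := by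
      rw [MulEquiv.symm_apply_eq]; rfl
    simp only [α, MulEquiv.trans_apply, this]
    rfl
  refine ⟨α, h1, fun a r t h => ?_⟩
  have : a = M.θ' (M.St.x r t) := Subtype.ext (Units.ext (h.trans (M.coe_θ_gen r.2 t).symm))
  rw [this, h1, S.σ_x]
  exact M.coe_θ_gen (S.ρ r).2 _

end MatRG

/-- Root elements composed with a field homomorphism. -/
def Rel.field {K' : Type*} [Field K'] {G : Type*} [Group G] (Y : Rel D K' G) (f : K →+* K') : Rel D K G where
  x r t := Y.x r (f t)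
  x_add r hr t u := by rw [map_add, Y.x_add r hr]
  comm r s hr hs h1 h2 t u := by
    rw [Y.comm r s hr hs h1 h2]
    simp [ChevalleyDatum.commWord, Function.comp_def]

theorem exists_field_hom {K' : Type*} [Field K'] (g : Good D) (f : K →+* K') :
    ∃ σ : D.SteinbergGroup K →* D.SteinbergGroup K', ∀ r t, r < D.nroots → σ (D.stGen K r t) = D.stGen K' r (f t) := by
  have hh : ∀ (r : Fin D.nroots) t, (((stRel D K').field f).toWRG g).h r t = ((stRel D K').toWRG g).h r (f t) := by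
    intro r t; simp [WRG.h, WRG.n, Rel.field]
  refine ((stRel D K').field f).exists_st_hom g fun r t u ht hu => ?_
  rw [hh, hh, hh, st_h_mul _ _ _ _ ((map_ne_zero f).2 ht) ((map_ne_zero f).2 hu), map_mul]

/-- The field endomorphism of Steinberg's group. -/
noncomputable def MatRG.fieldSym (M : MatRG g K) (f : K →+* K) : Sym M.St where
  σ := (exists_field_hom g f).choose
  ρ := 1
  π := 1
  φ _ := f
  σ_x r t := (exists_field_hom g f).choose_spec r t r.2
  ρ_sim _ := rfl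
  ρ_neg _ := rfl
  ρ_pos _ := Iff.rfl
  φ_inj _ := f.injective
  φ_neg _ t := by simp

theorem MatRG.exists_graph_aut (M : MatRG g K) {h : HomD} (c : h.Chk D D) {πL : List ℕ} (c2 : h.Chk2 D πL)
    (hp : (h.p : K) = 0) (hf : ∀ r < D.nroots, Function.Surjective fun t : K => t ^ h.lam r) :
    ∃ α : D.group K ≃* D.group K, ∀ (a : D.group K) (i : ℕ) (t : K), i < D.rank →
      (((a : GL D.Idx K) : Matrix D.Idx D.Idx K) = D.x K (D.simple i) t →
        ((α a : GL D.Idx K) : Matrix D.Idx D.Idx K) = D.x K (D.simple (πL.getD i 0)) (t ^ h.lam (D.simple i))) ∧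
      (((a : GL D.Idx K) : Matrix D.Idx D.Idx K) = D.x K (D.neg (D.simple i)) t →
        ((α a : GL D.Idx K) : Matrix D.Idx D.Idx K) =
          D.x K (D.neg (D.simple (πL.getD i 0))) (t ^ h.lam (D.simple i))) := by
  obtain ⟨α, -, hα⟩ := M.exists_aut (M.sym c c2 hp (RingHom.id K)) (M.sym_φ_surjective c c2 hp _ hf)
  obtain ⟨h1, -⟩ := id c2
  refine ⟨α, fun a i t hi => ⟨fun h2 => ?_, fun h2 => ?_⟩⟩
  · rw [hα a ⟨_, g.simple_lt hi⟩ t h2, MatRG.sym_ρ, MatRG.sym_φ]
    simp [h1 i hi]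
  · rw [hα a ⟨_, g.neg_lt (g.simple_lt hi)⟩ t h2, MatRG.sym_ρ, MatRG.sym_φ]
    simp [h1 i hi, c.row (g.simple_lt hi)]

end H20
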