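import Mathlib
import Cfsg.Agent.H20.SymD
import Cfsg.Agent.H20.Poincare
import Cfsg.Agent.H19.Asm2

/-!
Tools for the twisted groups: orthogonal simple roots, fixed points in small unipotent groups, words,
certificates for the relative Weyl group.
-/

set_option autoImplicit false

namespace H20

open Finset
open scoped commutatorElement

section abstract

variable {ι Λ : Type} [LinearOrder ι] [Fintype Λ] [DecidableEq Λ]
  {R : RS ι Λ} {K : Type*} [Field K] {G : Type*} [Group G]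

theorem RS.not_cone_of_orth {i j : Λ} (hij : i ≠ j) (h : R.C i j = 0) {a b : ι}
    (ha : a = R.sim i ∨ a = R.neg (R.sim i)) (hb : b = R.sim j ∨ b = R.neg (R.sim j)) (k : ι) : ¬R.Cone a b k := by
  rintro ⟨p, q, hp, hq, hk⟩
  have key : ∀ k, R.rt k i * R.rt k j < 0 → False := by
    intro k h
    rcases mul_neg_iff.1 h with h | h
    · exact R.not_pos_of_coeff_neg h.2 (R.pos_of_coeff_pos h.1)
    · exact R.not_pos_of_coeff_neg h.1 (R.pos_of_coeff_pos h.2)
  have h1 := key k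
  have h2 := key (R.sr i k)
  have h3 := R.ca_eq_cav i k
  have hpq : (0 : ℤ) < p * q := by positivity
  rw [hk, R.cav_add, R.cav_smul, R.cav_smul] at h3
  rw [R.rt_sr, h3] at h2
  rcases ha with rfl | rfl <;> rcases hb with rfl | rfl <;>
    simp [hk, R.rt_neg, R.rt_sim, R.cav_neg, R.cav_single, h, R.C_diag, hij, hij.symm,
      -mul_nonneg_iff_of_pos_left, -smul_neg] at h1 h2 <;> nlinarith

/-- the rank one subgroups of `r` and `s` commute -/
def WRG.Orth (X : WRG R K G) (r s : ι) : Prop :=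
  ∀ a ∈ X.XS {r, R.neg r}, ∀ b ∈ X.XS {s, R.neg s}, Commute a b

theorem WRG.orth_sim (X : WRG R K G) {i j : Λ} (hij : i ≠ j) (h : R.C i j = 0) : X.Orth (R.sim i) (R.sim j) := by
  refine X.XS_induction (fun b _ => Commute.one_left b) fun r hr t a _ ih b hb => Commute.mul_left ?_ (ih b hb)
  refine X.XS_induction (Commute.one_right _) (fun s hs u b _ ih => Commute.mul_right ?_ ih) b hb
  refine X.commute_of_no_cone ?_ (RS.not_cone_of_orth hij h hr hs) t u
  rintro rfl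
  have h1 := RS.neg_mem_Phi.1 (RS.mem_Phi_singleton.2 hs)
  rcases hr with rfl | rfl
  · exact hij (RS.sim_mem_Phi (J := {j}).1 h1)
  · exact hij (RS.sim_mem_Phi (J := {j}).1 (RS.neg_mem_Phi.1 h1))

namespace WRG.Orth

variable {X : WRG R K G} {r s : ι} (h : X.Orth r s)

include h

theorem xx (t u : K) : Commute (X.x r t) (X.x s u) := h _ (X.x_mem_XS (by simp) _) _ (X.x_mem_XS (by simp) _)
theorem xy (t u : K) : Commute (X.x r t) (X.x (R.neg s) u) :=
  h _ (X.x_mem_XS (by simp) _) _ (X.x_mem_XS (by simp) _)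
theorem yx (t u : K) : Commute (X.x (R.neg r) t) (X.x s u) :=
  h _ (X.x_mem_XS (by simp) _) _ (X.x_mem_XS (by simp) _)
theorem yy (t u : K) : Commute (X.x (R.neg r) t) (X.x (R.neg s) u) :=
  h _ (X.x_mem_XS (by simp) _) _ (X.x_mem_XS (by simp) _)
theorem nn (t u : K) : Commute (X.n r t) (X.n s u) :=
  h _ (X.n_mem_XS (by simp) (by simp) _) _ (X.n_mem_XS (by simp) (by simp) _)

theorem n_mul_n (t u : K) : X.n r t * X.n s u =
    (X.x r t * X.x s u) * (X.x (R.neg r) (-t⁻¹) * X.x (R.neg s) (-u⁻¹)) * (X.x r t * X.x s u) := by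
  simp only [WRG.n, mul_assoc]
  rw [(h.xx t u).left_comm, (h.yx _ u).left_comm, (h.xy t _).left_comm]

theorem h_mul_h (t u : K) : X.h r t * X.h s u = (X.n r t * X.n s u) * (X.n r (-1) * X.n s (-1)) := by
  simp only [WRG.h, mul_assoc]
  rw [(h.nn (-1) u).left_comm]

end WRG.Orth

theorem WRG.Orth.n3 {X : WRG R K G} {r s k : ι} (h1 : X.Orth r s) (h2 : X.Orth r k) (h3 : X.Orth s k) (t u v : K) :
    X.n r t * X.n s u * X.n k v = (X.x r t * X.x s u * X.x k v) *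
      (X.x (R.neg r) (-t⁻¹) * X.x (R.neg s) (-u⁻¹) * X.x (R.neg k) (-v⁻¹)) * (X.x r t * X.x s u * X.x k v) := by
  rw [h1.n_mul_n]
  simp only [WRG.n, mul_assoc]
  rw [(h3.xx u v).left_comm, (h2.xx t v).left_comm, (h3.yx _ v).left_comm, (h2.yx _ v).left_comm,
    (h3.xy u _).left_comm, (h2.xy t _).left_comm]

theorem WRG.Orth.h3 {X : WRG R K G} {r s k : ι} (h1 : X.Orth r s) (h2 : X.Orth r k) (h3 : X.Orth s k) (t u v : K) :
    X.h r t * X.h s u * X.h k v =
      (X.n r t * X.n s u * X.n k v) * (X.n r (-1) * X.n s (-1) * X.n k (-1)) := by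
  rw [h1.h_mul_h]
  simp only [WRG.h, mul_assoc]
  rw [(h3.nn (-1) v).left_comm, (h2.nn (-1) v).left_comm]

variable [Fintype ι]

theorem RG.not_mem_Uj (X : RG R K G) {j : Λ} {a b : G} (ha : a ∈ X.XS {r | R.Pos r ∧ r ≠ R.sim j})
    (hb : b ∈ X.XS {r | R.Pos r ∧ r ≠ R.sim j}) {t : K} (ht : t ≠ 0) :
    a * X.x (R.sim j) t * b ∉ X.XS {r | R.Pos r ∧ r ≠ R.sim j} := by
  intro h
  rw [mul_mem_cancel_right hb, mul_mem_cancel_left ha] at h
  have hc : R.Closed {r | R.Pos r ∧ r ≠ R.sim j} := H19.pos_ne_sim_eq R j ▸ RS.closed_pos_not_Phi {j}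
  exact (X.mem_of_x_mem_XS X.nd1 hc (fun r hr => hr.1) (R.pos_sim j) ht h).2 rfl

theorem RG.P_injective_neg (X : RG R K G) {L : List ι} (hL : L.Nodup) (hneg : ∀ r ∈ L, ¬R.Pos r) {t t' : ι → K}
    (h : X.P L t = X.P L t') : ∀ r ∈ L, t r = t' r := by
  have key : ∀ t, (X.toWRG.comap _ (R.w0_mem_W Set.univ)).P (L.map (R.w0 Set.univ))
      (fun r => t (R.w0 Set.univ r)) = X.P L t := by
    intro t; simp [WRG.P, WRG.comap, Function.comp_def, RS.w0_w0]
  rw [← key, ← key] at h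
  have := WRG.P_injective _ (X.nd_comap _) R.closed_pos (fun _ h => h) (hL.map (R.w0 Set.univ).injective) (by
    intro r hr
    obtain ⟨k, hk, rfl⟩ := List.mem_map.1 hr
    exact RS.pos_w0_univ_iff.2 (hneg k hk)) h
  intro r hr
  simpa [RS.w0_w0] using this _ (List.mem_map_of_mem hr)

theorem Sym.coord_of_mem_C {X : RG R K G} (S : Sym X) {L : List ι} (hL : L.Nodup) (hpos : ∀ r ∈ L, R.Pos r)
    (hcomm : ∀ r ∈ L, ∀ s ∈ L, ∀ t u, Commute (X.x r t) (X.x s u)) (hρ : (L.map S.ρ).Perm L) {t : ι → K}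
    (h : X.P L t ∈ S.C) : ∀ r ∈ L, t (S.ρ r) = S.φ r (t r) := by
  have h1 := (S.mem_C.1 h).1
  rw [S.σ_P, WRG.P, ((hρ.symm.map _).prod_eq' (by
    rw [List.pairwise_map]
    exact List.pairwise_of_forall_mem_list fun r hr s hs => hcomm r hr s hs _ _)).symm] at h1
  have h2 := X.P_injective X.nd1 R.closed_pos (fun _ h => h) hL hpos h1
  intro r hr
  simpa using (h2 _ (hρ.mem_iff.1 (List.mem_map_of_mem hr))).symm

theorem card_of_param {T : Type*} {M : Subgroup G} (F : T → G) (hF : Function.Injective F)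
    (h : ∀ a, a ∈ M ↔ ∃ t, a = F t) : Nat.card M = Nat.card T :=
  (Nat.card_congr (Equiv.ofBijective (fun t => (⟨F t, (h _).2 ⟨t, rfl⟩⟩ : M))
    ⟨fun _ _ e => hF (congrArg Subtype.val e), fun a => by
      obtain ⟨t, ht⟩ := (h a).1 a.2
      exact ⟨t, Subtype.ext ht.symm⟩⟩)).symm

theorem Tw.card_U {X : RG R K G} {Γ : Subgroup G} {I : Type} (T : Tw X Γ I) {A : Type*} [Semiring A] {y : A}
    (hy : ∀ i, (Nat.card ↥(X.XS {r | R.Pos r ∧ r ∈ R.Phi (T.J i)} ⊓ Γ) : A) = y ^ R.len (R.w0 (T.J i))) :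
    (Nat.card ↥(X.U ⊓ Γ) : A) = y ^ (univ.filter R.Pos).card := by
  have := T.card_Uw_eq_pow (y := y) (by simpa only [RS.inv_w0] using hy) (T.w0_mem_W1 T.sat_univ)
  rw [RS.inv_w0_univ] at this
  rw [WRG.U, this, RS.len]
  congr 2
  ext r; simp [RS.mem_inv_w0, RS.Phi_univ]

theorem Tw.card_eq_poin {X : RG R K G} {Γ : Subgroup G} {I : Type} (T : Tw X Γ I) {A : Type*} [CommSemiring A]
    {y : A}
    (hy : ∀ i, (Nat.card ↥(X.XS {r | R.Pos r ∧ r ∈ R.Phi (T.J i)} ⊓ Γ) : A) = y ^ R.len (R.w0 (T.J i))) :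
    (Nat.card Γ : A) = y ^ (univ.filter R.Pos).card * Nat.card ↥(X.H ⊓ Γ) * R.poin T.W1 Set.univ y := by
  classical
  rw [T.card_eq, Nat.cast_mul, Nat.cast_mul, T.card_U hy, ← RS.sum_eq_poin _ T.W1_le_W, Nat.cast_sum]
  congr 1
  exact sum_congr rfl fun w hw =>
    T.card_Uw_eq_pow (y := y) (by simpa only [RS.inv_w0] using hy) (mem_filter.1 hw).2

theorem Tw.exists_coxeter {X : RG R K G} {Γ : Subgroup G} {I : Type} (T : Tw X Γ I) (M : CoxeterMatrix I)
    (hM : ∀ i j, M i j = orderOf (R.w0 (T.J i) * R.w0 (T.J j))) : Nonempty (T.W1 ≃* M.Group) :=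
  ⟨(RS.exists_coxeter_equiv T.W1_le_W T.J T.w0J_mem T.J_nonempty T.w0J_injective T.W1_eq_closure.le
    (fun _ hw i => T.dich' hw i) M hM).choose⟩

theorem Tw.exists_hom {X : RG R K G} {Γ : Subgroup G} {I : Type} (T : Tw X Γ I) {W : Type*} [Group W]
    (e : T.W1 ≃* W) : ∃ φ : ↥(X.N ⊓ Γ) →* W, Function.Surjective φ ∧ φ.ker = (X.H ⊓ Γ).subgroupOf (X.N ⊓ Γ) := by
  refine ⟨e.toMonoidHom.comp T.piN1, e.surjective.comp T.piN1_surjective, ?_⟩
  rw [← T.piN1_ker]; ext a; simp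

end abstract

theorem card_units_pow_eq_one {K : Type*} [Field K] [Finite K] {d : ℕ} (hd : d ∣ Nat.card K - 1) :
    Nat.card {c : Kˣ // c ^ d = 1} = d := by
  have := IsCyclic.card_powMonoidHom_ker (G := Kˣ) d
  rw [Nat.card_units, Nat.gcd_eq_right hd] at this
  exact this

theorem card_units_fixed {K : Type*} [Field K] [Finite K] {q k : ℕ} (hq : 1 ≤ q) (hK : Nat.card K = q ^ k) :
    Nat.card {c : Kˣ // c ^ q = c} = q - 1 := by
  rw [← card_units_pow_eq_one (K := K) (d := q - 1) (hK ▸ Nat.sub_one_dvd_pow_sub_one q k)]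
  refine Nat.card_congr (Equiv.subtypeEquivRight fun c => ?_)
  conv_lhs => rw [show q = q - 1 + 1 by omega, pow_succ, mul_eq_right]

theorem card_fixed {K : Type*} [Field K] [Finite K] {q k : ℕ} (hq : 1 ≤ q) (hK : Nat.card K = q ^ k) :
    Nat.card {c : K // c ^ q = c} = q := by
  classical
  have e : {c : K // c ^ q = c} ≃ Option {c : Kˣ // c ^ q = c} :=
    { toFun := fun c => if h : c.1 = 0 then none else some ⟨Units.mk0 c.1 h, Units.ext (by simpa using c.2)⟩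
      invFun := fun c => c.elim ⟨0, zero_pow (by omega)⟩ fun c => ⟨c.1, by simpa using congrArg Units.val c.2⟩
      left_inv := fun c => by
        by_cases h : c.1 = 0
        · simp only [h, dite_true]; exact Subtype.ext h.symm
        · simp [h]
      right_inv := fun c => by cases c <;> simp }
  rw [Nat.card_congr e, Finite.card_option, card_units_fixed hq hK]
  omega

theorem exists_frob {K : Type*} [Field K] [Fintype K] {q k : ℕ} (hq : IsPrimePow q) (hK : Fintype.card K = q ^ k) :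
    ∃ f : K →+* K, ∀ t, f t = t ^ q := by
  obtain ⟨p, n, hp, hn, rfl⟩ := hq
  have hp' := hp.nat_prime
  obtain ⟨p', hc, m, hp'', hm⟩ := FiniteField.card' K
  have : p' = p := by
    have h1 : p' ∣ (p ^ n) ^ k := by rw [← hK, hm]; exact dvd_pow_self _ m.ne_zero
    exact (Nat.prime_dvd_prime_iff_eq hp'' hp').1 (hp''.dvd_of_dvd_pow (hp''.dvd_of_dvd_pow h1))
  subst this
  have := Fact.mk hp'
  exact ⟨iterateFrobenius K p' n, fun t => rfl⟩

open Cfsg.Lie

variable {D : ChevalleyDatum} {K : Type*} [Field K] {g : Good D}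

variable (D) in
/-- a word in the generators of Steinberg's group -/
def stw (w : List (ℕ × K)) : D.SteinbergGroup K := (w.map fun p => D.stGen K p.1 p.2).prod

variable (D) in
/-- the subgroup of Steinberg's group generated by a set of words -/
def stSub (W : Set (List (ℕ × K))) : Subgroup (D.SteinbergGroup K) := Subgroup.closure (stw D '' W)

theorem stw_mem {W : Set (List (ℕ × K))} {w : List (ℕ × K)} (h : w ∈ W) : stw D w ∈ stSub D W :=
  Subgroup.subset_closure ⟨w, h, rfl⟩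

theorem stSub_le {W : Set (List (ℕ × K))} {M : Subgroup (D.SteinbergGroup K)} (h : ∀ w ∈ W, stw D w ∈ M) :
    stSub D W ≤ M := by
  rw [stSub, Subgroup.closure_le]; rintro _ ⟨w, hw, rfl⟩; exact h w hw

variable (D) in
/-- a set of roots given by a list of indices -/
def LS (L : List ℕ) : Set (Fin D.nroots) := {r | (r : ℕ) ∈ L}

namespace MatRG

variable (M : MatRG g K)

theorem coe_θ_stw (w : List (ℕ × K)) : (M.θ (stw D w) : Matrix D.Idx D.Idx K) = D.wordMat K w := by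
  induction w with
  | nil => simp [stw, ChevalleyDatum.wordMat]
  | cons p w ih =>
    simp only [stw, ChevalleyDatum.wordMat, List.map_cons, List.prod_cons, map_mul, Units.val_mul] at ih ⊢
    rw [ih]
    congr 1
    by_cases h : p.1 < D.nroots
    · exact M.coe_θ_gen h _
    · simp [ChevalleyDatum.stGen, ChevalleyDatum.stX, ChevalleyDatum.x, h]

theorem map_stSub (W : Set (List (ℕ × K))) : (stSub D W).map M.θ = D.genSubgroup K W := by
  rw [stSub, MonoidHom.map_closure, ChevalleyDatum.genSubgroup]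
  congr 1
  ext a
  constructor
  · rintro ⟨_, ⟨w, hw, rfl⟩, rfl⟩; exact ⟨w, hw, M.coe_θ_stw w⟩
  · rintro ⟨w, hw, h⟩; exact ⟨_, ⟨w, hw, rfl⟩, Units.ext ((M.coe_θ_stw w).trans h.symm)⟩

theorem gen_mem_XS {p : ℕ → Prop} {r : ℕ} (hr : p r) (t : K) : D.stGen K r t ∈ M.St.XS {r | p r} := by
  by_cases h : r < D.nroots
  · exact M.St.x_mem_XS (r := ⟨r, h⟩) hr t
  · simp [ChevalleyDatum.stGen, ChevalleyDatum.stX, h]

theorem stw_mem_XS {p : ℕ → Prop} {w : List (ℕ × K)} (hw : ∀ r ∈ w.map Prod.fst, p r) :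
    stw D w ∈ M.St.XS {r | p r} := by
  refine list_prod_mem fun a ha => ?_
  obtain ⟨e, he, rfl⟩ := List.mem_map.1 ha
  exact M.gen_mem_XS (hw _ (List.mem_map_of_mem he)) _

theorem St_U : M.St.U = M.St.XS {r | D.IsPosRoot r} := by simp only [g.isPosRoot_iff]; rfl

theorem St_V : M.St.V = M.St.XS {r | D.IsNegRoot r} := by simp only [g.isNegRoot_iff]; rfl

theorem stw_mem_U {w : List (ℕ × K)} (hw : ∀ r ∈ w.map Prod.fst, D.IsPosRoot r) : stw D w ∈ M.St.U :=
  M.St_U ▸ M.stw_mem_XS hw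

theorem stw_mem_V {w : List (ℕ × K)} (hw : ∀ r ∈ w.map Prod.fst, D.IsNegRoot r) : stw D w ∈ M.St.V :=
  M.St_V ▸ M.stw_mem_XS hw

theorem stSub_le_sup {W : Set (List (ℕ × K))}
    (h : ∀ w ∈ W, (∀ r ∈ w.map Prod.fst, D.IsPosRoot r) ∨ ∀ r ∈ w.map Prod.fst, D.IsNegRoot r) :
    stSub D W ≤ (M.St.U ⊓ stSub D W) ⊔ (M.St.V ⊓ stSub D W) :=
  stSub_le fun w hw => (h w hw).elim (fun h => Subgroup.mem_sup_left ⟨M.stw_mem_U h, stw_mem hw⟩)
    fun h => Subgroup.mem_sup_right ⟨M.stw_mem_V h, stw_mem hw⟩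

theorem stw_not_mem_Uj {j : Fin D.rank} (w₁ w₂ : List (ℕ × K)) {t : K} (ht : t ≠ 0)
    (h : ∀ r ∈ (w₁ ++ w₂).map Prod.fst, D.IsPosRoot r ∧ r ≠ D.simple j) :
    stw D (w₁ ++ (D.simple j, t) :: w₂) ∉ M.St.XS {r | g.rs.Pos r ∧ r ≠ g.rs.sim j} := by
  have e : {r | g.rs.Pos r ∧ r ≠ g.rs.sim j} = {r : Fin D.nroots | D.IsPosRoot r ∧ (r : ℕ) ≠ D.simple j} := by
    ext r; simp [g.isPosRoot_iff, Fin.ext_iff]
  have h1 := M.stw_mem_XS (w := w₁) (p := fun r => D.IsPosRoot r ∧ r ≠ D.simple j)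
    fun r hr => h r (by simp only [List.map_append, List.mem_append]; exact Or.inl hr)
  have h2 := M.stw_mem_XS (w := w₂) (p := fun r => D.IsPosRoot r ∧ r ≠ D.simple j)
    fun r hr => h r (by simp only [List.map_append, List.mem_append]; exact Or.inr hr)
  rw [← e] at h1 h2
  simpa [stw, mul_assoc, St_x] using M.St.not_mem_Uj h1 h2 ht

theorem P_pmap {L : List ℕ} (h : ∀ r ∈ L, r < D.nroots) (t : ℕ → K) :
    M.St.P (L.pmap Fin.mk h) (fun r => t r) = stw D (L.map fun r => (r, t r)) := by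
  induction L with
  | nil => rfl
  | cons r L ih => rw [List.pmap_cons, WRG.P_cons, ih]; simp [stw, St_x]

omit M in
theorem mem_pmap {L : List ℕ} (h : ∀ r ∈ L, r < D.nroots) (r : Fin D.nroots) :
    r ∈ L.pmap Fin.mk h ↔ (r : ℕ) ∈ L := by simp [List.mem_pmap, Fin.ext_iff]

omit M in
theorem nodup_pmap {L : List ℕ} (hL : L.Nodup) (h : ∀ r ∈ L, r < D.nroots) : (L.pmap Fin.mk h).Nodup :=
  hL.pmap fun _ _ _ _ h => congrArg Fin.val h

/-- Normal form in terms of words. -/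
theorem exists_stw {L : List ℕ} (hL : L.Nodup) (hc : g.rs.Closed (LS D L)) (hpos : ∀ r ∈ L, D.IsPosRoot r)
    {a : D.SteinbergGroup K} (ha : a ∈ M.St.XS (LS D L)) : ∃ t : ℕ → K, a = stw D (L.map fun r => (r, t r)) := by
  obtain ⟨t, rfl⟩ := M.St.exists_P hc (fun r hr => (g.isPosRoot_iff r).1 (hpos r hr))
    (nodup_pmap hL fun r hr => (hpos r hr).1) (mem_pmap _) ha
  refine ⟨fun r => if h : r < D.nroots then t ⟨r, h⟩ else 0, ?_⟩
  rw [← M.P_pmap fun r hr => (hpos r hr).1]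
  simp

include M in
theorem stw_inj {L : List ℕ} (hL : L.Nodup) (hpos : ∀ r ∈ L, D.IsPosRoot r) {t t' : ℕ → K}
    (h : stw D (L.map fun r => (r, t r)) = stw D (L.map fun r => (r, t' r))) : ∀ r ∈ L, t r = t' r := by
  rw [← M.P_pmap fun r hr => (hpos r hr).1, ← M.P_pmap fun r hr => (hpos r hr).1] at h
  exact fun r hr => M.St.P_injective M.St.nd1 g.rs.closed_pos (fun _ h => h) (nodup_pmap hL _)
    (fun r hr => (g.isPosRoot_iff r).1 (hpos r ((mem_pmap _ r).1 hr))) h ⟨r, (hpos r hr).1⟩ ((mem_pmap _ _).2 hr)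

theorem stw_coord {h : HomD} (c : h.Chk D D) {πL : List ℕ} (c2 : h.Chk2 D πL) (hp : (h.p : K) = 0) (f : K →+* K)
    {L : List ℕ} (hL : L.Nodup) (hpos : ∀ r ∈ L, D.IsPosRoot r)
    (hcomm : ∀ r ∈ L, ∀ s ∈ L, h.commB (H19.recOf D) r s = true) (hρ : (L.map h.ρ).Perm L) {t : ℕ → K}
    (hC : stw D (L.map fun r => (r, t r)) ∈ (M.sym c c2 hp f).C) :
    ∀ r ∈ L, t (h.ρ r) = h.γ r * f (t r) ^ h.lam r := by
  rw [← M.P_pmap fun r hr => (hpos r hr).1] at hC
  have := (M.sym c c2 hp f).coord_of_mem_C (nodup_pmap hL _)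
    (fun r hr => (g.isPosRoot_iff r).1 (hpos r ((mem_pmap _ r).1 hr)))
    (fun r hr s hs t u => (stRel D K).commute_of_commB g hp r.2 s.2
      (hcomm r ((mem_pmap _ r).1 hr) s ((mem_pmap _ s).1 hs)) t u)
    (by
      refine (List.perm_ext_iff_of_nodup ((nodup_pmap hL _).map (M.sym c c2 hp f).ρ.injective)
        (nodup_pmap hL _)).2 fun r => ?_
      rw [mem_pmap, ← hρ.mem_iff, List.mem_map, List.mem_map]
      constructor
      · rintro ⟨s, hs, rfl⟩; exact ⟨s, (mem_pmap _ s).1 hs, rfl⟩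
      · rintro ⟨s, hs, e⟩; exact ⟨⟨s, (hpos s hs).1⟩, (mem_pmap _ _).2 hs, Fin.ext e⟩) hC
  exact fun r hr => this ⟨r, (hpos r hr).1⟩ ((mem_pmap _ _).2 hr)

theorem σ_stw {h : HomD} (c : h.Chk D D) {πL : List ℕ} (c2 : h.Chk2 D πL) (hp : (h.p : K) = 0) (f : K →+* K)
    {w : List (ℕ × K)} (hw : ∀ r ∈ w.map Prod.fst, r < D.nroots) :
    (M.sym c c2 hp f).σ (stw D w) = stw D (w.map fun p => (h.ρ p.1, h.γ p.1 * f p.2 ^ h.lam p.1)) := by
  rw [stw, map_list_prod, stw, List.map_map, List.map_map]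
  exact congrArg _ (List.map_congr_left fun p hp' => M.sym_gen c c2 hp f (hw _ (List.mem_map_of_mem hp')) _)

theorem mem_C_iff (S : Sym M.St) {a : D.SteinbergGroup K} : a ∈ S.C ↔ S.σ a = a :=
  ⟨fun h => h.1, fun h => ⟨h, M.mem_St_grp a⟩⟩

end MatRG

/-- the list `L` consists of the positive roots supported in `J` -/
def posChk (a : Aux) (n : ℕ) (J L : List ℕ) : Prop :=
  L.Nodup ∧ (∀ r ∈ L, r < n) ∧ ∀ r < n, ((a.row r).all (fun c => decide (0 ≤ c)) &&
      (a.row r).zipIdx.all fun p => p.1 == 0 || J.contains p.2) = L.contains r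

instance instDecPosChk (a : Aux) (n : ℕ) (J L : List ℕ) : Decidable (posChk a n J L) := by
  unfold posChk; infer_instance

theorem Good.posPhi_eq (g : Good D) {J L : List ℕ} (h : posChk g.aux D.nroots J L) :
    {r | g.rs.Pos r ∧ r ∈ g.rs.Phi (Good.JS D J)} = LS D L := by
  ext r
  rw [Set.mem_ofPred_eq, g.pos_Phi_iff, h.2.2 r r.2]
  simp [LS]

theorem Good.closed_LS (g : Good D) {J L : List ℕ} (h : posChk g.aux D.nroots J L) : g.rs.Closed (LS D L) :=
  g.posPhi_eq h ▸ g.rs.closed_pos.inter (RS.closed_Phi _)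

theorem Good.pos_of_posChk (g : Good D) {J L : List ℕ} (h : posChk g.aux D.nroots J L) :
    ∀ r ∈ L, D.IsPosRoot r := fun r hr =>
  (g.isPosRoot_iff ⟨r, h.2.1 r hr⟩).2 ((g.posPhi_eq h).ge (show _ ∈ LS D L from hr)).1

theorem Good.negPhi_eq (g : Good D) {J L : List ℕ} (h : posChk g.aux D.nroots J L) :
    {r | ¬g.rs.Pos r ∧ r ∈ g.rs.Phi (Good.JS D J)} = {r : Fin D.nroots | D.neg r ∈ L} := by
  ext r
  rw [Set.mem_ofPred_eq, ← RS.pos_neg_iff, ← RS.neg_mem_Phi]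
  exact Set.ext_iff.1 (g.posPhi_eq h) (g.rs.neg r)

theorem Good.len_w0 (g : Good D) {J L : List ℕ} (h : posChk g.aux D.nroots J L) :
    g.rs.len (g.rs.w0 (Good.JS D J)) = L.length := by
  have h1 := RS.inv_w0 (R := g.rs) (Good.JS D J)
  rw [g.posPhi_eq h] at h1
  rw [RS.len, ← List.toFinset_card_of_nodup h.1]
  refine card_bij (fun r _ => (r : ℕ)) (fun r hr => ?_) (fun _ _ _ _ h => Fin.ext h) fun r hr => ?_
  · rw [← mem_coe, h1] at hr; exact List.mem_toFinset.2 hr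
  · rw [List.mem_toFinset] at hr
    exact ⟨⟨r, h.2.1 r hr⟩, by rw [← mem_coe, h1]; exact hr, rfl⟩

/-- the lists `J i` are the orbits of the permutation of the simple roots -/
def orbitChk (a : Aux) (n l k : ℕ) (JL PL : List (List ℕ)) (πL : List ℕ) : Prop :=
  (∀ i < k, ∀ i' < k, i = i' ∨ ∃ j < l, ¬(j ∈ JL.getD i [] ↔ j ∈ JL.getD i' [])) ∧
  (∀ i < k, ∃ j < l, j ∈ JL.getD i []) ∧ (∀ j < l, ∃ i < k, j ∈ JL.getD i []) ∧
  (∀ i < k, ∀ j ∈ JL.getD i [], ∀ j' ∈ JL.getD i [], ∃ m < 3, (fun x => πL.getD x 0)^[m] j = j') ∧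
  ∀ i < k, posChk a n (JL.getD i []) (PL.getD i [])

instance instDecOrbitChk (a : Aux) (n l k : ℕ) (JL PL : List (List ℕ)) (πL : List ℕ) :
    Decidable (orbitChk a n l k JL PL πL) := by
  unfold orbitChk
  exact @instDecidableAnd _ _ inferInstance (@instDecidableAnd _ _ inferInstance
    (@instDecidableAnd _ _ inferInstance (@instDecidableAnd _ _ inferInstance inferInstance)))

theorem map_fst_eq {w : List (ℕ × K)} (hw : (w.map Prod.fst).Nodup) :
    ∃ t : ℕ → K, w = (w.map Prod.fst).map (fun r => (r, t r)) := by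
  induction w with
  | nil => exact ⟨0, rfl⟩
  | cons p w ih =>
    rw [List.map_cons, List.nodup_cons] at hw
    obtain ⟨t, ht⟩ := ih hw.2
    refine ⟨Function.update t p.1 p.2, ?_⟩
    rw [List.map_cons, List.map_cons, Function.update_self]
    congr 1
    rw [ht, List.map_map, List.map_map, List.map_map]
    refine List.map_congr_left fun r hr => ?_
    simp only [Function.comp_apply]
    rw [Function.update_of_ne]
    rintro e
    exact hw.1 (e ▸ List.mem_map_of_mem hr)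

/-- The twisted subgroup of Steinberg's group. -/
def MatRG.gen (M : MatRG g K) {h : HomD} (c : h.Chk D D) {πL : List ℕ} (c2 : h.Chk2 D πL) (hp : (h.p : K) = 0)
    (f : K →+* K) {k : ℕ} {JL PL : List (List ℕ)} (ho : orbitChk g.aux D.nroots D.rank k JL PL πL)
    {W : Set (List (ℕ × K))} (le : ∀ w ∈ W, (M.sym c c2 hp f).σ (stw D w) = stw D w)
    (pos : ∀ i < k, ∀ t : ℕ → K, stw D ((PL.getD i []).map fun r => (r, t r)) ∈ (M.sym c c2 hp f).C →
      stw D ((PL.getD i []).map fun r => (r, t r)) ∈ stSub D W)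
    (neg : ∀ i < k, ∃ w ∈ W, w.map Prod.fst = (PL.getD i []).map D.neg ∧ ∃ p ∈ w, p.2 ≠ 0)
    (coord : ∀ i < k, ∃ w ∈ W, w.map Prod.fst = PL.getD i [] ∧
      ∀ j ∈ JL.getD i [], ∀ p ∈ w, p.1 = D.simple j → p.2 ≠ 0) :
    (M.sym c c2 hp f).Gen (stSub D W) (Fin k) where
  J i := Good.JS D (JL.getD i [])
  J_inj i i' e := Fin.ext ((ho.1 i i.2 i' i'.2).resolve_right fun ⟨j, hj, h⟩ => h (Set.ext_iff.1 e ⟨j, hj⟩))
  J_nonempty i := by
    obtain ⟨j, hj, h⟩ := ho.2.1 i i.2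
    exact ⟨⟨j, hj⟩, h⟩
  cover j := by
    obtain ⟨i, hi, h⟩ := ho.2.2.1 j j.2
    exact ⟨⟨i, hi⟩, h⟩
  orb i j hj j' hj' := by
    obtain ⟨m, -, hm⟩ := ho.2.2.2.1 i i.2 j hj j' hj'
    refine ⟨m, Fin.ext (Eq.trans ?_ hm)⟩
    clear hm
    induction m with
    | zero => rfl
    | succ m ih => rw [pow_succ', Equiv.Perm.mul_apply, M.sym_π, ih, Function.iterate_succ_apply']
  le := stSub_le fun w hw => (M.mem_C_iff _).2 (le w hw)
  pos i a ha := by
    have h1 := ho.2.2.2.2 i i.2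
    rw [g.posPhi_eq h1] at ha
    obtain ⟨t, rfl⟩ := M.exists_stw h1.1 (g.closed_LS h1) (g.pos_of_posChk h1) ha.1
    exact pos i i.2 t ha.2
  neg i := by
    have h1 := ho.2.2.2.2 i i.2
    obtain ⟨w, hw, h2, p, hp, h3⟩ := neg i i.2
    have h4 : ∀ r ∈ w.map Prod.fst, r < D.nroots ∧ D.neg r ∈ PL.getD i [] := by
      intro r hr
      obtain ⟨s, hs, rfl⟩ := List.mem_map.1 (h2 ▸ hr)
      have : D.neg (D.neg s) = s := congrArg Fin.val (g.rs.neg_neg ⟨s, h1.2.1 s hs⟩)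
      exact ⟨g.neg_lt (h1.2.1 s hs), by rwa [this]⟩
    refine ⟨stw D w, stw_mem hw, g.negPhi_eq h1 ▸ M.stw_mem_XS (p := fun r => D.neg r ∈ PL.getD i [])
      fun r hr => (h4 r hr).2, fun e => h3 ?_⟩
    have h5 : (w.map Prod.fst).Nodup := by
      rw [h2]
      exact h1.1.map_on fun a ha b hb e => congrArg Fin.val
        (g.rs.neg_injective (a₁ := ⟨a, h1.2.1 a ha⟩) (a₂ := ⟨b, h1.2.1 b hb⟩) (Fin.ext e))
    obtain ⟨t, ht⟩ := map_fst_eq h5
    rw [ht, ← M.P_pmap fun r hr => (h4 r hr).1, ← M.St.P_zero] at e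
    have := M.St.P_injective_neg (MatRG.nodup_pmap h5 _) (fun r hr =>
      ((g.negPhi_eq h1).ge (h4 r ((MatRG.mem_pmap _ r).1 hr)).2).1) e
      ⟨p.1, (h4 _ (List.mem_map_of_mem hp)).1⟩ ((MatRG.mem_pmap _ _).2 (List.mem_map_of_mem hp))
    rw [ht] at hp
    obtain ⟨r, -, rfl⟩ := List.mem_map.1 hp
    exact this
  coord i j hj := by
    have h1 := ho.2.2.2.2 i i.2
    obtain ⟨w, hw, h2, h3⟩ := coord i i.2
    refine ⟨stw D w, stw_mem hw, g.posPhi_eq h1 ▸ M.stw_mem_XS (p := (· ∈ PL.getD i [])) (by simp [h2]), ?_⟩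
    have h4 : D.simple j ∈ w.map Prod.fst :=
      h2 ▸ (g.posPhi_eq h1).le ⟨g.rs.pos_sim j, RS.sim_mem_Phi.2 hj⟩
    obtain ⟨⟨r, t⟩, hp, rfl⟩ := List.mem_map.1 h4
    obtain ⟨w₁, w₂, rfl⟩ := List.append_of_mem hp
    refine M.stw_not_mem_Uj w₁ w₂ (h3 j hj _ hp rfl) fun r hr => ?_
    have h5 := h2 ▸ h1.1
    simp only [List.map_append, List.map_cons, List.nodup_append, List.nodup_cons, List.mem_append,
      List.mem_cons] at h5 hr
    refine ⟨g.pos_of_posChk h1 r ?_, ?_⟩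
    · rw [← h2]
      simp only [List.map_append, List.map_cons, List.mem_append, List.mem_cons]
      tauto
    rintro rfl
    rcases hr with hr | hr
    · exact h5.2.2 _ hr _ (Or.inl rfl) rfl
    · exact h5.2.1.1 hr

/-- the words `ω i` are the longest elements of the parabolic subgroups `W_{J i}` -/
def w0Chk (a : Aux) (l k : ℕ) (JL ωL : List (List ℕ)) : Prop :=
  ∀ i < k, (∀ j ∈ ωL.getD i [], j ∈ JL.getD i []) ∧
    ∀ j ∈ JL.getD i [], j < l ∧ (wordL a.CL (ωL.getD i []) (List.replicate l 1)).getD j 0 < 0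

instance instDecW0Chk (a : Aux) (l k : ℕ) (JL ωL : List (List ℕ)) : Decidable (w0Chk a l k JL ωL) := by
  unfold w0Chk; infer_instance

theorem Good.w0_eq_wN (g : Good D) {k : ℕ} {JL ωL : List (List ℕ)} (h : w0Chk g.aux D.rank k JL ωL) {i : ℕ}
    (hi : i < k) : g.rs.w0 (Good.JS D (JL.getD i [])) = g.wN (ωL.getD i []) := by
  obtain ⟨h1, h2⟩ := h i hi
  rw [← RS.w0_inv, ← RS.eq_w0 (inv_mem (g.wN_mem_WJ h1)) fun j hj hp => ?_, inv_inv]
  have h3 := congrFun (g.cact_wN (fun j hj => (h2 j (h1 j hj)).1) (x := List.replicate D.rank 1) (by simp)).2 j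
  have h4 := RS.pr_nonneg (J := Set.univ) (f := Good.vec D (List.replicate D.rank 1))
    (fun j _ => by simp [Good.vec, List.getD_eq_getElem?_getD]) hp (by simp [RS.Phi_univ])
  exact absurd (h2 j hj).2 (not_lt.2 (h4.trans h3.le))

/-- every `J i` is contained in `L` or disjoint from `L`, and `gens` lists the words of those inside -/
def satChk (k : ℕ) (JL ωL : List (List ℕ)) (L : List ℕ) (gens : List (List ℕ)) : Prop :=
  (∀ i < k, ((∀ j ∈ JL.getD i [], j ∈ L) ∧ ωL.getD i [] ∈ gens) ∨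
    (JL.getD i [] ≠ [] ∧ ∀ j ∈ JL.getD i [], j ∉ L)) ∧
  ∀ ω ∈ gens, ∃ i < k, (∀ j ∈ JL.getD i [], j ∈ L) ∧ ω = ωL.getD i []

instance instDecSatChk (k : ℕ) (JL ωL : List (List ℕ)) (L : List ℕ) (gens : List (List ℕ)) :
    Decidable (satChk k JL ωL L gens) := by unfold satChk; infer_instance

section

variable {G : Type*} [Group G] {X : RG g.rs K G} {Γ : Subgroup G} {k : ℕ} (T : Tw X Γ (Fin k))
  {JL ωL : List (List ℕ)} (hJ : ∀ i : Fin k, T.J i = Good.JS D (JL.getD i []))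
  (hw : w0Chk g.aux D.rank k JL ωL)

include hJ hw

theorem Tw.w0_eq (i : Fin k) : g.rs.w0 (T.J i) = g.wN (ωL.getD i []) := by rw [hJ, g.w0_eq_wN hw i.2]

theorem Tw.poin_step {A : Type*} [CommSemiring A] {J J' : List ℕ} {gens gens' : List (List ℕ)} {f : List ℤ}
    {L PJ : List (List ℤ)} {exps : List ℕ} (h : orbChk g.aux D.rank D.nroots J J' gens f L PJ exps)
    (h1 : satChk k JL ωL J gens) (h2 : satChk k JL ωL J' gens') (y : A) :
    g.rs.poin T.W1 (Good.JS D J) y = (exps.map (y ^ ·)).sum * g.rs.poin T.W1 (Good.JS D J') y := by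
  have sat : ∀ {J gens}, satChk k JL ωL J gens → T.Sat (Good.JS D J) := by
    intro J gens h i j hj hj'
    rw [hJ] at hj ⊢
    rcases h.1 i i.2 with h3 | h3
    · exact fun j hj => h3.1 j hj
    · exact absurd hj' (h3.2 j hj)
  refine g.poin_of_orbChk h (fun w hw => T.exists_coset_decomp (sat h2) hw) ?_ y
  rw [T.W1_inf_WJ (sat h1)]
  congr 1
  ext w
  constructor
  · rintro ⟨i, hi, rfl⟩
    refine ⟨_, ?_, T.w0_eq hJ hw i⟩
    rcases h1.1 i i.2 with h3 | h3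
    · exact h3.2
    · obtain ⟨j, hj⟩ := List.exists_mem_of_ne_nil _ h3.1
      rw [hJ] at hi
      exact absurd (hi (a := ⟨j, ((hw i i.2).2 j hj).1⟩) hj) (h3.2 j hj)
  · rintro ⟨ω, hω, rfl⟩
    obtain ⟨i, hi, h3, rfl⟩ := h1.2 ω hω
    exact ⟨⟨i, hi⟩, by rw [hJ]; exact fun j hj => h3 j hj, (T.w0_eq hJ hw ⟨i, hi⟩).symm⟩

theorem Tw.orderOf_w0 (i j : Fin k) {m : ℕ} (hm : m ≠ 0)
    (h : iterChk g.aux.CL (ωL.getD i [] ++ ωL.getD j []) (List.replicate D.rank 1) (m - 1)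
      (wordL g.aux.CL (ωL.getD i [] ++ ωL.getD j []) (List.replicate D.rank 1)) = true) :
    orderOf (g.rs.w0 (T.J i) * g.rs.w0 (T.J j)) = m := by
  rw [T.w0_eq hJ hw, T.w0_eq hJ hw, ← g.wN_append, g.orderOf_wN _ h]
  · omega
  · intro a ha
    rcases List.mem_append.1 ha with ha | ha
    · exact ((hw i i.2).2 a ((hw i i.2).1 a ha)).1
    · exact ((hw j j.2).2 a ((hw j j.2).1 a ha)).1

end

theorem irr_of_orderOf {W I : Type*} [Group W] (s : I → W) (hs : ∀ i, s i * s i = 1) (m : I → I → ℕ)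
    (hm : ∀ i j, orderOf (s i * s j) = m i j)
    (h : ∀ A : Finset I, ∀ i ∈ A, ∀ j ∉ A, ∃ i ∈ A, ∃ j ∉ A, ¬m i j ∣ 2) [Fintype I] (A : Set I) (h1 : A.Nonempty)
    (h2 : Aᶜ.Nonempty) : ∃ i ∈ A, ∃ j ∉ A, s i * s j ≠ s j * s i := by
  classical
  obtain ⟨i, hi⟩ := h1
  obtain ⟨j, hj⟩ := h2
  obtain ⟨i, hi, j, hj, h3⟩ := h A.toFinset i (by simpa using hi) j (by simpa using hj)
  refine ⟨i, by simpa using hi, j, by simpa using hj, fun e => h3 ?_⟩
  rw [← hm, orderOf_dvd_iff_pow_eq_one, pow_two]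
  calc s i * s j * (s i * s j) = s i * (s j * s i) * s j := by group
    _ = (s i * s i) * (s j * s j) := by rw [← e]; group
    _ = 1 := by rw [hs, hs, mul_one]

end H20
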