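import Mathlib
import Cfsg.Agent.H20.TwD
import Cfsg.Agent.H20.GoodD4
import Cfsg.Agent.H20.HomD4a

/-! Certificates for the twisted group of type D4 (generated). -/

set_option autoImplicit false
set_option maxRecDepth 100000

namespace H20

open Cfsg.Lie

def JLD4 : List (List ℕ) := [[1], [0, 2, 3]]
def WLD4 : List (List ℕ) := [[1], [0, 2, 3]]
def PLD4 : List (List ℕ) := [[14], [18, 13, 12]]
def MLD4 : List (List ℕ) := [[1, 6], [6, 1]]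

theorem chk2D4 : homD4a.Chk2 chevD4 [2, 1, 3, 0] := by decide +kernel
theorem orbitD4 : orbitChk auxD4 24 4 2 JLD4 PLD4 [2, 1, 3, 0] := by decide +kernel
theorem w0D4 : w0Chk auxD4 4 2 JLD4 WLD4 := by decide +kernel

theorem torbD4_0 : orbChk auxD4 4 24 [0, 1, 2, 3] [0, 2, 3] [[1], [0, 2, 3]] [0, 1, 0, 0]
    [[0, -1, 0, 0], [-1, 1, -1, -1], [1, -2, 1, 1], [-1, 2, -1, -1], [1, -1, 1, 1], [0, 1, 0, 0]]
    [[0, 0, 0, 1], [0, 0, 1, 0], [0, 1, 0, 0], [0, 1, 0, 1], [0, 1, 1, 0], [0, 1, 1, 1], [1, 0, 0, 0], [1, 1, 0, 0], [1, 1, 0, 1], [1, 1, 1, 0], [1, 1, 1, 1], [1, 2, 1, 1]]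
    [9, 8, 5, 4, 1, 0] := by decide +kernel

theorem satD4_0 : satChk 2 JLD4 WLD4 [0, 1, 2, 3] [[1], [0, 2, 3]] := by decide +kernel

theorem torbD4_1 : orbChk auxD4 4 24 [0, 2, 3] [] [[0, 2, 3]] [1, 0, 1, 1]
    [[-1, 3, -1, -1], [1, 0, 1, 1]]
    [[0, 0, 0, 1], [0, 0, 1, 0], [1, 0, 0, 0]]
    [3, 0] := by decide +kernel

theorem satD4_1 : satChk 2 JLD4 WLD4 [0, 2, 3] [[0, 2, 3]] := by decide +kernel

theorem satD4_2 : satChk 2 JLD4 WLD4 [] [] := by decide +kernel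

section

variable {K G : Type*} [Field K] [Group G] {X : RG goodD4.rs K G} {Γ : Subgroup G} (T : Tw X Γ (Fin 2))
  (hJ : ∀ i : Fin 2, T.J i = Good.JS chevD4 (JLD4.getD i []))

include hJ

theorem tpoinD4 {A : Type*} [CommRing A] (y : A) :
    (y - 1) ^ 2 * (y ^ 2 + y + 1) * goodD4.rs.poin T.W1 Set.univ y = (y ^ 2 - 1) * (y ^ 6 - 1) * (y ^ 8 + y ^ 4 + 1) := by
  rw [← show Good.JS chevD4 [0, 1, 2, 3] = Set.univ from Good.JS_range, T.poin_step hJ w0D4 torbD4_0 satD4_0 satD4_1, T.poin_step hJ w0D4 torbD4_1 satD4_1 satD4_2,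
    Good.JS_nil, RS.poin_empty]
  simp only [List.map_cons, List.map_nil, List.sum_cons, List.sum_nil]
  ring

theorem torderD4 (i j : Fin 2) :
    orderOf (goodD4.rs.w0 (T.J i) * goodD4.rs.w0 (T.J j)) = (MLD4.getD i []).getD j 0 := by
  have key : ∀ i j : Fin 2, (MLD4.getD i []).getD j 0 ≠ 0 ∧
      iterChk auxD4.CL (WLD4.getD i [] ++ WLD4.getD j []) (List.replicate 4 1) ((MLD4.getD i []).getD j 0 - 1)
      (wordL auxD4.CL (WLD4.getD i [] ++ WLD4.getD j []) (List.replicate 4 1)) = true := by decide +kernel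
  exact T.orderOf_w0 hJ w0D4 i j (key i j).1 (key i j).2

theorem tirrD4 (A : Set (Fin 2)) (h1 : A.Nonempty) (h2 : Aᶜ.Nonempty) : ∃ i ∈ A, ∃ j ∉ A,
    goodD4.rs.w0 (T.J i) * goodD4.rs.w0 (T.J j) ≠ goodD4.rs.w0 (T.J j) * goodD4.rs.w0 (T.J i) :=
  irr_of_orderOf (fun i => goodD4.rs.w0 (T.J i)) (fun _ => RS.w0_mul_w0 _ _) _ (torderD4 T hJ)
    (by decide +kernel) A h1 h2

theorem tlenD4 (i : Fin 2) : goodD4.rs.len (goodD4.rs.w0 (T.J i)) = (PLD4.getD i []).length := by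
  rw [hJ, goodD4.len_w0 (orbitD4.2.2.2.2 i i.2)]

theorem tsetD4 (i : Fin 2) : {r | goodD4.rs.Pos r ∧ r ∈ goodD4.rs.Phi (T.J i)} =
    LS chevD4 (PLD4.getD i []) := by
  rw [hJ, goodD4.posPhi_eq (orbitD4.2.2.2.2 i i.2)]

end

end H20
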