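import Mathlib
import Cfsg.Agent.H20.TwD

/-!
The torus of a twisted group; commutators of fixed root elements.
-/

set_option autoImplicit false

namespace H20

open Finset Cfsg.Lie
open scoped commutatorElement

theorem SRG.hmap_eq_prod {ι Λ : Type} [LinearOrder ι] [Fintype Λ] [DecidableEq Λ] {R : RS ι Λ} {K : Type*} [Field K]
    {G : Type*} [Group G] (X : SRG R K G) {L : List Λ} (hL : L.Nodup) (hall : ∀ i, i ∈ L) (c : Λ → Kˣ) :
    X.hmap c = (L.map fun i => X.h (R.sim i) (c i)).prod := by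
  have : c = (L.map fun i => Pi.mulSingle i (c i)).prod := by
    rw [← List.prod_toFinset _ hL, show L.toFinset = univ by ext; simp [hall], univ_prod_mulSingle]
  conv_lhs => rw [this, map_list_prod, List.map_map]
  exact congrArg _ (List.map_congr_left fun i _ => X.hmap_single i _)

theorem card_inf_ker_mul {A B : Type*} [Group A] [Group B] (φ : A →* B) (F : Subgroup A) :
    Nat.card ↥(F ⊓ φ.ker) * Nat.card (F.map φ) = Nat.card F := by
  rw [← Subgroup.card_mul_index (φ.comp F.subtype).ker, Subgroup.index_ker, MonoidHom.range_comp,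
    Subgroup.range_subtype, ← MonoidHom.comap_ker, Subgroup.comap_subtype]
  congr 1
  rw [← Subgroup.inf_subgroupOf_left]
  exact Nat.card_congr (Subgroup.subgroupOfEquivOfLe inf_le_left).symm.toEquiv

variable {D : ChevalleyDatum} {K : Type*} [Field K] {g : Good D}

theorem Good.mem_zker (g : Good D) {c : Fin D.rank → Kˣ} :
    c ∈ H19.zker g.rs K ↔ ∀ j : Fin D.rank, ∏ i, c i ^ (g.aux.CL.getD i []).getD j 0 = 1 := by
  rw [H19.mem_zker]
  refine forall_congr' fun j => ?_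
  simp only [(g.h1.2.2.2.2.2.2.2.2.1 _ (Fin.is_lt _) j j.2).1]
  rfl

theorem Good.chi_eq (g : Good D) (r : Fin D.nroots) (c : Fin D.rank → Kˣ) :
    g.rs.chi r c = ∏ i, c i ^ dot (g.aux.row r) (g.aux.CL.getD i []) := by
  rw [RS.chi_apply]
  exact prod_congr rfl fun i _ => by rw [← (g.h2 i i.2 r r.2).1]; rfl

namespace MatRG

variable (M : MatRG g K) {h : HomD} (c : h.Chk D D) {πL : List ℕ} (c2 : h.Chk2 D πL) (hp : (h.p : K) = 0)
  (f : K →+* K)

/-- The fixed points on the universal torus. -/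
def Fix : Subgroup (Fin D.rank → Kˣ) where
  carrier := {a | ∀ i, (a ((M.sym c c2 hp f).π i) : K) = f (a i) ^ h.lam (D.simple i)}
  one_mem' i := by simp
  mul_mem' ha hb i := by simp [ha i, hb i, mul_pow]
  inv_mem' ha i := by simp [ha i]

theorem mem_Fix {a : Fin D.rank → Kˣ} : a ∈ M.Fix c c2 hp f ↔
    ∀ i : Fin D.rank, (a ⟨πL.getD i 0, (c2.1 i i.2).1⟩ : K) = f (a i) ^ h.lam (D.simple i) := Iff.rfl

theorem σ_hmap (a : Fin D.rank → Kˣ) : (M.sym c c2 hp f).σ (M.St.hmap a) = M.St.hmap fun j =>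
    Units.map f.toMonoidHom (a ((M.sym c c2 hp f).π⁻¹ j)) ^ h.lam (D.simple ((M.sym c c2 hp f).π⁻¹ j)) :=
  (M.sym c c2 hp f).σ_hmap (ψ := fun i => (powMonoidHom (h.lam (D.simple i))).comp (Units.map f.toMonoidHom))
    (fun i t => by rw [M.sym_h c c2 hp f _ t.ne_zero, (M.sym c c2 hp f).ρ_sim]; simp) a

theorem hmap_mem_C {a : Fin D.rank → Kˣ} (ha : a ∈ M.Fix c c2 hp f) : M.St.hmap a ∈ (M.sym c c2 hp f).C := by
  rw [M.mem_C_iff, σ_hmap]
  congr 1
  ext j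
  obtain ⟨j, rfl⟩ := (M.sym c c2 hp f).π.surjective j
  simp [ha j]

theorem mem_Fix_of_mem_C (inj : Function.Injective M.St.hmap) {a : Fin D.rank → Kˣ}
    (ha : M.St.hmap a ∈ (M.sym c c2 hp f).C) : a ∈ M.Fix c c2 hp f := by
  rw [M.mem_C_iff, σ_hmap] at ha
  intro i
  simpa using (congrArg Units.val (congrFun (inj ha) ((M.sym c c2 hp f).π i))).symm

variable {M c c2 hp f} {Γ : Subgroup (D.SteinbergGroup K)} {I : Type} (E : (M.sym c c2 hp f).Gen Γ I)

include E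

theorem card_H (inj : Function.Injective M.St.hmap) (hH : ∀ a ∈ M.Fix c c2 hp f, M.St.hmap a ∈ Γ) :
    Nat.card ↥(M.Fix c c2 hp f ⊓ H19.zker g.rs K) * Nat.card ↥(M.X.H ⊓ Γ.map M.θ) = Nat.card (M.Fix c c2 hp f) := by
  have key : M.X.H ⊓ Γ.map M.θ = (M.Fix c c2 hp f).map M.X.hmap := by
    rw [E.tw.map_H_inf M.θ_x]
    ext b
    constructor
    · rintro ⟨b, ⟨h1, h2⟩, rfl⟩
      obtain ⟨a, rfl⟩ := M.St.mem_H_iff.1 h1
      exact ⟨a, M.mem_Fix_of_mem_C c c2 hp f inj (E.le h2), (RG.map_hmap M.θ_x a).symm⟩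
    · rintro ⟨a, ha, rfl⟩
      exact ⟨_, ⟨M.St.hmap_mem_H a, hH a ha⟩, RG.map_hmap M.θ_x a⟩
  rw [key, ← H19.ker_hmap M.X M.adj]
  exact card_inf_ker_mul _ _

theorem gen_mem {r : ℕ} (hr : r < D.nroots ∧ h.ρ r = r ∧ h.γ r = 1 ∧ h.lam r = 1) {t : K} (ht : f t = t) :
    D.stGen K r t ∈ Γ :=
  E.x_mem (r := ⟨r, hr.1⟩) (Fin.ext hr.2.1) (by rw [M.sym_φ]; simp [hr, ht])

theorem gen_mem_comm {k r s : ℕ} (h1 : H19.One D k (r, s)) (hr : h.ρ r = r ∧ h.γ r = 1 ∧ h.lam r = 1)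
    (hs : h.ρ s = s ∧ h.γ s = 1 ∧ h.lam s = 1) {t : K} (ht : f t = t) : D.stGen K k t ∈ ⁅Γ, Γ⁆ := by
  obtain ⟨h2, h3, h4, h5, h6⟩ := h1
  have key : ∀ a, f a = a → (stRel D K).ev (-a) t (D.commTerms r s) ∈ ⁅Γ, Γ⁆ := by
    intro a ha
    have e : (stRel D K).ev (-a) t (D.commTerms r s) = ⁅(D.stGen K s t)⁻¹, (D.stGen K r a)⁻¹⁆ := by
      have := (stRel D K).comm' h2 h3 h4 h5 a t
      simp only [stRel] at this ⊢
      rw [commutatorElement_def, inv_inv, inv_inv, mul_assoc, mul_assoc, this]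
      group
    rw [e]
    exact Subgroup.commutator_mem_commutator (inv_mem (gen_mem E ⟨h3, hs⟩ ht)) (inv_mem (gen_mem E ⟨h2, hr⟩ ha))
  rcases h6 with h6 | h6
  · simpa [Rel.ev, h6, stRel] using key (-1) (by simp)
  · simpa [Rel.ev, h6, stRel] using key 1 (by simp)

theorem h_mem {r : Fin D.nroots} (hr : h.ρ r = r ∧ h.γ r = 1 ∧ h.lam r = 1)
    (hr' : h.γ (D.neg r) = 1) {t : K} (ht : f t = t) : M.St.h r t ∈ Γ := by
  have h1 := c.row r.2
  have key : ∀ t, f t = t → M.St.n r t ∈ Γ := fun t ht =>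
    mul_mem (mul_mem (gen_mem E ⟨r.2, hr⟩ ht) (gen_mem E ⟨g.neg_lt r.2, by rw [h1.2.1, hr.1], hr', by
      rw [h1.2.2.1, hr.2.2]⟩ (by simp [ht]))) (gen_mem E ⟨r.2, hr⟩ ht)
  exact mul_mem (key t ht) (key _ (by simp))

omit E in
theorem commutator_map {Γ : Subgroup (D.SteinbergGroup K)} (h : commutator Γ = ⊤) : commutator (Γ.map M.θ) = ⊤ := by
  rw [commutator_eq_top_iff] at h ⊢
  rw [← Subgroup.map_commutator]
  exact Subgroup.map_mono h

end MatRG

end H20
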