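import Mathlib
import Cfsg.Prelude.Def_ChevE6
import Cfsg.Agent.H20.Good

set_option autoImplicit false
set_option maxRecDepth 100000

namespace H20

open Cfsg.Lie

def auxE6 : Aux where
  rtL := [[-1, -2, -2, -3, -2, -1], [-1, -1, -2, -3, -2, -1], [-1, -1, -2, -2, -2, -1], [-1, -1, -2, -2, -1, -1], [-1, -1, -2, -2, -1, 0], [-1, -1, -1, -2, -2, -1], [-1, -1, -1, -2, -1, -1], [-1, -1, -1, -2, -1, 0], [-1, -1, -1, -1, -1, -1], [-1, -1, -1, -1, -1, 0], [-1, -1, -1, -1, 0, 0], [-1, 0, -1, -1, -1, -1], [-1, 0, -1, -1, -1, 0], [-1, 0, -1, -1, 0, 0], [-1, 0, -1, 0, 0, 0], [-1, 0, 0, 0, 0, 0], [0, -1, -1, -2, -2, -1], [0, -1, -1, -2, -1, -1], [0, -1, -1, -2, -1, 0], [0, -1, -1, -1, -1, -1], [0, -1, -1, -1, -1, 0], [0, -1, -1, -1, 0, 0], [0, -1, 0, -1, -1, -1], [0, -1, 0, -1, -1, 0], [0, -1, 0,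 -1, 0, 0], [0, -1, 0, 0, 0, 0], [0, 0, -1, -1, -1, -1], [0, 0, -1, -1, -1, 0], [0, 0, -1, -1, 0, 0], [0, 0, -1, 0, 0, 0], [0, 0, 0, -1, -1, -1], [0, 0, 0, -1, -1, 0], [0, 0, 0, -1, 0, 0], [0, 0, 0, 0, -1, -1], [0, 0, 0, 0, -1, 0], [0, 0, 0, 0, 0, -1], [0, 0, 0, 0, 0, 1], [0, 0, 0, 0, 1, 0], [0, 0, 0, 0, 1, 1], [0, 0, 0, 1, 0, 0], [0, 0, 0, 1, 1, 0], [0, 0, 0, 1, 1, 1], [0, 0, 1, 0, 0, 0], [0, 0, 1, 1, 0, 0], [0, 0, 1, 1, 1, 0], [0, 0, 1, 1, 1, 1], [0, 1, 0, 0, 0, 0], [0, 1, 0, 1, 0, 0], [0, 1, 0, 1, 1, 0], [0, 1, 0, 1, 1, 1], [0, 1, 1, 1, 0, 0], [0, 1, 1, 1, 1, 0], [0, 1, 1, 1, 1, 1], [0, 1, 1, 2, 1, 0], [0, 1, 1, 2, 1, 1], [0, 1, 1, 2, 2, 1], [1, 0, 0, 0, 0, 0], [1, 0, 1, 0, 0, 0], [1, 0, 1, 1, 0, 0], [1, 0, 1, 1, 1, 0], [1, 0, 1, 1, 1, 1], [1, 1, 1, 1, 0, 0], [1, 1, 1, 1, 1, 0], [1,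 1, 1, 1, 1, 1], [1, 1, 1, 2, 1, 0], [1, 1, 1, 2, 1, 1], [1, 1, 1, 2, 2, 1], [1, 1, 2, 2, 1, 0], [1, 1, 2, 2, 1, 1], [1, 1, 2, 2, 2, 1], [1, 1, 2, 3, 2, 1], [1, 2, 2, 3, 2, 1]]
  κL := [1048576, 65536, 4096, 256, 16, 1]
  dL := [1, 1, 1, 1, 1, 1]
  nrmL := [1, 1, 1, 1, 1, 1, 1, 1, 1, 1, 1, 1, 1, 1, 1, 1, 1, 1, 1, 1, 1, 1, 1, 1, 1, 1, 1, 1, 1, 1, 1, 1, 1, 1, 1, 1, 1, 1, 1, 1, 1, 1, 1, 1, 1, 1, 1, 1, 1, 1, 1, 1, 1, 1, 1, 1, 1, 1, 1, 1, 1, 1, 1, 1, 1, 1, 1, 1, 1, 1, 1, 1]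
  CL := [[2, 0, -1, 0, 0, 0], [0, 2, 0, -1, 0, 0], [-1, 0, 2, -1, 0, 0], [0, -1, -1, 2, -1, 0], [0, 0, 0, -1, 2, -1], [0, 0, 0, 0, -1, 2]]
  witL := [(1, 25), (11, 18), (14, 16), (14, 17), (14, 18), (15, 16), (15, 17), (15, 18), (15, 19), (15, 20), (15, 21), (15, 26), (15, 27), (15, 28), (15, 29), (11, 45), (22, 27), (22, 28), (23, 28), (22, 29), (23, 29), (24, 29), (25, 30), (25, 31), (25, 32), (22, 41), (29, 30), (29, 31), (29, 32), (26, 41), (32, 33), (30, 36), (30, 38), (2, 67), (33, 36), (3, 67), (4, 68), (3, 69), (4, 69), (2, 70), (3, 70), (4, 70), (15, 57), (15, 58), (15, 59), (15, 60), (1, 71), (2, 71), (3, 71), (4, 71), (5, 71), (6, 71), (7, 71), (8, 71), (9, 71), (10, 71), (16, 66), (16, 69), (16, 70), (17, 70), (18, 70), (16, 71), (17, 71), (18, 71), (19, 71), (20, 71), (21,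 71), (22, 71), (23, 71), (24, 71), (25, 71), (46, 70)]

theorem auxE6_chk1 : auxE6.chk1 chevE6 := by decide +kernel
theorem auxE6_chk2 : auxE6.chk2 chevE6 := by decide +kernel
theorem auxE6_chk3 : auxE6.chk3 chevE6 := by decide +kernel
theorem auxE6_chk4 : auxE6.chk4 chevE6 := by decide +kernel

def goodE6 : Good chevE6 := ⟨auxE6, auxE6_chk1, auxE6_chk2, auxE6_chk3, auxE6_chk4⟩

end H20
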