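import Mathlib
import Cfsg.Agent.H20.Hom
import Cfsg.Agent.H19.FastD4
import Cfsg.Agent.H19.FastE6

/-! Checked data of a map of root elements (generated). -/

set_option autoImplicit false

namespace H20

open Cfsg.Lie

def homD46 : HomD where
  p := 0
  ρT := 0x353332302f2e2c2b28272a25221d201f1c1b191817151412
  γT := 0x300c0
  lamT := 0x0

theorem chkD46 : homD46.Chk chevD4 chevE6 :=
  homD46.chk_of_agree H19.agreeD4 H19.agreeE6 (Or.inl rfl) (by decide +kernel)

end H20
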