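import Mathlib
import Cfsg.Agent.H20.Hom

/-!
Injectivity of the torus map of Steinberg's group through an embedding into a larger type.
-/

set_option autoImplicit false

namespace H20

open Finset Cfsg.Lie

/-- certificate for the injectivity of the torus map -/
def InjCert (h : HomD) (D D' : ChevalleyDatum) (e : List ℕ) (Q : List (List ℤ)) : Prop :=
  h.p = 0 ∧ (∀ i < D.rank, e.getD i 0 < D'.rank ∧ h.ρ (D.simple i) = D'.simple (e.getD i 0) ∧ h.lam (D.simple i) = 1) ∧
  ∀ i k : Fin D.rank, ∑ j : Fin D'.rank, D'.cartan (e.getD i 0) (D'.simple j) * (Q.getD j []).getD k 0 =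
    if i = k then 1 else 0

instance instDecInjCert (h : HomD) (D D' : ChevalleyDatum) (e : List ℕ) (Q : List (List ℤ)) :
    Decidable (InjCert h D D' e Q) := by unfold InjCert; infer_instance

theorem MatRG.St_hmap_injective {D D' : ChevalleyDatum} {K : Type*} [Field K] {g : Good D} {g' : Good D'}
    (M : MatRG g K) (M' : MatRG g' K) {h : HomD} (c : h.Chk D D') {e : List ℕ} {Q : List (List ℤ)}
    (hc : InjCert h D D' e Q) : Function.Injective M.St.hmap := by
  obtain ⟨hp, h1, h2⟩ := hc
  obtain ⟨ψ, -, hψ⟩ := M'.Y.exists_twist_hom g g' c (by simp [hp]) (RingHom.id K) M'.X.toSRG M'.eq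
  have key : ∀ a : Fin D.rank → Kˣ, M'.X.ActsBy (ψ (M.St.hmap a)) 1
      fun s => ((∏ i, a i ^ D'.cartan (e.getD i 0) s : Kˣ) : K) := by
    intro a
    induction a using Pi.mulSingle_induction with
    | one => simpa using WRG.actsBy_one
    | mul f g hf hg => simpa [mul_zpow, prod_mul_distrib] using hf.mul hg
    | mulSingle i t =>
      have e1 : (⟨h.ρ (g.rs.sim i), c.ρ_lt (g.rs.sim i).2⟩ : Fin D'.nroots) = g'.rs.sim ⟨_, (h1 i i.2).1⟩ :=
        Fin.ext (h1 i i.2).2.1
      rw [SRG.hmap_single, M.St_toWRG, hψ _ _ t.ne_zero, e1,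
        show h.lam (g.rs.sim i) = 1 from (h1 i i.2).2.2]
      convert M'.X.actsBy_h (g'.rs.sim ⟨_, (h1 i i.2).1⟩) (t := t) t.ne_zero using 2 with s
      · simp
      · rw [prod_eq_single i (fun j _ hj => by simp [hj]) (by simp), RS.A_sim]
        simp [Good.rs_ca]
  rw [injective_iff_map_eq_one]
  intro a ha
  have h3 : ∀ j : Fin D'.rank, ∏ i, a i ^ D'.cartan (e.getD i 0) (D'.simple j) = 1 := by
    intro j
    have := (key a).conj (g'.rs.sim j) 1
    rw [ha, map_one] at this
    exact Units.ext (by simpa using (M'.X.x_injective _ (by simpa using this)).symm)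
  ext1 k
  have h4 : ∏ j : Fin D'.rank, (∏ i, a i ^ D'.cartan (e.getD i 0) (D'.simple j)) ^ (Q.getD j []).getD k 0 = 1 := by
    simp only [h3, one_zpow, prod_const_one]
  simp only [← prod_zpow, ← zpow_mul] at h4
  rw [prod_comm] at h4
  have h5 : ∀ i, ∏ j : Fin D'.rank, a i ^ (D'.cartan (e.getD i 0) (D'.simple j) * (Q.getD j []).getD k 0) =
      a i ^ (if i = k then 1 else 0 : ℤ) := by
    intro i
    rw [← h2]
    induction (univ : Finset (Fin D'.rank)) using Finset.cons_induction with
    | empty => simp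
    | cons a s ha ih => rw [sum_cons, prod_cons, zpow_add, ih]
  simp only [h5] at h4
  rw [prod_eq_single k (fun j _ hj => by simp [hj]) (by simp)] at h4
  simpa using h4

end H20
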