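import Mathlib
import Cfsg.Agent.H20.Univ
import Cfsg.Agent.H20.HomD46
import Cfsg.Agent.H19.CertD4
import Cfsg.Agent.H19.CertE6

set_option autoImplicit false

namespace H20

open Cfsg.Lie

theorem hmap_injective_D4 (K : Type*) [Field K] : Function.Injective (H19.matD4 K).St.hmap :=
  (H19.matD4 K).St_hmap_injective (H19.matE6 K) chkD46 (e := [1, 3, 2, 4])
    (Q := [[-3, -2, -1, 0], [0, 0, 0, 0], [-2, -1, 0, 0], [-1, 0, 0, 0], [0, 0, 0, 0], [1, 0, 0, -1]])
    (by decide +kernel)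

end H20
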