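import Mathlib
import Cfsg.Prelude.Def_LieTwisted
import Cfsg.Agent.H20.TwH
import Cfsg.Agent.H20.TwCertD4
import Cfsg.Agent.H20.UnivD4

/-! The triality twisted group of type D₄. -/

set_option autoImplicit false
set_option backward.isDefEq.respectTransparency false

namespace H20

open Finset Cfsg.Lie H19
open scoped commutatorElement

namespace D4

variable {K : Type*} [Field K] {q : ℕ} {f : K →+* K}

theorem hp0 (K : Type*) [Field K] : ((homD4a.p : ℕ) : K) = 0 := Nat.cast_zero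

variable (f) in
/-- the twisting endomorphism -/
noncomputable abbrev S : Sym (matD4 K).St := (matD4 K).sym chkD4a chk2D4 (hp0 K) f

theorem fact1 : ∀ r ∈ [d4p2, d4m2], r < chevD4.nroots ∧ homD4a.ρ r = r ∧ homD4a.γ r = 1 ∧
    homD4a.lam r = 1 := by decide +kernel

theorem fact2 : ∀ p ∈ [(d4p1, d4p3, d4p4), (d4m1, d4m3, d4m4)],
    (p.1 < chevD4.nroots ∧ p.2.1 < chevD4.nroots ∧ p.2.2 < chevD4.nroots) ∧
    (homD4a.ρ p.1 = p.2.1 ∧ homD4a.ρ p.2.1 = p.2.2 ∧ homD4a.ρ p.2.2 = p.1 ∧ homD4a.γ p.1 = 1 ∧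
      homD4a.γ p.2.1 = 1 ∧ homD4a.γ p.2.2 = 1 ∧ homD4a.lam p.1 = 1 ∧ homD4a.lam p.2.1 = 1 ∧ homD4a.lam p.2.2 = 1) ∧
      homD4a.commB (recOf chevD4) p.1 p.2.1 = true ∧ homD4a.commB (recOf chevD4) p.1 p.2.2 = true := by
  decide +kernel

theorem fact3 : ∀ i < 2, (∀ r ∈ PLD4.getD i [], ∀ s ∈ PLD4.getD i [], homD4a.commB (recOf chevD4) r s = true) ∧
    ((PLD4.getD i []).map homD4a.ρ).Perm (PLD4.getD i []) := by decide +kernel

theorem fact4 : ∀ r ∈ [18, 13, 12], ∃ j ∈ [0, 2, 3], ∀ i ∈ [0, 2, 3],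
    dot (auxD4.row r) (auxD4.CL.getD i []) = if i = j then 2 else 0 := by
  decide +kernel

theorem mem1 {r : ℕ} (hr : r ∈ [d4p2, d4m2]) {t : K} (ht : t ^ q = t) : [(r, t)] ∈ d4Words K q :=
  Or.inl ⟨t, ht, r, hr, rfl⟩

theorem mem2 {r s k : ℕ} (hr : (r, s, k) ∈ [(d4p1, d4p3, d4p4), (d4m1, d4m3, d4m4)]) (t : K) :
    [(r, t), (s, t ^ q), (k, t ^ (q ^ 2))] ∈ d4Words K q := Or.inr ⟨t, _, hr, rfl⟩

variable (hf : ∀ t, f t = t ^ q) (hff : ∀ t, f (f (f t)) = t)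

include hf in
theorem hf2 (t : K) : f (f t) = t ^ (q ^ 2) := by rw [hf, hf, ← pow_mul, pow_two]

include hf hff

theorem le (w : List (ℕ × K)) (hw : w ∈ d4Words K q) : (S f).σ (stw chevD4 w) = stw chevD4 w := by
  rcases hw with ⟨t, ht, r, hr, rfl⟩ | ⟨t, p, hr, rfl⟩
  · obtain ⟨h1, h2, h3, h4⟩ := fact1 r hr
    rw [MatRG.σ_stw _ _ _ _ _ (by simpa using h1)]
    simp [h2, h3, h4, hf, ht]
  · obtain ⟨h1, h2, h3, h4⟩ := fact2 p hr
    rw [MatRG.σ_stw _ _ _ _ _ (by simp [h1]), ← hf, ← hf2 hf]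
    have h5 := (stRel chevD4 K).commute_of_commB goodD4 (hp0 K) h1.1 h1.2.1 h3 t (f t)
    have h6 := (stRel chevD4 K).commute_of_commB goodD4 (hp0 K) h1.1 h1.2.2 h4 t (f (f t))
    simpa [h2, hff, stw, stRel, mul_assoc] using (h5.mul_right h6).symm.eq

omit hff in
theorem pos (i : ℕ) (hi : i < 2) (t : ℕ → K)
    (h : stw chevD4 ((PLD4.getD i []).map fun r => (r, t r)) ∈ (S f).C) :
    (PLD4.getD i []).map (fun r => (r, t r)) ∈ d4Words K q := by
  have h0 := orbitD4.2.2.2.2 i hi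
  have h1 := (matD4 K).stw_coord chkD4a chk2D4 (hp0 K) f h0.1 (goodD4.pos_of_posChk h0) (fact3 i hi).1
    (fact3 i hi).2 h
  interval_cases i
  · have := fact1 d4p2 (by simp)
    exact mem1 (r := d4p2) (t := t d4p2) (by simp) (by simpa [this, hf] using (h1 d4p2 (by decide)).symm)
  · have := fact2 (d4p1, d4p3, d4p4) (by simp)
    have h2 : t d4p3 = t d4p1 ^ q := by simpa [this, hf] using h1 d4p1 (by decide)
    have h4 : t d4p4 = t d4p1 ^ (q ^ 2) := by
      rw [pow_two, pow_mul, ← h2]; simpa [this, hf] using h1 d4p3 (by decide)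
    have h3 := mem2 (r := d4p1) (s := d4p3) (k := d4p4) (q := q) (by simp) (t d4p1)
    rw [← h2, ← h4] at h3
    exact h3

/-- the hypotheses of the general theory -/
noncomputable def gen : (S f).Gen (stSub chevD4 (d4Words K q)) (Fin 2) :=
  (matD4 K).gen chkD4a chk2D4 (hp0 K) f orbitD4 (le hf hff) (fun i hi t h => stw_mem (pos hf i hi t h))
    (fun i hi => by
      interval_cases i
      · exact ⟨_, mem1 (r := d4m2) (by simp) (one_pow q),
          by simp only [List.map_cons, List.map_nil]; decide +kernel, by simp⟩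
      · exact ⟨_, mem2 (r := d4m1) (s := d4m3) (k := d4m4) (by simp) 1,
          by simp only [List.map_cons, List.map_nil]; decide +kernel, by simp⟩)
    (fun i hi => by
      interval_cases i
      · exact ⟨_, mem1 (r := d4p2) (by simp) (one_pow q), rfl, by simp⟩
      · exact ⟨_, mem2 (r := d4p1) (s := d4p3) (k := d4p4) (by simp) 1, rfl, by simp⟩)

theorem mem_iff (i : ℕ) (hi : i < 2) (a : chevD4.SteinbergGroup K) :
    a ∈ (matD4 K).St.XS (LS chevD4 (PLD4.getD i [])) ⊓ stSub chevD4 (d4Words K q) ↔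
      ∃ w ∈ d4Words K q, w.map Prod.fst = PLD4.getD i [] ∧ a = stw chevD4 w := by
  have h0 := orbitD4.2.2.2.2 i hi
  constructor
  · rintro ⟨h1, h2⟩
    obtain ⟨t, rfl⟩ := (matD4 K).exists_stw h0.1 (goodD4.closed_LS h0) (goodD4.pos_of_posChk h0) h1
    exact ⟨_, pos hf i hi t ((gen hf hff).le h2), by simp [Function.comp_def], rfl⟩
  · rintro ⟨w, hw, h1, rfl⟩
    exact ⟨(matD4 K).stw_mem_XS (p := (· ∈ PLD4.getD i [])) (by simp [h1]), stw_mem hw⟩

theorem mem_iff1 (a : chevD4.SteinbergGroup K) :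
    a ∈ (matD4 K).St.XS (LS chevD4 (PLD4.getD 0 [])) ⊓ stSub chevD4 (d4Words K q) ↔
      ∃ t : {t : K // t ^ q = t}, a = stw chevD4 [(d4p2, t.1)] := by
  rw [mem_iff hf hff 0 (by decide), show PLD4.getD 0 [] = [d4p2] from rfl]
  constructor
  · rintro ⟨w, ⟨t, ht, r, -, rfl⟩ | ⟨t, p, -, rfl⟩, h1, rfl⟩
    · obtain rfl : r = _ := by simpa using h1
      exact ⟨⟨t, ht⟩, rfl⟩
    · simp at h1
  · rintro ⟨t, rfl⟩; exact ⟨_, mem1 (by decide) t.2, rfl, rfl⟩

theorem mem_iff2 (a : chevD4.SteinbergGroup K) :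
    a ∈ (matD4 K).St.XS (LS chevD4 (PLD4.getD 1 [])) ⊓ stSub chevD4 (d4Words K q) ↔
      ∃ t : K, a = stw chevD4 [(d4p1, t), (d4p3, t ^ q), (d4p4, t ^ (q ^ 2))] := by
  rw [mem_iff hf hff 1 (by decide), show PLD4.getD 1 [] = [d4p1, d4p3, d4p4] from rfl]
  constructor
  · rintro ⟨w, ⟨t, ht, r, -, rfl⟩ | ⟨t, ⟨r, s, k⟩, -, rfl⟩, h1, rfl⟩
    · simp at h1
    · obtain ⟨rfl, rfl, rfl⟩ : r = _ ∧ s = _ ∧ k = _ := by simpa using h1
      exact ⟨t, rfl⟩
  · rintro ⟨t, rfl⟩; exact ⟨_, mem2 (by decide) t, rfl, rfl⟩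

theorem card_XS [Finite K] (hq : 1 ≤ q) (hK : Nat.card K = q ^ 3) (i : ℕ) (hi : i < 2) :
    Nat.card ↥((matD4 K).St.XS (LS chevD4 (PLD4.getD i [])) ⊓ stSub chevD4 (d4Words K q)) =
      q ^ (PLD4.getD i []).length := by
  have h0 := orbitD4.2.2.2.2 i hi
  interval_cases i
  · rw [card_of_param _ ?_ (mem_iff1 hf hff), card_fixed hq hK]
    · exact (pow_one q).symm
    intro t t' e
    exact Subtype.ext ((matD4 K).stw_inj (L := [d4p2]) h0.1 (goodD4.pos_of_posChk h0) (t := fun _ => t)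
      (t' := fun _ => t') e d4p2 (by simp))
  · rw [card_of_param _ ?_ (mem_iff2 hf hff), hK]
    · rfl
    intro t t' e
    exact (matD4 K).stw_inj (L := [d4p1, d4p3, d4p4]) h0.1 (goodD4.pos_of_posChk h0)
      (t := fun k => if k = d4p1 then t else if k = d4p3 then t ^ q else t ^ (q ^ 2))
      (t' := fun k => if k = d4p1 then t' else if k = d4p3 then t' ^ q else t' ^ (q ^ 2)) e d4p1 (by simp)

omit hff in
theorem mem_Fix {a : Fin 4 → Kˣ} : a ∈ (matD4 K).Fix chkD4a chk2D4 (hp0 K) f ↔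
    a 2 = a 0 ^ q ∧ a 1 ^ q = a 1 ∧ a 3 = a 2 ^ q ∧ a 0 = a 3 ^ q := by
  have h1 : ∀ i : Fin 4, homD4a.lam (chevD4.simple i) = 1 := by decide +kernel
  rw [MatRG.mem_Fix]
  simp only [h1, pow_one, hf, ← Units.val_pow_eq_pow_val, Units.val_inj]
  refine Fin.forall_fin_succ.trans (and_congr Iff.rfl (Fin.forall_fin_succ.trans (and_congr eq_comm
    (Fin.forall_fin_succ.trans (and_congr Iff.rfl Fin.forall_fin_one)))))

omit hff in
theorem h3_mem (t : K) :
    (matD4 K).St.h (goodD4.rs.sim (0 : Fin 4)) t * (matD4 K).St.h (goodD4.rs.sim (2 : Fin 4)) (f t) *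
      (matD4 K).St.h (goodD4.rs.sim (3 : Fin 4)) (f (f t)) ∈ stSub chevD4 (d4Words K q) := by
  have h1 := (matD4 K).St.orth_sim (i := (0 : Fin 4)) (j := (2 : Fin 4)) (by decide) (by decide +kernel)
  have h2 := (matD4 K).St.orth_sim (i := (0 : Fin 4)) (j := (3 : Fin 4)) (by decide) (by decide +kernel)
  have h3 := (matD4 K).St.orth_sim (i := (2 : Fin 4)) (j := (3 : Fin 4)) (by decide) (by decide +kernel)
  have h4 : ∀ t, (matD4 K).St.x (goodD4.rs.sim (0 : Fin 4)) t * (matD4 K).St.x (goodD4.rs.sim (2 : Fin 4)) (f t) *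
      (matD4 K).St.x (goodD4.rs.sim (3 : Fin 4)) (f (f t)) ∈ stSub chevD4 (d4Words K q) := fun t => by
    have := stw_mem (D := chevD4) (mem2 (r := d4p1) (s := d4p3) (k := d4p4) (q := q) (by simp) t)
    rw [← hf, ← hf2 hf] at this
    simp only [stw, List.map_cons, List.map_nil, List.prod_cons, List.prod_nil, mul_one, ← mul_assoc] at this
    exact this
  have h5 : ∀ t, (matD4 K).St.x (goodD4.rs.neg (goodD4.rs.sim (0 : Fin 4))) t *
      (matD4 K).St.x (goodD4.rs.neg (goodD4.rs.sim (2 : Fin 4))) (f t) *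
      (matD4 K).St.x (goodD4.rs.neg (goodD4.rs.sim (3 : Fin 4))) (f (f t)) ∈ stSub chevD4 (d4Words K q) :=
    fun t => by
      have := stw_mem (D := chevD4) (mem2 (r := d4m1) (s := d4m3) (k := d4m4) (q := q) (by simp) t)
      rw [← hf, ← hf2 hf] at this
      simp only [stw, List.map_cons, List.map_nil, List.prod_cons, List.prod_nil, mul_one, ← mul_assoc] at this
      exact this
  have key : ∀ t, (matD4 K).St.n (goodD4.rs.sim (0 : Fin 4)) t * (matD4 K).St.n (goodD4.rs.sim (2 : Fin 4)) (f t) *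
      (matD4 K).St.n (goodD4.rs.sim (3 : Fin 4)) (f (f t)) ∈ stSub chevD4 (d4Words K q) := by
    intro t
    rw [h1.n3 h2 h3]
    exact mul_mem (mul_mem (h4 t) (by simpa using h5 (-t⁻¹))) (h4 t)
  rw [h1.h3 h2 h3]
  exact mul_mem (key t) (by simpa using key (-1))

theorem hmap_mem (a : Fin 4 → Kˣ) (ha : a ∈ (matD4 K).Fix chkD4a chk2D4 (hp0 K) f) :
    (matD4 K).St.hmap a ∈ stSub chevD4 (d4Words K q) := by
  obtain ⟨h1, h2, h3, -⟩ := (mem_Fix hf).1 ha
  rw [(matD4 K).St.hmap_eq_prod (L := ([0, 2, 3, 1] : List (Fin 4))) (by decide) (by decide)]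
  simp only [List.map_cons, List.map_nil, List.prod_cons, List.prod_nil, mul_one, ← mul_assoc]
  rw [h3, h1, Units.val_pow_eq_pow_val, Units.val_pow_eq_pow_val, ← hf, ← hf, Units.val_pow_eq_pow_val, ← hf]
  refine mul_mem (h3_mem hf (a 0)) ?_
  exact MatRG.h_mem (gen hf hff) (by decide +kernel) (by decide +kernel)
      (by rw [hf, ← Units.val_pow_eq_pow_val, h2])

theorem card_Fix [Finite K] (hq : 1 ≤ q) (hK : Nat.card K = q ^ 3) :
    Nat.card ((matD4 K).Fix chkD4a chk2D4 (hp0 K) f) = (q - 1) ^ 2 * (q ^ 2 + q + 1) := by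
  have hqq : ∀ a : Kˣ, ((a ^ q) ^ q) ^ q = a := fun a => Units.ext (by simpa [hf] using hff a)
  rw [card_of_param (G := Fin chevD4.rank → Kˣ) (T := Kˣ × {c : Kˣ // c ^ q = c})
    (fun p => (![p.1, p.2.1, p.1 ^ q, (p.1 ^ q) ^ q] : Fin 4 → Kˣ))]
  · simp only [Nat.card_prod, Nat.card_units, card_units_fixed hq hK, hK]
    zify [hq, Nat.one_le_pow 3 q hq]
    ring
  · rintro ⟨a, b⟩ ⟨a', b'⟩ e
    have h0 := congrFun e 0
    have h1 := congrFun e 1
    simp only [Matrix.cons_val] at h0 h1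
    rw [h0, Subtype.ext h1]
  · intro (a : Fin 4 → Kˣ)
    rw [mem_Fix hf]
    constructor
    · rintro ⟨h1, h2, h3, -⟩
      refine ⟨(a 0, ⟨a 1, h2⟩), funext fun i : Fin 4 => ?_⟩
      fin_cases i <;> simp [h1, h3]
    · rintro ⟨⟨a, b⟩, rfl⟩
      simp [b.2, hqq]

omit hf hff in
theorem zker_aux {A : Type*} [AddCommGroup A] {a b c d : A}
    (h : 2 • a + -b = 0 ∧ -a + 2 • b + -c + -d = 0 ∧ -b + 2 • c = 0 ∧ -b + 2 • d = 0) :
    b = 0 ∧ 2 • a = 0 ∧ (c = a → d = a → a = 0) := by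
  obtain ⟨h0, h1, h2, h3⟩ := h
  refine ⟨?_, ?_, ?_⟩
  · linear_combination (norm := module) h0 + 2 • h1 + h2 + h3
  · linear_combination (norm := module) 2 • h0 + 2 • h1 + h2 + h3
  · rintro rfl rfl
    linear_combination (norm := module) 2 • h0 + h1

omit hff in
theorem Fix_inf : (matD4 K).Fix chkD4a chk2D4 (hp0 K) f ⊓ zker goodD4.rs K = ⊥ := by
  rw [eq_bot_iff]
  rintro (a : Fin 4 → Kˣ) ⟨h1, h2⟩
  obtain ⟨h3, -, h4, -⟩ := (mem_Fix hf).1 h1
  replace h2 := goodD4.mem_zker.1 h2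
  change ∀ j : Fin 4, ∏ i : Fin 4, a i ^ (auxD4.CL.getD i []).getD j 0 = 1 at h2
  simp only [Fin.forall_fin_succ, Fin.prod_univ_four] at h2
  simp [auxD4] at h2
  have h2' : a 1 = 1 ∧ a 0 ^ 2 = 1 ∧ (a 2 = a 0 → a 3 = a 0 → a 0 = 1) :=
    zker_aux (A := Additive Kˣ) (a := Additive.ofMul (a 0)) (b := Additive.ofMul (a 1)) (c := Additive.ofMul (a 2))
      (d := Additive.ofMul (a 3)) h2
  obtain ⟨h5, h6, h7⟩ := h2'
  have h8 : a 0 ^ q = a 0 := by
    refine Units.ext ?_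
    rw [Units.val_pow_eq_pow_val, ← hf]
    rcases sq_eq_one_iff.1 (show (a 0 : K) ^ 2 = 1 by rw [← Units.val_pow_eq_pow_val, h6, Units.val_one]) with h | h <;> simp [h]
  have h9 := h7 (h3.trans h8) (by rw [h4, h3, h8, h8])
  refine funext fun i : Fin 4 => ?_
  fin_cases i <;> simp [h3, h4, h5, h9]

theorem perfect [Finite K] (hq : 2 ≤ q) (hK : Nat.card K = q ^ 3) :
    commutator (stSub chevD4 (d4Words K q)) = ⊤ := by
  refine (gen hf hff).tw.commutator_eq_top ((matD4 K).stSub_le_sup ?_) fun i => ?_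
  · rintro w (⟨t, ht, r, hr, rfl⟩ | ⟨t, p, hr, rfl⟩)
    · revert r; simp only [List.map_cons, List.map_nil]; decide +kernel
    · revert p; simp only [List.map_cons, List.map_nil]; decide +kernel
  rw [tsetD4 _ fun _ => rfl]
  obtain ⟨a, ha⟩ : ∃ a : Kˣ, a ^ 2 ≠ 1 := by
    by_contra! h
    have h1 : Monoid.exponent Kˣ ∣ 2 := Monoid.exponent_dvd_of_forall_pow_eq_one h
    rw [IsCyclic.exponent_eq_card, Nat.card_units, hK] at h1
    have := Nat.le_of_dvd two_pos h1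
    have := Nat.pow_le_pow_left hq 3
    omega
  have hqq : ∀ a : Kˣ, ((a ^ q) ^ q) ^ q = a := fun a => Units.ext (by simpa [hf] using hff a)
  have hinj : ∀ a : Kˣ, a ^ 2 ≠ 1 → (a ^ q) ^ 2 ≠ 1 := fun a ha h => ha (by
    rw [← hqq (a ^ 2), pow_right_comm a 2 q, h, one_pow, one_pow])
  have hc := hmap_mem hf hff ![a, 1, a ^ q, (a ^ q) ^ q] ((mem_Fix hf).2 (by simp [hqq]))
  have h0 := orbitD4.2.2.2.2 i i.2
  have key := (matD4 K).St.XS_inf_le_commutator (goodD4.closed_LS h0)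
    (fun r hr => (goodD4.isPosRoot_iff r).1 (goodD4.pos_of_posChk h0 r hr)) (hΓ := hc)
  fin_cases i
  · intro b hb
    obtain ⟨t, rfl⟩ := (mem_iff1 hf hff b).1 hb
    simpa [stw] using MatRG.gen_mem_comm (gen hf hff) (r := 1) (s := 23) (by decide +kernel) (by decide +kernel)
      (by decide +kernel) ((hf _).trans t.2)
  · refine key fun r hr => ?_
    obtain ⟨j, hj, h2⟩ := fact4 r hr
    rw [Good.chi_eq]
    change ∏ i : Fin 4, _ ^ dot (auxD4.row r) (auxD4.CL.getD i []) ≠ 1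
    simp only [List.forall_mem_cons] at h2
    have h3 := hinj _ ha
    have h4 := hinj _ h3
    simp only [List.mem_cons, List.not_mem_nil, or_false] at hj
    rcases hj with rfl | rfl | rfl <;>
      simpa [Fin.prod_univ_four, -List.getD_eq_getElem?_getD, h2]

omit hf hff in
/-- The structure of the twisted group. -/
theorem main [Fintype K] (hq : IsPrimePow q) (hK : Fintype.card K = q ^ 3) :
    ∃ T : Tw (matD4 K).X (twistedD4 K q) (Fin 2), (∀ i, T.J i = Good.JS chevD4 (JLD4.getD i [])) ∧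
      (∀ i, Nat.card ↥((matD4 K).X.XS {r | goodD4.rs.Pos r ∧ r ∈ goodD4.rs.Phi (T.J i)} ⊓ twistedD4 K q) =
        q ^ goodD4.rs.len (goodD4.rs.w0 (T.J i))) ∧
      Nat.card ↥((matD4 K).X.H ⊓ twistedD4 K q) = (q - 1) ^ 2 * (q ^ 2 + q + 1) ∧
      commutator (twistedD4 K q) = ⊤ := by
  obtain ⟨f, hf⟩ := exists_frob hq hK
  have hff : ∀ t, f (f (f t)) = t := fun t => by
    rw [hf, hf2 hf, ← pow_mul, ← pow_succ, ← hK, FiniteField.pow_card]
  have hK' : Nat.card K = q ^ 3 := by rw [Nat.card_eq_fintype_card, hK]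
  rw [twistedD4, ← (matD4 K).map_stSub]
  refine ⟨(gen hf hff).tw.map (matD4 K).θ_x, fun _ => rfl, fun i => ?_, ?_,
    MatRG.commutator_map (perfect hf hff hq.two_le hK')⟩
  · rw [(gen hf hff).tw.card_map_XS_inf (matD4 K).θ_x fun _ h => h.1, tlenD4 _ fun _ => rfl, tsetD4 _ fun _ => rfl]
    exact card_XS hf hff hq.one_lt.le hK' i i.2
  · rw [← card_Fix hf hff hq.one_lt.le hK', ← MatRG.card_H (gen hf hff) (hmap_injective_D4 K) (hmap_mem hf hff),
      Fix_inf hf, Subgroup.card_bot, one_mul]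

end D4

end H20
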