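import Mathlib
import Cfsg.Agent.H20.Hom
import Cfsg.Agent.H19.FastE6

/-! Checked data of a map of root elements (generated). -/

set_option autoImplicit false

namespace H20

open Cfsg.Lie

def homE6g : HomD where
  p := 0
  ρT := 0x47464542374441363f34313c2d2926244340353e33303d322f2e3b2c28253a2b27392a380f1d0e201c0d221f1b0c1918150a17140912070423211e1a0b1613081106031005020100
  γT := 0x96ad22942944b5690
  lamT := 0x0

theorem chkE6g : homE6g.Chk chevE6 chevE6 :=
  homE6g.chk_of_agree H19.agreeE6 H19.agreeE6 (Or.inl rfl) (by decide +kernel)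

end H20
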