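import Mathlib
import Cfsg.Agent.H20.TwD
import Cfsg.Agent.H20.GoodE6
import Cfsg.Agent.H20.HomE6g

/-! Certificates for the twisted group of type E6 (generated). -/

set_option autoImplicit false
set_option maxRecDepth 100000

namespace H20

open Cfsg.Lie

def JLE6 : List (List ℕ) := [[1], [3], [2, 4], [0, 5]]
def WLE6 : List (List ℕ) := [[1], [3], [2, 4], [0, 5]]
def PLE6 : List (List ℕ) := [[46], [39], [42, 37], [56, 36]]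
def MLE6 : List (List ℕ) := [[1, 3, 2, 2], [3, 1, 4, 2], [2, 4, 1, 3], [2, 2, 3, 1]]

theorem chk2E6 : homE6g.Chk2 chevE6 [5, 1, 4, 3, 2, 0] := by decide +kernel
theorem orbitE6 : orbitChk auxE6 72 6 4 JLE6 PLE6 [5, 1, 4, 3, 2, 0] := by decide +kernel
theorem w0E6 : w0Chk auxE6 6 4 JLE6 WLE6 := by decide +kernel

theorem torbE6_0 : orbChk auxE6 6 72 [0, 1, 2, 3, 4, 5] [0, 2, 3, 4, 5] [[1], [3], [2, 4], [0, 5]] [0, 1, 0, 0, 0, 0]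
    [[0, -1, 0, 0, 0, 0], [0, 1, 0, -1, 0, 0], [0, 0, -1, 1, -1, 0], [-1, 0, 1, -1, 1, -1], [-1, -1, 0, 1, 0, -1], [1, 0, 0, -1, 0, 1], [-1, 1, 0, 0, 0, -1], [1, -1, -1, 1, -1, 1], [1, 1, -1, 0, -1, 1], [0, -1, 1, -1, 1, 0], [0, -2, 0, 1, 0, 0], [0, 1, 1, -2, 1, 0], [0, 2, 0, -1, 0, 0], [0, -1, -1, 2, -1, 0], [0, 1, -1, 1, -1, 0], [-1, -1, 1, 0, 1, -1], [-1, 1, 1, -1, 1, -1], [1, -1, 0, 0, 0, 1], [-1, 0, 0, 1, 0, -1], [1, 1, 0, -1, 0, 1], [1, 0, -1, 1, -1, 1], [0, 0, 1, -1, 1, 0], [0, -1, 0, 1, 0, 0], [0, 1, 0, 0, 0, 0]]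
    [[0, 0, 0, 0, 0, 1], [0, 0, 0, 0, 1, 0], [0, 0, 0, 0, 1, 1], [0, 0, 0, 1, 0, 0], [0, 0, 0, 1, 1, 0], [0, 0, 0, 1, 1, 1], [0, 0, 1, 0, 0, 0], [0, 0, 1, 1, 0, 0], [0, 0, 1, 1, 1, 0], [0, 0, 1, 1, 1, 1], [0, 1, 0, 0, 0, 0], [0, 1, 0, 1, 0, 0], [0, 1, 0, 1, 1, 0], [0, 1, 0, 1, 1, 1], [0, 1, 1, 1, 0, 0], [0, 1, 1, 1, 1, 0], [0, 1, 1, 1, 1, 1], [0, 1, 1, 2, 1, 0], [0, 1, 1, 2, 1, 1], [0, 1, 1, 2, 2, 1], [1, 0, 0, 0, 0, 0], [1, 0, 1, 0, 0, 0], [1, 0, 1, 1, 0, 0], [1, 0, 1, 1, 1, 0], [1, 0, 1, 1, 1, 1], [1, 1, 1, 1, 0, 0], [1, 1, 1, 1, 1, 0], [1, 1, 1, 1, 1, 1], [1, 1, 1, 2, 1, 0], [1, 1, 1, 2, 1, 1], [1, 1, 1, 2, 2, 1], [1, 1, 2, 2, 1, 0], [1, 1, 2, 2, 1, 1], [1, 1, 2, 2, 2, 1], [1, 1, 2, 3, 2, 1], [1, 2, 2, 3, 2, 1]]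
    [21, 20, 19, 17, 16, 15, 15, 14, 13, 12, 11, 11, 10, 10, 9, 8, 7, 6, 6, 5, 4, 2, 1, 0] := by decide +kernel

theorem satE6_0 : satChk 4 JLE6 WLE6 [0, 1, 2, 3, 4, 5] [[1], [3], [2, 4], [0, 5]] := by decide +kernel

theorem torbE6_1 : orbChk auxE6 6 72 [0, 2, 3, 4, 5] [2, 3, 4] [[3], [2, 4], [0, 5]] [1, 0, 0, 0, 0, 1]
    [[-1, 2, 0, 0, 0, -1], [1, 2, -1, 0, -1, 1], [0, 2, 1, -2, 1, 0], [0, 0, -1, 2, -1, 0], [-1, 0, 1, 0, 1, -1], [1, 0, 0, 0, 0, 1]]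
    [[0, 0, 0, 0, 0, 1], [0, 0, 0, 0, 1, 0], [0, 0, 0, 0, 1, 1], [0, 0, 0, 1, 0, 0], [0, 0, 0, 1, 1, 0], [0, 0, 0, 1, 1, 1], [0, 0, 1, 0, 0, 0], [0, 0, 1, 1, 0, 0], [0, 0, 1, 1, 1, 0], [0, 0, 1, 1, 1, 1], [1, 0, 0, 0, 0, 0], [1, 0, 1, 0, 0, 0], [1, 0, 1, 1, 0, 0], [1, 0, 1, 1, 1, 0], [1, 0, 1, 1, 1, 1]]
    [9, 7, 5, 4, 2, 0] := by decide +kernel

theorem satE6_1 : satChk 4 JLE6 WLE6 [0, 2, 3, 4, 5] [[3], [2, 4], [0, 5]] := by decide +kernel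

theorem torbE6_2 : orbChk auxE6 6 72 [2, 3, 4] [2, 4] [[3], [2, 4]] [0, 0, 0, 1, 0, 0]
    [[1, 2, 0, -1, 0, 1], [1, 1, -1, 1, -1, 1], [0, 1, 1, -1, 1, 0], [0, 0, 0, 1, 0, 0]]
    [[0, 0, 0, 0, 1, 0], [0, 0, 0, 1, 0, 0], [0, 0, 0, 1, 1, 0], [0, 0, 1, 0, 0, 0], [0, 0, 1, 1, 0, 0], [0, 0, 1, 1, 1, 0]]
    [4, 3, 1, 0] := by decide +kernel

theorem satE6_2 : satChk 4 JLE6 WLE6 [2, 3, 4] [[3], [2, 4]] := by decide +kernel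

theorem torbE6_3 : orbChk auxE6 6 72 [2, 4] [] [[2, 4]] [0, 0, 1, 0, 1, 0]
    [[1, 0, -1, 2, -1, 1], [0, 0, 1, 0, 1, 0]]
    [[0, 0, 0, 0, 1, 0], [0, 0, 1, 0, 0, 0]]
    [2, 0] := by decide +kernel

theorem satE6_3 : satChk 4 JLE6 WLE6 [2, 4] [[2, 4]] := by decide +kernel

theorem satE6_4 : satChk 4 JLE6 WLE6 [] [] := by decide +kernel

section

variable {K G : Type*} [Field K] [Group G] {X : RG goodE6.rs K G} {Γ : Subgroup G} (T : Tw X Γ (Fin 4))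
  (hJ : ∀ i : Fin 4, T.J i = Good.JS chevE6 (JLE6.getD i []))

include hJ

theorem tpoinE6 {A : Type*} [CommRing A] (y : A) :
    (y - 1) ^ 4 * (y + 1) ^ 2 * goodE6.rs.poin T.W1 Set.univ y = (y ^ 2 - 1) * (y ^ 5 + 1) * (y ^ 6 - 1) * (y ^ 8 - 1) * (y ^ 9 + 1) * (y ^ 12 - 1) := by
  rw [← show Good.JS chevE6 [0, 1, 2, 3, 4, 5] = Set.univ from Good.JS_range, T.poin_step hJ w0E6 torbE6_0 satE6_0 satE6_1, T.poin_step hJ w0E6 torbE6_1 satE6_1 satE6_2, T.poin_step hJ w0E6 torbE6_2 satE6_2 satE6_3, T.poin_step hJ w0E6 torbE6_3 satE6_3 satE6_4,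
    Good.JS_nil, RS.poin_empty]
  simp only [List.map_cons, List.map_nil, List.sum_cons, List.sum_nil]
  ring

theorem torderE6 (i j : Fin 4) :
    orderOf (goodE6.rs.w0 (T.J i) * goodE6.rs.w0 (T.J j)) = (MLE6.getD i []).getD j 0 := by
  have key : ∀ i j : Fin 4, (MLE6.getD i []).getD j 0 ≠ 0 ∧
      iterChk auxE6.CL (WLE6.getD i [] ++ WLE6.getD j []) (List.replicate 6 1) ((MLE6.getD i []).getD j 0 - 1)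
      (wordL auxE6.CL (WLE6.getD i [] ++ WLE6.getD j []) (List.replicate 6 1)) = true := by decide +kernel
  exact T.orderOf_w0 hJ w0E6 i j (key i j).1 (key i j).2

theorem tirrE6 (A : Set (Fin 4)) (h1 : A.Nonempty) (h2 : Aᶜ.Nonempty) : ∃ i ∈ A, ∃ j ∉ A,
    goodE6.rs.w0 (T.J i) * goodE6.rs.w0 (T.J j) ≠ goodE6.rs.w0 (T.J j) * goodE6.rs.w0 (T.J i) :=
  irr_of_orderOf (fun i => goodE6.rs.w0 (T.J i)) (fun _ => RS.w0_mul_w0 _ _) _ (torderE6 T hJ)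
    (by decide +kernel) A h1 h2

theorem tlenE6 (i : Fin 4) : goodE6.rs.len (goodE6.rs.w0 (T.J i)) = (PLE6.getD i []).length := by
  rw [hJ, goodE6.len_w0 (orbitE6.2.2.2.2 i i.2)]

theorem tsetE6 (i : Fin 4) : {r | goodE6.rs.Pos r ∧ r ∈ goodE6.rs.Phi (T.J i)} =
    LS chevE6 (PLE6.getD i []) := by
  rw [hJ, goodE6.posPhi_eq (orbitE6.2.2.2.2 i i.2)]

end

end H20
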