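import Mathlib
import Cfsg.Agent.H20.Hom
import Cfsg.Agent.H19.FastE6
import Cfsg.Agent.H19.FastE7

/-! Checked data of a map of root elements (generated). -/

set_option autoImplicit false

namespace H20

open Cfsg.Lie

def homE67 : HomD where
  p := 0
  ρT := 0x7773706e6d6a686765646361605f5e5d5a585755545351504f4e4c4b4a494746454342403d3b3a383736343332312f2e2d2c2a2928262523201f1e1d1c1a1918161513100f0d0a06
  γT := 0x0
  lamT := 0x0

theorem chkE67 : homE67.Chk chevE6 chevE7 :=
  homE67.chk_of_agree H19.agreeE6 H19.agreeE7 (Or.inl rfl) (by decide +kernel)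

end H20
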