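import Mathlib
import Cfsg.Agent.H20.Univ
import Cfsg.Agent.H20.HomE67
import Cfsg.Agent.H19.CertE6
import Cfsg.Agent.H19.CertE7

set_option autoImplicit false

namespace H20

open Cfsg.Lie

theorem hmap_injective_E6 (K : Type*) [Field K] : Function.Injective (H19.matE6 K).St.hmap :=
  (H19.matE6 K).St_hmap_injective (H19.matE7 K) chkE67 (e := [0, 1, 2, 3, 4, 5])
    (Q := [[-2, 1, -1, 0, 0, 0], [-4, 2, -2, 0, 0, 0], [-5, 2, -2, 0, 0, 0], [-8, 3, -4, 0, 0, 0],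
      [-7, 2, -4, -1, 0, 0], [-6, 1, -4, -2, -1, 0], [-5, 0, -4, -3, -2, -1]]) (by decide +kernel)

end H20
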