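import Mathlib
import Cfsg.Prelude.Def_LieTwisted
import Cfsg.Agent.H20.TwH
import Cfsg.Agent.H20.TwCertE6
import Cfsg.Agent.H20.UnivE6

/-! The twisted group of type E₆. -/

set_option autoImplicit false
set_option backward.isDefEq.respectTransparency false

namespace H20

open Finset Cfsg.Lie H19
open scoped commutatorElement

namespace E6

variable {K : Type*} [Field K] {q : ℕ} {f : K →+* K}

theorem hp0 (K : Type*) [Field K] : ((homE6g.p : ℕ) : K) = 0 := Nat.cast_zero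

variable (f) in
/-- the twisting endomorphism -/
noncomputable abbrev S : Sym (matE6 K).St := (matE6 K).sym chkE6g chk2E6 (hp0 K) f

theorem fact1 : ∀ r ∈ [e6p2, e6m2, e6p4, e6m4], r < chevE6.nroots ∧ homE6g.ρ r = r ∧ homE6g.γ r = 1 ∧
    homE6g.lam r = 1 := by decide +kernel

theorem fact2 : ∀ p ∈ [(e6p1, e6p6), (e6m1, e6m6), (e6p3, e6p5), (e6m3, e6m5)],
    p.1 < chevE6.nroots ∧ p.2 < chevE6.nroots ∧ homE6g.ρ p.1 = p.2 ∧ homE6g.ρ p.2 = p.1 ∧ homE6g.γ p.1 = 1 ∧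
      homE6g.γ p.2 = 1 ∧ homE6g.lam p.1 = 1 ∧ homE6g.lam p.2 = 1 ∧
      homE6g.commB (recOf chevE6) p.1 p.2 = true := by decide +kernel

theorem fact3 : ∀ i < 4, (∀ r ∈ PLE6.getD i [], ∀ s ∈ PLE6.getD i [], homE6g.commB (recOf chevE6) r s = true) ∧
    ((PLE6.getD i []).map homE6g.ρ).Perm (PLE6.getD i []) := by decide +kernel

theorem fact4 : ∀ r ∈ [42, 37, 56, 36], ∃ k ∈ ([-1, 2] : List ℤ),
    (dot (auxE6.row r) (auxE6.CL.getD 0 []) = k ∧ dot (auxE6.row r) (auxE6.CL.getD 5 []) = 0) ∨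
    (dot (auxE6.row r) (auxE6.CL.getD 0 []) = 0 ∧ dot (auxE6.row r) (auxE6.CL.getD 5 []) = k) := by
  decide +kernel

theorem zker_aux {A : Type*} [AddCommGroup A] (a b c d e f : A) :
    2 • a + -c = 0 ∧ 2 • b + -d = 0 ∧ -a + 2 • c + -d = 0 ∧ -b + -c + 2 • d + -e = 0 ∧ -d + 2 • e + -f = 0 ∧
      -e + 2 • f = 0 ↔ 3 • a = 0 ∧ b = 0 ∧ c = 2 • a ∧ d = 0 ∧ e = a ∧ f = 2 • a := by
  constructor
  · rintro ⟨h0, h1, h2, h3, h4, h5⟩
    refine ⟨?_, ?_, ?_, ?_, ?_, ?_⟩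
    · linear_combination (norm := module) 4 • h0 + 3 • h1 + 5 • h2 + 6 • h3 + 4 • h4 + 2 • h5
    · linear_combination (norm := module) h0 + 2 • h1 + 2 • h2 + 3 • h3 + 2 • h4 + h5
    · linear_combination (norm := module) -h0
    · linear_combination (norm := module) 2 • h0 + 3 • h1 + 4 • h2 + 6 • h3 + 4 • h4 + 2 • h5
    · linear_combination (norm := module) h1 + h2 + 2 • h3 + 2 • h4 + h5
    · linear_combination (norm := module) -(2 • h0) - h1 - 2 • h2 - 2 • h3 - h4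
  · rintro ⟨h0, h1, h2, h3, h4, h5⟩
    simp only [h1, h2, h3, h4, h5]
    refine ⟨?_, ?_, ?_, ?_, ?_, ?_⟩
    · module
    · module
    · linear_combination (norm := module) h0
    · linear_combination (norm := module) -h0
    · module
    · linear_combination (norm := module) h0

theorem mem1 {r : ℕ} (hr : r ∈ [e6p2, e6m2, e6p4, e6m4]) {t : K} (ht : t ^ q = t) : [(r, t)] ∈ e6Words K q :=
  Or.inl ⟨t, ht, r, hr, rfl⟩

theorem mem2 {r s : ℕ} (hr : (r, s) ∈ [(e6p1, e6p6), (e6m1, e6m6), (e6p3, e6p5), (e6m3, e6m5)]) (t : K) :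
    [(r, t), (s, t ^ q)] ∈ e6Words K q := Or.inr ⟨t, _, hr, rfl⟩

variable (hf : ∀ t, f t = t ^ q) (hff : ∀ t, f (f t) = t)

include hf hff

theorem le (w : List (ℕ × K)) (hw : w ∈ e6Words K q) : (S f).σ (stw chevE6 w) = stw chevE6 w := by
  rcases hw with ⟨t, ht, r, hr, rfl⟩ | ⟨t, p, hr, rfl⟩
  · obtain ⟨h1, h2, h3, h4⟩ := fact1 r hr
    rw [MatRG.σ_stw _ _ _ _ _ (by simpa using h1)]
    simp [h2, h3, h4, hf, ht]
  · obtain ⟨h1, h2, h3, h4, h5, h6, h7, h8, h9⟩ := fact2 p hr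
    rw [MatRG.σ_stw _ _ _ _ _ (by simp [h1, h2]), ← hf]
    simpa [h3, h4, h5, h6, h7, h8, hff, stw, stRel] using
      ((stRel chevE6 K).commute_of_commB goodE6 (hp0 K) h1 h2 h9 t (f t)).symm.eq

omit hff in
theorem pos (i : ℕ) (hi : i < 4) (t : ℕ → K)
    (h : stw chevE6 ((PLE6.getD i []).map fun r => (r, t r)) ∈ (S f).C) :
    (PLE6.getD i []).map (fun r => (r, t r)) ∈ e6Words K q := by
  have h0 := orbitE6.2.2.2.2 i hi
  have h1 := (matE6 K).stw_coord chkE6g chk2E6 (hp0 K) f h0.1 (goodE6.pos_of_posChk h0) (fact3 i hi).1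
    (fact3 i hi).2 h
  interval_cases i
  · have := fact1 e6p2 (by simp)
    exact mem1 (r := e6p2) (t := t e6p2) (by simp) (by simpa [this, hf] using (h1 e6p2 (by decide)).symm)
  · have := fact1 e6p4 (by simp)
    exact mem1 (r := e6p4) (t := t e6p4) (by simp) (by simpa [this, hf] using (h1 e6p4 (by decide)).symm)
  · have := fact2 (e6p3, e6p5) (by simp)
    have h2 : t e6p5 = t e6p3 ^ q := by simpa [this, hf] using h1 e6p3 (by decide)
    have h3 := mem2 (r := e6p3) (s := e6p5) (q := q) (by simp) (t e6p3)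
    rw [← h2] at h3
    exact h3
  · have := fact2 (e6p1, e6p6) (by simp)
    have h2 : t e6p6 = t e6p1 ^ q := by simpa [this, hf] using h1 e6p1 (by decide)
    have h3 := mem2 (r := e6p1) (s := e6p6) (q := q) (by simp) (t e6p1)
    rw [← h2] at h3
    exact h3

/-- the hypotheses of the general theory -/
noncomputable def gen : (S f).Gen (stSub chevE6 (e6Words K q)) (Fin 4) :=
  (matE6 K).gen chkE6g chk2E6 (hp0 K) f orbitE6 (le hf hff) (fun i hi t h => stw_mem (pos hf i hi t h))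
    (fun i hi => by
      interval_cases i
      · exact ⟨_, mem1 (r := e6m2) (by simp) (one_pow q), by simp only [List.map_cons, List.map_nil]; decide +kernel, by simp⟩
      · exact ⟨_, mem1 (r := e6m4) (by simp) (one_pow q), by simp only [List.map_cons, List.map_nil]; decide +kernel, by simp⟩
      · exact ⟨_, mem2 (r := e6m3) (s := e6m5) (by simp) 1, by simp only [List.map_cons, List.map_nil]; decide +kernel, by simp⟩
      · exact ⟨_, mem2 (r := e6m1) (s := e6m6) (by simp) 1, by simp only [List.map_cons, List.map_nil]; decide +kernel, by simp⟩)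
    (fun i hi => by
      interval_cases i
      · exact ⟨_, mem1 (r := e6p2) (by simp) (one_pow q), rfl, by simp⟩
      · exact ⟨_, mem1 (r := e6p4) (by simp) (one_pow q), rfl, by simp⟩
      · exact ⟨_, mem2 (r := e6p3) (s := e6p5) (by simp) 1, rfl, by simp⟩
      · exact ⟨_, mem2 (r := e6p1) (s := e6p6) (by simp) 1, rfl, by simp⟩)

theorem mem_iff (i : ℕ) (hi : i < 4) (a : chevE6.SteinbergGroup K) :
    a ∈ (matE6 K).St.XS (LS chevE6 (PLE6.getD i [])) ⊓ stSub chevE6 (e6Words K q) ↔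
      ∃ w ∈ e6Words K q, w.map Prod.fst = PLE6.getD i [] ∧ a = stw chevE6 w := by
  have h0 := orbitE6.2.2.2.2 i hi
  constructor
  · rintro ⟨h1, h2⟩
    obtain ⟨t, rfl⟩ := (matE6 K).exists_stw h0.1 (goodE6.closed_LS h0) (goodE6.pos_of_posChk h0) h1
    exact ⟨_, pos hf i hi t ((gen hf hff).le h2), by simp [Function.comp_def], rfl⟩
  · rintro ⟨w, hw, h1, rfl⟩
    exact ⟨(matE6 K).stw_mem_XS (p := (· ∈ PLE6.getD i [])) (by simp [h1]), stw_mem hw⟩

theorem mem_iff1 {i r : ℕ} (hi : i < 4) (hr : PLE6.getD i [] = [r]) (hr' : r ∈ [e6p2, e6m2, e6p4, e6m4])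
    (a : chevE6.SteinbergGroup K) :
    a ∈ (matE6 K).St.XS (LS chevE6 (PLE6.getD i [])) ⊓ stSub chevE6 (e6Words K q) ↔
      ∃ t : {t : K // t ^ q = t}, a = stw chevE6 [(r, t.1)] := by
  rw [mem_iff hf hff i hi, hr]
  constructor
  · rintro ⟨w, ⟨t, ht, r, -, rfl⟩ | ⟨t, p, -, rfl⟩, h1, rfl⟩
    · obtain rfl : r = _ := by simpa using h1
      exact ⟨⟨t, ht⟩, rfl⟩
    · simp at h1
  · rintro ⟨t, rfl⟩; exact ⟨_, mem1 hr' t.2, rfl, rfl⟩

theorem mem_iff2 {i r s : ℕ} (hi : i < 4) (hr : PLE6.getD i [] = [r, s])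
    (hr' : (r, s) ∈ [(e6p1, e6p6), (e6m1, e6m6), (e6p3, e6p5), (e6m3, e6m5)]) (a : chevE6.SteinbergGroup K) :
    a ∈ (matE6 K).St.XS (LS chevE6 (PLE6.getD i [])) ⊓ stSub chevE6 (e6Words K q) ↔
      ∃ t : K, a = stw chevE6 [(r, t), (s, t ^ q)] := by
  rw [mem_iff hf hff i hi, hr]
  constructor
  · rintro ⟨w, ⟨t, ht, r, -, rfl⟩ | ⟨t, p, -, rfl⟩, h1, rfl⟩
    · simp at h1
    · obtain ⟨rfl, rfl⟩ : p.1 = _ ∧ p.2 = _ := by simpa using h1
      exact ⟨t, rfl⟩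
  · rintro ⟨t, rfl⟩; exact ⟨_, mem2 hr' t, rfl, rfl⟩

theorem card_XS [Finite K] (hq : 1 ≤ q) (hK : Nat.card K = q ^ 2) (i : ℕ) (hi : i < 4) :
    Nat.card ↥((matE6 K).St.XS (LS chevE6 (PLE6.getD i [])) ⊓ stSub chevE6 (e6Words K q)) =
      q ^ (PLE6.getD i []).length := by
  have h0 := orbitE6.2.2.2.2 i hi
  have key1 : ∀ r, PLE6.getD i [] = [r] → r ∈ [e6p2, e6m2, e6p4, e6m4] →
      Nat.card ↥((matE6 K).St.XS (LS chevE6 (PLE6.getD i [])) ⊓ stSub chevE6 (e6Words K q)) =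
        q ^ (PLE6.getD i []).length := by
    intro r hr hr'
    rw [card_of_param _ ?_ (mem_iff1 hf hff hi hr hr'), card_fixed hq hK, hr, List.length_singleton, pow_one]
    intro t t' e
    exact Subtype.ext ((matE6 K).stw_inj (L := [r]) (hr ▸ h0.1) (hr ▸ goodE6.pos_of_posChk h0) (t := fun _ => t)
      (t' := fun _ => t') e r (by simp))
  have key2 : ∀ r s, PLE6.getD i [] = [r, s] →
      (r, s) ∈ [(e6p1, e6p6), (e6m1, e6m6), (e6p3, e6p5), (e6m3, e6m5)] →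
      Nat.card ↥((matE6 K).St.XS (LS chevE6 (PLE6.getD i [])) ⊓ stSub chevE6 (e6Words K q)) =
        q ^ (PLE6.getD i []).length := by
    intro r s hr hr'
    rw [card_of_param _ ?_ (mem_iff2 hf hff hi hr hr'), hK, hr]; rfl
    intro t t' e
    have hrs : s ≠ r := by have := hr ▸ h0.1; simp at this; exact Ne.symm this
    simpa using (matE6 K).stw_inj (L := [r, s]) (hr ▸ h0.1) (hr ▸ goodE6.pos_of_posChk h0)
      (t := fun k => if k = r then t else t ^ q) (t' := fun k => if k = r then t' else t' ^ q)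
      (by simpa [hrs] using e) r (by simp)
  interval_cases i
  · exact key1 e6p2 rfl (by simp)
  · exact key1 e6p4 rfl (by simp)
  · exact key2 e6p3 e6p5 rfl (by simp)
  · exact key2 e6p1 e6p6 rfl (by simp)

omit hff in
theorem mem_Fix {a : Fin 6 → Kˣ} : a ∈ (matE6 K).Fix chkE6g chk2E6 (hp0 K) f ↔
    a 5 = a 0 ^ q ∧ a 1 ^ q = a 1 ∧ a 4 = a 2 ^ q ∧ a 3 ^ q = a 3 ∧ a 2 = a 4 ^ q ∧ a 0 = a 5 ^ q := by
  have h1 : ∀ i : Fin 6, homE6g.lam (chevE6.simple i) = 1 := by decide +kernel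
  rw [MatRG.mem_Fix]
  simp only [h1, pow_one, hf, ← Units.val_pow_eq_pow_val, Units.val_inj]
  refine Fin.forall_fin_succ.trans (and_congr Iff.rfl (Fin.forall_fin_succ.trans (and_congr eq_comm
    (Fin.forall_fin_succ.trans (and_congr Iff.rfl (Fin.forall_fin_succ.trans (and_congr eq_comm
    (Fin.forall_fin_succ.trans (and_congr Iff.rfl Fin.forall_fin_one))))))))) 

omit hf hff in
theorem h2_mem {Γ : Subgroup (chevE6.SteinbergGroup K)} {i j : Fin 6} (hij : i ≠ j) (hC : goodE6.rs.C i j = 0)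
    (h1 : ∀ t, stw chevE6 [(chevE6.simple i, t), (chevE6.simple j, f t)] ∈ Γ)
    (h2 : ∀ t, stw chevE6 [(chevE6.neg (chevE6.simple i), t), (chevE6.neg (chevE6.simple j), f t)] ∈ Γ) (t : K) :
    (matE6 K).St.h (goodE6.rs.sim i) t * (matE6 K).St.h (goodE6.rs.sim j) (f t) ∈ Γ := by
  have ho := (matE6 K).St.orth_sim hij hC
  have key : ∀ t, (matE6 K).St.n (goodE6.rs.sim i) t * (matE6 K).St.n (goodE6.rs.sim j) (f t) ∈ Γ := by
    intro t
    rw [ho.n_mul_n]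
    exact mul_mem (mul_mem (by simpa [stw, MatRG.St_x] using h1 t) (by simpa [stw, MatRG.St_x] using h2 (-t⁻¹))) (by simpa [stw, MatRG.St_x] using h1 t)
  rw [ho.h_mul_h]
  exact mul_mem (key t) (by simpa using key (-1))

theorem hmap_mem (a : Fin 6 → Kˣ) (ha : a ∈ (matE6 K).Fix chkE6g chk2E6 (hp0 K) f) :
    (matE6 K).St.hmap a ∈ stSub chevE6 (e6Words K q) := by
  obtain ⟨h1, h2, h3, h4, -⟩ := (mem_Fix hf).1 ha
  rw [(matE6 K).St.hmap_eq_prod (L := ([0, 5, 2, 4, 1, 3] : List (Fin 6))) (by decide) (by decide)]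
  simp only [List.map_cons, List.map_nil, List.prod_cons, List.prod_nil, mul_one, ← mul_assoc]
  rw [mul_assoc _ _ ((matE6 K).St.h _ (a 4)), h1, h3, Units.val_pow_eq_pow_val, Units.val_pow_eq_pow_val, ← hf, ← hf]
  refine mul_mem (mul_mem (mul_mem ?_ ?_) ?_) ?_
  · exact h2_mem (by decide) (by decide +kernel) (fun t => stw_mem (hf t ▸ mem2 (by decide +kernel) t))
      (fun t => stw_mem (hf t ▸ mem2 (by decide +kernel) t)) _
  · exact h2_mem (by decide) (by decide +kernel) (fun t => stw_mem (hf t ▸ mem2 (by decide +kernel) t))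
      (fun t => stw_mem (hf t ▸ mem2 (by decide +kernel) t)) _
  · exact MatRG.h_mem (gen hf hff) (by decide +kernel) (by decide +kernel)
      (by rw [hf, ← Units.val_pow_eq_pow_val, h2])
  · exact MatRG.h_mem (gen hf hff) (by decide +kernel) (by decide +kernel)
      (by rw [hf, ← Units.val_pow_eq_pow_val, h4])

theorem card_Fix [Finite K] (hq : 1 ≤ q) (hK : Nat.card K = q ^ 2) :
    Nat.card ((matE6 K).Fix chkE6g chk2E6 (hp0 K) f) = (q - 1) ^ 4 * (q + 1) ^ 2 := by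
  have hqq : ∀ a : Kˣ, (a ^ q) ^ q = a := fun a => Units.ext (by simpa [hf] using hff a)
  rw [card_of_param (G := Fin chevE6.rank → Kˣ) (T := Kˣ × Kˣ × {c : Kˣ // c ^ q = c} × {c : Kˣ // c ^ q = c})
    (fun p => (![p.1, p.2.2.1, p.2.1, p.2.2.2, p.2.1 ^ q, p.1 ^ q] : Fin 6 → Kˣ))]
  · simp only [Nat.card_prod, Nat.card_units, card_units_fixed hq hK, hK]
    zify [hq, Nat.one_le_pow 2 q hq]
    ring
  · rintro ⟨a, b, c, d⟩ ⟨a', b', c', d'⟩ e
    have h0 := congrFun e 0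
    have h1 := congrFun e 1
    have h2 := congrFun e 2
    have h3 := congrFun e 3
    simp only [Matrix.cons_val] at h0 h1 h2 h3
    rw [h0, h2, Subtype.ext h1, Subtype.ext h3]
  · intro (a : Fin 6 → Kˣ)
    rw [mem_Fix hf]
    constructor
    · rintro ⟨h1, h2, h3, h4, -⟩
      refine ⟨(a 0, a 2, ⟨a 1, h2⟩, ⟨a 3, h4⟩), funext fun i : Fin 6 => ?_⟩
      fin_cases i <;> simp [h1, h3]
    · rintro ⟨⟨a, b, c, d⟩, rfl⟩
      simp [c.2, d.2, hqq]

omit hf hff in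
theorem mem_zker {a : Fin 6 → Kˣ} : a ∈ zker goodE6.rs K ↔
    a 0 ^ 3 = 1 ∧ a = ![a 0, 1, a 0 ^ 2, 1, a 0, a 0 ^ 2] := by
  rw [Good.mem_zker]
  change (∀ j : Fin 6, ∏ i : Fin 6, a i ^ (auxE6.CL.getD i []).getD j 0 = 1) ↔ _
  simp only [Fin.forall_fin_succ, Fin.prod_univ_six, funext_iff]
  simp [auxE6]
  exact zker_aux (A := Additive Kˣ) (a 0) (a 1) (a 2) (a 3) (a 4) (a 5)

omit hff in
theorem card_Fix_inf [Finite K] (hq : 1 ≤ q) (hK : Nat.card K = q ^ 2) :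
    Nat.card ↥((matE6 K).Fix chkE6g chk2E6 (hp0 K) f ⊓ zker goodE6.rs K) = Nat.gcd 3 (q + 1) := by
  rw [card_of_param (G := Fin chevE6.rank → Kˣ) (T := {c : Kˣ // c ^ Nat.gcd 3 (q + 1) = 1})
    (fun p => (![p.1, 1, p.1 ^ 2, 1, p.1, p.1 ^ 2] : Fin 6 → Kˣ)), card_units_pow_eq_one]
  · rw [hK]
    refine (Nat.gcd_dvd_right _ _).trans ⟨q - 1, ?_⟩
    zify [hq, Nat.one_le_pow 2 q hq]
    ring
  · intro a b e
    exact Subtype.ext (congrFun e 0)
  · intro (a : Fin 6 → Kˣ)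
    rw [Subgroup.mem_inf, mem_Fix hf, mem_zker]
    constructor
    · rintro ⟨⟨h1, -⟩, h2, h3⟩
      refine ⟨⟨a 0, pow_gcd_eq_one.2 ⟨h2, ?_⟩⟩, h3⟩
      rw [pow_succ, ← h1, h3]
      simpa [pow_succ] using h2
    · rintro ⟨⟨a, ha⟩, rfl⟩
      obtain ⟨h1, h2⟩ := pow_gcd_eq_one.1 ha
      have h3 : a ^ q = a ^ 2 := by
        rw [← mul_left_inj a, ← pow_succ, ← pow_succ, h1, h2]
      have h4 : (a ^ 2) ^ q = a := by
        rw [pow_right_comm, h3, ← pow_mul, show 2 * 2 = 3 + 1 from rfl, pow_succ, h1, one_mul]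
      simp [h1, h3, h4]

theorem perfect [Finite K] (hq : 2 ≤ q) (hK : Nat.card K = q ^ 2) :
    commutator (stSub chevE6 (e6Words K q)) = ⊤ := by
  refine (gen hf hff).tw.commutator_eq_top ((matE6 K).stSub_le_sup ?_) fun i => ?_
  · rintro w (⟨t, ht, r, hr, rfl⟩ | ⟨t, p, hr, rfl⟩)
    · revert r; simp only [List.map_cons, List.map_nil]; decide +kernel
    · revert p; simp only [List.map_cons, List.map_nil]; decide +kernel
  rw [tsetE6 _ fun _ => rfl]
  obtain ⟨a, ha⟩ : ∃ a : Kˣ, a ^ 2 ≠ 1 := by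
    by_contra! h
    have h1 : Monoid.exponent Kˣ ∣ 2 := Monoid.exponent_dvd_of_forall_pow_eq_one h
    rw [IsCyclic.exponent_eq_card, Nat.card_units, hK] at h1
    have := Nat.le_of_dvd two_pos h1
    have := Nat.pow_le_pow_left hq 2
    omega
  have hqq : ∀ a : Kˣ, (a ^ q) ^ q = a := fun a => Units.ext (by simpa [hf] using hff a)
  have hinj : ∀ a : Kˣ, a ^ q = 1 → a = 1 := fun a h => by rw [← hqq a, h, one_pow]
  have hc := hmap_mem hf hff ![a, 1, 1, 1, 1, a ^ q] ((mem_Fix hf).2 (by simp [hqq]))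
  have h0 := orbitE6.2.2.2.2 i i.2
  have h1 : ∀ k ∈ ([-1, 2] : List ℤ), a ^ k ≠ 1 ∧ (a ^ q) ^ k ≠ 1 := by
    have h1 : a ≠ 1 := fun h => ha (by simp [h])
    have h2 : (a ^ q) ^ 2 ≠ 1 := fun h => ha (hinj _ (by rw [← h, pow_right_comm]))
    have h3 : a ^ q ≠ 1 := fun h => h1 (hinj _ h)
    simp only [List.forall_mem_cons]
    exact ⟨by simp [h1, h3], ⟨ha, h2⟩, by simp⟩
  have key := (matE6 K).St.XS_inf_le_commutator (goodE6.closed_LS h0)
    (fun r hr => (goodE6.isPosRoot_iff r).1 (goodE6.pos_of_posChk h0 r hr)) (hΓ := hc)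
  have key2 : ∀ r : Fin chevE6.nroots, (r : ℕ) ∈ [42, 37, 56, 36] →
      goodE6.rs.chi r ![a, 1, 1, 1, 1, a ^ q] ≠ 1 := by
    intro r hr
    obtain ⟨k, hk, h2⟩ := fact4 r hr
    rw [Good.chi_eq]
    change ∏ i : Fin 6, _ ^ dot (auxE6.row r) (auxE6.CL.getD i []) ≠ 1
    rcases h2 with h2 | h2 <;> simp [Fin.prod_univ_six, -List.getD_eq_getElem?_getD, h2, h1 k hk]
  fin_cases i
  · intro b hb
    obtain ⟨t, rfl⟩ := (mem_iff1 hf hff (by decide) rfl (by decide) b).1 hb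
    simpa [stw] using MatRG.gen_mem_comm (gen hf hff) (r := 11) (s := 63) (by decide +kernel) (by decide +kernel)
      (by decide +kernel) ((hf _).trans t.2)
  · intro b hb
    obtain ⟨t, rfl⟩ := (mem_iff1 hf hff (by decide) rfl (by decide) b).1 hb
    simpa [stw] using MatRG.gen_mem_comm (gen hf hff) (r := 2) (s := 70) (by decide +kernel) (by decide +kernel)
      (by decide +kernel) ((hf _).trans t.2)
  · exact key fun r hr => key2 r (List.mem_append_left [56, 36] hr)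
  · exact key fun r hr => key2 r (List.mem_append_right [42, 37] hr)

omit hf hff in
/-- The structure of the twisted group. -/
theorem main [Fintype K] (hq : IsPrimePow q) (hK : Fintype.card K = q ^ 2) :
    ∃ T : Tw (matE6 K).X (twistedE6 K q) (Fin 4), (∀ i, T.J i = Good.JS chevE6 (JLE6.getD i [])) ∧
      (∀ i, Nat.card ↥((matE6 K).X.XS {r | goodE6.rs.Pos r ∧ r ∈ goodE6.rs.Phi (T.J i)} ⊓ twistedE6 K q) =
        q ^ goodE6.rs.len (goodE6.rs.w0 (T.J i))) ∧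
      Nat.gcd 3 (q + 1) * Nat.card ↥((matE6 K).X.H ⊓ twistedE6 K q) = (q - 1) ^ 4 * (q + 1) ^ 2 ∧
      commutator (twistedE6 K q) = ⊤ := by
  obtain ⟨f, hf⟩ := exists_frob hq hK
  have hff : ∀ t, f (f t) = t := fun t => by rw [hf, hf, ← pow_mul, ← pow_two, ← hK, FiniteField.pow_card]
  have hK' : Nat.card K = q ^ 2 := by rw [Nat.card_eq_fintype_card, hK]
  rw [twistedE6, ← (matE6 K).map_stSub]
  refine ⟨(gen hf hff).tw.map (matE6 K).θ_x, fun _ => rfl, fun i => ?_, ?_,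
    MatRG.commutator_map (perfect hf hff hq.two_le hK')⟩
  · rw [(gen hf hff).tw.card_map_XS_inf (matE6 K).θ_x fun _ h => h.1, tlenE6 _ fun _ => rfl, tsetE6 _ fun _ => rfl]
    exact card_XS hf hff hq.one_lt.le hK' i i.2
  · rw [← card_Fix_inf hf hq.one_lt.le hK', MatRG.card_H (gen hf hff) (hmap_injective_E6 K) (hmap_mem hf hff),
      card_Fix hf hff hq.one_lt.le hK']

end E6

end H20
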