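import Mathlib
import Cfsg.Prelude.Def_ChevF4
import Cfsg.Agent.H20.Good

set_option autoImplicit false
set_option maxRecDepth 100000

namespace H20

open Cfsg.Lie

def auxF4 : Aux where
  rtL := [[-2, -4, -3, -2], [-2, -4, -3, -1], [-2, -4, -2, -1], [-2, -3, -2, -1], [-2, -2, -2, -1], [-2, -2, -1, -1], [-2, -2, -1, 0], [-1, -3, -2, -1], [-1, -2, -2, -1], [-1, -2, -1, -1], [-1, -2, -1, 0], [-1, -1, -1, -1], [-1, -1, -1, 0], [-1, -1, 0, 0], [-1, 0, 0, 0], [0, -2, -2, -1], [0, -2, -1, -1], [0, -2, -1, 0], [0, -1, -1, -1], [0, -1, -1, 0], [0, -1, 0, 0], [0, 0, -1, -1], [0, 0, -1, 0], [0, 0, 0, -1], [0, 0, 0, 1], [0, 0, 1, 0], [0, 0, 1, 1], [0, 1, 0, 0], [0, 1, 1, 0], [0, 1, 1, 1], [0, 2, 1, 0], [0, 2, 1, 1], [0, 2, 2, 1], [1, 0, 0, 0], [1, 1, 0, 0], [1, 1, 1, 0], [1, 1, 1, 1], [1, 2, 1, 0], [1, 2, 1, 1], [1, 2, 2, 1], [1, 3,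 2, 1], [2, 2, 1, 0], [2, 2, 1, 1], [2, 2, 2, 1], [2, 3, 2, 1], [2, 4, 2, 1], [2, 4, 3, 1], [2, 4, 3, 2]]
  κL := [4096, 256, 16, 1]
  dL := [1, 1, 2, 2]
  nrmL := [2, 2, 2, 1, 2, 2, 2, 1, 1, 1, 1, 1, 1, 1, 1, 2, 2, 2, 1, 1, 1, 2, 2, 2, 2, 2, 2, 1, 1, 1, 2, 2, 2, 1, 1, 1, 1, 1, 1, 1, 1, 2, 2, 2, 1, 2, 2, 2]
  CL := [[2, -1, 0, 0], [-1, 2, -2, 0], [0, -1, 2, -1], [0, 0, -1, 2]]
  witL := [(4, 16), (4, 17), (5, 17), (7, 14), (5, 22), (1, 28), (0, 29), (8, 20), (14, 15), (14, 16), (14, 17), (14, 18), (14, 19), (14, 20), (8, 32), (2, 34), (1, 35), (0, 36), (20, 21), (18, 24), (18, 26), (1, 37), (0, 38), (2, 37), (2, 38), (0, 39), (1, 39), (3, 45), (3, 46), (3, 47), (0, 40), (1, 40), (2, 40), (7, 44), (7, 45), (7, 46), (7, 47), (8, 46), (8, 47), (9, 47), (11, 47), (0, 44), (1, 44), (2, 44), (18, 47), (4, 44), (5, 44), (6, 44)]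

theorem auxF4_chk1 : auxF4.chk1 chevF4 := by decide +kernel
theorem auxF4_chk2 : auxF4.chk2 chevF4 := by decide +kernel
theorem auxF4_chk3 : auxF4.chk3 chevF4 := by decide +kernel
theorem auxF4_chk4 : auxF4.chk4 chevF4 := by decide +kernel

def goodF4 : Good chevF4 := ⟨auxF4, auxF4_chk1, auxF4_chk2, auxF4_chk3, auxF4_chk4⟩

end H20
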