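import Mathlib
import Cfsg.Agent.H20.Hom
import Cfsg.Agent.H19.FastF4

/-! Checked data of a map of root elements (generated). -/

set_option autoImplicit false

namespace H20

open Cfsg.Lie

def homF4g : HomD where
  p := 2
  ρT := 0x2c28272f26241d2e2d2b202a1f1a1825231c291e19221b210e140d161106130c0a171510050f040201120b0900080703
  γT := 0x0
  lamT := 0x11fe381c7f88

theorem chkF4g : homF4g.Chk chevF4 chevF4 :=
  homF4g.chk_of_agree H19.agreeF4 H19.agreeF4 (Or.inr (by decide)) (by decide +kernel)

end H20
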