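import Mathlib
import Cfsg.Agent.H20.TwD
import Cfsg.Agent.H20.GoodF4
import Cfsg.Agent.H20.HomF4g

/-! Certificates for the twisted group of type F4 (generated). -/

set_option autoImplicit false
set_option maxRecDepth 100000

namespace H20

open Cfsg.Lie

def JLF4 : List (List ℕ) := [[0, 3], [1, 2]]
def WLF4 : List (List ℕ) := [[0, 3], [1, 2, 1, 2]]
def PLF4 : List (List ℕ) := [[33, 24], [27, 25, 28, 30]]
def MLF4 : List (List ℕ) := [[1, 8], [8, 1]]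

theorem chk2F4 : homF4g.Chk2 chevF4 [3, 2, 1, 0] := by decide +kernel
theorem orbitF4 : orbitChk auxF4 48 4 2 JLF4 PLF4 [3, 2, 1, 0] := by decide +kernel
theorem w0F4 : w0Chk auxF4 4 2 JLF4 WLF4 := by decide +kernel

theorem torbF4_0 : orbChk auxF4 4 48 [0, 1, 2, 3] [1, 2] [[0, 3], [1, 2, 1, 2]] [1, 0, 0, 1]
    [[-1, 0, 0, -1], [1, -1, -1, 1], [-2, 1, 1, -3], [2, -1, -2, 3], [-2, 1, 2, -3], [2, -1, -1, 3], [-1, 1, 1, -1], [1, 0, 0, 1]]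
    [[0, 0, 0, 1], [0, 0, 1, 0], [0, 0, 1, 1], [0, 1, 0, 0], [0, 1, 1, 0], [0, 1, 1, 1], [0, 2, 1, 0], [0, 2, 1, 1], [0, 2, 2, 1], [1, 0, 0, 0], [1, 1, 0, 0], [1, 1, 1, 0], [1, 1, 1, 1], [1, 2, 1, 0], [1, 2, 1, 1], [1, 2, 2, 1], [1, 3, 2, 1], [2, 2, 1, 0], [2, 2, 1, 1], [2, 2, 2, 1], [2, 3, 2, 1], [2, 4, 2, 1], [2, 4, 3, 1], [2, 4, 3, 2]]
    [20, 18, 14, 12, 8, 6, 2, 0] := by decide +kernel

theorem satF4_0 : satChk 2 JLF4 WLF4 [0, 1, 2, 3] [[0, 3], [1, 2, 1, 2]] := by decide +kernel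

theorem torbF4_1 : orbChk auxF4 4 48 [1, 2] [] [[1, 2, 1, 2]] [0, 1, 1, 0]
    [[3, -1, -1, 4], [0, 1, 1, 0]]
    [[0, 0, 1, 0], [0, 1, 0, 0], [0, 1, 1, 0], [0, 2, 1, 0]]
    [4, 0] := by decide +kernel

theorem satF4_1 : satChk 2 JLF4 WLF4 [1, 2] [[1, 2, 1, 2]] := by decide +kernel

theorem satF4_2 : satChk 2 JLF4 WLF4 [] [] := by decide +kernel

section

variable {K G : Type*} [Field K] [Group G] {X : RG goodF4.rs K G} {Γ : Subgroup G} (T : Tw X Γ (Fin 2))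
  (hJ : ∀ i : Fin 2, T.J i = Good.JS chevF4 (JLF4.getD i []))

include hJ

theorem tpoinF4 {A : Type*} [CommRing A] (y : A) :
    (y ^ 2 - 1) ^ 2 * goodF4.rs.poin T.W1 Set.univ y = (y ^ 2 - 1) * (y ^ 6 + 1) * (y ^ 8 - 1) * (y ^ 12 + 1) := by
  rw [← show Good.JS chevF4 [0, 1, 2, 3] = Set.univ from Good.JS_range, T.poin_step hJ w0F4 torbF4_0 satF4_0 satF4_1, T.poin_step hJ w0F4 torbF4_1 satF4_1 satF4_2,
    Good.JS_nil, RS.poin_empty]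
  simp only [List.map_cons, List.map_nil, List.sum_cons, List.sum_nil]
  ring

theorem torderF4 (i j : Fin 2) :
    orderOf (goodF4.rs.w0 (T.J i) * goodF4.rs.w0 (T.J j)) = (MLF4.getD i []).getD j 0 := by
  have key : ∀ i j : Fin 2, (MLF4.getD i []).getD j 0 ≠ 0 ∧
      iterChk auxF4.CL (WLF4.getD i [] ++ WLF4.getD j []) (List.replicate 4 1) ((MLF4.getD i []).getD j 0 - 1)
      (wordL auxF4.CL (WLF4.getD i [] ++ WLF4.getD j []) (List.replicate 4 1)) = true := by decide +kernel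
  exact T.orderOf_w0 hJ w0F4 i j (key i j).1 (key i j).2

theorem tirrF4 (A : Set (Fin 2)) (h1 : A.Nonempty) (h2 : Aᶜ.Nonempty) : ∃ i ∈ A, ∃ j ∉ A,
    goodF4.rs.w0 (T.J i) * goodF4.rs.w0 (T.J j) ≠ goodF4.rs.w0 (T.J j) * goodF4.rs.w0 (T.J i) :=
  irr_of_orderOf (fun i => goodF4.rs.w0 (T.J i)) (fun _ => RS.w0_mul_w0 _ _) _ (torderF4 T hJ)
    (by decide +kernel) A h1 h2

theorem tlenF4 (i : Fin 2) : goodF4.rs.len (goodF4.rs.w0 (T.J i)) = (PLF4.getD i []).length := by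
  rw [hJ, goodF4.len_w0 (orbitF4.2.2.2.2 i i.2)]

theorem tsetF4 (i : Fin 2) : {r | goodF4.rs.Pos r ∧ r ∈ goodF4.rs.Phi (T.J i)} =
    LS chevF4 (PLF4.getD i []) := by
  rw [hJ, goodF4.posPhi_eq (orbitF4.2.2.2.2 i i.2)]

end

end H20
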