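import Mathlib
import Cfsg.Prelude.Def_LieTwisted
import Cfsg.Agent.H20.TwH
import Cfsg.Agent.H20.TwCertF4
import Cfsg.Agent.H19.CertF4
import Cfsg.Agent.S0206

/-! The Ree groups of type F₄. -/

set_option autoImplicit false
set_option backward.isDefEq.respectTransparency false

namespace H20

open Finset Cfsg.Lie H19
open scoped commutatorElement

section abstract

variable {ι Λ : Type} [LinearOrder ι] [Fintype Λ] [DecidableEq Λ]
  {R : RS ι Λ} {K : Type*} [Field K] {G : Type*} [Group G]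

theorem SRG.conj_hmap_inv (X : SRG R K G) {n : G} {w : Equiv.Perm ι} (hn : X.Acts n w) {a : Λ → Kˣ}
    (ha : ∀ j, a j = 1 ∨ w (R.sim j) = R.neg (R.sim j)) : n * X.hmap a * n⁻¹ = X.hmap a⁻¹ := by
  rw [X.hmap_eq_prod (nodup_toList univ) (by simp), X.hmap_eq_prod (nodup_toList univ) (by simp),
    ← MulAut.conj_apply, map_list_prod, List.map_map]
  refine congrArg _ (List.map_congr_left fun j _ => ?_)
  rcases ha j with h | h
  · simp [h, X.h_one]
  · simp [SRG.Acts_conj_h hn _ (a j).ne_zero, h, X.h_neg _ (a j).ne_zero]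

variable [Fintype ι]

theorem Sym.Gen.hmap_sq_mem {X : RG R K G} {S : Sym X} {Γ : Subgroup G} {I : Type} (E : S.Gen Γ I)
    (hΓ : Γ ≤ (X.U ⊓ Γ) ⊔ (X.V ⊓ Γ)) (i : I) {a : Λ → Kˣ}
    (ha : ∀ j, a j = 1 ∨ R.w0 (E.J i) (R.sim j) = R.neg (R.sim j)) (hC : X.hmap a ∈ S.C) : X.hmap (a ^ 2) ∈ Γ := by
  obtain ⟨n, h1, -, h2⟩ := E.exists_nJ i
  have h3 := mul_mem (E.H_conj_mem hΓ ⟨X.hmap_mem_H a, hC⟩ h1) (inv_mem h1)
  have h4 := X.conj_hmap_inv h2 (a := a⁻¹) (by simpa using ha)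
  rw [map_inv, inv_inv] at h4
  rw [pow_two, map_mul]
  nth_rewrite 2 [← h4]
  simpa [mul_assoc] using h3

theorem Tw.exists_dihedral {X : RG R K G} {Γ : Subgroup G} (T : Tw X Γ (Fin 2)) :
    Nonempty (T.W1 ≃* DihedralGroup (orderOf (R.w0 (T.J 0) * R.w0 (T.J 1)))) := by
  have h : ∀ i, orderOf (R.w0 (T.J i)) = 2 := fun i =>
    orderOf_eq_prime (by rw [pow_two, RS.w0_mul_w0]) fun h => by simpa [h, RS.len_one] using T.len_w0J_pos i
  rw [T.W1_eq_closure, show (Set.range fun i => R.w0 (T.J i)) = {R.w0 (T.J 0), R.w0 (T.J 1)} by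
    ext; simp [eq_comm]]
  exact Cfsg.Agent.S0206.result _ _ (h 0) (h 1) fun e => absurd (T.w0J_injective e) (by decide)

end abstract

namespace F4

theorem zker_eq (K : Type*) [Field K] : zker goodF4.rs K = ⊥ := by
  rw [eq_bot_iff]
  intro c hc
  exact goodF4.rs.eq_one_of_unimodular
    (fun i k => (([[2, 3, 4, 2], [3, 6, 8, 4], [2, 4, 6, 3], [1, 2, 3, 2]] : List (List ℤ)).getD i []).getD k 0)
    (by simp only [Good.rs_ca, Good.rs_sim_val]; decide +kernel) (mem_zker.1 hc)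

theorem hmap_injective (K : Type*) [Field K] : Function.Injective (matF4 K).St.hmap := by
  rw [injective_iff_map_eq_one]
  intro a ha
  have : a ∈ (matF4 K).X.hmap.ker := by rw [MonoidHom.mem_ker, ← RG.map_hmap (matF4 K).θ_x, ha, map_one]
  rwa [ker_hmap _ (matF4 K).adj, zker_eq] at this

variable {K : Type*} [Field K] {e : ℕ} {f : K →+* K} (h2 : ((homF4g.p : ℕ) : K) = 0)

variable (f) in
/-- the twisting endomorphism -/
noncomputable abbrev S : Sym (matF4 K).St := (matF4 K).sym chkF4g chk2F4 h2 f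

theorem fact1 : ∀ p ∈ [(f4p1, f4p4), (f4m1, f4m4)],
    p.1 < chevF4.nroots ∧ p.2 < chevF4.nroots ∧ homF4g.ρ p.1 = p.2 ∧ homF4g.ρ p.2 = p.1 ∧ homF4g.γ p.1 = 1 ∧
      homF4g.γ p.2 = 1 ∧ homF4g.lam p.1 = 2 ∧ homF4g.lam p.2 = 1 ∧
      homF4g.commB (recOf chevF4) p.1 p.2 = true := by decide +kernel

theorem fact2 : ∀ p ∈ [(f4a, f4b, f4ab, f4aab), (f4ma, f4mb, f4mab, f4maab)],
    (p.1 < chevF4.nroots ∧ p.2.1 < chevF4.nroots ∧ p.2.2.1 < chevF4.nroots ∧ p.2.2.2 < chevF4.nroots) ∧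
    (homF4g.ρ p.1 = p.2.1 ∧ homF4g.ρ p.2.1 = p.1 ∧ homF4g.ρ p.2.2.1 = p.2.2.2 ∧ homF4g.ρ p.2.2.2 = p.2.2.1 ∧
      homF4g.γ p.1 = 1 ∧ homF4g.γ p.2.1 = 1 ∧ homF4g.γ p.2.2.1 = 1 ∧ homF4g.γ p.2.2.2 = 1 ∧
      homF4g.lam p.1 = 2 ∧ homF4g.lam p.2.1 = 1 ∧ homF4g.lam p.2.2.1 = 2 ∧ homF4g.lam p.2.2.2 = 1) ∧
    p.2.1 ≠ p.1 ∧ p.2.1 ≠ chevF4.neg p.1 ∧
    redT 2 (chevF4.commTerms p.1 p.2.1) = [(p.2.2.1, 1, 1, 1), (p.2.2.2, 1, 2, 1)] ∧
    homF4g.commB (recOf chevF4) p.2.2.1 p.2.2.2 = true := by decide +kernel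

theorem fact3 : (∀ r ∈ [f4p1, f4p4], ∀ s ∈ [f4p1, f4p4], homF4g.commB (recOf chevF4) r s = true) ∧
    ([f4p1, f4p4].map homF4g.ρ).Perm [f4p1, f4p4] := by decide +kernel

theorem fact4 : ∀ r ∈ [33, 24, 27, 25, 28, 30],
    (dot (auxF4.row r) (auxF4.CL.getD 0 []), dot (auxF4.row r) (auxF4.CL.getD 3 [])) ∈
      ([(2, 0), (0, 2), (-1, 0), (0, -1), (-1, -1), (-2, -1)] : List (ℤ × ℤ)) := by
  decide +kernel

theorem fact5 : ∀ i : Fin 2, ∀ j : Fin 4, (j : ℕ) ∈ JLF4.getD i [] →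
    goodF4.wN (WLF4.getD i []) (goodF4.rs.sim j) = goodF4.rs.neg (goodF4.rs.sim j) := by
  decide +kernel

theorem mem1 {r s : ℕ} (hr : (r, s) ∈ [(f4p1, f4p4), (f4m1, f4m4)]) (t : K) :
    [(r, t ^ e), (s, t)] ∈ f4Words K e := by
  simp only [List.mem_cons, List.not_mem_nil, or_false, Prod.mk.injEq] at hr
  rcases hr with ⟨rfl, rfl⟩ | ⟨rfl, rfl⟩
  · exact Or.inl ⟨t, Or.inl rfl⟩
  · exact Or.inl ⟨t, Or.inr rfl⟩

theorem mem2 {a b c d : ℕ} (hr : (a, b, c, d) ∈ [(f4a, f4b, f4ab, f4aab), (f4ma, f4mb, f4mab, f4maab)]) (t u : K) :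
    [(a, t ^ e), (b, t), (c, t ^ (e + 1) + u), (d, u ^ (2 * e))] ∈ f4Words K e := by
  simp only [List.mem_cons, List.not_mem_nil, or_false, Prod.mk.injEq] at hr
  rcases hr with ⟨rfl, rfl, rfl, rfl⟩ | ⟨rfl, rfl, rfl, rfl⟩
  · exact Or.inr ⟨t, u, Or.inl rfl⟩
  · exact Or.inr ⟨t, u, Or.inr rfl⟩

theorem words_cases {w : List (ℕ × K)} (hw : w ∈ f4Words K e) :
    (∃ p ∈ [(f4p1, f4p4), (f4m1, f4m4)], ∃ t : K, w = [(p.1, t ^ e), (p.2, t)]) ∨
    ∃ p ∈ [(f4a, f4b, f4ab, f4aab), (f4ma, f4mb, f4mab, f4maab)], ∃ t u : K,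
      w = [(p.1, t ^ e), (p.2.1, t), (p.2.2.1, t ^ (e + 1) + u), (p.2.2.2, u ^ (2 * e))] := by
  rcases hw with ⟨t, rfl | rfl⟩ | ⟨t, u, rfl | rfl⟩
  · exact Or.inl ⟨(f4p1, f4p4), by simp, t, rfl⟩
  · exact Or.inl ⟨(f4m1, f4m4), by simp, t, rfl⟩
  · exact Or.inr ⟨(f4a, f4b, f4ab, f4aab), by simp, t, u, rfl⟩
  · exact Or.inr ⟨(f4ma, f4mb, f4mab, f4maab), by simp, t, u, rfl⟩

theorem σ_class {a b c d : ℕ} (hr : (a, b, c, d) ∈ [(f4a, f4b, f4ab, f4aab), (f4ma, f4mb, f4mab, f4maab)])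
    (t u v w : K) : (S f h2).σ (stw chevF4 [(a, t), (b, u), (c, v), (d, w)]) =
      stw chevF4 [(a, f u), (b, f t ^ 2), (c, f u * f t ^ 2 + f w), (d, f u ^ 2 * f t ^ 2 + f v ^ 2)] := by
  obtain ⟨h1, h3, h4, h5, h6, h7⟩ := fact2 _ hr
  simp only at h1 h3 h4 h5 h6 h7
  have h8 := (stRel chevF4 K).comm' h1.1 h1.2.1 h4 h5 (f u) (f t ^ 2)
  rw [← (stRel chevF4 K).ev_redT (p := 2) h2 _ _ fun c hc =>
    (goodF4.commTerms_cone (r := ⟨a, h1.1⟩) (s := ⟨b, h1.2.1⟩) hc).1, h6] at h8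
  have h9 := (stRel chevF4 K).commute_of_commB goodF4 h2 h1.2.2.1 h1.2.2.2 h7
  have h10 : -f u = f u := by
    have : (2 : K) = 0 := h2
    linear_combination -(f u) * this
  have h11 := (stRel chevF4 K).x_add c h1.2.2.1
  have h12 := (stRel chevF4 K).x_add d h1.2.2.2
  rw [MatRG.σ_stw _ _ _ _ _ (by simp [h1])]
  simp only [stRel, Rel.ev, h10, List.map_cons, List.map_nil, List.prod_cons, List.prod_nil, Int.cast_one,
    one_mul, pow_one, mul_one] at h8 h9 h11 h12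
  simp only [stw, h3, List.map_cons, List.map_nil, List.prod_cons, List.prod_nil, Int.cast_one,
    one_mul, pow_one, mul_one, h11, h12]
  rw [← mul_assoc, h8]
  simp only [mul_assoc]
  rw [← (h9 (f w) _).eq, (h9 (f w) _).symm.left_comm]

variable (hf : ∀ t, f t = t ^ e) (hff : ∀ t, f (f t) ^ 2 = t)

include h2 hf hff

theorem le (w : List (ℕ × K)) (hw : w ∈ f4Words K e) : (S f h2).σ (stw chevF4 w) = stw chevF4 w := by
  rcases words_cases hw with ⟨p, hr, t, rfl⟩ | ⟨p, hr, t, u, rfl⟩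
  · obtain ⟨h1, h2', h3, h4, h5, h6, h7, h8, h9⟩ := fact1 p hr
    rw [MatRG.σ_stw _ _ _ _ _ (by simp [h1, h2']), ← hf]
    simpa [h3, h4, h5, h6, h7, h8, hff, stw, stRel] using
      ((stRel chevF4 K).commute_of_commB goodF4 h2 h1 h2' h9 (f t) t).symm.eq
  · have h3 : (2 : K) = 0 := h2
    rw [σ_class h2 hr, pow_succ t e, mul_comm 2 e, pow_mul, ← hf, ← hf, hff, map_pow, hff, map_add, map_mul]
    congr 6
    linear_combination f t ^ 2 * hff t + (f t ^ 2 * t + f (f t) * f t * f u) * h3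

theorem pos (i : ℕ) (hi : i < 2) (t : ℕ → K)
    (h : stw chevF4 ((PLF4.getD i []).map fun r => (r, t r)) ∈ (S f h2).C) :
    (PLF4.getD i []).map (fun r => (r, t r)) ∈ f4Words K e := by
  have h0 := orbitF4.2.2.2.2 i hi
  interval_cases i
  · have h1 := (matF4 K).stw_coord chkF4g chk2F4 h2 f h0.1 (goodF4.pos_of_posChk h0) fact3.1 fact3.2 h
    have := fact1 (f4p1, f4p4) (by simp)
    have h4 : t f4p1 = t f4p4 ^ e := by simpa [this, hf] using h1 f4p4 (by decide)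
    have h3 := mem1 (r := f4p1) (s := f4p4) (e := e) (by simp) (t f4p4)
    rw [← h4] at h3
    exact h3
  · have h1 := (σ_class h2 (a := f4a) (b := f4b) (c := f4ab) (d := f4aab) (by simp) _ _ _ _).symm.trans
      (((matF4 K).mem_C_iff _).1 h)
    have h3 := (matF4 K).stw_inj (L := [f4a, f4b, f4ab, f4aab]) h0.1 (goodF4.pos_of_posChk h0)
      (t := fun r => if r = f4a then f (t f4b) else if r = f4b then f (t f4a) ^ 2 else if r = f4ab then
        f (t f4b) * f (t f4a) ^ 2 + f (t f4aab) else f (t f4b) ^ 2 * f (t f4a) ^ 2 + f (t f4ab) ^ 2) (t' := t) h1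
    have h4 : f (t f4b) = t f4a := h3 f4a (by simp)
    have h5 : f (t f4a) ^ 2 = t f4b := h3 f4b (by simp)
    have h6 : f (t f4b) * f (t f4a) ^ 2 + f (t f4aab) = t f4ab := h3 f4ab (by simp)
    have h7 := mem2 (a := f4a) (b := f4b) (c := f4ab) (d := f4aab) (e := e) (by simp) (t f4b) (f (t f4aab))
    rw [h5] at h6
    rw [pow_succ _ e, mul_comm 2 e, pow_mul, ← hf, ← hf, hff, h6, h4] at h7
    exact h7

/-- the hypotheses of the general theory -/
noncomputable def gen : (S f h2).Gen (stSub chevF4 (f4Words K e)) (Fin 2) :=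
  (matF4 K).gen chkF4g chk2F4 h2 f orbitF4 (le h2 hf hff) (fun i hi t h => stw_mem (pos h2 hf hff i hi t h))
    (fun i hi => by
      interval_cases i
      · exact ⟨_, mem1 (r := f4m1) (s := f4m4) (by simp) 1,
          by simp only [List.map_cons, List.map_nil]; decide +kernel, by simp⟩
      · exact ⟨_, mem2 (a := f4ma) (b := f4mb) (c := f4mab) (d := f4maab) (by simp) 1 1,
          by simp only [List.map_cons, List.map_nil]; decide +kernel, by simp⟩)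
    (fun i hi => by
      interval_cases i
      · exact ⟨_, mem1 (r := f4p1) (s := f4p4) (by simp) 1, rfl, by simp⟩
      · refine ⟨_, mem2 (a := f4a) (b := f4b) (c := f4ab) (d := f4aab) (by simp) 1 0, rfl, ?_⟩
        have : ∀ j ∈ JLF4.getD 1 [], f4aab ≠ chevF4.simple j := by decide +kernel
        simpa [-List.getD_eq_getElem?_getD] using fun j hj h => absurd h (this j hj))

theorem mem_iff (i : ℕ) (hi : i < 2) (a : chevF4.SteinbergGroup K) :
    a ∈ (matF4 K).St.XS (LS chevF4 (PLF4.getD i [])) ⊓ stSub chevF4 (f4Words K e) ↔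
      ∃ w ∈ f4Words K e, w.map Prod.fst = PLF4.getD i [] ∧ a = stw chevF4 w := by
  have h0 := orbitF4.2.2.2.2 i hi
  constructor
  · rintro ⟨h1, h3⟩
    obtain ⟨t, rfl⟩ := (matF4 K).exists_stw h0.1 (goodF4.closed_LS h0) (goodF4.pos_of_posChk h0) h1
    exact ⟨_, pos h2 hf hff i hi t ((gen h2 hf hff).le h3), by simp [Function.comp_def], rfl⟩
  · rintro ⟨w, hw, h1, rfl⟩
    exact ⟨(matF4 K).stw_mem_XS (p := (· ∈ PLF4.getD i [])) (by simp [h1]), stw_mem hw⟩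

theorem mem_iff1 (a : chevF4.SteinbergGroup K) :
    a ∈ (matF4 K).St.XS (LS chevF4 (PLF4.getD 0 [])) ⊓ stSub chevF4 (f4Words K e) ↔
      ∃ t : K, a = stw chevF4 [(f4p1, t ^ e), (f4p4, t)] := by
  rw [mem_iff h2 hf hff 0 (by decide), show PLF4.getD 0 [] = [f4p1, f4p4] from rfl]
  constructor
  · rintro ⟨w, hw, h1, rfl⟩
    rcases words_cases hw with ⟨⟨r, s⟩, -, t, rfl⟩ | ⟨p, -, t, u, rfl⟩
    · obtain ⟨rfl, rfl⟩ : r = _ ∧ s = _ := by simpa using h1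
      exact ⟨t, rfl⟩
    · simp at h1
  · rintro ⟨t, rfl⟩; exact ⟨_, mem1 (by decide) t, rfl, rfl⟩

theorem mem_iff2 (a : chevF4.SteinbergGroup K) :
    a ∈ (matF4 K).St.XS (LS chevF4 (PLF4.getD 1 [])) ⊓ stSub chevF4 (f4Words K e) ↔
      ∃ t : K × K, a = stw chevF4 [(f4a, t.1 ^ e), (f4b, t.1), (f4ab, t.1 ^ (e + 1) + t.2), (f4aab, t.2 ^ (2 * e))] := by
  rw [mem_iff h2 hf hff 1 (by decide), show PLF4.getD 1 [] = [f4a, f4b, f4ab, f4aab] from rfl]
  constructor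
  · rintro ⟨w, hw, h1, rfl⟩
    rcases words_cases hw with ⟨p, -, t, rfl⟩ | ⟨⟨a, b, c, d⟩, -, t, u, rfl⟩
    · simp at h1
    · obtain ⟨rfl, rfl, rfl, rfl⟩ : a = _ ∧ b = _ ∧ c = _ ∧ d = _ := by simpa using h1
      exact ⟨(t, u), rfl⟩
  · rintro ⟨t, rfl⟩; exact ⟨_, mem2 (by decide) t.1 t.2, rfl, rfl⟩

theorem card_XS (i : ℕ) (hi : i < 2) :
    Nat.card ↥((matF4 K).St.XS (LS chevF4 (PLF4.getD i [])) ⊓ stSub chevF4 (f4Words K e)) =
      Nat.card K ^ (i + 1) := by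
  have h0 := orbitF4.2.2.2.2 i hi
  interval_cases i
  · rw [card_of_param _ ?_ (mem_iff1 h2 hf hff), zero_add, pow_one]
    intro t t' h
    exact (matF4 K).stw_inj (L := [f4p1, f4p4]) h0.1 (goodF4.pos_of_posChk h0)
      (t := fun k => if k = f4p1 then t ^ e else t) (t' := fun k => if k = f4p1 then t' ^ e else t') h f4p4 (by simp)
  · rw [card_of_param _ ?_ (mem_iff2 h2 hf hff), Nat.card_prod, pow_two]
    rintro ⟨t, u⟩ ⟨t', u'⟩ h
    have h1 := (matF4 K).stw_inj (L := [f4a, f4b, f4ab, f4aab]) h0.1 (goodF4.pos_of_posChk h0)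
      (t := fun k => if k = f4a then t ^ e else if k = f4b then t else if k = f4ab then t ^ (e + 1) + u else
        u ^ (2 * e))
      (t' := fun k => if k = f4a then t' ^ e else if k = f4b then t' else if k = f4ab then t' ^ (e + 1) + u' else
        u' ^ (2 * e)) h
    obtain rfl : t = t' := h1 f4b (by simp)
    obtain rfl : u = u' := add_left_cancel (show t ^ (e + 1) + u = t ^ (e + 1) + u' from h1 f4ab (by simp))
    rfl

omit hf in
theorem mem_Fix {a : Fin 4 → Kˣ} : a ∈ (matF4 K).Fix chkF4g chk2F4 h2 f ↔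
    (a 1 : K) = f (a 2) ∧ (a 0 : K) = f (a 3) := by
  have h1 : ∀ i : Fin 4, homF4g.lam (chevF4.simple i) = if (i : ℕ) < 2 then 2 else 1 := by decide +kernel
  rw [MatRG.mem_Fix]
  simp only [h1]
  refine Fin.forall_fin_succ.trans ((and_congr Iff.rfl (Fin.forall_fin_succ.trans (and_congr Iff.rfl
    (Fin.forall_fin_succ.trans (and_congr Iff.rfl Fin.forall_fin_one))))).trans ?_)
  change (a 3 : K) = f (a 0) ^ 2 ∧ (a 2 : K) = f (a 1) ^ 2 ∧ (a 1 : K) = f (a 2) ^ 1 ∧ (a 0 : K) = f (a 3) ^ 1 ↔ _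
  simp only [pow_one]
  exact ⟨fun h => h.2.2, fun h => ⟨by rw [h.2, hff], by rw [h.1, hff], h⟩⟩

omit h2 hf hff in
theorem le_sup : stSub chevF4 (f4Words K e) ≤ ((matF4 K).St.U ⊓ stSub chevF4 (f4Words K e)) ⊔
    ((matF4 K).St.V ⊓ stSub chevF4 (f4Words K e)) := by
  refine (matF4 K).stSub_le_sup fun w hw => ?_
  rcases words_cases hw with ⟨p, hr, t, rfl⟩ | ⟨p, hr, t, u, rfl⟩
  · clear hw; revert p; simp only [List.map_cons, List.map_nil]; decide +kernel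
  · clear hw; revert p; simp only [List.map_cons, List.map_nil]; decide +kernel

theorem hmap_mem (a : Fin 4 → Kˣ) (ha : a ∈ (matF4 K).Fix chkF4g chk2F4 h2 f) :
    (matF4 K).St.hmap a ∈ stSub chevF4 (f4Words K e) := by
  obtain ⟨h1, h3⟩ := (mem_Fix h2 hff).1 ha
  have key : ∀ (i : Fin 2) (b : Fin 4 → Kˣ), (∀ j : Fin 4, b j = 1 ∨ (j : ℕ) ∈ JLF4.getD i []) →
      b ∈ (matF4 K).Fix chkF4g chk2F4 h2 f → (matF4 K).St.hmap (b ^ 2) ∈ stSub chevF4 (f4Words K e) :=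
    fun i b hb hb' => (gen h2 hf hff).hmap_sq_mem le_sup i
      (fun j => (hb j).imp_right fun hj => ((gen h2 hf hff).tw.w0_eq (fun _ => rfl) w0F4 i).symm ▸ fact5 i j hj)
      ((matF4 K).hmap_mem_C _ _ _ _ hb')
  let F : Kˣ →* Kˣ := Units.map f.toMonoidHom
  have hF : ∀ c, F (F c) ^ 2 = c := fun c => Units.ext (hff c)
  have h4 := key 0 ![F (F (a 0)), 1, 1, F (F (a 3))] (by intro j; fin_cases j <;> simp [JLF4])
    ((mem_Fix h2 hff).2 (by simp [F, h3]))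
  have h5 := key 1 ![1, F (F (a 1)), F (F (a 2)), 1] (by intro j; fin_cases j <;> simp [JLF4])
    ((mem_Fix h2 hff).2 (by simp [F, h1]))
  have h6 := mul_mem h4 h5
  rw [← map_mul] at h6
  convert h6 using 2
  refine funext fun i : Fin 4 => ?_
  fin_cases i <;> simp [hF]

omit hf in
theorem card_Fix : Nat.card ((matF4 K).Fix chkF4g chk2F4 h2 f) = Nat.card Kˣ ^ 2 := by
  rw [card_of_param (G := Fin chevF4.rank → Kˣ) (T := Kˣ × Kˣ)
    (fun p => (![Units.map f.toMonoidHom p.2, Units.map f.toMonoidHom p.1, p.1, p.2] : Fin 4 → Kˣ)),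
    Nat.card_prod, pow_two]
  · rintro ⟨a, b⟩ ⟨a', b'⟩ h
    exact Prod.ext (congrFun h (2 : Fin 4)) (congrFun h (3 : Fin 4))
  · intro (a : Fin 4 → Kˣ)
    rw [mem_Fix h2 hff]
    constructor
    · rintro ⟨h1, h3⟩
      refine ⟨(a 2, a 3), funext fun i : Fin 4 => ?_⟩
      fin_cases i <;> simp [Units.ext_iff, h1, h3]
    · rintro ⟨⟨a, b⟩, rfl⟩
      simp

theorem perfect [Finite K] (hK : 2 < Nat.card K) : commutator (stSub chevF4 (f4Words K e)) = ⊤ := by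
  refine (gen h2 hf hff).tw.commutator_eq_top le_sup fun i => ?_
  rw [tsetF4 _ fun _ => rfl]
  obtain ⟨d, hd⟩ : ∃ d : Kˣ, d ≠ 1 := by
    have : Nontrivial Kˣ := Finite.one_lt_card_iff_nontrivial.1 (by rw [Nat.card_units]; omega)
    exact exists_ne 1
  let F : Kˣ →* Kˣ := Units.map f.toMonoidHom
  have hF : ∀ c, F (F c) ^ 2 = c := fun c => Units.ext (hff c)
  have h1 : F d ≠ 1 := fun h => hd (by rw [← hF d, h]; simp)
  have hsq : ∀ c : Kˣ, c ≠ 1 → c ^ 2 ≠ 1 := fun c hc h => hc (by rw [← hF c, ← map_pow, ← map_pow, h]; simp)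
  have h3 : F d * d ≠ 1 := fun h => hd (by
    have h4 := hF d
    rw [eq_inv_of_mul_eq_one_left h, map_inv, eq_inv_of_mul_eq_one_left h, inv_inv, pow_two] at h4
    exact mul_eq_left.1 h4)
  have h4 : F d ^ 2 * d ≠ 1 := fun h => h3 (by
    have := congrArg F h
    rwa [map_mul, map_pow, hF, map_one, mul_comm] at this)
  have hc := hmap_mem h2 hf hff ![F d, 1, 1, d] ((mem_Fix h2 hff).2 (by simp [F]))
  have h0 := orbitF4.2.2.2.2 i i.2
  refine (matF4 K).St.XS_inf_le_commutator (goodF4.closed_LS h0)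
    (fun r hr => (goodF4.isPosRoot_iff r).1 (goodF4.pos_of_posChk h0 r hr)) (fun r hr => ?_) hc
  have h5 := fact4 r (by
    fin_cases i
    · exact List.mem_append_left [27, 25, 28, 30] hr
    · exact List.mem_append_right [33, 24] hr)
  rw [Good.chi_eq]
  change ∏ i : Fin 4, _ ^ dot (auxF4.row r) (auxF4.CL.getD i []) ≠ 1
  simp only [List.mem_cons, Prod.mk.injEq, List.not_mem_nil, or_false] at h5
  have h6 := hsq _ h1
  have h7 := hsq _ hd
  rcases h5 with h5 | h5 | h5 | h5 | h5 | h5 <;>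
    simpa [Fin.prod_univ_four, -List.getD_eq_getElem?_getD, h5, ← mul_inv, -mul_inv_rev]

omit h2 hf hff in
theorem exists_f [Fintype K] {m : ℕ} (hK : Fintype.card K = 2 ^ (2 * m + 1)) :
    ((homF4g.p : ℕ) : K) = 0 ∧ ∃ f : K →+* K, (∀ t, f t = t ^ 2 ^ m) ∧ ∀ t, f (f t) ^ 2 = t := by
  have h1 : ((2 : ℕ) : K) = 0 := by
    have := FiniteField.cast_card_eq_zero K
    rw [hK, Nat.cast_pow] at this
    exact pow_eq_zero_iff (by omega) |>.1 this
  have := (CharP.charP_iff_prime_eq_zero Nat.prime_two).2 h1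
  refine ⟨h1, iterateFrobenius K 2 m, fun t => rfl, fun t => ?_⟩
  rw [iterateFrobenius_def, iterateFrobenius_def, ← pow_mul, ← pow_mul, ← pow_succ, ← pow_add, ← add_assoc,
    ← two_mul, ← hK, FiniteField.pow_card]

omit h2 hf hff in
/-- The structure of the twisted group. -/
theorem main [Fintype K] {m : ℕ} (hK : Fintype.card K = 2 ^ (2 * m + 1)) :
    ∃ T : Tw (matF4 K).X (twistedF4 K (2 ^ m)) (Fin 2), (∀ i, T.J i = Good.JS chevF4 (JLF4.getD i [])) ∧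
      (∀ i, (Nat.card ↥((matF4 K).X.XS {r | goodF4.rs.Pos r ∧ r ∈ goodF4.rs.Phi (T.J i)} ⊓ twistedF4 K (2 ^ m)) : ℝ) =
        √(2 ^ (2 * m + 1)) ^ goodF4.rs.len (goodF4.rs.w0 (T.J i))) ∧
      Nat.card ↥((matF4 K).X.H ⊓ twistedF4 K (2 ^ m)) = (2 ^ (2 * m + 1) - 1) ^ 2 ∧
      (1 ≤ m → commutator (twistedF4 K (2 ^ m)) = ⊤) := by
  obtain ⟨h2, f, hf, hff⟩ := exists_f hK
  have hK' : Nat.card K = 2 ^ (2 * m + 1) := by rw [Nat.card_eq_fintype_card, hK]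
  rw [twistedF4, ← (matF4 K).map_stSub]
  refine ⟨(gen h2 hf hff).tw.map (matF4 K).θ_x, fun _ => rfl, fun i => ?_, ?_,
    fun hm => MatRG.commutator_map (perfect h2 hf hff ?_)⟩
  · rw [(gen h2 hf hff).tw.card_map_XS_inf (matF4 K).θ_x fun _ h => h.1, tlenF4 _ fun _ => rfl,
      tsetF4 _ fun _ => rfl, card_XS h2 hf hff i i.2, hK',
      show (PLF4.getD i []).length = 2 * (i + 1) by fin_cases i <;> rfl, pow_mul, Real.sq_sqrt (by positivity)]
    simp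
  · rw [← hK', ← Nat.card_units, ← card_Fix h2 hff,
      ← MatRG.card_H (gen h2 hf hff) (hmap_injective K) (hmap_mem h2 hf hff), zker_eq, inf_bot_eq,
      Subgroup.card_bot, one_mul]
  · rw [hK']
    exact (Nat.pow_lt_pow_right (a := 2) (m := 1) one_lt_two (by omega))

end F4

end H20
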