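import Mathlib
import Cfsg.Agent.H0.SchBN
import Cfsg.Agent.H20.BTApp

/-! The Schreier property for groups with root group data: coordinates and the generic reduction. -/

set_option autoImplicit false

namespace H20

open Finset H0.Sch

variable {ι Λ : Type} [LinearOrder ι] [Fintype Λ] [DecidableEq Λ] [Fintype ι]
  {R : RS ι Λ} {K : Type} [Field K] {G : Type} [Group G]

/-- `S` is an ideal of positive roots and `r ∈ S` is a bottom root of it. -/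
structure RS.Bot (R : RS ι Λ) (S : Set ι) (r : ι) : Prop where
  mem : r ∈ S
  pos : ∀ s ∈ S, R.Pos s
  id : ∀ s, R.Pos s → ∀ s' ∈ S, ∀ k, R.Cone s s' k → k ∈ S ∧ k ≠ r

namespace RS.Bot

variable {S : Set ι} {r : ι} (h : R.Bot S r)

include h

omit [Fintype ι] in
theorem closed : R.Closed S := fun a ha b hb k hk => (h.id a (h.pos a ha) b hb k hk).1

omit [Fintype ι] in
theorem closed' : R.Closed {s | s ∈ S ∧ s ≠ r} := fun a ha b hb k hk => h.id a (h.pos a ha.1) b hb.1 k hk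

end RS.Bot

omit [Fintype ι] in
theorem RS.bot_sim (R : RS ι Λ) (j : Λ) : R.Bot {s | R.Pos s} (R.sim j) := by
  refine ⟨R.pos_sim j, fun _ h => h, fun s hs s' hs' k hk => ⟨hk.pos hs hs', ?_⟩⟩
  rintro rfl
  obtain ⟨a, b, ha, hb, e⟩ := hk
  have h1 := R.ht_pos hs
  have h2 := R.ht_pos hs'
  have h3 : R.ht (R.sim j) = a * R.ht s + b * R.ht s' := by
    simp only [RS.ht, e, Pi.add_apply, Pi.smul_apply, smul_eq_mul, sum_add_distrib, mul_sum]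
  have h4 : R.ht (R.sim j) = 1 := by simp [RS.ht, R.rt_sim]
  have : (1 : ℤ) ≤ a := by exact_mod_cast ha
  have : (1 : ℤ) ≤ b := by exact_mod_cast hb
  nlinarith

namespace RG

open WRG SRG

variable (X : RG R K G)

/-- `g ∈ x_r(t) X_{S - r}` -/
def Co (S : Set ι) (r : ι) (g : G) (t : K) : Prop := ∃ y ∈ X.XS {s | s ∈ S ∧ s ≠ r}, g = X.x r t * y

variable {X} {S : Set ι} {r : ι}

theorem exists_co (h : R.Bot S r) {g : G} (hg : g ∈ X.XS S) : ∃ t, X.Co S r g t := by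
  obtain ⟨a, ha, b, hb, e⟩ := X.exists_mul_of_union (S₁ := {r}) (S₂ := {s | s ≠ r}) h.closed h.pos
    (fun s _ => em _) hg
  obtain ⟨t, rfl⟩ := X.mem_XS_singleton.1 (X.XS_mono Set.inter_subset_right ha)
  exact ⟨t, b, hb, e⟩

omit [Fintype ι] in
theorem U_conj_T (h : R.Bot S r) {u y : G} (hu : u ∈ X.U) (hy : y ∈ X.XS {s | s ∈ S ∧ s ≠ r}) :
    u * y * u⁻¹ ∈ X.XS {s | s ∈ S ∧ s ≠ r} :=
  X.conj_mem_XS (S := {s | R.Pos s}) (fun _ ha b hb => R.ne_neg_of_pos ha (h.pos b hb.1))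
    (fun a ha b hb k hk => h.id a ha b hb.1 k hk) hu hy

omit [Fintype ι] in
theorem U_conj_S (h : R.Bot S r) {u y : G} (hu : u ∈ X.U) (hy : y ∈ X.XS S) : u * y * u⁻¹ ∈ X.XS S :=
  X.conj_mem_XS (S := {s | R.Pos s}) (fun _ ha b hb => R.ne_neg_of_pos ha (h.pos b hb))
    (fun a ha b hb k hk => (h.id a ha b hb k hk).1) hu hy

omit [Fintype ι] in
theorem xU (h : R.Bot S r) (t : K) : X.x r t ∈ X.U := X.x_mem_XS (h.pos r h.mem) t

theorem Co.unique (h : R.Bot S r) {g : G} {t t' : K} (h1 : X.Co S r g t) (h2 : X.Co S r g t') : t = t' := by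
  obtain ⟨y, hy, rfl⟩ := h1
  obtain ⟨y', hy', e⟩ := h2
  by_contra hne
  have h3 : X.x r (-t' + t) = y' * y⁻¹ := by
    rw [X.x_add, ← X.x_inv, ← mul_inv_cancel_right (X.x r t) y, e]; group
  have := X.mem_of_x_mem_XS X.nd1 h.closed' (fun s hs => h.pos s hs.1) (h.pos r h.mem)
    (a := -t' + t) (fun e => hne (by linear_combination e)) (h3 ▸ mul_mem hy' (inv_mem hy))
  exact this.2 rfl

omit [Fintype ι] in
theorem Co.mul (h : R.Bot S r) {g g' : G} {t t' : K} (h1 : X.Co S r g t) (h2 : X.Co S r g' t') :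
    X.Co S r (g * g') (t + t') := by
  obtain ⟨y, hy, rfl⟩ := h1
  obtain ⟨y', hy', rfl⟩ := h2
  refine ⟨(X.x r t')⁻¹ * y * (X.x r t')⁻¹⁻¹ * y', mul_mem (U_conj_T h (inv_mem (xU h t')) hy) hy', ?_⟩
  rw [X.x_add]; group

omit [Fintype ι] in
theorem co_zero_iff {g : G} : X.Co S r g 0 ↔ g ∈ X.XS {s | s ∈ S ∧ s ≠ r} :=
  ⟨fun ⟨y, hy, e⟩ => by rw [e, X.x_zero, one_mul]; exact hy, fun h => ⟨g, h, by rw [X.x_zero, one_mul]⟩⟩

omit [Fintype ι] in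
theorem co_x (t : K) : X.Co S r (X.x r t) t := ⟨1, one_mem _, (mul_one _).symm⟩

omit [Fintype ι] in
theorem Co.conjU (h : R.Bot S r) {u : G} (hu : u ∈ X.U) {g : G} {t : K} (h1 : X.Co S r g t) :
    X.Co S r (u * g * u⁻¹) t := by
  have key : ∀ u ∈ X.U, X.Co S r (u * X.x r t * u⁻¹) t := by
    refine X.XS_induction (by simpa using co_x t) ?_
    rintro s hs c u - ⟨y, hy, e⟩
    have h2 := X.comm_mem (r := s) (s := r) (R.ne_neg_of_pos hs (h.pos r h.mem)) (T := {s | s ∈ S ∧ s ≠ r})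
      (fun k hk => h.id s hs r h.mem k hk) c t
    refine ⟨(X.x r t)⁻¹ * (X.x s c * X.x r t * (X.x s c)⁻¹ * (X.x r t)⁻¹) * (X.x r t)⁻¹⁻¹ *
      (X.x s c * y * (X.x s c)⁻¹), mul_mem (U_conj_T h (inv_mem (xU h t)) h2)
      (U_conj_T h (X.x_mem_XS hs c) hy), ?_⟩
    calc X.x s c * u * X.x r t * (X.x s c * u)⁻¹ = X.x s c * (u * X.x r t * u⁻¹) * (X.x s c)⁻¹ := by group
      _ = _ := by rw [e]; group
  obtain ⟨y, hy, rfl⟩ := h1
  obtain ⟨z, hz, e⟩ := key u hu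
  refine ⟨z * (u * y * u⁻¹), mul_mem hz (U_conj_T h hu hy), ?_⟩
  rw [← mul_assoc (X.x r t), ← e]; group

omit [Fintype ι] in
theorem Co.conjH (c : Λ → Kˣ) {g : G} {t : K} (h1 : X.Co S r g t) :
    X.Co S r (X.hmap c * g * (X.hmap c)⁻¹) (R.chi r c * t) := by
  obtain ⟨y, hy, rfl⟩ := h1
  refine ⟨X.hmap c * y * (X.hmap c)⁻¹, X.H_conj_mem (X.hmap_mem_H c) hy, ?_⟩
  have := (X.actsBy_hmap c).conj r t
  simp only [Equiv.Perm.coe_one, id_eq] at this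
  rw [← this]; group

omit [Fintype ι] in
theorem Co.conjB (h : R.Bot S r) {b : G} (hb : b ∈ X.B) : ∃ x : K, ∀ g t, X.Co S r g t →
    X.Co S r (b * g * b⁻¹) (x * t) := by
  obtain ⟨u, hu, a, ha, rfl⟩ := X.mem_B_iff.1 hb
  obtain ⟨c, rfl⟩ := X.mem_H_iff.1 ha
  refine ⟨R.chi r c, fun g t h1 => ?_⟩
  have := (h1.conjH c).conjU h hu
  convert this using 1
  group

end RG

theorem span_sq {F : Type*} [Field F] [Finite F] {A : AddSubgroup F} (h : ∀ t : F, t ≠ 0 → t ^ 2 ∈ A) :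
    A = ⊤ := by
  have h' : ∀ t : F, t ^ 2 ∈ A := fun t => by
    by_cases e : t = 0
    · simp [e]
    · exact h t e
  rw [eq_top_iff]
  intro t _
  by_cases h2 : (2 : F) = 0
  · have : CharP F 2 := CharTwo.of_one_ne_zero_of_two_eq_zero one_ne_zero h2
    obtain ⟨s, hs⟩ := (Finite.injective_iff_surjective.1 (frobenius_inj F 2)) t
    rw [← hs, frobenius_def]; exact h' s
  · have : t = ((t + 1) / 2) ^ 2 - ((t - 1) / 2) ^ 2 := by field_simp; ring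
    rw [this]; exact sub_mem (h' _) (h' _)

namespace Tw

open WRG SRG RG

variable {X : RG R K G} {Γ : Subgroup G} {I : Type} (T : Tw X Γ I)

theorem tr_co [Finite K] [Finite Γ] {D : Subgroup (MulAut Γ)} (hD : Perf D) (hB : Inv D T.bn.B) {A W : Subgroup Γ}
    (hA : Inv D A) (hW : Inv D W) (hn : Nm T.bn.B A) {S : Set ι} {r : ι} (h : R.Bot S r)
    (hAS : ∀ a ∈ A, (a : G) ∈ X.XS S) (F : Subfield K)
    (f1 : ∀ a ∈ A, ∀ t, X.Co S r a t → t ∈ F) (f2 : ∀ t ∈ F, ∃ a ∈ A, X.Co S r a t)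
    (hWA : W ≤ A) (f3 : ∀ a ∈ A, X.Co S r a 0 ↔ a ∈ W)
    (f4 : AddSubgroup.closure {t : F | ∃ c, X.hmap c ∈ Γ ∧ (R.chi r c : K) = t} = ⊤) : Tr D A W := by
  classical
  choose co hco using fun a : A => exists_co h (hAS a a.2)
  let f : A →* Multiplicative F := MonoidHom.mk'
    (fun a => Multiplicative.ofAdd ⟨co a, f1 a a.2 _ (hco a)⟩) (fun a b => by
      rw [← ofAdd_add]
      exact congrArg _ (Subtype.ext ((hco (a * b)).unique h ((hco a).mul h (hco b)))))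
  obtain ⟨a1, ha1, hc1⟩ := f2 1 F.one_mem
  have hx : ∀ b : Γ, ∃ x : F, b ∈ T.bn.B → ∀ g t, X.Co S r g t → X.Co S r (b * g * (b : G)⁻¹) (x * t) := by
    intro b
    by_cases hb : b ∈ T.bn.B
    · obtain ⟨x, hx⟩ := Co.conjB (X := X) h (mem_sub.1 hb)
      have h1 := hx _ _ hc1
      have h2 : b * a1 * b⁻¹ ∈ A := (Subgroup.mem_normalizer_iff.1 (hn hb) a1).1 ha1
      exact ⟨⟨x, by simpa using f1 _ h2 _ h1⟩, fun _ => hx⟩
    · exact ⟨0, fun h => absurd h hb⟩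
  choose χ hχ using hx
  refine tr_of_field hD hB hA hW hWA hn f (fun t => ?_) ?_ χ (fun b hb a a' e => ?_) ?_
  · obtain ⟨a, ha, hc⟩ := f2 _ (Multiplicative.toAdd t).2
    exact ⟨⟨a, ha⟩, congrArg Multiplicative.ofAdd (Subtype.ext ((hco _).unique h hc))⟩
  · ext a
    rw [MonoidHom.mem_ker, Subgroup.mem_subgroupOf, ← f3 a a.2]
    constructor
    · intro e
      have : co a = 0 := congrArg (fun x : Multiplicative F => ((Multiplicative.toAdd x : F) : K)) e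
      exact this ▸ hco a
    · intro e
      exact congrArg Multiplicative.ofAdd (Subtype.ext ((hco a).unique h e))
  · refine Subtype.ext ((hco a').unique h ?_)
    have := hχ b hb _ _ (hco a)
    rw [e]; exact this
  · rw [eq_top_iff, ← f4]
    refine AddSubgroup.closure_mono ?_
    rintro t ⟨c, hc, e⟩
    have hb : (⟨X.hmap c, hc⟩ : Γ) ∈ T.bn.B := mem_sub.2 (X.H_le_B (X.hmap_mem_H c))
    refine ⟨_, hb, Subtype.ext ?_⟩
    have := (hχ _ hb _ _ hc1).unique h (hc1.conjH c)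
    rw [mul_one, mul_one] at this
    rw [this, e]

/-- the unipotent subgroup of `Γ` -/
def UU (_T : Tw X Γ I) : Subgroup Γ := (X.U ⊓ Γ).subgroupOf Γ

/-- the unipotent radical of the minimal parabolic subgroup -/
def Ui (i : I) : Subgroup Γ := (X.XS {r | R.Pos r ∧ r ∉ R.Phi (T.J i)} ⊓ Γ).subgroupOf Γ

theorem Ui_le (i : I) : T.Ui i ≤ T.UU := fun _ h => mem_sub.2 (X.XS_mono (fun _ h => h.1) (mem_sub.1 h))

theorem nm_XS {S : Set ι} (hp : ∀ s ∈ S, R.Pos s) (hS : ∀ s, R.Pos s → ∀ s' ∈ S, ∀ k, R.Cone s s' k → k ∈ S) :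
    Nm T.bn.B ((X.XS S ⊓ Γ).subgroupOf Γ) := by
  have key : ∀ b ∈ T.bn.B, ∀ y ∈ (X.XS S ⊓ Γ).subgroupOf Γ, b * y * b⁻¹ ∈ (X.XS S ⊓ Γ).subgroupOf Γ := by
    intro b hb y hy
    obtain ⟨u, hu, a, ha, e⟩ := X.mem_B_iff.1 (mem_sub.1 hb)
    refine mem_sub.2 ?_
    have := X.conj_mem_XS (S := {s | R.Pos s}) (fun _ ha b hb => R.ne_neg_of_pos ha (hp b hb)) hS hu
      (X.H_conj_mem ha (mem_sub.1 hy))
    simp only [Subgroup.coe_mul, Subgroup.coe_inv, e]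
    convert this using 1
    group
  intro b hb
  refine Subgroup.mem_normalizer_iff.2 fun y => ⟨key b hb y, fun h => ?_⟩
  have := key b⁻¹ (inv_mem hb) _ h
  simpa [mul_assoc] using this

theorem nm_UU : Nm T.bn.B T.UU := T.nm_XS (fun _ h => h) fun _ h _ h' _ hk => hk.pos h h'

theorem nm_Ui (i : I) : Nm T.bn.B (T.Ui i) := T.nm_XS (fun _ h => h.1) fun s h s' h' k hk => by
  by_cases e : s ∈ R.Phi (T.J i)
  · exact hk.pos_not_Phi e h'.1 h'.2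
  · exact R.closed_pos_not_Phi _ s ⟨h, e⟩ s' h' k hk

theorem inf_conj (i : I) {s : Γ} (hs : (s : G) = T.nJ i) :
    T.UU ⊓ T.UU.map (MulAut.conj s).toMonoidHom = T.Ui i := by
  have hw := T.nJ_acts i
  have hW := R.w0_mem_W (T.J i)
  ext g
  constructor
  · rintro ⟨h1, y, hy, rfl⟩
    refine mem_sub.2 (X.XS_mono ?_ (X.XS_inf_conj (S := {r | R.Pos r}) (T := {r | R.Pos (R.w0 (T.J i) r)})
      R.closed_pos (R.closed_pos.preimage hW) (fun _ h => h) hW (fun r hr => by simpa [R.w0_w0] using hr)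
      (mem_sub.1 h1) ?_))
    · rintro r ⟨h1, h2⟩
      exact ⟨h1, fun e => (R.pos_w0_iff e).1 h2 h1⟩
    · have := hw.conj_mem (T := {r | R.Pos (R.w0 (T.J i) r)}) (fun r hr => by simpa [R.w0_w0] using hr)
        (mem_sub.1 hy)
      simpa [hs] using this
  · intro hg
    refine ⟨T.Ui_le i hg, s⁻¹ * g * s, mem_sub.2 ?_, by simp [mul_assoc]⟩
    have := hw.conj_mem' (T := {r | R.Pos r}) (fun r hr => by
      rw [R.w0_inv]; exact (R.WJ_pos_of_not_mem (R.w0_mem _) hr.2).2 hr.1) (mem_sub.1 hg)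
    simp only [Subgroup.coe_mul, Subgroup.coe_inv, hs]
    exact this

theorem decomp (i : I) {g : Γ} (hg : g ∈ T.UU) : ∃ y ∈ T.Ui i, ∃ a : Γ,
    (a : G) ∈ X.XS {r | R.Pos r ∧ r ∈ R.Phi (T.J i)} ∧ g = y * a := by
  obtain ⟨y, hy, a, ha, e⟩ := X.exists_mul_of_union (S₁ := {r | r ∉ R.Phi (T.J i)}) (S₂ := R.Phi (T.J i))
    R.closed_pos (fun _ h => h) (fun r _ => (em _).symm) (mem_sub.1 hg)
  have hw := T.nJ_acts i
  have h1 : T.nJ i * y * (T.nJ i)⁻¹ ∈ X.U := hw.conj_mem (fun r hr =>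
    (R.WJ_pos_of_not_mem (R.w0_mem _) hr.2).2 hr.1) hy
  have h2 : a ∈ X.XS (R.inv (R.w0 (T.J i))) := by rw [RS.inv_w0]; exact ha
  have h3 := (T.bc _ _ _ _ h1 (T.nJ_N i) h2 hw (by
    have : T.nJ i * y * (T.nJ i)⁻¹ * T.nJ i * a = T.nJ i * g := by rw [e]; group
    rw [this]; exact mul_mem (T.nJ_mem i) g.2)).2.2
  have h4 : y ∈ Γ := by
    have : y = g * a⁻¹ := by rw [e]; group
    rw [this]; exact mul_mem g.2 (inv_mem h3)
  exact ⟨⟨y, h4⟩, mem_sub.2 hy, ⟨a, h3⟩, ha, Subtype.ext e⟩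

theorem outS [Finite G] [Finite K] [IsSimpleGroup Γ] [Nonempty I]
    (hval : ∀ s ∈ T.bn.S, {t | t ∈ T.bn.S ∧ val T.bn t = val T.bn s}.ncard ≤ 4)
    (hs : ∀ i, ∀ D : Subgroup (MulAut Γ), Perf D → Inv D T.UU → Inv D T.bn.B → Inv D (T.Ui i) →
      Tr D T.UU (T.Ui i)) : OutS Γ := by
  obtain ⟨p, hp⟩ := CharP.exists K
  have : Fact p.Prime := ⟨CharP.char_is_prime K p⟩
  have hU : IsPGroup p T.UU :=
    ((X.isPGroup_U (p := p)).to_inf_left (K := Γ)).of_equiv (Subgroup.subgroupOfEquivOfLe inf_le_right).symm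
  let U : Sylow p Γ := hU.toSylow T.not_dvd_index_U
  have hUe : (U : Subgroup Γ) = T.UU := rfl
  obtain ⟨i0⟩ := ‹Nonempty I›
  refine outS_of_bn T.bn ⟨⟨T.nJ i0, T.nJ_mem i0⟩, i0, rfl⟩ U ?_ T.nm_UU hval ?_ ?_
  · refine le_antisymm (fun g hg => ?_) (sup_le (fun g hg => mem_sub.2 (X.U_le_B (mem_sub.1 hg))) inf_le_left)
    obtain ⟨u, hu, a, ha, e⟩ := (T.mem_B_iff g.2).1 (mem_sub.1 hg)
    have : g = ⟨u, hu.2⟩ * ⟨a, ha.2⟩ := Subtype.ext e
    rw [this]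
    exact mul_mem (Subgroup.mem_sup_left (mem_sub.2 hu.1))
      (Subgroup.mem_sup_right ⟨mem_sub.2 (X.H_le_B ha.1), mem_sub.2 (X.H_le_N ha.1)⟩)
  · rintro s ⟨i, hi⟩
    rw [hUe, T.inf_conj i hi]; exact T.nm_Ui i
  · rintro s ⟨i, hi⟩ D hD h1 h2
    rw [hUe, T.inf_conj i hi]; exact hs i D hD h1 h2

theorem hval_of_card [Fintype I] (h : Fintype.card I ≤ 4) :
    ∀ s ∈ T.bn.S, {t | t ∈ T.bn.S ∧ val T.bn t = val T.bn s}.ncard ≤ 4 := by
  intro s _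
  have : {t | t ∈ T.bn.S ∧ val T.bn t = val T.bn s} ⊆ Set.range fun i => (⟨T.nJ i, T.nJ_mem i⟩ : Γ) := by
    rintro t ⟨⟨i, hi⟩, -⟩
    exact ⟨i, Subtype.ext hi.symm⟩
  refine (Set.ncard_le_ncard this).trans ?_
  rw [← Set.image_univ]
  refine (Set.ncard_image_le).trans ?_
  rwa [Set.ncard_univ, Nat.card_eq_fintype_card]

/-- a node whose root group is parametrised by a field. -/
theorem tr_node [Finite K] [Finite Γ] (i : I) {j : Λ} (hj : j ∈ T.J i) (F : Subfield K) (φ : K → G)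
    (g1 : ∀ a ∈ Γ, a ∈ X.XS {r | R.Pos r ∧ r ∈ R.Phi (T.J i)} → ∃ t ∈ F, a = φ t)
    (g2 : ∀ t ∈ F, φ t ∈ Γ ∧ X.Co {s | R.Pos s} (R.sim j) (φ t) t) (g3 : φ 0 = 1)
    (f4 : ∀ t ∈ F, t ≠ 0 → ∃ c, X.hmap c ∈ Γ ∧ (R.chi (R.sim j) c : K) = t ^ 2)
    {D : Subgroup (MulAut Γ)} (hD : Perf D) (hU : Inv D T.UU) (hB : Inv D T.bn.B) (hi : Inv D (T.Ui i)) :
    Tr D T.UU (T.Ui i) := by
  have hb := R.bot_sim j
  have h0 : ∀ y ∈ T.Ui i, X.Co {s | R.Pos s} (R.sim j) y 0 := fun y hy =>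
    co_zero_iff.2 (X.XS_mono (T := {s | s ∈ {s | R.Pos s} ∧ s ≠ R.sim j})
      (fun r hr => ⟨hr.1, fun e => hr.2 (e ▸ R.sim_mem_Phi.2 hj)⟩) (mem_sub.1 hy))
  have key : ∀ a ∈ T.UU, ∃ y ∈ T.Ui i, ∃ t ∈ F, (a : G) = y * φ t ∧ X.Co {s | R.Pos s} (R.sim j) a t := by
    intro a ha
    obtain ⟨y, hy, b, hb', rfl⟩ := T.decomp i ha
    obtain ⟨t, ht, e⟩ := g1 b b.2 hb'
    refine ⟨y, hy, t, ht, by simp [e], ?_⟩
    have := (h0 y hy).mul hb (g2 t ht).2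
    simpa [e] using this
  refine T.tr_co hD hB hU hi T.nm_UU hb (fun a ha => mem_sub.1 ha) F (fun a ha t h => ?_) (fun t ht => ?_)
    (T.Ui_le i) (fun a ha => ⟨fun h => ?_, h0 a⟩) (span_sq fun t ht => AddSubgroup.subset_closure ?_)
  · obtain ⟨-, -, t', ht', -, h'⟩ := key a ha
    exact h'.unique hb h ▸ ht'
  · obtain ⟨y, hy, e⟩ := (g2 t ht).2
    refine ⟨⟨φ t, (g2 t ht).1⟩, mem_sub.2 ?_, (g2 t ht).2⟩
    change φ t ∈ _
    rw [e]; exact mul_mem (xU hb t) (X.XS_mono (fun _ h => h.1) hy)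
  · obtain ⟨y, hy, t', -, e, h'⟩ := key a ha
    rw [h'.unique hb h, g3, mul_one] at e
    exact Subtype.ext e ▸ hy
  · exact f4 t t.2 (fun e => ht (Subtype.ext e))

end Tw

end H20
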