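import Mathlib
import Cfsg.Agent.H20.SC0

/-! The Schreier property for the twisted groups of type E6 and D4. -/

set_option autoImplicit false

namespace H20

open Finset H0.Sch Cfsg.Lie H19

section

variable {D : ChevalleyDatum} {g : Good D} {K : Type} [Field K] (M : MatRG g K)

theorem MatRG.co_map {S : Set (Fin D.nroots)} {r : Fin D.nroots} {a : D.SteinbergGroup K} {t : K}
    (h : M.St.Co S r a t) : M.X.Co S r (M.θ a) t := by
  obtain ⟨y, hy, rfl⟩ := h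
  exact ⟨M.θ y, WRG.map_mem_XS M.θ_x hy, by rw [map_mul, M.θ_x]⟩

theorem MatRG.co_stw {p : ℕ → Prop} {r : Fin D.nroots} (hb : g.rs.Bot {s | p s} r) (w₁ w₂ : List (ℕ × K)) (t : K)
    (h : ∀ s ∈ (w₁ ++ w₂).map Prod.fst, p s ∧ s ≠ r) :
    M.St.Co {s | p s} r (stw D (w₁ ++ ((r : ℕ), t) :: w₂)) t := by
  have key : ∀ w : List (ℕ × K), (∀ s ∈ w.map Prod.fst, p s ∧ s ≠ r) → M.St.Co {s | p s} r (stw D w) 0 :=
    fun w hw => RG.co_zero_iff.2 (M.St.XS_mono (T := {s | s ∈ {s : Fin D.nroots | p s} ∧ s ≠ r})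
      (fun s hs => ⟨hs.1, fun e => hs.2 (congrArg Fin.val e)⟩)
      (M.stw_mem_XS (p := fun s => p s ∧ s ≠ r) hw))
  have := ((key w₁ fun s hs => h s (by simp_all)).mul hb (RG.co_x t)).mul hb (key w₂ fun s hs => h s (by simp_all))
  simpa [stw, MatRG.St_x, mul_assoc] using this

theorem MatRG.bot_sim (j : Fin D.rank) : g.rs.Bot {s : Fin D.nroots | D.IsPosRoot s} (g.rs.sim j) := by
  simpa only [g.isPosRoot_iff] using g.rs.bot_sim j

theorem MatRG.tr_node [Finite K] {Γ : Subgroup (D.SteinbergGroup K)} {I : Type} (T : Tw M.St Γ I) (i : I)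
    {j : Fin D.rank} (hj : j ∈ T.J i) (F : Subfield K) (ω₁ ω₂ : K → List (ℕ × K))
    (g1 : ∀ a, a ∈ M.St.XS {r | g.rs.Pos r ∧ r ∈ g.rs.Phi (T.J i)} ⊓ Γ ↔
      ∃ t ∈ F, a = stw D (ω₁ t ++ (D.simple j, t) :: ω₂ t))
    (g2 : ∀ t, ∀ s ∈ (ω₁ t ++ ω₂ t).map Prod.fst, D.IsPosRoot s ∧ s ≠ D.simple j)
    (g3 : stw D (ω₁ 0 ++ (D.simple j, 0) :: ω₂ 0) = 1)
    (f4 : ∀ t ∈ F, t ≠ 0 → ∃ c, M.St.hmap c ∈ Γ ∧ (g.rs.chi (g.rs.sim j) c : K) = t ^ 2)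
    {E : Subgroup (MulAut (Γ.map M.θ))} (hD : Perf E) (hU : Inv E (T.map M.θ_x).UU)
    (hB : Inv E (T.map M.θ_x).bn.B) (hi : Inv E ((T.map M.θ_x).Ui i)) :
    Tr E (T.map M.θ_x).UU ((T.map M.θ_x).Ui i) := by
  refine (T.map M.θ_x).tr_node i hj F (fun t => M.θ (stw D (ω₁ t ++ (D.simple j, t) :: ω₂ t))) ?_ ?_
    (by simp only [g3, map_one]) ?_ hD hU hB hi
  · intro a h1 h2
    obtain ⟨b, hb, rfl⟩ := (T.map_XS_inf M.θ_x (fun _ h => h.1)).le ⟨h2, h1⟩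
    obtain ⟨t, ht, rfl⟩ := (g1 b).1 hb
    exact ⟨t, ht, rfl⟩
  · intro t ht
    refine ⟨⟨_, ((g1 _).2 ⟨t, ht, rfl⟩).2, rfl⟩, ?_⟩
    have := M.co_map (M.co_stw (MatRG.bot_sim j) (ω₁ t) (ω₂ t) t (g2 t))
    simpa only [g.isPosRoot_iff, g.rs_sim_val] using this
  · intro t ht h0
    obtain ⟨c, h1, h2⟩ := f4 t ht h0
    exact ⟨c, ⟨_, h1, RG.map_hmap M.θ_x c⟩, h2⟩

end

theorem stw_zero {D : ChevalleyDatum} {K : Type} [Field K] {w : List (ℕ × K)}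
    (h : ∀ p ∈ w, p.1 < D.nroots ∧ p.2 = 0) : stw D w = 1 := by
  refine List.prod_eq_one fun x hx => ?_
  obtain ⟨p, hp, rfl⟩ := List.mem_map.1 hx
  rw [(h p hp).2]; exact (stRel D K).x_zero (h p hp).1

theorem chi_sim {D : ChevalleyDatum} (g : Good D) {K : Type} [Field K] (j : Fin D.rank) (c : Fin D.rank → Kˣ) :
    g.rs.chi (g.rs.sim j) c = ∏ i, c i ^ (g.aux.CL.getD i []).getD j 0 := by
  rw [RS.chi_apply]; exact prod_congr rfl fun i _ => by rw [← g.rs_C]; rfl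

theorem chiE6 {K : Type} [Field K] (j : Fin 6) (c : Fin 6 → Kˣ) :
    goodE6.rs.chi (goodE6.rs.sim j) c = ∏ i : Fin 6, c i ^ (auxE6.CL.getD i []).getD j 0 := chi_sim goodE6 j c

theorem chiD4 {K : Type} [Field K] (j : Fin 4) (c : Fin 4 → Kˣ) :
    goodD4.rs.chi (goodD4.rs.sim j) c = ∏ i : Fin 4, c i ^ (auxD4.CL.getD i []).getD j 0 := chi_sim goodD4 j c

theorem outS_E6 {K : Type} [Field K] [Fintype K] {q : ℕ} (hq : IsPrimePow q) (hK : Fintype.card K = q ^ 2)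
    [hs : IsSimpleGroup (twistedE6 K q)] : OutS (twistedE6 K q) := by
  obtain ⟨f, hf⟩ := exists_frob hq hK
  have hff : ∀ t, f (f t) = t := fun t => by rw [hf, hf, ← pow_mul, ← pow_two, ← hK, FiniteField.pow_card]
  have hq0 : q ≠ 0 := hq.ne_zero
  have hqq : ∀ a : Kˣ, (a ^ q) ^ q = a := fun a => Units.ext (by simpa [hf] using hff a)
  revert hs
  rw [twistedE6, ← (matE6 K).map_stSub]
  intro hs
  obtain ⟨T, hT⟩ : ∃ T : Tw (matE6 K).St (stSub chevE6 (e6Words K q)) (Fin 4),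
      ∀ i, T.J i = Good.JS chevE6 (JLE6.getD i []) := ⟨(E6.gen hf hff).tw, fun _ => rfl⟩
  refine (T.map (matE6 K).θ_x).outS (Tw.hval_of_card _ (by simp)) fun i E hD hU hB hi => ?_
  have k1 : ∀ (r : ℕ) (j : Fin 6), (j : ℕ) ∈ JLE6.getD i [] → PLE6.getD i [] = [r] →
      r ∈ [e6p2, e6m2, e6p4, e6m4] → chevE6.simple j = r → (j = 1 ∨ j = 3) →
      Tr E (T.map (matE6 K).θ_x).UU ((T.map (matE6 K).θ_x).Ui i) := by
    intro r j hj h1 h2 h3 h4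
    refine (matE6 K).tr_node T i (j := j) (by rw [hT]; exact hj) (f.eqLocusField (RingHom.id K)) (fun _ => [])
      (fun _ => []) (fun a => ?_)
      (by simp) (stw_zero (by simpa using goodE6.simple_lt j.2)) (fun t ht h0 => ?_) hD hU hB hi
    · rw [tsetE6 T hT, E6.mem_iff1 hf hff i.2 h1 h2, ← h3]
      exact ⟨fun ⟨t, e⟩ => ⟨t.1, (hf t).trans t.2, e⟩, fun ⟨t, ht, e⟩ => ⟨⟨t, (hf t).symm.trans ht⟩, e⟩⟩
    · obtain ⟨u, rfl⟩ : ∃ u : Kˣ, (u : K) = t := ⟨Units.mk0 t h0, rfl⟩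
      have h5 : u ^ q = u := Units.ext (by simpa using (hf u).symm.trans ht)
      rcases h4 with rfl | rfl
      · refine ⟨(![1, u, 1, 1, 1, 1] : Fin 6 → Kˣ), E6.hmap_mem hf hff _ ((E6.mem_Fix hf).2 (by simp [h5])), ?_⟩
        rw [chiE6]; simp [Fin.prod_univ_six, auxE6, zpow_ofNat]
      · refine ⟨(![1, 1, 1, u, 1, 1] : Fin 6 → Kˣ), E6.hmap_mem hf hff _ ((E6.mem_Fix hf).2 (by simp [h5])), ?_⟩
        rw [chiE6]; simp [Fin.prod_univ_six, auxE6, zpow_ofNat]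
  have k2 : ∀ (r s : ℕ) (j : Fin 6), (j : ℕ) ∈ JLE6.getD i [] → PLE6.getD i [] = [r, s] →
      (r, s) ∈ [(e6p1, e6p6), (e6m1, e6m6), (e6p3, e6p5), (e6m3, e6m5)] →
      chevE6.simple j = r → (chevE6.IsPosRoot s ∧ s ≠ r ∧ s < chevE6.nroots) → (j = 0 ∨ j = 2) →
      Tr E (T.map (matE6 K).θ_x).UU ((T.map (matE6 K).θ_x).Ui i) := by
    intro r s j hj h1 h2 h3 h3' h4
    refine (matE6 K).tr_node T i (j := j) (by rw [hT]; exact hj) ⊤ (fun _ => []) (fun t => [(s, t ^ q)]) (fun a => ?_)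
      (fun t s' hs' => ?_) (stw_zero fun p hp => ?_) (fun t ht h0 => ?_) hD hU hB hi
    · rw [tsetE6 T hT, E6.mem_iff2 hf hff i.2 h1 h2, ← h3]
      exact ⟨fun ⟨t, e⟩ => ⟨t, trivial, e⟩, fun ⟨t, _, e⟩ => ⟨t, e⟩⟩
    · obtain rfl : s' = s := by simpa using hs'
      exact ⟨h3'.1, fun e => h3'.2.1 (e.trans h3)⟩
    · simp only [List.nil_append, List.mem_cons, List.not_mem_nil, or_false] at hp
      rcases hp with rfl | rfl
      · exact ⟨goodE6.simple_lt j.2, rfl⟩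
      · exact ⟨h3'.2.2, zero_pow hq0⟩
    · obtain ⟨u, rfl⟩ : ∃ u : Kˣ, (u : K) = t := ⟨Units.mk0 t h0, rfl⟩
      rcases h4 with rfl | rfl
      · refine ⟨(![u, 1, 1, 1, 1, u ^ q] : Fin 6 → Kˣ),
          E6.hmap_mem hf hff _ ((E6.mem_Fix hf).2 (by simp [hqq])), ?_⟩
        rw [chiE6]; simp [Fin.prod_univ_six, auxE6, zpow_ofNat]
      · refine ⟨(![1, 1, u, 1, u ^ q, 1] : Fin 6 → Kˣ),
          E6.hmap_mem hf hff _ ((E6.mem_Fix hf).2 (by simp [hqq])), ?_⟩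
        rw [chiE6]; simp [Fin.prod_univ_six, auxE6, zpow_ofNat]
  obtain ⟨i, hi4⟩ := i
  interval_cases i
  · exact k1 e6p2 1 (by decide : 1 ∈ [1]) rfl (by simp) (by decide +kernel) (by simp)
  · exact k1 e6p4 3 (by decide : 3 ∈ [3]) rfl (by simp) (by decide +kernel) (by simp)
  · exact k2 e6p3 e6p5 2 (by decide : 2 ∈ [2, 4]) rfl (by simp) (by decide +kernel) (by decide +kernel) (by simp)
  · exact k2 e6p1 e6p6 0 (by decide : 0 ∈ [0, 5]) rfl (by simp) (by decide +kernel) (by decide +kernel) (by simp)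

theorem factD4s : chevD4.simple 1 = d4p2 ∧ chevD4.simple 0 = d4p1 ∧
    (∀ s ∈ [d4p3, d4p4], chevD4.IsPosRoot s ∧ s ≠ chevD4.simple 0) ∧
    d4p1 < chevD4.nroots ∧ d4p2 < chevD4.nroots := by decide +kernel

theorem outS_D4 {K : Type} [Field K] [Fintype K] {q : ℕ} (hq : IsPrimePow q) (hK : Fintype.card K = q ^ 3)
    [hs : IsSimpleGroup (twistedD4 K q)] : OutS (twistedD4 K q) := by
  obtain ⟨f, hf⟩ := exists_frob hq hK
  have hff : ∀ t, f (f (f t)) = t := fun t => by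
    rw [hf, D4.hf2 hf, ← pow_mul, ← pow_succ, ← hK, FiniteField.pow_card]
  have hq0 : q ≠ 0 := hq.ne_zero
  have hqq : ∀ a : Kˣ, ((a ^ q) ^ q) ^ q = a := fun a => Units.ext (by simpa [hf] using hff a)
  obtain ⟨e1, e0, e2, e3, e4⟩ := factD4s
  revert hs
  rw [twistedD4, ← (matD4 K).map_stSub]
  intro hs
  obtain ⟨T, hT⟩ : ∃ T : Tw (matD4 K).St (stSub chevD4 (d4Words K q)) (Fin 2),
      ∀ i, T.J i = Good.JS chevD4 (JLD4.getD i []) := ⟨(D4.gen hf hff).tw, fun _ => rfl⟩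
  refine (T.map (matD4 K).θ_x).outS (Tw.hval_of_card _ (by simp)) ?_
  rw [Fin.forall_fin_two]
  constructor
  · intro E hD hU hB hi
    refine (matD4 K).tr_node T 0 (j := (1 : Fin 4)) (by rw [hT]; exact (by decide : 1 ∈ [1]))
      (f.eqLocusField (RingHom.id K)) (fun _ => []) (fun _ => []) (fun a => ?_)
      (by simp) (stw_zero fun p hp => ?_) (fun t ht h0 => ?_) hD hU hB hi
    · rw [tsetD4 T hT]
      refine (D4.mem_iff1 hf hff a).trans ?_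
      rw [← e1]
      exact ⟨fun ⟨t, e⟩ => ⟨t.1, (hf t).trans t.2, e⟩, fun ⟨t, ht, e⟩ => ⟨⟨t, (hf t).symm.trans ht⟩, e⟩⟩
    · obtain rfl := List.mem_singleton.1 hp
      exact ⟨e1 ▸ e4, rfl⟩
    · obtain ⟨u, rfl⟩ : ∃ u : Kˣ, (u : K) = t := ⟨Units.mk0 t h0, rfl⟩
      have h5 : u ^ q = u := Units.ext (by simpa using (hf u).symm.trans ht)
      refine ⟨(![1, u, 1, 1] : Fin 4 → Kˣ), D4.hmap_mem hf hff _ ((D4.mem_Fix hf).2 (by simp [h5])), ?_⟩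
      rw [chiD4]; simp [Fin.prod_univ_four, auxD4, zpow_ofNat]
  · intro E hD hU hB hi
    refine (matD4 K).tr_node T 1 (j := (0 : Fin 4)) (by rw [hT]; exact (by decide : 0 ∈ [0, 2, 3]))
      ⊤ (fun _ => []) (fun t => [(d4p3, t ^ q), (d4p4, t ^ (q ^ 2))]) (fun a => ?_)
      (fun t => e2) (stw_zero fun p hp => ?_) (fun t ht h0 => ?_) hD hU hB hi
    · rw [tsetD4 T hT]
      refine (D4.mem_iff2 hf hff a).trans ?_
      rw [← e0]
      exact ⟨fun ⟨t, e⟩ => ⟨t, trivial, e⟩, fun ⟨t, _, e⟩ => ⟨t, e⟩⟩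
    · simp only [List.nil_append, List.mem_cons, List.not_mem_nil, or_false] at hp
      rcases hp with rfl | rfl | rfl
      · exact ⟨e0 ▸ e3, rfl⟩
      · exact ⟨(e2 _ (by simp)).1.1, zero_pow hq0⟩
      · exact ⟨(e2 _ (by simp)).1.1, zero_pow (pow_ne_zero 2 hq0)⟩
    · obtain ⟨u, rfl⟩ : ∃ u : Kˣ, (u : K) = t := ⟨Units.mk0 t h0, rfl⟩
      refine ⟨(![u, 1, u ^ q, (u ^ q) ^ q] : Fin 4 → Kˣ),
        D4.hmap_mem hf hff _ ((D4.mem_Fix hf).2 (by simp [hqq])), ?_⟩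
      rw [chiD4]; simp [Fin.prod_univ_four, auxD4, zpow_ofNat]

end H20
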