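import Mathlib
import Cfsg.Agent.H20.SC2

/-! The Schreier property for the Ree groups of type F4. -/

set_option autoImplicit false

namespace H20

open Finset H0.Sch Cfsg.Lie H19

section

variable {ι Λ : Type} [LinearOrder ι] [Fintype Λ] [DecidableEq Λ] [Fintype ι]
  {R : RS ι Λ} {K : Type} [Field K] {G : Type} [Group G]

omit [Fintype ι] in
theorem RS.Cone.le {s s' k : ι} (h : R.Cone s s' k) (hs : R.Pos s) (hs' : R.Pos s') :
    R.rt s + R.rt s' ≤ R.rt k := by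
  obtain ⟨a, b, ha, hb, e⟩ := h
  intro i
  have h1 : 0 ≤ R.rt s i := hs i
  have h2 : 0 ≤ R.rt s' i := hs' i
  have : (1 : ℤ) ≤ a := by exact_mod_cast ha
  have : (1 : ℤ) ≤ b := by exact_mod_cast hb
  simp only [e, Pi.add_apply, Pi.smul_apply, smul_eq_mul]
  nlinarith

theorem span_all {F : Subfield K} {s : Set F} (h : ∀ t : F, (t : K) ≠ 0 → t ∈ s) : AddSubgroup.closure s = ⊤ := by
  rw [eq_top_iff]
  intro t _
  by_cases e : t = 0
  · rw [e]; exact zero_mem _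
  · exact AddSubgroup.subset_closure (h t fun e' => e (Subtype.ext e'))

namespace Tw

open WRG SRG RG

variable {X : RG R K G} {Γ : Subgroup G} {I : Type} (T : Tw X Γ I)

/-- a node whose root group is a Suzuki 2-group. -/
theorem tr_suz [Finite K] [Finite Γ] (i : I) {b c : ι} {S : Set ι} (hb : R.Bot {s | R.Pos s} b) (hS : R.Bot S c)
    (hUS : ∀ r, R.Pos r → r ∉ R.Phi (T.J i) → r ∈ S ∧ r ≠ c) (hbS : b ∉ S) (φ : K → K → G)
    (g1 : ∀ a ∈ Γ, a ∈ X.XS {r | R.Pos r ∧ r ∈ R.Phi (T.J i)} → ∃ t u, a = φ t u)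
    (g2 : ∀ t u, φ t u ∈ Γ ∧ X.Co {s | R.Pos s} b (φ t u) t)
    (g3 : ∀ u, X.Co S c (φ 0 u) u ∧ φ 0 u * φ 0 u = 1) (g0 : φ 0 0 = 1)
    (g4 : ∀ t u, t ≠ 0 → ∃ v, v ≠ 0 ∧ X.Co S c (φ t u * φ t u) v)
    (f4 : ∀ r, r = b ∨ r = c → ∀ t : K, t ≠ 0 → ∃ a, X.hmap a ∈ Γ ∧ (R.chi r a : K) = t)
    {D : Subgroup (MulAut Γ)} (hD : Perf D) (hU : Inv D T.UU) (hB : Inv D T.bn.B) (hi : Inv D (T.Ui i)) :
    Tr D T.UU (T.Ui i) := by
  let M : Subgroup Γ := (X.XS S ⊓ Γ).subgroupOf Γ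
  have hnM : Nm T.bn.B M := T.nm_XS hS.pos fun s h s' h' k hk => (hS.id s h s' h' k hk).1
  have hUB : T.UU ≤ T.bn.B := fun g hg => mem_sub.2 (X.U_le_B (mem_sub.1 hg))
  have hMU : M ≤ T.UU := fun g hg => mem_sub.2 (X.XS_mono hS.pos (mem_sub.1 hg))
  have h0 : ∀ y ∈ T.Ui i, X.Co S c y 0 := fun y hy =>
    co_zero_iff.2 (X.XS_mono (T := {s | s ∈ S ∧ s ≠ c}) (fun r hr => hUS r hr.1 hr.2) (mem_sub.1 hy))
  have hcS : ∀ {a : G} {t : K}, X.Co S c a t → a ∈ X.XS S := by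
    rintro _ t ⟨y, hy, rfl⟩
    exact mul_mem (X.x_mem_XS hS.mem t) (X.XS_mono (fun _ h => h.1) hy)
  have hiM : T.Ui i ≤ M := fun y hy => mem_sub.2 (hcS (h0 y hy))
  have hM0 : ∀ y ∈ M, X.Co {s | R.Pos s} b y 0 := fun y hy =>
    co_zero_iff.2 (X.XS_mono (T := {s | s ∈ {s | R.Pos s} ∧ s ≠ b})
      (fun r hr => ⟨hS.pos r hr, fun e => hbS (e ▸ hr)⟩) (mem_sub.1 hy))
  have hφU : ∀ t u, (⟨φ t u, (g2 t u).1⟩ : Γ) ∈ T.UU := fun t u => by
    obtain ⟨y, hy, e⟩ := (g2 t u).2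
    refine mem_sub.2 ?_
    change φ t u ∈ _
    rw [e]; exact mul_mem (xU hb t) (X.XS_mono (fun _ h => h.1) hy)
  have key : ∀ a ∈ T.UU, ∃ y ∈ T.Ui i, ∃ t u, a = y * ⟨φ t u, (g2 t u).1⟩ ∧ X.Co {s | R.Pos s} b a t := by
    intro a ha
    obtain ⟨y, hy, b, hb', rfl⟩ := T.decomp i ha
    obtain ⟨t, u, e⟩ := g1 b b.2 hb'
    refine ⟨y, hy, t, u, congrArg _ (Subtype.ext e), ?_⟩
    have := (hM0 y (hiM hy)).mul hb (g2 t u).2
    simpa [e] using this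
  have kM : ∀ a ∈ T.UU, X.Co {s | R.Pos s} b a 0 →
      ∃ y ∈ T.Ui i, ∃ u, a = y * ⟨φ 0 u, (g2 0 u).1⟩ ∧ X.Co S c a u := by
    intro a ha h
    obtain ⟨y, hy, t, u, e, h'⟩ := key a ha
    obtain rfl := h'.unique hb h
    refine ⟨y, hy, u, e, ?_⟩
    have := (h0 y hy).mul hS (g3 u).1
    simpa [e] using this
  have hsq : ∀ y ∈ T.Ui i, ∀ p ∈ T.UU, (y * p * (y * p) ∈ T.Ui i ↔ p * p ∈ T.Ui i) := by
    intro y hy p hp
    have h1 : y * (p * y * p⁻¹) ∈ T.Ui i := mul_mem hy ((Subgroup.mem_normalizer_iff.1 (T.nm_Ui i (hUB hp)) y).1 hy)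
    rw [show y * p * (y * p) = y * (p * y * p⁻¹) * (p * p) by group, Subgroup.mul_mem_cancel_left _ h1]
  have sq : ∀ a ∈ T.UU, (a ∈ M ↔ a * a ∈ T.Ui i) := by
    intro a ha
    constructor
    · intro h
      obtain ⟨y, hy, u, rfl, -⟩ := kM a ha (hM0 a h)
      rw [hsq y hy _ (hφU 0 u)]
      convert one_mem (T.Ui i)
      exact Subtype.ext (g3 u).2
    · intro h
      obtain ⟨y, hy, t, u, e, h'⟩ := key a ha
      by_cases ht : t = 0
      · obtain ⟨-, -, u, -, h''⟩ := kM a ha (ht ▸ h')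
        exact mem_sub.2 (hcS h'')
      · obtain ⟨v, hv, h''⟩ := g4 t u ht
        rw [e, hsq y hy _ (hφU t u)] at h
        exact absurd (h''.unique hS (h0 _ h)) hv
  have hM : Inv D M := fun d hd a ha => by
    rw [sq _ (hU d hd a (hMU ha)), ← map_mul]
    exact hi d hd _ ((sq a (hMU ha)).1 ha)
  refine Tr.trans hD (Y := M) ?_ ?_ hMU hiM hi (hUB.trans hnM) (hUB.trans (T.nm_Ui i))
  · refine T.tr_co hD hB hU hM T.nm_UU hb (fun a ha => mem_sub.1 ha) ⊤ (fun _ _ _ _ => trivial)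
      (fun t _ => ⟨_, hφU t 0, (g2 t 0).2⟩) hMU (fun a ha => ⟨fun h => ?_, hM0 a⟩)
      (span_all fun t ht => f4 b (Or.inl rfl) t ht)
    obtain ⟨-, -, u, -, h''⟩ := kM a ha h
    exact mem_sub.2 (hcS h'')
  · refine T.tr_co hD hB hM hi hnM hS (fun a ha => mem_sub.1 ha) ⊤ (fun _ _ _ _ => trivial)
      (fun t _ => ⟨⟨φ 0 t, (g2 0 t).1⟩, mem_sub.2 (hcS (g3 t).1), (g3 t).1⟩) hiM (fun a ha => ⟨fun h => ?_, h0 a⟩)
      (span_all fun t ht => f4 c (Or.inr rfl) t ht)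
    obtain ⟨y, hy, u, e, h''⟩ := kM a (hMU ha) (hM0 a ha)
    obtain rfl := h''.unique hS h
    rw [e]
    convert hy
    exact mul_eq_left.2 (Subtype.ext g0)

end Tw

end

/-- the positive roots other than `a`, `b` -/
def pF4 (s : ℕ) : Prop := chevF4.IsPosRoot s ∧ s ≠ f4a ∧ s ≠ f4b

instance : DecidablePred pF4 := fun s => inferInstanceAs (Decidable (chevF4.IsPosRoot s ∧ s ≠ f4a ∧ s ≠ f4b))

theorem factF4s : chevF4.simple 3 = f4p4 ∧ chevF4.simple 2 = f4b ∧ (chevF4.IsPosRoot f4p1 ∧ f4p1 ≠ f4p4) ∧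
    (∀ s ∈ [f4a, f4ab, f4aab], chevF4.IsPosRoot s ∧ s ≠ f4b) ∧ pF4 f4ab ∧ (pF4 f4aab ∧ f4aab ≠ f4ab) ∧
    (dot (auxF4.row f4b) (auxF4.CL.getD 0 []) = 0 ∧ dot (auxF4.row f4b) (auxF4.CL.getD 3 []) = -1) ∧
    (dot (auxF4.row f4ab) (auxF4.CL.getD 0 []) = -1 ∧ dot (auxF4.row f4ab) (auxF4.CL.getD 3 []) = -1) := by
  decide +kernel

theorem factF4t : ∀ k ∈ [f4a, f4b, f4ab], ∀ s < 48, ∀ s' < 48, chevF4.IsPosRoot s → pF4 s' →
    ∃ i < 4, (auxF4.row k).getD i 0 < (auxF4.row s).getD i 0 + (auxF4.row s').getD i 0 := by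
  decide +kernel

theorem botF4 (h : f4ab < chevF4.nroots) : goodF4.rs.Bot {s : Fin chevF4.nroots | pF4 s} ⟨f4ab, h⟩ := by
  refine ⟨factF4s.2.2.2.2.1, fun s hs => (goodF4.isPosRoot_iff s).1 hs.1, fun s hs s' hs' k hk => ?_⟩
  have h1 := (goodF4.isPosRoot_iff s').1 hs'.1
  have h2 : (k : ℕ) ∉ [f4a, f4b, f4ab] := fun e => by
    obtain ⟨i, hi, e'⟩ := factF4t k e s s.2 s' s'.2 ((goodF4.isPosRoot_iff s).2 hs) hs'
    exact absurd (hk.le hs h1 ⟨i, hi⟩) (not_le.2 e')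
  simp only [List.mem_cons, List.not_mem_nil, or_false, not_or] at h2
  exact ⟨⟨(goodF4.isPosRoot_iff k).2 (hk.pos hs h1), h2.1, h2.2.1⟩, fun e => h2.2.2 (congrArg Fin.val e)⟩

section

variable {K : Type} [Field K] (h2 : ((homF4g.p : ℕ) : K) = 0)

theorem coF4_z (h : f4ab < chevF4.nroots) (c d : K) :
    (matF4 K).St.Co {s : Fin chevF4.nroots | pF4 s} ⟨f4ab, h⟩ (stw chevF4 [(f4ab, c), (f4aab, d)]) c :=
  (matF4 K).co_stw (botF4 h) [] [(f4aab, d)] c fun s hs => by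
    obtain rfl : s = f4aab := by simpa using hs
    exact factF4s.2.2.2.2.2.1

include h2

theorem stF4_sq {r : ℕ} (hr : r < chevF4.nroots) (t : K) : chevF4.stGen K r t * chevF4.stGen K r t = 1 := by
  have h3 : t + t = 0 := by
    have : (2 : K) = 0 := h2
    linear_combination t * this
  have := (stRel chevF4 K).x_add r hr t t
  rw [h3, (stRel chevF4 K).x_zero hr] at this
  exact this.symm

theorem zF4_sq (c d : K) : stw chevF4 [(f4ab, c), (f4aab, d)] * stw chevF4 [(f4ab, c), (f4aab, d)] = 1 := by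
  obtain ⟨h1, -, -, -, -, h7⟩ := F4.fact2 (f4a, f4b, f4ab, f4aab) (by simp)
  have h9 : Commute (chevF4.stGen K f4ab c) (chevF4.stGen K f4aab d) :=
    (stRel chevF4 K).commute_of_commB goodF4 h2 h1.2.2.1 h1.2.2.2 h7 c d
  simp only [stw, List.map_cons, List.map_nil, List.prod_cons, List.prod_nil, mul_one]
  rw [mul_assoc, h9.symm.left_comm, stF4_sq h2 h1.2.2.2, mul_one, stF4_sq h2 h1.2.2.1]

theorem coF4_sq (h : f4ab < chevF4.nroots) (s t c d : K) :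
    (matF4 K).St.Co {s : Fin chevF4.nroots | pF4 s} ⟨f4ab, h⟩
      (stw chevF4 [(f4a, s), (f4b, t), (f4ab, c), (f4aab, d)] *
        stw chevF4 [(f4a, s), (f4b, t), (f4ab, c), (f4aab, d)]) (s * t) := by
  obtain ⟨h1, -, h4, h5, h6, -⟩ := F4.fact2 (f4a, f4b, f4ab, f4aab) (by simp)
  simp only at h1 h4 h5 h6
  have h3 : (2 : K) = 0 := h2
  have h8 := (stRel chevF4 K).comm' h1.1 h1.2.1 h4 h5 s t
  rw [← (stRel chevF4 K).ev_redT (p := 2) h2 _ _ fun c hc =>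
    (goodF4.commTerms_cone (r := ⟨f4a, h1.1⟩) (s := ⟨f4b, h1.2.1⟩) hc).1, h6] at h8
  have h10 : -s = s := by linear_combination -s * h3
  simp only [stRel, Rel.ev, h10, List.map_cons, List.map_nil, List.prod_cons, List.prod_nil, Int.cast_one,
    one_mul, pow_one, mul_one] at h8
  have ha : chevF4.stGen K f4a s ∈ (matF4 K).St.U :=
    (matF4 K).St.x_mem_XS (r := ⟨f4a, h1.1⟩) ((goodF4.isPosRoot_iff _).1 (factF4s.2.2.2.1 _ (by simp)).1) s
  have hb : chevF4.stGen K f4b t ∈ (matF4 K).St.U :=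
    (matF4 K).St.x_mem_XS (r := ⟨f4b, h1.2.1⟩) ((goodF4.isPosRoot_iff _).1 (show chevF4.IsPosRoot f4b by decide +kernel)) t
  have k := (((coF4_z h c d).conjU (botF4 h) (mul_mem ha hb)).mul (botF4 h)
    ((coF4_z h (s * t) (s ^ 2 * t)).conjU (botF4 h) hb)).mul (botF4 h) (coF4_z h c d)
  have e1 : c + s * t + c = s * t := by linear_combination c * h3
  rw [e1] at k
  convert k using 1
  have e2 := stF4_sq h2 h1.1 s
  have e3 := stF4_sq h2 h1.2.1 t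
  simp only [stw, List.map_cons, List.map_nil, List.prod_cons, List.prod_nil, mul_one]
  generalize chevF4.stGen K f4a s = A at *
  generalize chevF4.stGen K f4b t = B at *
  generalize chevF4.stGen K f4ab c * chevF4.stGen K f4aab d = Z at *
  generalize chevF4.stGen K f4ab (s * t) * chevF4.stGen K f4aab (s ^ 2 * t) = W at *
  have e4 : W = (A * B)⁻¹ * (B * A) := by rw [h8]; group
  rw [e4, mul_inv_rev, inv_eq_of_mul_eq_one_right e2, inv_eq_of_mul_eq_one_right e3]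
  have hA : ∀ x, A * (A * x) = x := fun x => by rw [← mul_assoc, e2, one_mul]
  have hB : ∀ x, B * (B * x) = x := fun x => by rw [← mul_assoc, e3, one_mul]
  simp only [mul_assoc, hA, hB]

end

theorem chiF4 {K : Type} [Field K] (r : Fin chevF4.nroots) (x d : Kˣ) :
    goodF4.rs.chi r (![x, 1, 1, d] : Fin 4 → Kˣ) =
      x ^ dot (auxF4.row r) (auxF4.CL.getD 0 []) * d ^ dot (auxF4.row r) (auxF4.CL.getD 3 []) := by
  refine (goodF4.chi_eq r _).trans ?_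
  change ∏ i : Fin 4, (![x, 1, 1, d] : Fin 4 → Kˣ) i ^ dot (auxF4.row r) (auxF4.CL.getD i []) = _
  simp [Fin.prod_univ_four, -List.getD_eq_getElem?_getD]

theorem factF4u : (dot (auxF4.row f4p4) (auxF4.CL.getD 0 []) = 0 ∧ dot (auxF4.row f4p4) (auxF4.CL.getD 3 []) = 2) ∧
    ∀ r : Fin chevF4.nroots, (r : ℕ) = f4a ∨ (r : ℕ) = f4b ∨ (r : ℕ) = f4ab → (r : ℕ) ∈ PLF4.getD 1 [] := by
  decide +kernel

theorem outS_F4 {K : Type} [Field K] [Fintype K] {m : ℕ} (hK : Fintype.card K = 2 ^ (2 * m + 1))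
    [hs : IsSimpleGroup (twistedF4 K (2 ^ m))] : OutS (twistedF4 K (2 ^ m)) := by
  obtain ⟨h2, f, hf, hff⟩ := F4.exists_f hK
  obtain ⟨e3, e2, p1, p2, p3, p4, d1, d2⟩ := factF4s
  obtain ⟨d3, p5⟩ := factF4u
  obtain ⟨h1, -⟩ := F4.fact2 (f4a, f4b, f4ab, f4aab) (by simp)
  simp only at h1
  generalize 2 ^ m = e at *
  have he : e ≠ 0 := fun e0 => by simpa [e0] using hf 0
  let F : Kˣ →* Kˣ := Units.map f.toMonoidHom
  have hF : ∀ c, F (F c) ^ 2 = c := fun c => Units.ext (hff c)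
  have hc : ∀ d, (matF4 K).St.hmap (![F d, 1, 1, d] : Fin 4 → Kˣ) ∈ stSub chevF4 (f4Words K e) := fun d =>
    F4.hmap_mem h2 hf hff _ ((F4.mem_Fix h2 hff).2 (by simp [F]))
  have hsurj : Function.Surjective (F * MonoidHom.id Kˣ) := by
    refine Finite.injective_iff_surjective.1 ((injective_iff_map_eq_one _).2 fun d h => ?_)
    have h4 := hF d
    change F d * d = 1 at h
    rw [eq_inv_of_mul_eq_one_left h, map_inv, eq_inv_of_mul_eq_one_left h, inv_inv, pow_two] at h4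
    exact mul_eq_left.1 h4
  revert hs
  rw [twistedF4, ← (matF4 K).map_stSub]
  intro hs
  obtain ⟨T, hT⟩ : ∃ T : Tw (matF4 K).St (stSub chevF4 (f4Words K e)) (Fin 2),
      ∀ i, T.J i = Good.JS chevF4 (JLF4.getD i []) := ⟨(F4.gen h2 hf hff).tw, fun _ => rfl⟩
  refine (T.map (matF4 K).θ_x).outS (Tw.hval_of_card _ (by simp)) ?_
  rw [Fin.forall_fin_two]
  constructor
  · intro E hD hU hB hi
    refine (matF4 K).tr_node T 0 (j := (3 : Fin 4)) (by rw [hT]; exact (by decide : 3 ∈ [0, 3]))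
      ⊤ (fun t => [(f4p1, t ^ e)]) (fun _ => []) (fun a => ?_)
      (fun t s hs => ?_) (stw_zero fun p hp => ?_) (fun t ht h0 => ?_) hD hU hB hi
    · rw [tsetF4 T hT]
      refine (F4.mem_iff1 h2 hf hff a).trans ?_
      rw [← e3]
      exact ⟨fun ⟨t, e⟩ => ⟨t, trivial, e⟩, fun ⟨t, _, e⟩ => ⟨t, e⟩⟩
    · obtain rfl : s = f4p1 := by simpa using hs
      exact ⟨p1.1, fun h => p1.2 (h.trans e3)⟩
    · simp only [List.cons_append, List.nil_append, List.mem_cons, List.not_mem_nil, or_false] at hp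
      rcases hp with rfl | rfl
      · exact ⟨p1.1.1, zero_pow he⟩
      · exact ⟨goodF4.simple_lt (by decide : 3 < 4), rfl⟩
    · obtain ⟨u, rfl⟩ : ∃ u : Kˣ, (u : K) = t := ⟨Units.mk0 t h0, rfl⟩
      refine ⟨_, hc u, ?_⟩
      rw [chiF4]
      change ((F u ^ dot (auxF4.row (chevF4.simple 3)) _ * u ^ dot (auxF4.row (chevF4.simple 3)) _ : Kˣ) : K) = _
      rw [e3, d3.1, d3.2]; simp [zpow_ofNat]
  · intro E hD hU hB hi
    have hb := MatRG.bot_sim (g := goodF4) (2 : Fin 4)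
    have eb : goodF4.rs.sim (2 : Fin 4) = ⟨f4b, h1.2.1⟩ := Fin.ext e2
    have g1 := F4.mem_iff2 h2 hf hff
    have g2 := tsetF4 T hT 1
    refine (T.map (matF4 K).θ_x).tr_suz 1 (goodF4.rs.bot_sim (2 : Fin 4)) (botF4 h1.2.2.1) (fun r hr hr' => ?_)
      (fun h => h.2.2 e2)
      (fun t u => (matF4 K).θ (stw chevF4 [(f4a, t ^ e), (f4b, t), (f4ab, t ^ (e + 1) + u), (f4aab, u ^ (2 * e))]))
      (fun a ha ha' => ?_) (fun t u => ⟨⟨_, ((g1 _).2 ⟨(t, u), rfl⟩).2, rfl⟩, ?_⟩) (fun u => ?_) ?_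
      (fun t u ht => ⟨t ^ e * t, mul_ne_zero (pow_ne_zero _ ht) ht, ?_⟩) (fun r hr t ht => ?_) hD hU hB hi
    · have : ¬ ((r : ℕ) = f4a ∨ (r : ℕ) = f4b ∨ (r : ℕ) = f4ab) := fun h =>
        hr' (g2.ge (p5 r h)).2
      push Not at this
      exact ⟨⟨(goodF4.isPosRoot_iff r).2 hr, this.1, this.2.1⟩, fun h => this.2.2 (congrArg Fin.val h)⟩
    · obtain ⟨b, hb, rfl⟩ := (T.map_XS_inf (matF4 K).θ_x (fun _ h => h.1)).le ⟨ha', ha⟩
      obtain ⟨t, rfl⟩ := (g1 b).1 (g2 ▸ hb)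
      exact ⟨t.1, t.2, rfl⟩
    · rw [eb] at hb ⊢
      have := (matF4 K).co_map ((matF4 K).co_stw hb [(f4a, t ^ e)] [(f4ab, t ^ (e + 1) + u), (f4aab, u ^ (2 * e))] t p2)
      simpa only [goodF4.isPosRoot_iff, List.cons_append, List.nil_append] using this
    · have e0 : stw chevF4 [(f4a, 0 ^ e), (f4b, 0), (f4ab, 0 ^ (e + 1) + u), (f4aab, u ^ (2 * e))] =
          stw chevF4 [(f4ab, u), (f4aab, u ^ (2 * e))] := by
        have z1 : chevF4.stGen K f4a 0 = 1 := (stRel chevF4 K).x_zero h1.1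
        have z2 : chevF4.stGen K f4b 0 = 1 := (stRel chevF4 K).x_zero h1.2.1
        simp only [stw, List.map_cons, List.prod_cons, zero_pow he, zero_pow (Nat.succ_ne_zero e), z1, z2, one_mul,
          zero_add]
      simp only [e0]
      exact ⟨(matF4 K).co_map (coF4_z _ _ _), by rw [← map_mul, zF4_sq h2, map_one]⟩
    · rw [stw_zero, map_one]
      intro p hp
      simp only [List.mem_cons, List.not_mem_nil, or_false] at hp
      rcases hp with rfl | rfl | rfl | rfl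
      · exact ⟨h1.1, zero_pow he⟩
      · exact ⟨h1.2.1, rfl⟩
      · exact ⟨h1.2.2.1, by simp⟩
      · exact ⟨h1.2.2.2, zero_pow (by omega)⟩
    · rw [← map_mul]
      exact (matF4 K).co_map (coF4_sq h2 _ _ _ _ _)
    · obtain ⟨u, rfl⟩ : ∃ u : Kˣ, (u : K) = t := ⟨Units.mk0 t ht, rfl⟩
      rcases hr with rfl | rfl
      · refine ⟨_, ⟨_, hc u⁻¹, RG.map_hmap (matF4 K).θ_x _⟩, ?_⟩
        rw [chiF4, eb, d1.1, d1.2]; simp
      · obtain ⟨d, hd⟩ := hsurj u⁻¹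
        refine ⟨_, ⟨_, hc d, RG.map_hmap (matF4 K).θ_x _⟩, ?_⟩
        change F d * d = _ at hd
        rw [chiF4, d2.1, d2.2, zpow_neg_one, zpow_neg_one, ← mul_inv, hd, inv_inv]

end H20
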