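import Mathlib
import Cfsg.Agent.H20.SC0

/-! The Schreier property for the untwisted groups. -/

set_option autoImplicit false

namespace H20

open Finset H0.Sch Cfsg.Lie

section

variable {ι Λ : Type} [LinearOrder ι] [Fintype Λ] [DecidableEq Λ]
  {R : RS ι Λ} {K : Type} [Field K] {G : Type} [Group G]

theorem RS.s_comm_iff (R : RS ι Λ) (i j : Λ) : R.s i * R.s j = R.s j * R.s i ↔ i = j ∨ R.C i j = 0 := by
  constructor
  · intro h
    by_contra hne
    obtain ⟨h1, h2⟩ := not_or.1 hne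
    have := congrArg (fun w : Equiv.Perm ι => R.rt (w (R.sim j)) i) h
    simp only [Equiv.Perm.mul_apply, RS.s_apply, R.sr_sim, R.rt_sr, R.rt_neg, R.rt_sim, R.ca_neg, Pi.sub_apply,
      Pi.neg_apply, Pi.single_eq_same, Pi.single_eq_of_ne h1] at this
    exact h2 (by unfold RS.C; omega)
  · rintro (rfl | h)
    · rfl
    · refine R.mul_s_eq_of_sim (R.s_mem_W i) (R.rt_injective ?_)
      rw [RS.s_apply, R.rt_sr, show R.ca i (R.sim j) = 0 from h]; simp

variable [Fintype ι]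

theorem RG.val_tw (X : RG R K G) [Finite G] (i : Λ) {s : X.grp} (hs : (s : G) = X.tw.nJ i) :
    val X.tw.bn s = (univ.filter fun j => ¬(i = j ∨ R.C i j = 0)).card := by
  let ν : Λ → X.grp := fun j => ⟨X.tw.nJ j, X.tw.nJ_mem j⟩
  have hact : ∀ j, X.Acts (X.tw.nJ j) (R.s j) := fun j => X.acts_n_sim j one_ne_zero
  have hinj : Function.Injective ν := fun a b h => by
    have h1 : X.tw.nJ a = X.tw.nJ b := congrArg Subtype.val h
    have := X.acts_unique (X.tw.nJ_acts a) (h1 ▸ X.tw.nJ_acts b)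
    exact X.tw.w0J_injective this
  rw [H0.Sch.val, ← Set.ncard_coe_finset, ← Set.ncard_image_of_injective _ hinj]
  congr 1
  ext t
  have key : ∀ j, s * ν j * s⁻¹ * (ν j)⁻¹ ∈ X.tw.bn.B ↔ (i = j ∨ R.C i j = 0) := by
    intro j
    have ha : X.Acts ((s * ν j * s⁻¹ * (ν j)⁻¹ : X.grp) : G) (R.s i * R.s j * (R.s i)⁻¹ * (R.s j)⁻¹) := by
      simp only [Subgroup.coe_mul, Subgroup.coe_inv, hs]
      exact (((hact i).mul (hact j)).mul (hact i).inv).mul (hact j).inv
    rw [← R.s_comm_iff, Tw.bn_B, Tw.mem_sub]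
    constructor
    · intro h
      have := X.eq_one_of_acts_of_mem_B ha h
      rw [mul_inv_eq_one, mul_inv_eq_iff_eq_mul] at this
      exact this
    · intro h
      rw [h, mul_inv_cancel_right, mul_inv_cancel] at ha
      refine X.H_le_B (X.mem_H_of_acts_one ?_ ha)
      simp only [Subgroup.coe_mul, Subgroup.coe_inv, hs]
      exact mul_mem (mul_mem (mul_mem (X.tw.nJ_N i) (X.tw.nJ_N j)) (inv_mem (X.tw.nJ_N i))) (inv_mem (X.tw.nJ_N j))
  constructor
  · rintro ⟨⟨j, hj⟩, h⟩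
    obtain rfl : t = ν j := Subtype.ext hj
    exact ⟨j, by simpa using mt (key j).2 h, rfl⟩
  · rintro ⟨j, hj, rfl⟩
    exact ⟨⟨j, rfl⟩, mt (key j).1 (by simpa using hj)⟩

theorem RG.outS (X : RG R K G) [Finite G] [Finite K] [IsSimpleGroup X.grp] [Nonempty Λ]
    (h : ∀ i, (univ.filter fun k => (univ.filter fun j => ¬(k = j ∨ R.C k j = 0)).card =
      (univ.filter fun j => ¬(i = j ∨ R.C i j = 0)).card).card ≤ 4) : OutS X.grp := by
  refine X.tw.outS ?_ fun i D hD hU hB hi => X.tw.tr_node i (j := i) rfl ⊤ (X.x (R.sim i)) ?_ ?_ (X.x_zero _) ?_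
    hD hU hB hi
  · rintro s ⟨i, hi⟩
    refine le_trans ?_ (h i)
    rw [← Set.ncard_coe_finset]
    refine le_trans (Set.ncard_le_ncard (t := (fun j => (⟨X.tw.nJ j, X.tw.nJ_mem j⟩ : X.grp)) '' _) ?_)
      Set.ncard_image_le
    rintro t ⟨⟨j, hj⟩, e⟩
    rw [X.val_tw j hj, X.val_tw i hi] at e
    exact ⟨j, by simpa using e, Subtype.ext hj.symm⟩
  · intro a _ ha
    obtain ⟨t, e⟩ := X.mem_XS_singleton.1 (X.XS_mono (T := {R.sim i}) (fun r hr => by
      rcases R.mem_Phi_singleton.1 hr.2 with e | e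
      · exact e
      · exact absurd (e ▸ hr.1) (R.not_pos_neg_sim i)) ha)
    exact ⟨t, trivial, e⟩
  · exact fun t _ => ⟨X.x_mem_grp _ _, RG.co_x t⟩
  · intro t _ ht
    refine ⟨Pi.mulSingle i (Units.mk0 t ht), X.H_le_grp (X.hmap_mem_H _), ?_⟩
    rw [R.chi_single, show R.ca i (R.sim i) = 2 from R.C_diag i]
    simp [zpow_ofNat]

end

theorem MatRG.outS {D : ChevalleyDatum} {g : Good D} {F : Type} [Field F] [Fintype F] (M : MatRG g F)
    (h0 : 0 < D.rank)
    (h : ∀ i : Fin D.rank, (univ.filter fun k : Fin D.rank =>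
      (univ.filter fun j : Fin D.rank => ¬(k = j ∨ (g.aux.CL.getD k []).getD j 0 = 0)).card =
      (univ.filter fun j : Fin D.rank => ¬(i = j ∨ (g.aux.CL.getD i []).getD j 0 = 0)).card).card ≤ 4)
    {K : Type*} [Group K] [IsSimpleGroup K] (e : K ≃* D.group F) : OutS K := by
  have : Nonempty (Fin D.rank) := ⟨⟨0, h0⟩⟩
  have e' : K ≃* M.X.grp := M.isMat.grp_eq ▸ e
  have : IsSimpleGroup M.X.grp := e'.symm.isSimpleGroup
  exact (M.X.outS (by simpa only [Good.rs_C] using h)).congr e'.symm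

end H20
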