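import Mathlib
import Cfsg.Prelude.Def_LieTwisted
import Cfsg.Agent.H19.TabF4
import Cfsg.Agent.H20.TitsData

/-! Bit-vector evaluation in the adjoint module of F₄(2); an orbit of ²F₄(2) which splits into two halves. -/

set_option autoImplicit false
set_option backward.isDefEq.respectTransparency false

namespace H20.Tits

open Cfsg.Lie H19 Matrix

def code : chevF4.Idx → ℕ := Sum.elim (fun i => (i : ℕ)) (fun r => 4 + r)
def pos (c : ℕ) : ℕ := fld posT 8 c
def idx (k : ℕ) : ℕ := fld idxT 8 k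

/-- the vector with the given bits -/
def toV (n : ℕ) : chevF4.Idx → ZMod 2 := fun c => if n.testBit (pos (code c)) then 1 else 0

theorem toV_xor (a b : ℕ) : toV (a ^^^ b) = toV a + toV b := by
  funext c
  simp only [toV, Nat.testBit_xor, Pi.add_apply]
  cases a.testBit _ <;> cases b.testBit _ <;> decide

theorem toV_zero : toV 0 = 0 := by funext c; simp [toV]

theorem pos_facts : (∀ c < 52, pos c < 52 ∧ idx (pos c) = c) ∧ ∀ k < 52, idx k < 52 ∧ pos (idx k) = k := by
  decide +kernel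

theorem code_lt (c : chevF4.Idx) : code c < 52 := by
  rcases c with i | r
  · exact i.2.trans (by decide)
  · exact Nat.add_lt_add_left r.2 4

theorem bv_apply (c : ℕ) (d : chevF4.Idx) : bv chevF4 (ZMod 2) c d = if code d = c then 1 else 0 := by
  have h4 : chevF4.rank = 4 := rfl
  rcases d with i | r
  · have := i.2
    by_cases h : c < chevF4.rank
    · simp [bv, h, hv, code]
    · simp [bv, h, er, code]; omega
  · by_cases h : c < chevF4.rank
    · simp [bv, h, hv, code]; omega
    · simp only [bv, h, er, code, if_false, Sum.elim_inr]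
      exact if_congr (by omega) rfl rfl

theorem toV_pow {c : ℕ} (hc : c < 52) : toV (2 ^ pos c) = bv chevF4 (ZMod 2) c := by
  funext d
  rw [bv_apply, toV, Nat.testBit_two_pow]
  refine if_congr ⟨fun h => ?_, fun h => by simp [h]⟩ rfl rfl
  rw [← (pos_facts.1 c hc).2, of_decide_eq_true h, (pos_facts.1 _ (code_lt d)).2]

theorem toV_mod (n : ℕ) : toV (n % 2 ^ 52) = toV n := by
  funext c
  simp [toV, -Nat.reducePow, Nat.testBit_mod_two_pow, (pos_facts.1 _ (code_lt c)).1]

theorem toV_inj {a b : ℕ} (ha : a < 2 ^ 52) (hb : b < 2 ^ 52) (h : toV a = toV b) : a = b := by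
  refine Nat.eq_of_testBit_eq fun k => ?_
  by_cases hk : k < 52
  · obtain ⟨h1, h2⟩ := pos_facts.2 k hk
    obtain ⟨d, hd⟩ : ∃ d, code d = idx k := by
      by_cases h4 : idx k < 4
      · exact ⟨Sum.inl ⟨_, h4⟩, rfl⟩
      · exact ⟨Sum.inr ⟨idx k - 4, show _ < 48 by omega⟩, show 4 + (idx k - 4) = _ by omega⟩
    have := congrFun h d
    simp only [toV, hd, h2] at this
    revert this
    cases a.testBit k <;> cases b.testBit k <;> decide
  · rw [Nat.testBit_lt_two_pow (ha.trans_le (Nat.pow_le_pow_right two_pos (by omega))),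
      Nat.testBit_lt_two_pow (hb.trans_le (Nat.pow_le_pow_right two_pos (by omega)))]

/-- application of the matrix with columns `c` -/
def gApp (c : ℕ → ℕ) (n k : ℕ) : ℕ :=
  Nat.rec 0 (fun j acc => bif Nat.testBit n j then Nat.xor (c j) acc else acc) k

/-- the columns of `M` are given by `c` -/
def Rep (M : Matrix chevF4.Idx chevF4.Idx (ZMod 2)) (c : ℕ → ℕ) : Prop :=
  ∀ k < 52, M *ᵥ toV (2 ^ k) = toV (c k)

theorem Rep.app {M : Matrix chevF4.Idx chevF4.Idx (ZMod 2)} {c : ℕ → ℕ} (h : Rep M c) (n : ℕ) :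
    M *ᵥ toV n = toV (gApp c n 52) := by
  have key : ∀ k ≤ 52, M *ᵥ toV (n % 2 ^ k) = toV (gApp c n k) := by
    intro k hk
    induction k with
    | zero => simp [gApp, Nat.mod_one, toV_zero]
    | succ k ih =>
      have h1 : gApp c n (k + 1) = bif Nat.testBit n k then c k ^^^ gApp c n k else gApp c n k := rfl
      have h2 : n % 2 ^ (k + 1) = bif Nat.testBit n k then 2 ^ k ^^^ n % 2 ^ k else n % 2 ^ k := by
        refine Nat.eq_of_testBit_eq fun j => ?_
        have e1 : j < k + 1 ↔ j < k ∨ j = k := Nat.lt_succ_iff_lt_or_eq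
        by_cases e : j = k
        · subst e
          cases hb : Nat.testBit n j <;> simp [Nat.testBit_mod_two_pow, hb]
        · cases hb : Nat.testBit n k <;> simp [Nat.testBit_mod_two_pow, e1, e, Ne.symm e]
      rw [h1, h2]
      cases Nat.testBit n k
      · exact ih (by omega)
      · rw [cond_true, cond_true, toV_xor, toV_xor, mulVec_add, ih (by omega), h k hk]
  rw [← toV_mod, key 52 le_rfl]

theorem ext_toV {M N : Matrix chevF4.Idx chevF4.Idx (ZMod 2)}
    (h : ∀ k < 52, M *ᵥ toV (2 ^ k) = N *ᵥ toV (2 ^ k)) : M = N :=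
  mat_ext_bv fun c hc => by rw [← toV_pow hc]; exact h _ (pos_facts.1 c hc).1

/-- columns of the root elements -/
def colB (r c : ℕ) : ℕ := (fastF4.toRec.col r c).foldr
  (fun e acc => bif Nat.blt e.1 52 && e.2.1 % 2 == 1 then Nat.xor (Nat.pow 2 (pos e.1)) acc else acc) 0

theorem x_bv (r c : ℕ) : chevF4.x (ZMod 2) r 1 *ᵥ bv chevF4 (ZMod 2) c = toV (colB r c) := by
  rw [col_spec tabF4.toTab0, agreeF4.recOf_eq, colB]
  induction fastF4.toRec.col r c with
  | nil => exact toV_zero.symm
  | cons e L ih =>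
    rw [List.map_cons, List.sum_cons, ih, List.foldr_cons, one_pow, mul_one]
    by_cases h1 : e.1 < 52
    · rcases Int.emod_two_eq_zero_or_one e.2.1 with h | h
      · simp [h, (ZMod.intCast_eq_zero_iff_even).2 (Int.even_iff.2 h)]
      · rw [blt_true h1, h, (ZMod.intCast_eq_one_iff_odd).2 (Int.odd_iff.2 h), one_smul, ← toV_pow h1, ← toV_xor]
        rfl
    · rw [blt_false h1, bv, if_neg (show ¬e.1 < chevF4.rank from (by omega : ¬e.1 < 4)),
        er_of_le (show chevF4.nroots ≤ e.1 - chevF4.rank from (by omega : 48 ≤ e.1 - 4))]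
      simp

/-- the matrix of a word in the elements `x_r(1)` -/
def rw (L : List ℕ) : Matrix chevF4.Idx chevF4.Idx (ZMod 2) := chevF4.wordMat (ZMod 2) (L.map fun r => (r, 1))

def rapp (L : List ℕ) (n : ℕ) : ℕ := L.foldr (fun r n => gApp (fun k => colB r (idx k)) n 52) n

theorem rw_app (L : List ℕ) (n : ℕ) : rw L *ᵥ toV n = toV (rapp L n) := by
  induction L with
  | nil => simp [rw, rapp, ChevalleyDatum.wordMat]
  | cons r L ih =>
    have h1 : rw (r :: L) = chevF4.x (ZMod 2) r 1 * rw L := by simp [rw, ChevalleyDatum.wordMat]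
    have h2 : Rep (chevF4.x (ZMod 2) r 1) fun k => colB r (idx k) := fun k hk => by
      rw [← x_bv, ← toV_pow (pos_facts.2 k hk).1, (pos_facts.2 k hk).2]
    rw [h1, ← mulVec_mulVec, ih, h2.app]
    rfl

/-- the four generators as words -/
def LL (i : ℕ) : List ℕ := ([[33, 24], [14, 23], [27, 25, 28], [20, 22, 19]] : List (List ℕ)).getD i []
def gT (i : ℕ) : ℕ := ([genT0, genT1, genT2, genT3] : List ℕ).getD i 0

theorem rep_gen : ∀ i < 4, Rep (rw (LL i)) (fld (gT i) 52) := by
  have : allB 4 (fun i => allB 52 fun k => Nat.beq (rapp (LL i) (Nat.pow 2 k)) (fld (gT i) 52 k)) = true := by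
    decide +kernel
  simp only [allB_iff, Nat.beq_eq] at this
  intro i hi k hk
  rw [rw_app, ← this i hi k hk]; rfl

def lapp (w : List ℕ) (n : ℕ) : ℕ := w.foldr (fun i n => gApp (fld (gT i) 52) n 52) n

/-- test for the equality of a word in the generators and a word in root elements -/
def leq (w L : List ℕ) : Bool :=
  w.all (Nat.blt · 4) && allB 52 fun k => Nat.beq (lapp w (Nat.pow 2 k)) (rapp L (Nat.pow 2 k))

theorem eq_of_leq {w L : List ℕ} (h : leq w L = true) : (w.map fun i => rw (LL i)).prod = rw L := by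
  simp only [leq, Bool.and_eq_true, List.all_eq_true, Nat.blt_eq, allB_iff, Nat.beq_eq] at h
  have key : ∀ n, (w.map fun i => rw (LL i)).prod *ᵥ toV n = toV (lapp w n) := by
    intro n
    have h1 := h.1
    clear h
    induction w with
    | nil => simp [lapp]
    | cons i w ih =>
      rw [List.map_cons, List.prod_cons, ← mulVec_mulVec, ih fun j hj => h1 j (by simp [hj]),
        (rep_gen i (h1 i (by simp))).app]
      rfl
  exact ext_toV fun k hk => by rw [key, rw_app]; exact congrArg toV (h.2 k hk)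

/-- table-driven application -/
def fapp (T n : ℕ) : ℕ := Nat.xor (fld T 26 (Nat.mod n 512))
  (Nat.xor (fld T 26 (Nat.add 512 (Nat.mod (Nat.shiftRight n 9) 512))) (fld T 26 (Nat.add 1024 (Nat.shiftRight n 18))))

def tabChk (c : ℕ → ℕ) (T : ℕ) : Bool :=
  allB 512 (fun j => Nat.beq (fld T 26 j) (gApp c j 52) &&
    Nat.beq (fld T 26 (Nat.add 512 j)) (gApp c (Nat.shiftLeft j 9) 52)) &&
  allB 256 fun j => Nat.beq (fld T 26 (Nat.add 1024 j)) (gApp c (Nat.shiftLeft j 18) 52)

theorem Rep.fapp {M : Matrix chevF4.Idx chevF4.Idx (ZMod 2)} {c : ℕ → ℕ} (h : Rep M c) {T : ℕ}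
    (hT : tabChk c T = true) {n : ℕ} (hn : n < 2 ^ 26) : M *ᵥ toV n = toV (fapp T n) := by
  simp only [tabChk, Bool.and_eq_true, allB_iff, Nat.beq_eq] at hT
  have h1 : n = n % 2 ^ 9 ^^^ (((n >>> 9) % 2 ^ 9) <<< 9 ^^^ (n >>> 18) <<< 18) := by
    refine Nat.eq_of_testBit_eq fun j => ?_
    simp only [Nat.testBit_xor, Nat.testBit_mod_two_pow, Nat.testBit_shiftLeft, Nat.testBit_shiftRight]
    by_cases e1 : j < 9
    · simp [e1, show ¬9 ≤ j by omega, show ¬18 ≤ j by omega]
    · by_cases e2 : j < 18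
      · simp [e1, show 9 ≤ j by omega, show ¬18 ≤ j by omega, show j - 9 < 9 by omega]
      · simp [e1, show 18 ≤ j by omega, show ¬j - 9 < 9 by omega]
  have h2 : n >>> 18 < 256 := by rw [Nat.shiftRight_eq_div_pow]; omega
  conv_lhs => rw [h1]
  rw [toV_xor, toV_xor, mulVec_add, mulVec_add, h.app, h.app, h.app, ← toV_xor, ← toV_xor]
  congr 1
  exact congrArg₂ Nat.xor (hT.1 _ (Nat.mod_lt _ (by decide))).1.symm
    (congrArg₂ Nat.xor (hT.1 _ (Nat.mod_lt _ (by decide))).2.symm (hT.2 _ h2).symm)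

def vec (i : ℕ) : ℕ := fld vecT 26 i

theorem vec_lt (i : ℕ) : vec i < 2 ^ 26 := Nat.mod_lt _ (by decide)

def allN (f : ℕ → Bool) : Bool := allB 195 fun a => allB 128 fun b => f (Nat.add (Nat.mul 128 a) b)

theorem allN_iff {f : ℕ → Bool} (h : allN f = true) (i : ℕ) (hi : i < 24960) : f i = true := by
  simp only [allN, allB_iff] at h
  have := h (i / 128) (by omega) (i % 128) (by omega)
  rwa [show Nat.add (Nat.mul 128 (i / 128)) (i % 128) = i from Nat.div_add_mod i 128] at this

def orbChk (T P b : ℕ) : Bool := allN fun i => Nat.blt (fld P 15 i) 24960 &&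
  Nat.beq (Nat.mod (fld P 15 i) 2) (Nat.mod (Nat.add i b) 2) && Nat.beq (fapp T (vec i)) (vec (fld P 15 i))

/-- the matrix preserves the orbit and shifts the parity by `b` -/
def Par (M : Matrix chevF4.Idx chevF4.Idx (ZMod 2)) (b : ℕ) : Prop :=
  ∀ i < 24960, ∃ j < 24960, j % 2 = (i + b) % 2 ∧ M *ᵥ toV (vec i) = toV (vec j)

theorem par_of_chk {i : ℕ} (hi : i < 4) {T P b : ℕ} (h1 : tabChk (fld (gT i) 52) T = true)
    (h2 : orbChk T P b = true) : Par (rw (LL i)) b := by
  intro k hk
  have := allN_iff h2 k hk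
  simp only [Bool.and_eq_true, Nat.blt_eq, Nat.beq_eq] at this
  exact ⟨_, this.1.1, this.1.2, by rw [(rep_gen i hi).fapp h1 (vec_lt k), this.2]⟩

theorem par0 : Par (rw (LL 0)) 0 := par_of_chk (by decide) (T := tabT0) (P := permT0) (by decide +kernel)
  (by decide +kernel)
theorem par1 : Par (rw (LL 1)) 0 := par_of_chk (by decide) (T := tabT1) (P := permT1) (by decide +kernel)
  (by decide +kernel)
theorem par2 : Par (rw (LL 2)) 1 := par_of_chk (by decide) (T := tabT2) (P := permT2) (by decide +kernel)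
  (by decide +kernel)
theorem par3 : Par (rw (LL 3)) 1 := par_of_chk (by decide) (T := tabT3) (P := permT3) (by decide +kernel)
  (by decide +kernel)

theorem Par.mul {M N : Matrix chevF4.Idx chevF4.Idx (ZMod 2)} {a b : ℕ} (h1 : Par M a) (h2 : Par N b) :
    Par (M * N) (a + b) := by
  intro i hi
  obtain ⟨j, hj, e1, e2⟩ := h2 i hi
  obtain ⟨k, hk, e3, e4⟩ := h1 j hj
  exact ⟨k, hk, by omega, by rw [← mulVec_mulVec, e2, e4]⟩

theorem par_one : Par 1 0 := fun i hi => ⟨i, hi, rfl, one_mulVec _⟩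

theorem Par.congr {M : Matrix chevF4.Idx chevF4.Idx (ZMod 2)} {a b : ℕ} (h1 : Par M a) (h : a % 2 = b % 2) :
    Par M b := fun i hi => by
  obtain ⟨j, hj, e1, e2⟩ := h1 i hi
  exact ⟨j, hj, by omega, e2⟩

theorem not_par_one : ¬Par 1 1 := by
  intro h
  obtain ⟨j, hj, e1, e2⟩ := h 0 (by decide)
  have h1 : allN (fun j => Nat.beq (Nat.mod j 2) 0 || !Nat.beq (vec j) (vec 0)) = true := by decide +kernel
  have h2 := allN_iff h1 j hj
  have h3 : vec j = vec 0 := toV_inj ((vec_lt _).trans (by decide)) ((vec_lt _).trans (by decide))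
    (by rw [← e2, one_mulVec])
  have h4 : Nat.mod j 2 = 1 := e1
  simp [h3, h4] at h2

end H20.Tits
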