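import Mathlib
import Cfsg.Agent.H20.TwF4
import Cfsg.Agent.H20.TitsOrb
import Cfsg.Agent.S1068
import Cfsg.Agent.S1090
import Cfsg.Agent.S1110

/-! The Tits group. -/

set_option autoImplicit false

namespace H20.Tits

open Cfsg.Lie H19 Matrix
open scoped commutatorElement

section abstract

variable {G : Type*} [Group G]

theorem comm_comm_eq (hi : (commutator G).index = 2) : ⁅commutator G, ⊤⁆ = commutator G := by
  refine le_antisymm (Subgroup.commutator_le_left _ _) ?_
  have : IsCyclic (G ⧸ commutator G) := isCyclic_of_prime_card (p := 2) hi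
  have h := (QuotientGroup.map ⁅commutator G, ⊤⁆ (commutator G) (MonoidHom.id G)
    (Subgroup.commutator_le_left _ _)).isMulCommutative_of_isCyclic_of_ker_le_center (by
      intro x hx
      obtain ⟨x, rfl⟩ := QuotientGroup.mk_surjective x
      rw [Subgroup.mem_center_iff]
      intro y
      obtain ⟨y, rfl⟩ := QuotientGroup.mk_surjective y
      rw [eq_comm, ← commutatorElement_eq_one_iff_mul_comm]
      exact (QuotientGroup.eq_one_iff ⁅x, y⁆).2
        (Subgroup.commutator_mem_commutator ((QuotientGroup.eq_one_iff x).1 hx) trivial))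
  exact Subgroup.Normal.quotient_commutative_iff_commutator_le.1 h

theorem commutator_le_of_nilpotent (hi : (commutator G).index = 2) {K : Subgroup G} [K.Normal]
    (h : Group.IsNilpotent (G ⧸ K)) : commutator G ≤ K := by
  obtain ⟨n, hn⟩ := Subgroup.nilpotent_iff_lowerCentralSeries.1 h
  have h1 : ∀ n, (⊤ : Subgroup G).lowerCentralSeries (n + 1) = commutator G := by
    intro n
    induction n with
    | zero => rfl
    | succ n ih => rw [Subgroup.lowerCentralSeries_succ, ih, comm_comm_eq hi]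
  rw [← QuotientGroup.ker_mk' K, ← Subgroup.map_eq_bot_iff, ← h1 n, Subgroup.map_lowerCentralSeries,
    Subgroup.map_top_of_surjective _ (QuotientGroup.mk'_surjective K), Subgroup.lowerCentralSeries_succ, hn,
    Subgroup.commutator_bot_left]

theorem isSimpleGroup_of_index_two [Finite G] {T : Subgroup G} [T.Normal] (hi : T.index = 2)
    (hT : ∀ K : Subgroup G, K.Normal → K = ⊥ ∨ T ≤ K) (hsq : ¬IsSquare (Nat.card T)) : IsSimpleGroup T := by
  obtain ⟨a, ha⟩ := Subgroup.index_eq_two_iff.1 hi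
  have haa : a * a ∈ T := Subgroup.mul_self_mem_of_index_two hi a
  let φ : T ≃* T := MulAut.conjNormal a
  have key : ∀ N : Subgroup T, N.Normal → (∀ x ∈ N, φ.symm x ∈ N) → N = ⊥ ∨ N = ⊤ := by
    intro N hN h
    have h1 : (N.map T.subtype).Normal := ⟨by
      rintro _ ⟨x, hx, rfl⟩ g
      rcases (ha g).or with h2 | h2
      · exact ⟨_, hN.conj_mem _ (h x hx) ⟨_, h2⟩, by simp [φ, mul_assoc]⟩
      · exact ⟨_, hN.conj_mem _ hx ⟨_, h2⟩, rfl⟩⟩
    refine (hT _ h1).imp (fun h => (Subgroup.map_eq_bot_iff_of_injective _ T.subtype_injective).1 h) fun h => ?_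
    rw [eq_top_iff]
    intro x _
    obtain ⟨y, hy, e⟩ := h x.2
    exact Subtype.ext e ▸ hy
  have : Nontrivial T := by
    by_contra h
    rw [not_nontrivial_iff_subsingleton] at h
    exact hsq (by rw [Nat.card_unique]; exact ⟨1, rfl⟩)
  refine ⟨fun M hM => ?_⟩
  have h1 : ∀ x ∈ M, φ.symm (φ.symm x) ∈ M := fun x hx => by
    convert hM.conj_mem _ hx ⟨_, haa⟩⁻¹ using 1
    ext; simp [φ, mul_assoc]
  let M' : Subgroup T := M.comap φ.symm.toMonoidHom
  have hM' : M'.Normal := hM.comap _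
  rcases key (M ⊔ M') inferInstance (fun x hx => by
    have : M ⊔ M' ≤ (M ⊔ M').comap φ.symm.toMonoidHom :=
      sup_le (fun y hy => Subgroup.mem_sup_right (h1 y hy)) fun y hy => Subgroup.mem_sup_left hy
    exact this hx) with h2 | h2
  · exact Or.inl (le_bot_iff.1 (h2 ▸ le_sup_left))
  rcases key (M ⊓ M') inferInstance (fun x hx => ⟨hx.2, h1 x hx.1⟩) with h3 | h3
  · refine absurd ⟨Nat.card M, ?_⟩ hsq
    have h4 : Subgroup.IsComplement' M M' := Subgroup.isComplement'_of_disjoint_and_mul_eq_univ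
      (disjoint_iff.2 h3) (by rw [← Subgroup.mul_normal, h2, Subgroup.coe_top])
    rw [← h4.card_mul_card]
    congr 1
    exact Nat.card_congr (φ.symm.toEquiv.subtypeEquiv fun _ => Iff.rfl)
  · exact Or.inr (top_le_iff.1 (h3 ▸ inf_le_left))

theorem inv_eq_odd_pow [Finite G] (g : G) : ∃ n, g⁻¹ = g ^ (2 * n + 1) := by
  refine ⟨orderOf g - 1, inv_eq_of_mul_eq_one_left ?_⟩
  have := orderOf_pos g
  rw [← pow_succ, show 2 * (orderOf g - 1) + 1 + 1 = orderOf g * 2 by omega, pow_mul, pow_orderOf_eq_one, one_pow]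

theorem closure_ind [Finite G] {S : Set G} {P : Subgroup.closure S → Prop} (h1 : P 1)
    (hm : ∀ a b, P a → P b → P (a * b)) (he : ∀ a, a.1 ∈ S → P a) (g : Subgroup.closure S) : P g := by
  obtain ⟨g, hg⟩ := g
  induction hg using Subgroup.closure_induction with
  | one => exact h1
  | mul a b _ _ ha hb => exact hm ⟨a, _⟩ ⟨b, _⟩ ha hb
  | mem a ha => exact he _ ha
  | inv a ha ih =>
    have key : ∀ n, P (⟨a, ha⟩ ^ n) := fun n => by
      induction n with
      | zero => exact pow_zero (⟨a, ha⟩ : Subgroup.closure S) ▸ h1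
      | succ n ihn => rw [pow_succ]; exact hm _ _ ihn ih
    obtain ⟨n, hn⟩ := inv_eq_odd_pow (⟨a, ha⟩ : Subgroup.closure S)
    exact (hn ▸ key _ : P (⟨a, ha⟩ : Subgroup.closure S)⁻¹)

theorem isPGroup_quotient {p : ℕ} {B K : Subgroup G} [K.Normal] (hB : IsPGroup p B) (h : B ⊔ K = ⊤) :
    IsPGroup p (G ⧸ K) :=
  hB.of_surjective ((QuotientGroup.mk' K).comp B.subtype) fun x => by
    obtain ⟨g, rfl⟩ := QuotientGroup.mk_surjective x
    have : g ∈ ((B ⊔ K : Subgroup G) : Set G) := by rw [h]; trivial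
    rw [Subgroup.mul_normal] at this
    obtain ⟨b, hb, k, hk, rfl⟩ := this
    exact ⟨⟨b, hb⟩, QuotientGroup.eq.2 (by simpa using hk)⟩

end abstract

/-- the group ²F₄(2) -/
abbrev Γ : Subgroup (GL chevF4.Idx (ZMod 2)) := twistedF4 (ZMod 2) 1

/-- the matrix of an element -/
def mat : Γ →* Matrix chevF4.Idx chevF4.Idx (ZMod 2) := (Units.coeHom _).comp Γ.subtype

theorem mat_injective : Function.Injective mat := fun _ _ h => Subtype.ext (Units.ext h)

theorem exists_gen (i : ℕ) (hi : i < 4) : ∃ g : Γ, mat g = rw (LL i) := by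
  have key : ∀ w ∈ f4Words (ZMod 2) 1, ∃ g : Γ, mat g = chevF4.wordMat (ZMod 2) w := fun w hw =>
    ⟨⟨(matF4 _).θ (stw chevF4 w), Subgroup.subset_closure ⟨w, hw, (matF4 _).coe_θ_stw w⟩⟩, (matF4 _).coe_θ_stw w⟩
  interval_cases i
  · exact key _ (Or.inl ⟨1, Or.inl rfl⟩)
  · exact key _ (Or.inl ⟨1, Or.inr rfl⟩)
  · obtain ⟨g, hg⟩ := key _ (Or.inr ⟨1, 0, Or.inl rfl⟩)
    exact ⟨g, hg.trans (by simp [b2ClassWord, ChevalleyDatum.wordMat, x_zero tabF4.toTab0, rw, LL]; rfl)⟩
  · obtain ⟨g, hg⟩ := key _ (Or.inr ⟨1, 0, Or.inr rfl⟩)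
    exact ⟨g, hg.trans (by simp [b2ClassWord, ChevalleyDatum.wordMat, x_zero tabF4.toTab0, rw, LL]; rfl)⟩

/-- the four generators -/
noncomputable def e (i : ℕ) : Γ := if h : i < 4 then (exists_gen i h).choose else 1

theorem coe_e {i : ℕ} (hi : i < 4) : mat (e i) = rw (LL i) := by
  rw [e, dif_pos hi]; exact (exists_gen i hi).choose_spec

theorem coe_of_leq {w L : List ℕ} (h : leq w L = true) : mat (w.map e).prod = rw L := by
  rw [← eq_of_leq h, map_list_prod, List.map_map]
  simp only [leq, Bool.and_eq_true, List.all_eq_true, Nat.blt_eq] at h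
  exact congrArg _ (List.map_congr_left fun i hi => coe_e (h.1 i hi))

theorem rel {w : List ℕ} (h : leq w [] = true) : (w.map e).prod = 1 :=
  mat_injective ((coe_of_leq h).trans mat.map_one.symm)

theorem induction {P : Γ → Prop} (h1 : P 1) (hm : ∀ a b, P a → P b → P (a * b)) (he : ∀ i < 4, P (e i)) (g : Γ) :
    P g := by
  have hw : ∀ w : List ℕ, (∀ i ∈ w, i < 4) → P (w.map e).prod := by
    intro w hw
    induction w with
    | nil => exact h1
    | cons i w ih => exact hm _ _ (he i (hw i (by simp))) (ih fun j hj => hw j (by simp [hj]))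
  have hL : ∀ (g : Γ) (w L : List ℕ), leq w L = true → mat g = rw L → P g := by
    intro g w L h h2
    rw [show g = (w.map e).prod from mat_injective (h2.trans (coe_of_leq h).symm)]
    simp only [leq, Bool.and_eq_true, List.all_eq_true, Nat.blt_eq] at h
    exact hw w h.1
  refine closure_ind h1 hm ?_ g
  rintro a ⟨w, hw, h⟩
  have h01 : ∀ t : ZMod 2, t = 0 ∨ t = 1 := by decide
  have h11 : (1 : ZMod 2) + 1 = 0 := rfl
  rcases hw with ⟨t, rfl | rfl⟩ | ⟨t, u, rfl | rfl⟩
  · rcases h01 t with rfl | rfl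
    · exact hL _ [] [] (by decide +kernel)
        (h.trans (by simp [f4PairWord, ChevalleyDatum.wordMat, x_zero tabF4.toTab0, rw]))
    · exact hL _ [0] [f4p1, f4p4] (by decide +kernel)
        (h.trans (by simp [f4PairWord, ChevalleyDatum.wordMat, rw]))
  · rcases h01 t with rfl | rfl
    · exact hL _ [] [] (by decide +kernel)
        (h.trans (by simp [f4PairWord, ChevalleyDatum.wordMat, x_zero tabF4.toTab0, rw]))
    · exact hL _ [1] [f4m1, f4m4] (by decide +kernel)
        (h.trans (by simp [f4PairWord, ChevalleyDatum.wordMat, rw]))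
  · rcases h01 t with rfl | rfl <;> rcases h01 u with rfl | rfl
    · exact hL _ [] [] (by decide +kernel)
        (h.trans (by simp [b2ClassWord, ChevalleyDatum.wordMat, x_zero tabF4.toTab0, rw]))
    · exact hL _ [2, 2] [f4ab, f4aab] (by decide +kernel)
        (h.trans (by simp [b2ClassWord, ChevalleyDatum.wordMat, x_zero tabF4.toTab0, rw]))
    · exact hL _ [2] [f4a, f4b, f4ab] (by decide +kernel)
        (h.trans (by simp [b2ClassWord, ChevalleyDatum.wordMat, x_zero tabF4.toTab0, rw]))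
    · exact hL _ [2, 2, 2] [f4a, f4b, f4aab] (by decide +kernel)
        (h.trans (by simp [b2ClassWord, ChevalleyDatum.wordMat, x_zero tabF4.toTab0, rw, h11]))
  · rcases h01 t with rfl | rfl <;> rcases h01 u with rfl | rfl
    · exact hL _ [] [] (by decide +kernel)
        (h.trans (by simp [b2ClassWord, ChevalleyDatum.wordMat, x_zero tabF4.toTab0, rw]))
    · exact hL _ [3, 3] [f4mab, f4maab] (by decide +kernel)
        (h.trans (by simp [b2ClassWord, ChevalleyDatum.wordMat, x_zero tabF4.toTab0, rw]))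
    · exact hL _ [3] [f4ma, f4mb, f4mab] (by decide +kernel)
        (h.trans (by simp [b2ClassWord, ChevalleyDatum.wordMat, x_zero tabF4.toTab0, rw]))
    · exact hL _ [3, 3, 3] [f4ma, f4mb, f4maab] (by decide +kernel)
        (h.trans (by simp [b2ClassWord, ChevalleyDatum.wordMat, x_zero tabF4.toTab0, rw, h11]))

/-- parity of an element -/
def Pr (g : Γ) (b : ℕ) : Prop := Par (mat g) b

theorem Pr.mul {g h : Γ} {a b : ℕ} (h1 : Pr g a) (h2 : Pr h b) : Pr (g * h) (a + b) := by
  rw [Pr, map_mul]; exact Par.mul h1 h2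

theorem pr_one : Pr 1 0 := by rw [Pr, map_one]; exact par_one

theorem Pr.inv {g : Γ} {a : ℕ} (h1 : Pr g a) : Pr g⁻¹ a := by
  have key : ∀ n, Pr (g ^ (2 * n + 1)) a := fun n => by
    induction n with
    | zero => simpa using h1
    | succ n ih =>
      rw [show 2 * (n + 1) + 1 = 2 * n + 1 + 1 + 1 by ring, pow_succ, pow_succ]
      exact Par.congr ((ih.mul h1).mul h1) (by omega)
  obtain ⟨n, hn⟩ := inv_eq_odd_pow g
  exact hn ▸ key n

theorem e2_not_mem : e 2 ∉ commutator Γ := by
  have h1 : ∀ g, ∃ b, Pr g b := induction ⟨0, pr_one⟩ (fun _ _ ⟨_, ha⟩ ⟨_, hb⟩ => ⟨_, ha.mul hb⟩) fun i hi => by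
    unfold Pr
    rw [coe_e hi]
    interval_cases i
    exacts [⟨_, par0⟩, ⟨_, par1⟩, ⟨_, par2⟩, ⟨_, par3⟩]
  let E : Subgroup Γ := ⟨⟨⟨{g | Pr g 0}, fun ha hb => ha.mul hb⟩, pr_one⟩, fun ha => ha.inv⟩
  have h2 : commutator Γ ≤ E := Subgroup.commutator_le.2 fun g _ h _ => by
    obtain ⟨a, ha⟩ := h1 g
    obtain ⟨b, hb⟩ := h1 h
    exact Par.congr (((ha.mul hb).mul ha.inv).mul hb.inv) (by omega)
  intro h
  have h3 : Pr (e 2) 1 := by unfold Pr; rw [coe_e (by decide)]; exact par2
  have h4 := h3.mul (Pr.inv (h2 h))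
  rw [mul_inv_cancel, Pr, map_one] at h4
  exact not_par_one h4

theorem ab_aux {A : Type*} [AddCommGroup A] {x y a b : A} (h1 : x + x = 0) (h2 : 3 • (x + y) = 0) (h3 : y + y = 0)
    (h4 : 4 • a = 0) (h5 : 4 • b = 0) (h6 : 5 • (a + 3 • b) = 0) (h7 : 13 • (2 • x + y + 3 • a + b) = 0)
    (h8 : 13 • (2 • x + y + 5 • a + b) = 0) : x = 0 ∧ y = 0 ∧ b = a ∧ a + a = 0 := by
  have e1 : y = x := by linear_combination (norm := module) h2 - 2 • h1 - h3
  have e2 : b = a := by linear_combination (norm := module) -h6 + h4 + 4 • h5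
  subst e1 e2
  have e3 : y = 0 := by linear_combination (norm := module) h7 - 19 • h1 - 13 • h4
  refine ⟨e3, e3, rfl, ?_⟩
  linear_combination (norm := module) h8 - 39 • e3 - 19 • h4

theorem rel5 : leq (List.replicate 5 [2, 3, 3, 3]).flatten [] = true := by decide +kernel
theorem rel13a : leq (List.replicate 13 [0, 1, 0, 2, 2, 2, 3]).flatten [] = true := by decide +kernel
theorem rel13b : leq (List.replicate 13 [0, 1, 2, 2, 0, 2, 2, 3, 2]).flatten [] = true := by decide +kernel

theorem index_eq : (commutator Γ).index = 2 := by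
  let π : Γ → Additive (Abelianization Γ) := fun g => Additive.ofMul (Abelianization.of g)
  have hπ : ∀ w : List ℕ, leq w [] = true → (w.map fun i => π (e i)).sum = 0 := by
    intro w hw
    have := congrArg π (rel hw)
    simpa [π, map_list_prod, ofMul_list_prod, Function.comp_def] using this
  have hr : ∀ (n : ℕ) (w : List ℕ), leq (List.replicate n w).flatten [] = true →
      n • (w.map fun i => π (e i)).sum = 0 := by
    intro n w hw
    simpa [List.sum_flatten] using hπ _ hw
  obtain ⟨h1, h2, h3, h4⟩ := ab_aux (x := π (e 0)) (y := π (e 1)) (a := π (e 2)) (b := π (e 3))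
    (by simpa using hπ [0, 0] (by decide +kernel)) (by simpa using hr 3 [0, 1] (by decide +kernel))
    (by simpa using hπ [1, 1] (by decide +kernel)) (by simpa using hr 4 [2] (by decide +kernel))
    (by simpa using hr 4 [3] (by decide +kernel))
    (by linear_combination (norm := (simp; module)) hr 5 _ rel5)
    (by linear_combination (norm := (simp; module)) hr 13 _ rel13a)
    (by linear_combination (norm := (simp; module)) hr 13 _ rel13b)
  have hm : ∀ a b, π (a * b) = π a + π b := fun a b => by simp [π]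
  have h5 : ∀ g, π g = 0 ∨ π g = π (e 2) := induction (Or.inl rfl)
    (fun a b ha hb => by rcases ha with ha | ha <;> rcases hb with hb | hb <;> simp [hm, ha, hb, h4])
    fun i hi => by interval_cases i <;> simp [h1, h2, h3]
  have h6 : ∀ g, g ∈ commutator Γ ↔ π g = 0 := fun g => by
    rw [← Abelianization.ker_of]; rfl
  refine Subgroup.index_eq_two_iff.2 ⟨e 2, fun g => ?_⟩
  have h7 := mt (h6 _).2 e2_not_mem
  rw [h6, h6, hm]
  rcases h5 g with h | h <;> simp [h, h4, h7]

theorem card_comm : Nat.card (commutator Γ) = 2 ^ 11 * 3 ^ 3 * 5 ^ 2 * 13 := by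
  have h1 := Cfsg.Agent.S1068.result (K := ZMod 2) (m := 0) rfl
  have h2 := (commutator Γ).card_mul_index
  rw [index_eq] at h2
  change Nat.card Γ = _ at h1
  omega

theorem simple : IsSimpleGroup (commutator Γ) := by
  refine isSimpleGroup_of_index_two index_eq (fun K hK => ?_) (by rw [card_comm]; decide +kernel)
  obtain ⟨T, hJ, -, h2, -⟩ := F4.main (K := ZMod 2) (m := 0) rfl
  rcases H8.BN.normal_le_or_sup_eq_top (T.irreducible (tirrF4 T hJ)) K with h | h
  · left
    rw [eq_bot_iff, ← T.normalCore_eq_bot (matF4 _).adj]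
    exact Subgroup.normal_le_normalCore.mpr h
  right
  have h3 : IsPGroup 2 T.bn.B := by
    intro g
    obtain ⟨u, hu, a, ha, h4⟩ := (T.mem_B_iff g.1.2).1 g.2.1
    have h5 : a = 1 := by
      have := (Nat.card_eq_one_iff_unique.1 h2).1
      exact congrArg Subtype.val (Subsingleton.elim (⟨a, ha⟩ : ↥((matF4 (ZMod 2)).X.H ⊓ Γ)) 1)
    have h6 := Cfsg.Agent.S1090.result (K := ZMod 2) (m := 0) rfl
    rw [(matF4 _).isMat.U_eq] at h6
    refine ⟨12, Subtype.ext (Subtype.ext ?_)⟩
    have := pow_card_eq_one' (x := (⟨u, hu⟩ : ↥((matF4 (ZMod 2)).X.U ⊓ twistedF4 (ZMod 2) (2 ^ 0))))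
    rw [h6] at this
    rw [h5, mul_one] at h4
    have h7 := congrArg Subtype.val this
    rw [Subgroup.coe_pow, show (2 ^ (2 * 0 + 1)) ^ 12 = 2 ^ 12 from rfl] at h7
    rw [Subgroup.coe_pow, Subgroup.coe_pow, h4, h7]
    rfl
  exact commutator_le_of_nilpotent index_eq (isPGroup_quotient h3 h).isNilpotent

end H20.Tits
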