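import Mathlib
import Cfsg.Prelude.Def_LieExceptional
import Cfsg.Agent.H8.BNPair

/-!
# Interfaces for Tits' classification of finite groups with a BN-pair of rank at least three

* `Ty`: the tree-shaped Coxeter diagrams.
* `Hex`, `Oct`: the root groups of a Moufang triangle / quadrangle.
* `Mod`: a group with a BN-pair of a given type and root subgroups (the models).
-/

set_option autoImplicit false
set_option linter.unusedSectionVars false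
set_option linter.unusedVariables false

namespace H20
namespace TB

open Subgroup
open scoped commutatorElement

/-! ### Diagrams -/

/-- The finite irreducible Coxeter types of rank at least three occurring for finite thick buildings. -/
inductive Ty
  | A (n : ℕ) | B (n : ℕ) | D (n : ℕ) | E (n : ℕ) | F
  deriving DecidableEq

namespace Ty

/-- the rank -/
def rk : Ty → ℕ
  | A n => n | B n => n | D n => n | E n => n | F => 4

/-- the label of the edge between the nodes `0` and `1` -/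
def m0 : Ty → ℕ
  | A _ => 3 | B _ => 4 | D _ => 3 | E _ => 3 | F => 4

/-- a node `k ≥ 2` is joined (label `3`) to exactly one smaller node, `par k` -/
def par : Ty → ℕ → ℕ
  | A _, k => k - 1
  | B _, k => k - 1
  | D n, k => if k + 1 = n then 1 else k - 1
  | E n, k => if k + 1 = n then 2 else k - 1
  | F, k => 3 - k

/-- admissible ranks -/
def ok : Ty → Prop
  | A n => 3 ≤ n | B n => 3 ≤ n | D n => 4 ≤ n | E n => 6 ≤ n ∧ n ≤ 8 | F => True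

/-- the Coxeter matrix -/
def cm (T : Ty) (i j : ℕ) : ℕ :=
  if i = j then 1 else if i + j = 1 then T.m0
  else if (2 ≤ i ∧ j = T.par i) ∨ (2 ≤ j ∧ i = T.par j) then 3 else 2

end Ty

/-- iterated commutator subgroups -/
def ds {G : Type*} [Group G] (T : Subgroup G) : ℕ → Subgroup G
  | 0 => T
  | n + 1 => ⁅ds T n, ds T n⁆

/-! ### Root group systems of Moufang polygons -/

section Poly

variable {G G' : Type*} [Group G] [Group G']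

/-- `m = κ a λ` with `κ, λ` in the opposite root group, and `m` permutes the root groups like the reflection -/
def Mu (n : ℤ) (U : ℤ → Subgroup G) (i : ℤ) (a m : G) : Prop :=
  (∃ κ ∈ U (i + n), ∃ l ∈ U (i + n), m = κ * a * l) ∧
    ∀ j g, g ∈ U j ↔ m * g * m⁻¹ ∈ U (2 * i + n - j)

/-- the root groups of a finite Moufang triangle -/
structure Hex (G : Type*) [Group G] where
  U : ℤ → Subgroup G
  per : ∀ i, U (i + 6) = U i
  fin : ∀ i, Finite (U i)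
  c1 : ∀ i, ∀ a ∈ U i, ∀ b ∈ U (i + 1), a * b = b * a
  c2 : ∀ i, ∀ a ∈ U i, ∀ b ∈ U (i + 2), ⁅a, b⁆ ∈ U (i + 1)
  ind : ∀ i, ∀ a ∈ U i, ∀ b ∈ U (i + 1), ∀ c ∈ U (i + 2), a * b * c = 1 → a = 1 ∧ b = 1 ∧ c = 1
  mu : ∀ i, ∀ a ∈ U i, a ≠ 1 → ∃ m, Mu 3 U i a m
  ne : ∀ i, U i ≠ ⊥

/-- coordinates of a Moufang triangle over the field `K` -/
structure Hex.Par (H : Hex G) (K : Type*) [Field K] where
  x0 : K → G
  x1 : K → G
  x2 : K → G
  add0 : ∀ s t, x0 (s + t) = x0 s * x0 t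
  add1 : ∀ s t, x1 (s + t) = x1 s * x1 t
  add2 : ∀ s t, x2 (s + t) = x2 s * x2 t
  inj0 : Function.Injective x0
  inj1 : Function.Injective x1
  inj2 : Function.Injective x2
  mem0 : ∀ g, g ∈ H.U 0 ↔ ∃ t, x0 t = g
  mem1 : ∀ g, g ∈ H.U 1 ↔ ∃ t, x1 t = g
  mem2 : ∀ g, g ∈ H.U 2 ↔ ∃ t, x2 t = g
  rel : ∀ s t, ⁅x0 s, x2 t⁆ = x1 (s * t)

/-- `Γ` is the graph of an isomorphism `U 0 * U 1 * U 2 ≃ U' 0 * U' 1 * U' 2` matching the factors -/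
structure Gr3 (U : ℤ → Subgroup G) (U' : ℤ → Subgroup G') (Γ : Subgroup (G × G')) : Prop where
  left : ∀ i, 0 ≤ i → i < 3 → ∀ a ∈ U i, ∃ a' ∈ U' i, (a, a') ∈ Γ
  right : ∀ i, 0 ≤ i → i < 3 → ∀ a' ∈ U' i, ∃ a ∈ U i, (a, a') ∈ Γ
  faith : ∀ γ ∈ Γ, γ.1 = 1 ↔ γ.2 = 1
  dec : ∀ γ ∈ Γ, ∃ a ∈ Γ, ∃ b ∈ Γ, ∃ c ∈ Γ, a ∈ (U 0).prod (U' 0) ∧ b ∈ (U 1).prod (U' 1) ∧
    c ∈ (U 2).prod (U' 2) ∧ γ = a * b * c

/-- the root groups of a finite Moufang quadrangle -/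
structure Oct (G : Type*) [Group G] where
  U : ℤ → Subgroup G
  per : ∀ i, U (i + 8) = U i
  fin : ∀ i, Finite (U i)
  c1 : ∀ i, ∀ a ∈ U i, ∀ b ∈ U (i + 1), a * b = b * a
  c2 : ∀ i, ∀ a ∈ U i, ∀ b ∈ U (i + 2), ⁅a, b⁆ ∈ U (i + 1)
  c3 : ∀ i, ∀ a ∈ U i, ∀ b ∈ U (i + 3), ∃ y ∈ U (i + 1), ∃ z ∈ U (i + 2), ⁅a, b⁆ = y * z
  ind : ∀ i, ∀ a ∈ U i, ∀ b ∈ U (i + 1), ∀ c ∈ U (i + 2), ∀ d ∈ U (i + 3), a * b * c * d = 1 →
    a = 1 ∧ b = 1 ∧ c = 1 ∧ d = 1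
  mu : ∀ i, ∀ a ∈ U i, a ≠ 1 → ∃ m, Mu 4 U i a m
  ne : ∀ i, U i ≠ ⊥

/-- the extra structure of a quadrangle which is a residue of a building of type `C₃`
(`U 0, U 1, U 2, U 3` belong to the roots `e₂ - e₃, e₂, e₂ + e₃, e₃`; `tor` is the torus of
`e₁ - e₂`, `hua` describes the torus of `e₂ - e₃`) -/
structure Oct.C3 (O : Oct G) (K : Type*) [Field K] where
  x : K → G
  add : ∀ s t, x (s + t) = x s * x t
  inj : Function.Injective x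
  mem : ∀ g, g ∈ O.U 0 ↔ ∃ t, x t = g
  tor : ∀ s, s ≠ 0 → ∃ k : G, (∀ j g, g ∈ O.U j ↔ k * g * k⁻¹ ∈ O.U j) ∧
    (∀ g ∈ O.U 3, k * g = g * k) ∧ (∀ g ∈ O.U 7, k * g = g * k) ∧ ∀ t, k * x t * k⁻¹ = x (s * t)
  hua : ∀ s, s ≠ 0 → ∃ m m' : G, Mu 4 O.U 0 (x s) m ∧ Mu 4 O.U 0 (x 1) m' ∧
    ∀ t, (m * m'⁻¹) * x t * (m * m'⁻¹)⁻¹ = x (s ^ 2 * t)

/-- `U i` and `U (i+2)` commute -/
def Oct.ab (O : Oct G) (i : ℤ) : Prop := ∀ a ∈ O.U i, ∀ b ∈ O.U (i + 2), a * b = b * a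

/-- `Γ` is the graph of an isomorphism `U 0 ⋯ U 3 ≃ U' 0 ⋯ U' 3` matching the factors -/
structure Gr4 (U : ℤ → Subgroup G) (U' : ℤ → Subgroup G') (Γ : Subgroup (G × G')) : Prop where
  left : ∀ i, 0 ≤ i → i < 4 → ∀ a ∈ U i, ∃ a' ∈ U' i, (a, a') ∈ Γ
  right : ∀ i, 0 ≤ i → i < 4 → ∀ a' ∈ U' i, ∃ a ∈ U i, (a, a') ∈ Γ
  faith : ∀ γ ∈ Γ, γ.1 = 1 ↔ γ.2 = 1
  dec : ∀ γ ∈ Γ, ∃ a ∈ Γ, ∃ b ∈ Γ, ∃ c ∈ Γ, ∃ d ∈ Γ, a ∈ (U 0).prod (U' 0) ∧ b ∈ (U 1).prod (U' 1) ∧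
    c ∈ (U 2).prod (U' 2) ∧ d ∈ (U 3).prod (U' 3) ∧ γ = a * b * c * d

/-- The algebraic data of a quadrangle with a `C3`-structure (an anisotropic pseudo-quadratic or
quadratic space): `M = U 3`, `⁅x t, m⁆ = A (act t m) * y (t * q m)`, `⁅x s, y u⁆ = A (γ (σ s * u))`,
`⁅m, A m'⁆ = y (f m m')`. -/
structure PQ (K : Type*) [Field K] (M : Type*) [Group M] where
  act : K → M → M
  q : M → K
  f : M → M → K
  γ : K → M
  σ : K → K
  act_zero : ∀ m, act 0 m = 1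
  act_one : ∀ m, act 1 m = m
  act_mul : ∀ s t m, act (s * t) m = act s (act t m)
  act_hom : ∀ s m m', act s (m * m') = act s m * act s m'
  act_add : ∀ s t m, act (s + t) m = act t m * γ (σ s * t * q m) * act s m
  q_mul : ∀ m m', q (m * m') = q m + q m' + f m m'
  q_eq_zero : ∀ m, q m = 0 ↔ m = 1
  q_act : ∀ s m, q (act s m) = s * σ s * q m
  f_mul_left : ∀ m m' n, f (m * m') n = f m n + f m' n
  f_mul_right : ∀ m n n', f m (n * n') = f m n + f m n'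
  f_act_left : ∀ s m n, f (act s m) n = σ s * f m n
  f_act_right : ∀ s m n, f m (act s n) = s * f m n
  f_γ : ∀ m u, f m (γ u) = 0
  σ_zero : σ 0 = 0
  σ_one : σ 1 = 1
  σ_mul : ∀ s t, σ (s * t) = σ s * σ t
  γ_add : ∀ u v, γ (u + v) = γ u * γ v
  γ_comm : ∀ u m, γ u * m = m * γ u
  γ_σ_add : ∀ s t u, γ (σ (s + t) * u) = γ (σ s * u) * γ (σ t * u)
  act_γ : ∀ r u, act r (γ u) = γ (r * σ r * u)
  σ_of_γ : (∀ u, γ u = 1) → ∀ s, σ s = s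
  ne : ∃ m : M, m ≠ 1

end Poly

/-! ### Models -/

section Mod

variable {Γ : Type*} [Group Γ]

/-- `x` fixes the chamber `g B` -/
def Fx (B : Subgroup Γ) (x g : Γ) : Prop := g⁻¹ * x * g ∈ B

/-- A BN-pair from root subgroups `X i`. -/
def mkBN {ι : Type*} (B N : Subgroup Γ) (s : ι → Γ) (X : ι → Subgroup Γ) (sup : B ⊔ N = ⊤)
    (conj : ∀ n ∈ N, ∀ t ∈ B ⊓ N, n * t * n⁻¹ ∈ B) (sN : ∀ i, s i ∈ N) (sq : ∀ i, s i * s i ∈ B)
    (inj : ∀ i j, (s i)⁻¹ * s j ∈ B → s i = s j) (gen : closure (Set.range s) ⊔ (B ⊓ N) = N)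
    (trans : ∀ i, ∀ b ∈ B, ∃ x ∈ X i, Fx B (x⁻¹ * b) (s i)) (X_le : ∀ i, X i ≤ B)
    (one : ∀ i, ∀ x ∈ X i, ¬ Fx B x (s i) → ∃ y ∈ X i, s i * x * (s i * y * (s i)⁻¹) ∈ B)
    (dich : ∀ i, ∀ n ∈ N, (∀ x ∈ X i, Fx B x n) ∨ ∀ x ∈ X i, Fx B (s i * x * (s i)⁻¹) n)
    (ne : ∀ i, ∃ x ∈ X i, ¬ Fx B x (s i)) : Cfsg.BNPair Γ where
  B := B
  N := N
  S := Set.range s
  sup_eq_top := sup
  conj_mem := conj
  subset := by rintro _ ⟨i, rfl⟩; exact sN i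
  sq_mem := by rintro _ ⟨i, rfl⟩; exact sq i
  inj := by rintro _ ⟨i, rfl⟩ _ ⟨j, rfl⟩ h; exact inj i j h
  closure_sup := gen
  mul_mem_union := by
    rintro _ ⟨i, rfl⟩ n hn b hb
    have cj : ∀ y ∈ B, Fx B y (s i) → s i * y * (s i)⁻¹ ∈ B := fun y _ h => by
      have := mul_mem (mul_mem (sq i) h) (inv_mem (sq i))
      simpa [mul_assoc] using this
    obtain ⟨x, hx, h⟩ := trans i b⁻¹ (inv_mem hb)
    have h1 : s i * (b * x) * (s i)⁻¹ ∈ B := cj _ (mul_mem hb (X_le i hx)) (by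
      have := inv_mem h; simpa [Fx, mul_assoc] using this)
    have e : s i * b * n = s i * (b * x) * (s i)⁻¹ * (s i * x⁻¹ * n) := by group
    simp only [Set.mem_union, DoubleCoset.mem_doubleCoset]
    by_cases h2 : Fx B x⁻¹ (s i)
    · refine Or.inl ⟨_, mul_mem h1 (cj _ (inv_mem (X_le i hx)) h2), 1, one_mem _, by group⟩
    rcases dich i n hn with h3 | h3
    · exact Or.inl ⟨_, h1, _, h3 _ (inv_mem hx), by group⟩
    · obtain ⟨y, hy, h4⟩ := one i _ (inv_mem hx) h2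
      exact Or.inr ⟨_, mul_mem h1 h4, _, h3 _ (inv_mem hy), by group⟩
  conj_ne := by
    rintro _ ⟨i, rfl⟩ h
    obtain ⟨x, hx, h1⟩ := ne i
    have : s i * x * s i ∈ (B : Set Γ) := h ▸ ⟨x, X_le i hx, rfl⟩
    exact h1 (by simpa [Fx, mul_assoc] using mul_mem (inv_mem (sq i)) this)

/-- A group with a BN-pair of type `T` and root subgroups for the simple roots. -/
structure Mod (Γ : Type*) [Group Γ] (T : Ty) where
  P : Cfsg.BNPair Γ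
  s : Fin T.rk → Γ
  hS : P.S = Set.range s
  ord : ∀ i j : Fin T.rk, ∀ k : ℕ, (s i * s j) ^ k ∈ P.B ↔ T.cm i j ∣ k
  X : Fin T.rk → Subgroup Γ
  X_le : ∀ i, X i ≤ P.B
  trans : ∀ i, ∀ b ∈ P.B, ∃ x ∈ X i, Fx P.B (x⁻¹ * b) (s i)
  dich : ∀ i, ∀ n ∈ P.N, (∀ x ∈ X i, Fx P.B x n) ∨ ∀ x ∈ X i, Fx P.B (s i * x * (s i)⁻¹) n
  int : ∀ i, ∀ x ∈ X i, ∀ n ∈ P.N, ∀ j, Fx P.B x n → Fx P.B x (n * s j) →
    ∀ b ∈ P.B, Fx P.B x (n * b * s j)
  p : ℕ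
  hp : p.Prime
  hq : ∀ i, ∃ k, (P.B.map (MulAut.conj (s i)).toMonoidHom).relIndex P.B = p ^ k
  tor : ∀ g ∈ normalClosure (⋃ i, (X i : Set Γ)), (∀ n ∈ P.N, Fx P.B g n) →
    g ^ p ∈ P.B.normalCore → g ∈ P.B.normalCore

namespace Mod

variable {T : Ty} (M : Mod Γ T)

/-- the number of chambers of an `i`-panel, minus one -/
noncomputable def q (i : Fin T.rk) : ℕ := (M.P.B.map (MulAut.conj (M.s i)).toMonoidHom).relIndex M.P.B

/-- the normal subgroup generated by the root subgroups -/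
abbrev E : Subgroup Γ := normalClosure (⋃ i, (M.X i : Set Γ))

/-- the group induced by `E` on the building -/
abbrev L : Type _ := M.E ⧸ M.P.B.normalCore.subgroupOf M.E

end Mod

/-- there is a model of type `T` with parameters `q` whose little projective group is `L` -/
def Real (T : Ty) (q : ℕ → ℕ) (L : Type*) [Group L] : Prop :=
  ∃ (Γ : Type) (_ : Group Γ) (_ : Finite Γ) (M : Mod Γ T), (∀ i, M.q i = q i) ∧ Nonempty (M.L ≃* L)

end Mod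

end TB
end H20
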