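import Mathlib
import Cfsg.Agent.H4.GD8
import Cfsg.Agent.H24.Base5
import Cfsg.Agent.H21.OddInv

/-!
# The index fifteen case for `H4.GD`: structure of `L`
-/

set_option autoImplicit false
set_option linter.unusedSectionVars false
set_option linter.unusedVariables false

namespace H20
namespace GF

open Subgroup H24 H4 H4.GD

variable {G : Type*} [Group G] [Finite G] {N : NP} {D : GD G N} {L : Subgroup G} {d : ℕ}

/-- the normalised situation -/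
structure F (D : GD G N) (L : Subgroup G) (d : ℕ) : Prop where
  cfg : D.Cfg
  le : D.T ≤ L
  idx : D.T.relIndex L = 15
  cZ : ♯D.Z = 2
  odd : Odd d
  hm : N.m = 2 * d
  nd : ¬ d ∣ 3
  cent : ∀ r ∈ D.T, Odd (orderOf r) → r ≠ 1 → C{r} = L
  rho : ∃ ρ ∈ L, ρ * D.t * ρ⁻¹ = D.u ∧ ρ * D.u * ρ⁻¹ = D.t * D.u

theorem eq_one_of_mem_Z (hZ : ♯D.Z = 2) {r : G} (hr : r ∈ D.Z) (ho : Odd (orderOf r)) : r = 1 :=
  orderOf_eq_one_iff.1 (Nat.eq_one_of_dvd_coprimes (Nat.coprime_two_right.2 ho) dvd_rfl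
    (hZ ▸ orderOf_dvd_card' hr))

theorem exists_F (h : D.Cfg) (hTL : D.T ≤ L) (hi : D.T.relIndex L = 15) (h8 : ¬ 8 ∣ ♯D.T)
    (hc : ∀ r ∈ D.T, Odd (orderOf r) → ∀ g ∈ L, g * r = r * g)
    {ρ : G} (hρ : ρ ∈ L) (h1 : ρ * D.t * ρ⁻¹ = D.u) (h2 : ρ * D.u * ρ⁻¹ = D.t * D.u)
    (hn : ¬ N.m ∣ 3 * ♯D.Z) : ∃ d, F D L d := by
  obtain ⟨d, hd, e⟩ := D.cZ
  have hZ : ♯D.Z = 2 := by
    obtain ⟨k, hk⟩ := D.two_dvd_Z
    by_contra hne
    have hk1 : k ≠ 1 := by rintro rfl; exact hne hk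
    have hp := Nat.minFac_prime hk1
    by_cases h2 : k.minFac = 2
    · obtain ⟨j, hj⟩ := h2 ▸ Nat.minFac_dvd k
      exact h8 ⟨2 * d * j * j, by rw [D.cT, ← e, hk, hj]; ring⟩
    · obtain ⟨z, hz, ho⟩ := exists_orderOf_eq hp (hk ▸ (Nat.minFac_dvd k).mul_left 2)
      have := h.cent_Z hz (ne_one_of_orderOf_prime (ho ▸ hp))
        (hc z (D.Z_le_T hz) (ho ▸ hp.odd_of_ne_two h2) ρ hρ)
      exact D.u_ne_t (h1.symm.trans (D.conj_Z D.t_mem this))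
  refine ⟨d, h, hTL, hi, hZ, hd, by rw [← e, hZ, mul_comm], fun h3 => hn ?_, fun r hr ho h1 => ?_,
    ρ, hρ, h1, h2⟩
  · rw [← e]; exact Nat.mul_dvd_mul_right h3 _
  have hle : L ≤ C{r} := fun g hg => mem_C1.2 (hc r hr ho g hg)
  have h15 : 15 ∣ D.T.relIndex C{r} := by
    rw [← relIndex_mul_relIndex _ _ _ hTL hle, hi]; exact dvd_mul_right _ _
  have key : D.T.relIndex C{r} = 15 := by
    rcases h.abc' hr (fun g _ hz => h1 (eq_one_of_mem_Z (D.card_conj_Z.trans hZ) hz ho)) with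
      e | ⟨-, e | e⟩
    · rw [e, relIndex_self] at h15; exact absurd h15 (by decide)
    · rw [e.1] at h15; exact absurd h15 (by decide)
    · exact e.1
  refine (eq_of_card_eq hle ?_).symm
  rw [← card_mul_relIndex hTL, ← card_mul_relIndex (hTL.trans hle), hi, key]

/-- the odd part of `T` -/
def R (D : GD G N) : Subgroup G where
  carrier := {r | r ∈ D.T ∧ Odd (orderOf r)}
  one_mem' := ⟨one_mem _, by simp⟩
  mul_mem' := fun {a b} ha hb => ⟨mul_mem ha.1 hb.1, (ha.2.mul hb.2).of_dvd_nat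
    (Commute.orderOf_mul_dvd_mul_orderOf (D.T_comm a ha.1 b hb.1))⟩
  inv_mem' := fun {a} ha => ⟨inv_mem ha.1, by simpa using ha.2⟩

theorem R_le : R D ≤ D.T := fun _ h => h.1

theorem index_four {K : Type*} [Group K] [Finite K] (U : Subgroup K) (h : U.index = 4) :
    U.normalCore.index ∣ 24 := by
  rw [normalCore_eq_ker, index_ker]
  refine (card_subgroup_dvd_card _).trans ?_
  rw [Nat.card_perm, ← index_eq_card, h]
  rfl

namespace F

variable (h : F D L d)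
include h

theorem conj (g : G) : F (D.conj g) (cj g L) d := by
  obtain ⟨ρ, hρ, h1, h2⟩ := h.rho
  refine ⟨h.cfg.conj g, map_mono h.le, (relIndex_cj g _ _).trans h.idx,
    D.card_conj_Z.trans h.cZ, h.odd, h.hm, h.nd, fun r hr ho h1 => ?_, g * ρ * g⁻¹,
    conj_mem_cj g hρ, ?_, ?_⟩
  · obtain ⟨r', hr', rfl⟩ := mem_cj'.1 hr
    rw [← cj_C1, h.cent r' hr' (orderOf_conj g r' ▸ ho) fun e => h1 (by simp [e])]
  · rw [conj_t, conj_u, ← h1]; group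
  · rw [conj_t, conj_u, show g * D.t * g⁻¹ * (g * D.u * g⁻¹) = g * (D.t * D.u) * g⁻¹ by group, ← h2]
    group

theorem cT : ♯D.T = 4 * d := by rw [D.cT, h.cZ, h.hm]; ring

theorem cL : ♯L = 60 * d := by rw [← card_mul_relIndex h.le, h.cT, h.idx]; ring

theorem d_pos : 0 < d := h.odd.pos

theorem exists_b : ∃ b, zpowers b = R D ∧ orderOf b = d := by
  obtain ⟨τ, hτ, h1, h2⟩ := D.exists_genT
  have ho : orderOf τ = 2 * d := by
    rw [← h.hm]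
    exact Nat.dvd_antisymm (orderOf_dvd_of_pow_eq_one (h.cfg.pow_m hτ))
      ((h2 _).1 (by rw [pow_orderOf_eq_one]; exact one_mem _))
  have hb : orderOf (τ ^ 2) = d := by
    rw [orderOf_pow' τ two_ne_zero, ho, Nat.gcd_mul_right_left, Nat.mul_div_cancel_left _ two_pos]
  refine ⟨τ ^ 2, le_antisymm (zpowers_le.2 ⟨pow_mem hτ 2, hb ▸ h.odd⟩) fun r hr => ?_, hb⟩
  obtain ⟨k, hk⟩ := exists_sq_eq hr.2
  obtain ⟨j, z, hz, e⟩ := h1 _ (pow_mem hr.1 k)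
  have hzz : z * z = 1 := by rw [← pow_two, ← h.cZ]; exact orderOf_dvd_iff_pow_eq_one.1 (orderOf_dvd_card' hz)
  rw [← hk, e, mul_assoc, ← mul_assoc z, D.Z_comm z hz _ (D.T_le (pow_mem hτ j)), mul_assoc, hzz,
    mul_one, ← pow_two, ← pow_mul, mul_comm, pow_mul]
  exact pow_mem (mem_zpowers _) j

theorem cR : ♯(R D) = d := by
  obtain ⟨b, h1, h2⟩ := h.exists_b
  rw [← h1, card_zpowers', h2]

theorem exists_r : ∃ r ∈ R D, r ≠ 1 :=
  exists_ne_one fun e => h.nd (by rw [← h.cR, e, card_bot]; exact one_dvd _)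

theorem R_comm {r g : G} (hr : r ∈ R D) (hg : g ∈ L) : g * r = r * g := by
  by_cases h1 : r = 1
  · simp [h1]
  · exact mem_C1.1 (h.cent r hr.1 hr.2 h1 ▸ hg)

theorem w_inv_R {r : G} (hr : r ∈ R D) : D.w * r * D.w = r⁻¹ := by
  have h1 : D.w * r * D.w ∈ R D := ⟨D.w_conj_mem hr.1, by
    nth_rewrite 2 [← D.w_inv']; rw [orderOf_conj]; exact hr.2⟩
  exact eq_inv_of_mul_eq_one_right (eq_one_of_mem_Z h.cZ (D.w_inv r hr.1) (mul_mem hr h1).2)

theorem mem_T {v g : G} (hv : v ∈ D.T) (h2 : v * v = 1) (h1 : v ≠ 1) (hg : g ∈ L)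
    (e : g * v = v * g) : g ∈ D.T := by
  obtain ⟨k, hk, hT⟩ : ∃ k, (D.conj k).t = v ∧ (D.conj k).T = D.T := by
    by_cases hvt : D.t = v
    · obtain ⟨k, e1, -, e2⟩ := h.cfg.exists_sib hv D.u_mem h2 D.u_sq h1 D.u_ne_one
        (hvt ▸ D.u_ne_t)
      exact ⟨k, e1, e2⟩
    · obtain ⟨k, e1, -, e2⟩ := h.cfg.exists_sib hv D.t_T h2 D.t_sq h1 D.t_ne hvt
      exact ⟨k, e1, e2⟩
  obtain ⟨r, hr, hr1⟩ := h.exists_r
  exact hT ▸ (D.conj k).cent_T r (hT ▸ hr.1)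
    (fun hz => hr1 (eq_one_of_mem_Z (D.card_conj_Z.trans h.cZ) hz hr.2)) g
    (h.cfg.full.conj k g (hk ▸ e)) (h.R_comm hr hg)

theorem hyp : H17.AbC.Hyp (D.T.subgroupOf L) ⟨D.t, h.le D.t_T⟩ ⟨D.u, h.le D.u_mem⟩ :=
  ⟨fun x hx y hy => Subtype.ext (D.T_comm _ hx _ hy), D.t_T, D.u_mem,
    fun e => D.t_ne (congrArg Subtype.val e), fun e => D.u_ne_one (congrArg Subtype.val e),
    fun e => D.u_ne_t (congrArg Subtype.val e).symm, Subtype.ext D.t_sq, Subtype.ext D.u_sq,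
    fun s hs e => (D.T_inv hs (congrArg Subtype.val e)).imp Subtype.ext (Or.imp Subtype.ext
      (Or.imp Subtype.ext Subtype.ext)), fun v hv v2 v1 g e => h.mem_T hv
        (congrArg Subtype.val v2) (fun e => v1 (Subtype.ext e)) g.2 (congrArg Subtype.val e)⟩

theorem conj_t {s : G} (hs : s ∈ L) (h2 : s * s = 1) (h1 : s ≠ 1) :
    ∃ l ∈ L, l * D.t * l⁻¹ = s := by
  obtain ⟨ρ, hρ, e1, e2⟩ := h.rho
  obtain ⟨l, hl⟩ := isConj_iff.1 (h.hyp.isConj (ρ := ⟨ρ, hρ⟩) (Subtype.ext e1) (Subtype.ext e2)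
    (u := ⟨s, hs⟩) (by rw [Subgroup.orderOf_mk]; exact orderOf_eq_prime (by rw [pow_two, h2]) h1))
  exact ⟨l, l.2, congrArg Subtype.val hl⟩

theorem inf_t : L ⊓ C{D.t} = D.T :=
  le_antisymm (fun _ hg => h.mem_T D.t_T D.t_sq D.t_ne hg.1 (mem_C1.1 hg.2))
    (le_inf h.le fun g hg => mem_C1.2 (D.T_comm g hg _ D.t_T))

theorem ncard_I : {s | s ∈ L ∧ s * s = 1 ∧ s ≠ 1}.ncard = 15 := by
  have h1 := ncard_conj_class L D.t
  have h2 : {x | ∃ g ∈ L, g * D.t * g⁻¹ = x} = {s | s ∈ L ∧ s * s = 1 ∧ s ≠ 1} := by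
    ext s
    refine ⟨?_, fun hs => h.conj_t hs.1 hs.2.1 hs.2.2⟩
    rintro ⟨g, hg, rfl⟩
    exact ⟨mul_mem (mul_mem hg (h.le D.t_T)) (inv_mem hg),
      by simp [mul_assoc, mul_mul_self D.t_sq], fun e => D.t_ne (conj_eq_one_iff'.1 e)⟩
  rw [h2, h.inf_t, h.cT, h.cL] at h1
  exact Nat.eq_of_mul_eq_mul_right (by have := h.d_pos; omega) (h1.trans (by ring))

theorem mem_R {c s : G} (hc : c ∈ L) (ho : Odd (orderOf c)) (hs : s ∈ L) (h2 : s * s = 1)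
    (h1 : s ≠ 1) (e : c * s = s * c) : c ∈ R D := by
  obtain ⟨l, hl, rfl⟩ := h.conj_t hs h2 h1
  have h3 : l⁻¹ * c * l⁻¹⁻¹ ∈ R D := ⟨h.mem_T D.t_T D.t_sq D.t_ne
    (mul_mem (mul_mem (inv_mem hl) hc) (inv_mem (inv_mem hl))) (by
      calc _ = l⁻¹ * (c * (l * D.t * l⁻¹)) * l := by group
        _ = _ := by rw [e]; group), by rwa [orderOf_conj]⟩
  have : c = l⁻¹ * c * l⁻¹⁻¹ := by
    calc c = l * (l⁻¹ * c * l⁻¹⁻¹) * l⁻¹ := by group
      _ = _ := by rw [h.R_comm h3 hl]; group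
  exact this ▸ h3

theorem mem_N {r g : G} (hr : r ∈ R D) (h1 : r ≠ 1) (hg : g * r * g⁻¹ ∈ R D) : g ∈ N[L] := by
  refine mem_N_of_le_cj (le_of_eq ?_)
  nth_rewrite 2 [← h.cent r hr.1 hr.2 h1]
  rw [cj_C1, h.cent _ hg.1 hg.2 fun e => h1 (conj_eq_one_iff'.1 e)]

theorem w_N : D.w ∈ N[L] := by
  obtain ⟨r, hr, h1⟩ := h.exists_r
  exact h.mem_N hr h1 (by rw [D.w_inv', h.w_inv_R hr]; exact inv_mem hr)

theorem w_conj {g : G} (hg : g ∈ L) : D.w * g * D.w ∈ L := by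
  have := conj_mem h.w_N hg
  rwa [D.w_inv'] at this

theorem w_not : D.w ∉ L := fun e =>
  D.w_not (h.mem_T D.t_T D.t_sq D.t_ne e (D.t_comm D.w_mem).symm)

theorem norm_L {g : G} (hg : g ∈ N[L]) : g ∈ L ∨ g * D.w ∈ L := by
  obtain ⟨l, hl, e⟩ := h.conj_t (conj_mem hg (h.le D.t_T))
    (by simp [mul_assoc, mul_mul_self D.t_sq]) fun e => D.t_ne (conj_eq_one_iff'.1 e)
  have h1 : l⁻¹ * g ∈ D.H := h.cfg.full _ (by
    calc _ = l⁻¹ * (g * D.t * g⁻¹) * g := by group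
      _ = _ := by rw [← e]; group)
  have h2 : l⁻¹ * g ∈ N[L] := mul_mem (inv_mem (norm_self L hl)) hg
  rcases D.norm_T _ h1 D.u D.u_mem D.u_not (h.mem_T D.t_T D.t_sq D.t_ne
    (conj_mem h2 (h.le D.u_mem)) (D.t_comm (mul_mem (mul_mem h1 D.u_H) (inv_mem h1))).symm) with
    h3 | h3
  · exact Or.inl ((mul_mem_cancel_left (inv_mem hl)).1 (h.le h3))
  · exact Or.inr ((mul_mem_cancel_left (inv_mem hl)).1 (by rw [← mul_assoc]; exact h.le h3))

theorem no15 {U : Subgroup G} (hU : U ≤ L) (hc : ♯U = 15 * d) : False := by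
  have hd := h.d_pos
  have h1 : (U.subgroupOf L).index = 4 := by
    have := card_mul_relIndex hU
    rw [hc, h.cL] at this
    exact Nat.eq_of_mul_eq_mul_left (show 0 < 15 * d by omega) (this.trans (by ring))
  set K := (U.subgroupOf L).normalCore with hK
  have h2 : Odd ♯K := odd_of_le (by
    rw [card_subgroupOf_of_le hU, hc]; exact (by decide : Odd 15).mul h.odd) (normalCore_le _)
  have h3 : ♯K ∣ d := by
    have := card_dvd (h.hyp.odd_le K h2)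
    rw [card_subgroupOf_of_le h.le, h.cT] at this
    exact (Nat.Coprime.pow_right 2 (Nat.coprime_two_right.2 h2)).dvd_of_dvd_mul_left this
  have h4 := Nat.mul_dvd_mul h3 (index_four _ h1)
  rw [card_mul_index, h.cL] at h4
  have := Nat.le_of_dvd (by omega) h4
  omega

theorem exists_s : ∃ s ∈ L, s * s = 1 ∧ s ∉ D.T ∧ D.w * s = s * D.w := by
  have hZ : ∀ y ∈ D.Z, D.u * y * D.u ∈ D.Z := fun y hy => by
    nth_rewrite 2 [← D.u_inv]; rwa [D.conj_Z hy D.u_H]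
  set V := ext2 D.Z D.u D.u_sq hZ with hV
  have hVm : ∀ y, y ∈ V ↔ y ∈ D.T ∧ y * y = 1 := fun y => by
    have hz : ∀ z ∈ D.Z, z * z = 1 := fun z hz => by
      rw [← pow_two, ← h.cZ]; exact orderOf_dvd_iff_pow_eq_one.1 (orderOf_dvd_card' hz)
    rw [mem_ext2]
    constructor
    · rintro (e | e)
      · exact ⟨D.Z_le_T e, hz y e⟩
      · have hy : y ∈ D.T := (mul_mem_cancel_right D.u_mem).1 (D.Z_le_T e)
        refine ⟨hy, ?_⟩
        have := hz _ e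
        rwa [mul_assoc, ← mul_assoc D.u, D.T_comm _ D.u_mem y hy, mul_assoc, D.u_sq, mul_one] at this
    · rintro ⟨hy, e⟩
      rcases D.T_inv hy e with rfl | rfl | rfl | rfl
      · exact Or.inl (one_mem _)
      · exact Or.inl D.t_mem
      · exact Or.inr (D.u_sq ▸ one_mem _)
      · exact Or.inr (by rw [D.tuu]; exact D.t_mem)
  have hVw : ∀ y ∈ V, D.w * y * D.w ∈ V := fun y hy => (hVm _).2 ⟨D.w_conj_mem ((hVm y).1 hy).1, by
    simp [mul_assoc, mul_mul_self D.w_sq, mul_mul_self ((hVm y).1 hy).2, D.w_sq]⟩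
  have hc : ♯(ext2 V D.w D.w_sq hVw) = 8 := by
    rw [card_ext2 fun e => D.w_not ((hVm _).1 e).1, card_ext2 D.u_not, h.cZ]
  have hS : {s | s ∈ L ∧ s * s = 1 ∧ s ∉ D.T}.ncard = 12 := by
    have e : {s | s ∈ L ∧ s * s = 1 ∧ s ∉ D.T} =
        {s | s ∈ L ∧ s * s = 1 ∧ s ≠ 1} \ {D.t, D.u, D.t * D.u} := by
      ext s
      simp only [Set.mem_sdiff, Set.mem_ofPred_eq, Set.mem_insert_iff, Set.mem_singleton_iff]
      constructor
      · rintro ⟨h1, h2, h3⟩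
        refine ⟨⟨h1, h2, fun e => h3 (e ▸ one_mem _)⟩, ?_⟩
        rintro (rfl | rfl | rfl)
        exacts [h3 D.t_T, h3 D.u_mem, h3 D.tu_mem]
      · exact fun ⟨⟨h1, h2, h3⟩, h4⟩ => ⟨h1, h2, fun e => h4 ((D.T_inv e h2).resolve_left h3)⟩
    rw [e, Set.ncard_sdiff, h.ncard_I, Set.ncard_eq_three.2 ⟨_, _, _, D.u_ne_t.symm,
      D.tu_ne_t.symm, D.tu_ne_u.symm, rfl⟩]
    rintro s (rfl | rfl | rfl)
    exacts [⟨h.le D.t_T, D.t_sq, D.t_ne⟩, ⟨h.le D.u_mem, D.u_sq, D.u_ne_one⟩,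
      ⟨h.le D.tu_mem, D.tu_sq, D.tu_ne_one⟩]
  by_contra hcon
  push Not at hcon
  have hT : ∀ v ∈ D.T, v * v = 1 → v ≠ 1 → ∀ s ∈ L, s ∉ D.T → v * s ≠ s * v :=
    fun v hv h1 h2 s hs h3 e => h3 (h.mem_T hv h1 h2 hs e.symm)
  have := card_dvd_of_conj (ext2 V D.w D.w_sq hVw) {s | s ∈ L ∧ s * s = 1 ∧ s ∉ D.T}
    (fun g hg x hx => ?_) (fun g hg x hx e => ?_)
  · rw [hc, hS] at this
    exact absurd this (by decide)
  · have hN : g ∈ N[L] ∧ g ∈ N[D.T] := by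
      have hwT : D.w ∈ N[D.T] := mem_N_of_finite fun y hy => by
        rw [D.w_inv']; exact D.w_conj_mem hy
      rcases hg with hg | hg
      · exact ⟨norm_self L (h.le ((hVm g).1 hg).1), norm_self _ ((hVm g).1 hg).1⟩
      · exact ⟨(mul_mem_cancel_right h.w_N).1 (norm_self L (h.le ((hVm _).1 hg).1)),
          (mul_mem_cancel_right hwT).1 (norm_self _ ((hVm _).1 hg).1)⟩
    exact ⟨conj_mem hN.1 hx.1, by simp [mul_assoc, mul_mul_self hx.2.1],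
      fun e => hx.2.2 ((conj_mem_iff hN.2).1 e)⟩
  · by_contra h1
    rcases hg with hg | hg
    · exact hT g ((hVm g).1 hg).1 ((hVm g).1 hg).2 h1 x hx.1 hx.2.2 e
    have hg' : g = g * D.w * D.w := by rw [mul_assoc, D.w_sq, mul_one]
    have sq : g * g = D.t → False := fun e2 => hT _ D.t_T D.t_sq D.t_ne x hx.1 hx.2.2 (by
      rw [← e2, mul_assoc, e, ← mul_assoc, e, mul_assoc])
    rcases D.T_inv ((hVm _).1 hg).1 ((hVm _).1 hg).2 with e1 | e1 | e1 | e1 <;> rw [e1] at hg'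
    · exact hcon x hx.1 hx.2.1 hx.2.2 (by rw [hg', one_mul] at e; exact e)
    · have e3 : g = D.u * D.w * D.u := by
        rw [hg', ← D.utu, ← D.w_u]; simp [mul_assoc, D.w_sq]
      refine hcon (D.u * x * D.u) (mul_mem (mul_mem (h.le D.u_mem) hx.1) (h.le D.u_mem))
        (by simp [mul_assoc, mul_mul_self D.u_sq, mul_mul_self hx.2.1, D.u_sq]) (fun e4 => hx.2.2
          ((mul_mem_cancel_left D.u_mem).1 ((mul_mem_cancel_right D.u_mem).1 e4))) ?_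
      rw [e3] at e
      calc _ = D.u * (D.u * D.w * D.u * x) * D.u := by simp [mul_assoc, mul_mul_self D.u_sq]
        _ = _ := by rw [e]; simp [mul_assoc, D.u_sq]
    · exact sq (by rw [hg', mul_assoc, ← mul_assoc D.w, D.w_u, D.utu])
    · exact sq (by rw [hg', mul_assoc, ← mul_assoc D.w, D.w_tu, D.tuu])

end F

end GF
end H20
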