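import Mathlib
import Cfsg.Agent.H20.GF1

/-!
# The index fifteen case for `H4.GD`: the element of order three and the final count
-/

set_option autoImplicit false
set_option linter.unusedSectionVars false
set_option linter.unusedVariables false

namespace H20
namespace GF

open Subgroup H24 H4 H4.GD H4.LT

variable {G : Type*} [Group G] [Finite G] {N : NP} {D : GD G N} {L : Subgroup G} {d : ℕ}

theorem pow_index_mul {K : Type*} [Group K] [Finite K] (A : Subgroup K)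
    (hA : ∀ a ∈ A, ∀ g, g * a = a * g) (x y : K) :
    (x * y) ^ A.index = x ^ A.index * y ^ A.index := by
  let : CommGroup A := { (inferInstance : Group A) with
    mul_comm := fun a b => Subtype.ext (hA b b.2 a) }
  have key : ∀ g : K, ∀ (k : ℕ) (g₀ : K), g₀⁻¹ * g ^ k * g₀ ∈ A → g₀⁻¹ * g ^ k * g₀ = g ^ k := by
    intro g k g₀ hk
    calc _ = g₀ * (g₀⁻¹ * g ^ k * g₀) * g₀⁻¹ := by rw [hA _ hk g₀]; group
      _ = _ := by group
  have := congrArg Subtype.val (map_mul (MonoidHom.transfer (MonoidHom.id A)) x y)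
  rwa [MonoidHom.transfer_eq_pow _ _ (key _), MonoidHom.transfer_eq_pow _ _ (key _),
    MonoidHom.transfer_eq_pow _ _ (key _)] at this

theorem conj_pow_inv {a x : G} (ha : a * a = 1) (h : a * x * a = x⁻¹) (k : ℕ) :
    a * x ^ k * a = (x ^ k)⁻¹ := by
  have := conj_pow (a := a) (b := x) (i := k)
  rw [inv_eq_self ha, h] at this
  rw [← this, inv_pow]

theorem final_arith {q y x : ℤ} (hq : 27 ≤ q) (hy : y = 6 ∨ y = 12 ∨ y = 30 ∨ y = 60)
    (h : y ^ 2 * (q + 1) * (x - 1) = 60 * (q - 1) * (x + 1)) : False := by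
  rcases hy with rfl | rfl | rfl | rfl
  · have e : (x + 4) * (4 - q) = 15 := by linarith
    rcases lt_trichotomy x (-4) with h1 | rfl | h1 <;> nlinarith
  · have e : x * (7 * q + 17) = 17 * q + 7 := by linarith
    rcases lt_trichotomy x 2 with h1 | rfl | h1 <;> nlinarith
  · have e : x * (14 * q + 16) = 16 * q + 14 := by linarith
    rcases le_or_gt x 1 with h1 | h1 <;> nlinarith
  · have e : x * (59 * q + 61) = 61 * q + 59 := by linarith
    rcases le_or_gt x 1 with h1 | h1 <;> nlinarith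

namespace F

variable (h : F D L d)
include h

theorem eq_one_of_inv {c s : G} (hc : c ∈ L) (ho : Odd (orderOf c)) (ht : D.t * c * D.t = c⁻¹)
    (hs : s ∈ L) (h2 : s * s = 1) (h1 : s ≠ 1) (e : c * s = s * c) : c = 1 := by
  rw [h.R_comm (h.mem_R hc ho hs h2 h1 e) (h.le D.t_T), mul_assoc, D.t_sq, mul_one] at ht
  exact H21.eq_one_of_sq_of_odd ho (pow_orderOf_eq_one c) (by nth_rewrite 2 [ht]; simp)

theorem free {ρ : G} (hρ : ρ ∈ L) (ho : Odd (orderOf ρ)) (ht : D.t * ρ * D.t = ρ⁻¹) {g s : G}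
    (hg : g ∈ zpowers ρ) (hs : s ∈ L) (h2 : s * s = 1) (h1 : s ≠ 1) (e : g * s = s * g) :
    g = 1 := by
  have hg' := ho.of_dvd_nat (orderOf_dvd_of_mem_zpowers hg)
  obtain ⟨k, rfl⟩ := (mem_powers_iff_mem_zpowers.2 hg)
  exact h.eq_one_of_inv (pow_mem hρ k) hg' (conj_pow_inv D.t_sq ht k) hs h2 h1 e

theorem not_five {ρ : G} (hρ : ρ ∈ L) (ho : orderOf ρ = 5) (hw : D.w * ρ = ρ * D.w)
    (ht : D.t * ρ * D.t = ρ⁻¹) : False := by
  have hodd : Odd (orderOf ρ) := by rw [ho]; decide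
  have hP : zpowers ρ ≤ L := zpowers_le.2 hρ
  have hPw : ∀ g ∈ zpowers ρ, g * D.w = D.w * g := fun g hg =>
    mem_C1.1 (zpowers_le.2 (mem_C1.2 hw.symm) hg)
  let c : G → Set G := fun v => {x | ∃ g ∈ zpowers ρ, g * v * g⁻¹ = x}
  have hc : ∀ v ∈ D.T, v * v = 1 → v ≠ 1 → (c v).ncard = 5 := fun v hv h2 h1 => by
    have := ncard_conj_class (zpowers ρ) v
    rwa [show zpowers ρ ⊓ C{v} = ⊥ from eq_bot_iff.2 fun g hg =>
      h.free hρ hodd ht hg.1 (h.le hv) h2 h1 (mem_C1.1 hg.2), card_bot, mul_one, card_zpowers',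
      ho] at this
  have hd : ∀ a b, (∀ g ∈ zpowers ρ, g * a * g⁻¹ ≠ b) → Disjoint (c a) (c b) := fun a b hab => by
    rw [Set.disjoint_left]
    rintro _ ⟨g, hg, rfl⟩ ⟨k, hk, e⟩
    exact hab (k⁻¹ * g) (mul_mem (inv_mem hk) hg) (by
      calc _ = k⁻¹ * (g * a * g⁻¹) * k := by group
        _ = b := by rw [← e]; group)
  have hw' : ∀ g ∈ zpowers ρ, ∀ a, D.w * (g * a * g⁻¹) * D.w = g * (D.w * a * D.w) * g⁻¹ := by
    intro g hg a
    calc _ = (D.w * g) * a * (g⁻¹ * D.w) := by group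
      _ = _ := by rw [← hPw g hg, hPw _ (inv_mem hg)]; group
  have d1 := hd D.t D.u fun g hg e => D.tu_ne_u (by
    rw [← D.w_u, ← e, hw' g hg, D.w_t])
  have d2 := hd D.t (D.t * D.u) fun g hg e => D.tu_ne_u (by
    have := hw' g hg D.t
    rw [e, D.w_tu, D.w_t, e] at this
    exact this.symm)
  have d3 := hd D.u (D.t * D.u) fun g hg e => by
    have e2 : g * (D.t * D.u) * g⁻¹ = D.u := by rw [← D.w_u, ← hw' g hg, e, D.w_tu]
    have e3 := h.free hρ hodd ht (mul_mem hg hg) (h.le D.u_mem) D.u_sq D.u_ne_one (by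
      calc _ = g * (g * D.u * g⁻¹) * g⁻¹ * (g * g) := by group
        _ = _ := by rw [e, e2])
    rw [H21.eq_one_of_sq_of_odd (hodd.of_dvd_nat (orderOf_dvd_of_mem_zpowers hg))
      (pow_orderOf_eq_one g) e3] at e
    exact D.tu_ne_u (by simpa using e.symm)
  have hU : c D.t ∪ c D.u ∪ c (D.t * D.u) = {s | s ∈ L ∧ s * s = 1 ∧ s ≠ 1} := by
    refine Set.eq_of_subset_of_ncard_le ?_ (by
      rw [h.ncard_I, Set.ncard_union_eq (Set.disjoint_union_left.2 ⟨d2, d3⟩),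
        Set.ncard_union_eq d1, hc _ D.t_T D.t_sq D.t_ne, hc _ D.u_mem D.u_sq D.u_ne_one,
        hc _ D.tu_mem D.tu_sq D.tu_ne_one])
    have : ∀ v ∈ D.T, v * v = 1 → v ≠ 1 → c v ⊆ {s | s ∈ L ∧ s * s = 1 ∧ s ≠ 1} := by
      rintro v hv h2 h1 _ ⟨g, hg, rfl⟩
      exact ⟨mul_mem (mul_mem (hP hg) (h.le hv)) (inv_mem (hP hg)),
        by simp [mul_assoc, mul_mul_self h2], fun e => h1 (conj_eq_one_iff'.1 e)⟩
    exact Set.union_subset (Set.union_subset (this _ D.t_T D.t_sq D.t_ne)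
      (this _ D.u_mem D.u_sq D.u_ne_one)) (this _ D.tu_mem D.tu_sq D.tu_ne_one)
  have key : ∀ s ∈ L, s * s = 1 → s ≠ 1 → Commute (D.w * s * D.w) s := fun s h1 h2 h3 => by
    have : ∀ v ∈ D.T, ∀ s ∈ c v, Commute (D.w * s * D.w) s := by
      rintro v hv _ ⟨g, hg, rfl⟩
      rw [hw' g hg]
      exact (Commute.conj (D.T_comm _ (D.w_conj_mem hv) v hv) g)
    rcases (hU.ge ⟨h1, h2, h3⟩ : s ∈ c D.t ∪ c D.u ∪ c (D.t * D.u)) with (e | e) | e
    exacts [this _ D.t_T s e, this _ D.u_mem s e, this _ D.tu_mem s e]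
  have hs : ρ * D.t * ρ⁻¹ = ρ * ρ * D.t := by rw [← ht]; simp [mul_assoc, mul_mul_self D.t_sq]
  have k1 := (key (D.u * (ρ * D.t * ρ⁻¹) * D.u⁻¹) (mul_mem (mul_mem (h.le D.u_mem)
    (mul_mem (mul_mem hρ (h.le D.t_T)) (inv_mem hρ))) (inv_mem (h.le D.u_mem)))
    (by simp [mul_assoc, mul_mul_self D.t_sq])
    (fun e => D.t_ne (conj_eq_one_iff'.1 (conj_eq_one_iff'.1 e)))).conj D.u
  have e1 : D.u * D.w * D.u = D.t * D.w := by
    nth_rewrite 1 [← D.utu, ← D.w_u]; simp [mul_assoc, D.w_sq]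
  have e1' : D.u * D.w * D.u = D.w * D.t := e1.trans (D.t_comm D.w_mem)
  have e2 : D.u * (D.w * (D.u * (ρ * D.t * ρ⁻¹) * D.u⁻¹) * D.w) * D.u⁻¹ = ρ⁻¹ * ρ⁻¹ * D.t := by
    calc _ = (D.u * D.w * D.u) * (ρ * D.t * ρ⁻¹) * (D.u * D.w * D.u) := by rw [D.u_inv]; group
      _ = D.t * (D.w * (ρ * D.t * ρ⁻¹) * D.w) * D.t := by
          nth_rewrite 2 [e1']; rw [e1]; group
      _ = (D.t * ρ * D.t) * (D.t * ρ * D.t) * D.t := by
          rw [hw' ρ (mem_zpowers ρ), D.w_t, hs]; simp [mul_assoc, mul_mul_self D.t_sq]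
      _ = _ := by rw [ht]
  have e3 : D.u * (D.u * (ρ * D.t * ρ⁻¹) * D.u⁻¹) * D.u⁻¹ = ρ * ρ * D.t := by
    rw [D.u_inv, hs]; simp [mul_assoc, mul_mul_self D.u_sq, D.u_sq]
  rw [e2, e3] at k1
  have k2 : ρ ^ 8 = 1 := by
    have a0 := conj_pow_inv D.t_sq ht 2
    have a1 : ρ⁻¹ * ρ⁻¹ * D.t * (ρ * ρ * D.t) = (ρ ^ 4)⁻¹ := by
      calc _ = ρ⁻¹ * ρ⁻¹ * (D.t * ρ ^ 2 * D.t) := by simp only [pow_two, mul_assoc]
        _ = _ := by rw [a0]; group
    have a2 : ρ * ρ * D.t * (ρ⁻¹ * ρ⁻¹ * D.t) = ρ ^ 4 := by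
      calc _ = ρ ^ 2 * (D.t * ρ ^ 2 * D.t)⁻¹ := by
            simp only [pow_two, mul_assoc, mul_inv_rev, D.t_inv]
        _ = _ := by rw [a0, inv_inv, ← pow_add]
    rw [show 8 = 4 + 4 from rfl, pow_add]
    nth_rewrite 1 [← a2, ← k1.eq, a1]
    exact inv_mul_cancel _
  have := orderOf_dvd_of_pow_eq_one k2
  rw [ho] at this
  exact absurd this (by decide)

theorem exists_rho : ∃ ρ ∈ L, orderOf ρ = 3 ∧ D.w * ρ = ρ * D.w ∧ D.t * ρ * D.t = ρ⁻¹ := by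
  obtain ⟨s, hs, h2, hT, hw⟩ := h.exists_s
  have hts : D.t * s ∈ L := mul_mem (h.le D.t_T) hs
  have hodd : Odd (orderOf (D.t * s)) := by
    by_contra e
    obtain ⟨z, z1, z2, z3, z4, z5⟩ := H21.exists_invol_comm_of_not_odd D.t_sq h2
      (isOfFinOrder_of_finite _) e
    exact hT (h.mem_T (h.mem_T D.t_T D.t_sq D.t_ne (zpowers_le.2 hts z5) z3) z2 z1 hs z4.symm)
  have h1 : orderOf (D.t * s) ≠ 1 := fun e => hT (by
    rw [eq_inv_of_mul_eq_one_right (orderOf_eq_one_iff.1 e)]; exact inv_mem D.t_T)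
  have hp := Nat.minFac_prime h1
  obtain ⟨k, hk⟩ := exists_pow_prime (Nat.minFac_dvd (orderOf (D.t * s)))
  have hρ := pow_mem hts k
  have hρo : Odd (orderOf ((D.t * s) ^ k)) := hk ▸ hodd.of_dvd_nat (Nat.minFac_dvd _)
  have hρw : D.w * (D.t * s) ^ k = (D.t * s) ^ k * D.w :=
    (((show Commute D.w D.t from (D.t_comm D.w_mem).symm).mul_right hw).pow_right k).eq
  have hρt : D.t * (D.t * s) ^ k * D.t = ((D.t * s) ^ k)⁻¹ := conj_pow_inv D.t_sq (by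
    rw [mul_mul_self D.t_sq, mul_inv_rev, D.t_inv, inv_eq_self h2]) k
  have h15 := card_dvd_of_conj (zpowers ((D.t * s) ^ k)) {s | s ∈ L ∧ s * s = 1 ∧ s ≠ 1}
    (fun g hg x hx => ⟨conj_mem (norm_self L (zpowers_le.2 hρ hg)) hx.1,
      by simp [mul_assoc, mul_mul_self hx.2.1], fun e => hx.2.2 (conj_eq_one_iff'.1 e)⟩)
    fun g hg x hx e => h.free hρ hρo hρt hg hx.1 hx.2.1 hx.2.2 e
  rw [h.ncard_I, card_zpowers', show 15 = 3 * 5 from rfl, hk, hp.dvd_mul,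
    Nat.prime_dvd_prime_iff_eq hp Nat.prime_three,
    Nat.prime_dvd_prime_iff_eq hp Nat.prime_five, ← hk] at h15
  exact ⟨_, hρ, h15.resolve_right fun e => h.not_five hρ e hρw hρt, hρw, hρt⟩

section rho

variable {ρ : G} (hρ : ρ ∈ L) (ho : orderOf ρ = 3) (hw : D.w * ρ = ρ * D.w)
  (ht : D.t * ρ * D.t = ρ⁻¹)
include hρ ho hw ht

theorem no_inv {s : G} (hs : s ∈ L) (h2 : s * s = 1) (e : ρ * s = s * ρ) : s = 1 := by
  by_contra h1
  exact ne_one_of_orderOf ho (by decide)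
    (h.eq_one_of_inv hρ (by rw [ho]; decide) ht hs h2 h1 e)

theorem card_cent : ♯(L ⊓ C{ρ}) = 3 * d := by
  have hd := h.d_pos
  have h1 : Odd ♯(L ⊓ C{ρ}) := by
    by_contra e
    obtain ⟨z, hz, z1, z2⟩ := H21.exists_invol_of_even_card (Nat.not_odd_iff_even.1 e)
    exact z1 (h.no_inv hρ ho hw ht hz.1 z2 (mem_C1.1 hz.2).symm)
  have h2 : ♯(L ⊓ C{ρ}) ∣ 3 * d * 5 := by
    have := card_dvd (inf_le_left : L ⊓ C{ρ} ≤ L)
    rw [h.cL, show 60 * d = 2 ^ 2 * (3 * d * 5) by ring] at this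
    exact (Nat.Coprime.pow_right 2 (Nat.coprime_two_right.2 h1)).dvd_of_dvd_mul_left this
  have hc : zpowers ρ ≤ C[R D] := zpowers_le.2 (mem_C'.2 fun r hr => h.R_comm hr hρ)
  have h3 : ♯(R D ⊔ zpowers ρ) = 3 * d := by
    rw [H24.card_sup_of_inf (norm_of_cent hc) (eq_bot_iff.2 fun g hg => h.free hρ
      (by rw [ho]; decide) ht hg.2 (h.le D.t_T) D.t_sq D.t_ne (D.T_comm g hg.1.1 _ D.t_T)),
      h.cR, card_zpowers', ho, mul_comm]
  obtain ⟨k, hk⟩ : 3 * d ∣ ♯(L ⊓ C{ρ}) := h3 ▸ card_dvd (sup_le (le_inf (R_le.trans h.le)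
    fun r hr => mem_C1.2 (h.R_comm hr hρ).symm) (zpowers_le.2 ⟨hρ, self_mem_C1 ρ⟩))
  rw [hk] at h2
  rcases (Nat.dvd_prime Nat.prime_five).1 (Nat.dvd_of_mul_dvd_mul_left (by omega) h2) with rfl | rfl
  · rw [hk, mul_one]
  · exact (h.no15 inf_le_left (hk.trans (by ring))).elim

theorem case_T {E : GD G N} {L' : Subgroup G} (hE : F E L' d) (hT : ρ ∈ E.T) : False := by
  have hd := h.d_pos
  have h1 := ne_one_of_orderOf ho (by decide)
  have hR : ρ ∈ R E := ⟨hT, by rw [ho]; decide⟩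
  have hL := hE.cent ρ hT hR.2 h1
  have hle : R D ≤ L' := fun r hr => hL ▸ mem_C1.2 (h.R_comm hr hρ).symm
  have hi : R E ⊓ R D = ⊥ := eq_bot_iff.2 fun r hr => by_contra fun e => D.t_ne
    (h.no_inv hρ ho hw ht (h.le D.t_T) D.t_sq (mem_C1.1 (by
      rw [hL, ← hE.cent r hr.1.1 hr.1.2 e, h.cent r hr.2.1 hr.2.2 e]; exact h.le D.t_T)).symm)
  have h2 : ♯(R E ⊔ R D) = d * d := by
    rw [H24.card_sup_of_inf (norm_of_cent (le_C_iff.2 fun a ha b hb => hE.R_comm hb (hle ha))) hi,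
      h.cR, hE.cR]
  have hle' : R E ⊔ R D ≤ L' := sup_le (R_le.trans hE.le) hle
  have h3 : d ∣ 15 := by
    have := card_dvd hle'
    rw [h2, hE.cL] at this
    exact (Nat.Coprime.pow_right 2 (Nat.coprime_two_right.2 h.odd)).dvd_of_dvd_mul_left
      (Nat.dvd_of_mul_dvd_mul_right hd this)
  have h4 : 3 ∣ d := by rw [← ho, ← hE.cR]; exact orderOf_dvd_card' hR
  have h5 := h.nd
  have h6 : d = 15 := by
    have := Nat.le_of_dvd (by decide) h3
    interval_cases d <;> omega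
  exact hE.no15 hle' (by rw [h2, h6])

theorem case_W {E : GD G N} (hE : E.Cfg) (hZ : ♯E.Z = 2) (hEt : E.t = D.w) (hW : ρ ∈ E.W) :
    False := by
  have hd := h.d_pos
  have hρZ : ρ ∉ E.Z := fun e => ne_one_of_orderOf ho (by decide)
    (eq_one_of_mem_Z hZ e (by rw [ho]; decide))
  have h3 : ¬ 3 ∣ d := fun e => by
    have h1 := orderOf_dvd_card' hW
    rw [ho, E.cW, hZ] at h1
    exact absurd (N.eq_two_of_dvd Nat.prime_three (h.hm ▸ e.mul_left 2)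
      ((by decide : Nat.Coprime 3 2).dvd_of_dvd_mul_left h1)) (by decide)
  have hd1 : d ≠ 1 := fun e => h.nd (e ▸ one_dvd _)
  have hp := Nat.minFac_prime hd1
  obtain ⟨Q, hQ⟩ := Sylow_exists hp (R D)
  obtain ⟨a, ha, ha1⟩ := exists_ne_one (hQ.ne_bot' ⟨hp, h.cR ▸ Nat.minFac_dvd d⟩)
  have hwM : D.w ∈ C{ρ} := mem_C1.2 hw
  have iso := iso_of_unique (L := C{ρ}) (C := E.W) hE.full
    (fun g hg hH => E.cent_W ρ hW hρZ g hH (mem_C1.1 hg)) (fun y => E.W_inv) (hEt ▸ hwM)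
  rw [hEt] at iso
  have hRO : R D ≤ OC C{ρ} := fun r hr => mem_OC_of_inv hwM D.w_sq
    (fun e => D.w_not (e ▸ one_mem _)) iso (mem_C1.2 (h.R_comm hr hρ).symm) hr.2 (h.w_inv_R hr)
  have hn : ∀ y ∈ L ⊓ C{ρ}, D.w * y * D.w ∈ L ⊓ C{ρ} := fun y hy =>
    ⟨h.w_conj hy.1, mul_mem (mul_mem hwM hy.2) hwM⟩
  have hN : ♯(C{ρ} ⊓ N[Q]) ∣ 2 * (3 * d) := by
    rw [← h.card_cent hρ ho hw ht, ← card_ext2 (hw := D.w_sq) (h := hn) fun e => h.w_not e.1]
    refine card_dvd fun g hg => ?_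
    rcases h.norm_L (h.mem_N (hQ.le ha) ha1 (hQ.le (conj_mem hg.2 ha))) with e | e
    · exact Or.inl ⟨e, hg.1⟩
    · exact Or.inr ⟨e, mul_mem hg.1 hwM⟩
  have hQO : Q ≤ OC C{ρ} := hQ.le.trans hRO
  have hS : Syl d.minFac (OC C{ρ}) Q := by
    refine Sylow_subnorm hp hQO (Syl.mk' hp (le_inf hQO (norm_self Q)) hQ.pi fun e => ?_)
    have h1 := (card_dvd (inf_le_inf_right N[Q] (OC_le C{ρ}))).trans hN
    rw [← card_mul_relIndex (le_inf hQO (norm_self Q)), ← h.cR, ← hQ.card,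
      show 2 * (3 * (♯Q * Q.relIndex (R D))) = ♯Q * (2 * (3 * Q.relIndex (R D))) by ring] at h1
    have h2 := e.trans (Nat.dvd_of_mul_dvd_mul_left (card_pos Q) h1)
    rw [hp.dvd_mul, hp.dvd_mul, Nat.prime_dvd_prime_iff_eq hp Nat.prime_two,
      Nat.prime_dvd_prime_iff_eq hp Nat.prime_three] at h2
    rcases h2 with e | e | e
    · exact h.odd.not_two_dvd_nat (e ▸ Nat.minFac_dvd d)
    · exact h3 (e ▸ Nat.minFac_dvd d)
    · exact hQ.not_dvd hp e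
  have h4 := (Frattini_arg hp ⟨OC_le _, le_N_iff.2 fun g hg x hx => OC_conj' hg hx⟩
    hS).card_dvd.trans (Nat.mul_dvd_mul_left _ hN)
  have h5 : 2 * 2 ∣ ♯(C{ρ}) := by
    refine dvd_trans ?_ (card_dvd fun g hg => mem_C1.2 (E.W_comm g hg ρ hW))
    rw [E.cW, hZ]
    exact Nat.mul_dvd_mul_left 2 N.n_even.two_dvd
  have h6 := h5.trans h4
  rw [mul_left_comm] at h6
  exact ((OC_odd _).mul ((by decide : Odd 3).mul h.odd)).not_two_dvd_nat
    (Nat.dvd_of_mul_dvd_mul_left two_pos h6)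

theorem case_A {E : GD G N} (hE : E.Cfg) (hZ : ♯E.Z = 2) (hEt : E.t = D.w) (hA : ρ ∈ E.A) :
    N.n = N.q + 1 ∧ N.m + 1 = N.q ∧ 27 ≤ N.q ∧ ¬ d ∣ 60 := by
  have hp : N.p = 3 := by
    have h1 := orderOf_dvd_card' hA
    rw [ho, E.cA, hZ] at h1
    exact (N.eq_p_of_dvd Nat.prime_three ((by decide : Nat.Coprime 3 2).dvd_of_dvd_mul_left h1)).symm
  have hX := E.mem_X_of_pow hA (by rw [hp, ← ho, pow_orderOf_eq_one])
  have hB := E.mem_B_of_conj (hE.full D.t (hEt ▸ D.t_comm D.w_mem)) hX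
    (ne_one_of_orderOf ho (by decide)) (by rw [D.t_inv, ht]; exact inv_mem hX)
  rcases N.cases with ⟨-, e1, e2⟩ | ⟨e, -⟩
  swap
  · exact ((E.B_inv e hB D.t_sq).elim D.t_ne fun e => D.w_not (hEt ▸ e ▸ D.t_T)).elim
  have hm := h.hm
  have hq := N.hq
  have hf := N.f_pos
  have h1 := h.nd
  have h2 := Nat.odd_iff.1 h.odd
  have h3 : ¬ 3 ∣ N.m := hp ▸ N.p_not_dvd_m
  rw [hp] at hq
  have h27 : 27 ≤ N.q := by
    by_contra hc
    have : N.f < 3 := by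
      by_contra e
      have := Nat.pow_le_pow_right (show 0 < 3 by decide) (not_lt.1 e)
      omega
    have : d = 1 := by interval_cases N.f <;> omega
    exact h1 (this ▸ one_dvd _)
  refine ⟨e2, e1, h27, fun e => ?_⟩
  have := Nat.le_of_dvd (by decide) e
  have h13 : 13 ≤ d := by omega
  interval_cases d <;> omega

end rho

theorem idx_R : (R D).relIndex L = 60 := by
  have := card_mul_relIndex (R_le.trans h.le)
  rw [h.cR, h.cL, mul_comm 60] at this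
  exact Nat.eq_of_mul_eq_mul_left h.d_pos this

theorem pow_mem_R {c : G} (hc : c ∈ L) : c ^ 60 ∈ R D := by
  have : ((R D).subgroupOf L).Normal :=
    Nml.normal ⟨R_le.trans h.le, norm_of_cent (le_C_iff.2 fun a ha b hb => h.R_comm hb ha)⟩
  exact h.idx_R ▸ ((R D).subgroupOf L).pow_index_mem ⟨c, hc⟩

theorem mul_pow60 {a b : G} (ha : a ∈ L) (hb : b ∈ L) : (a * b) ^ 60 = a ^ 60 * b ^ 60 := by
  have := congrArg Subtype.val (pow_index_mul ((R D).subgroupOf L)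
    (fun r hr g => Subtype.ext (h.R_comm hr g.2)) ⟨a, ha⟩ ⟨b, hb⟩)
  rwa [show ((R D).subgroupOf L).index = 60 from h.idx_R] at this

theorem class_w : {a | a * a = 1 ∧ a * D.w ∈ L} = {x | ∃ g ∈ L, g * D.w * g⁻¹ = x} := by
  have hT : {x | ∃ g ∈ D.T, g * D.w * g⁻¹ = x} = {a | a * a = 1 ∧ a * D.w ∈ D.T} := by
    refine Set.eq_of_subset_of_ncard_le ?_ (le_of_eq ?_)
    · rintro _ ⟨g, hg, rfl⟩
      exact ⟨by simp [mul_assoc, mul_mul_self D.w_sq], by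
        simpa only [mul_assoc] using mul_mem hg (D.w_conj_mem (inv_mem hg))⟩
    · have h1 := ncard_conj_class D.T D.w
      rw [show D.T ⊓ C{D.w} = D.Z from le_antisymm (fun z hz => D.mem_Z_of_comm (D.T_le hz.1)
        (D.T_comm z hz.1 _ D.u_mem) (mem_C1.1 hz.2)) (le_inf D.Z_le_T fun z hz =>
          mem_C1.2 (D.Z_comm z hz _ D.w_mem)), D.cT, mul_comm] at h1
      rw [ncard_J D.T_comm (fun _ => D.w_conj_mem) D.w_sq, Nat.eq_of_mul_eq_mul_left D.Z_pos h1]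
      exact D.cTm
  ext a
  refine ⟨fun ⟨h1, h2⟩ => ?_, ?_⟩
  swap
  · rintro ⟨g, hg, rfl⟩
    exact ⟨by simp [mul_assoc, mul_mul_self D.w_sq], by
      simpa only [mul_assoc] using mul_mem hg (h.w_conj (inv_mem hg))⟩
  have hN : a ∈ N[L] := (mul_mem_cancel_right h.w_N).1 (norm_self L h2)
  have ha1 : a ≠ 1 := fun e => h.w_not (by simpa [e] using h2)
  have ho : orderOf a = 2 := orderOf_eq_prime (by rw [pow_two, h1]) ha1
  obtain ⟨s, hs, e⟩ : ∃ s ∈ {s | s ∈ L ∧ s * s = 1 ∧ s ≠ 1}, a * s = s * a := by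
    by_contra hc
    push Not at hc
    have := card_dvd_of_conj (zpowers a) {s | s ∈ L ∧ s * s = 1 ∧ s ≠ 1}
      (fun g hg x hx => ⟨conj_mem (zpowers_le.2 hN hg) hx.1,
        by simp [mul_assoc, mul_mul_self hx.2.1], fun e => hx.2.2 (conj_eq_one_iff'.1 e)⟩)
      fun g hg x hx e => by_contra fun g1 => hc x hx (mem_C1_comm.1 (by
        rw [← C_eq_C1_of_prime (A := zpowers a) (by rw [card_zpowers', ho]; exact Nat.prime_two)
          (mem_zpowers a) ha1, C_eq_C1_of_prime (A := zpowers a)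
          (by rw [card_zpowers', ho]; exact Nat.prime_two) hg g1]
        exact mem_C1.2 e.symm) |> mem_C1.1)
    rw [h.ncard_I, card_zpowers', ho] at this
    exact absurd this (by decide)
  obtain ⟨l, hl, rfl⟩ := h.conj_t hs.1 hs.2.1 hs.2.2
  have h3 : l⁻¹ * a * l ∈ D.H := h.cfg.full _ (by
    calc _ = l⁻¹ * (a * (l * D.t * l⁻¹)) * l := by group
      _ = _ := by rw [e]; group)
  have h4 : l⁻¹ * a * l * D.w ∈ L := by
    have := mul_mem (mul_mem (inv_mem hl) h2) (h.w_conj hl)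
    simpa only [mul_assoc, mul_mul_self D.w_sq] using this
  obtain ⟨g, hg, e2⟩ : l⁻¹ * a * l ∈ {x | ∃ g ∈ D.T, g * D.w * g⁻¹ = x} := hT ▸
    ⟨by simp [mul_assoc, mul_mul_self h1], h.mem_T D.t_T D.t_sq D.t_ne h4
      (D.t_comm (mul_mem h3 D.w_mem)).symm⟩
  exact ⟨l * g, mul_mem hl (h.le hg), by
    calc _ = l * (g * D.w * g⁻¹) * l⁻¹ := by group
      _ = a := by rw [e2]; group⟩

theorem beta (hn : N.n ≠ 2) (hd : ¬ d ∣ 60) : ∃ x : ℤ, (15 : ℕ) * N.m * N.n * (x - 1) =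
    ({a | a * a = 1 ∧ a * D.w ∈ L}.ncard : ℤ) ^ 2 * (x + 1) := by
  have := Fintype.ofFinite G
  obtain ⟨b, hb, hbo⟩ := h.exists_b
  have hbR : b ∈ R D := hb ▸ mem_zpowers b
  obtain ⟨l, hl, -, h2⟩ := exists_lin (C := R D) (K := ⊥) bot_le (fun a ha b hb => by
    rw [D.T_comm a ha.1 b hb.1]; simp) (pow_mem hbR 60)
    fun e => hd (hbo ▸ orderOf_dvd_of_pow_eq_one (mem_bot.1 e))
  have hl' : Lin L fun c => l (c ^ 60) := hl.comp (one_pow _) (fun a => h.pow_mem_R)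
    fun a ha b hb => h.mul_pow60 ha hb
  have ne1 : ∀ c : G, l (c ^ 60) ≠ 1 → c ^ 60 ≠ 1 := fun c e e' => e (by rw [e', hl.one])
  have cp : ∀ g c : G, (g⁻¹ * c * g) ^ 60 = g⁻¹ * c ^ 60 * g := fun g c => by
    simpa using conj_pow (a := g⁻¹) (b := c) (i := 60)
  have hβ : THyp L D.w fun c => l (c ^ 60) := by
    refine ⟨D.w_sq, fun _ => h.w_conj, h.w_not, hl', fun c hc => ?_,
      ⟨b, h.le hbR.1, fun e => h2 (hl.eq_one_of_odd (pow_mem hbR 60) (pow_mem hbR 60).2 e)⟩,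
      fun c hc e g hc' e' => h.norm_L ?_, fun a ha c hc ha2 e => ?_⟩
    · have := cp D.w c
      rw [D.w_inv', h.w_inv_R (h.pow_mem_R hc)] at this
      rw [this, hl.inv (h.pow_mem_R hc)]
    · refine (inv_mem_iff (H := N[L])).1 (h.mem_N (h.pow_mem_R hc) (ne1 c e) ?_)
      rw [inv_inv, ← cp]; exact h.pow_mem_R hc'
    · have h3 := conj_pow_inv ha2 e 60
      rw [h.R_comm (h.pow_mem_R hc) ha, mul_assoc, ha2, mul_one] at h3
      rw [H21.eq_one_of_sq_of_odd (h.pow_mem_R hc).2 (pow_orderOf_eq_one _)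
        (by nth_rewrite 2 [h3]; simp), hl.one]
  refine h.cfg.beta' hn hβ (fun s _ e => by
    rw [show 60 = 2 * 30 from rfl, pow_mul, pow_two, e, one_pow, hl.one])
    (fun y hy hyZ _ g hc => ?_) h.idx h.le
  by_contra e
  have hR := h.pow_mem_R hc
  have h1 := ne1 _ e
  have hW : (g⁻¹ * y * g) ^ 60 ∈ (D.conj g⁻¹).W := by
    rw [mem_conj_W, cp]; simpa [mul_assoc] using pow_mem hy 60
  obtain ⟨k, hk, e2⟩ := h.conj_t (h.cent _ hR.1 hR.2 h1 ▸ mem_C1.2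
    ((D.conj g⁻¹).W_comm _ (D.conj g⁻¹).t_W _ hW)) (D.conj g⁻¹).t_sq (D.conj g⁻¹).t_ne
  have h3 : k * D.u * k⁻¹ ∈ (D.conj g⁻¹).W := (D.conj g⁻¹).cent_W _ hW
    (fun hz => h1 (eq_one_of_mem_Z (D.card_conj_Z.trans h.cZ) hz hR.2)) _
    (h.cfg.full.conj _ _ (by
      rw [← e2]; exact (Commute.conj (show Commute D.u D.t from D.ut) k).eq))
    (h.R_comm hR (mul_mem (mul_mem hk (h.le D.u_mem)) (inv_mem hk)))
  rcases (D.conj g⁻¹).W_inv h3 (by simp [mul_assoc, mul_mul_self D.u_sq]) with e3 | e3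
  · exact D.u_ne_one (conj_eq_one_iff'.1 e3)
  · exact D.u_ne_t (by simpa using e3.trans e2.symm)

theorem false : False := by
  obtain ⟨ρ, hρ, ho, hw, ht⟩ := h.exists_rho
  obtain ⟨g, hg⟩ := h.cfg.inv_conj D.w_sq fun e => D.w_not (e ▸ one_mem _)
  obtain ⟨k, hk, hc⟩ := (D.conj g).cover' (h.cfg.full.conj g ρ (by rw [GD.conj_t, hg, hw]))
  have hE := (h.conj g).conj k
  have hEt : ((D.conj g).conj k).t = D.w := ((D.conj g).conj_t_eq hk).trans hg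
  rcases hc with hc | hc | hc
  · exact h.case_T hρ ho hw ht hE hc
  · exact h.case_W hρ ho hw ht hE.cfg hE.cZ hEt hc
  obtain ⟨e1, e2, e3, e4⟩ := h.case_A hρ ho hw ht hE.cfg hE.cZ hEt hc
  obtain ⟨x, hx⟩ := h.beta (by omega) e4
  have h1 := ncard_conj_class L D.w
  rw [← h.class_w, h.cL] at h1
  have h2 : 2 ∣ ♯(L ⊓ C{D.w}) := D.orderOf_t ▸ orderOf_dvd_card'
    (show D.t ∈ L ⊓ C{D.w} from ⟨h.le D.t_T, mem_C1.2 (D.t_comm D.w_mem)⟩)
  have h3 : 3 ∣ ♯(L ⊓ C{D.w}) := ho ▸ orderOf_dvd_card'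
    (show ρ ∈ L ⊓ C{D.w} from ⟨hρ, mem_C1.2 hw.symm⟩)
  have h4 : ♯(L ⊓ C{D.w}) ∣ 60 := by
    have hn : R D ⊴ L :=
      ⟨R_le.trans h.le, norm_of_cent (le_C_iff.2 fun a ha b hb => h.R_comm hb ha)⟩
    have := relIndex_dvd_of_nml hn (inf_le_left : L ⊓ C{D.w} ≤ L)
    rw [h.idx_R] at this
    rwa [← card_inf_mul_relIndex (R D), show R D ⊓ (L ⊓ C{D.w}) = ⊥ from eq_bot_iff.2 fun r hr => by
      have h5 := h.w_inv_R hr.1
      rw [← mem_C1.1 hr.2.2, mul_assoc, D.w_sq, mul_one] at h5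
      exact H21.eq_one_of_sq_of_odd hr.1.2 (pow_orderOf_eq_one _) (by nth_rewrite 2 [h5]; simp),
      card_bot, one_mul]
  generalize ♯(L ⊓ C{D.w}) = y at h1 h2 h3 h4
  generalize {a | a * a = 1 ∧ a * D.w ∈ L}.ncard = j at h1 hx
  have hy : y = 6 ∨ y = 12 ∨ y = 30 ∨ y = 60 := by
    have := Nat.le_of_dvd (by decide) h4
    interval_cases y <;> omega
  have hm := h.hm
  have a1 : (j : ℤ) * y = 30 * (N.q - 1) := by
    have : (j : ℤ) * y = 60 * d := by exact_mod_cast h1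
    rw [this]; omega
  have a2 : (N.m : ℤ) = N.q - 1 := by omega
  have a3 : (N.n : ℤ) = N.q + 1 := by omega
  refine final_arith (q := N.q) (y := y) (x := x) (by omega) (by omega)
    (mul_left_cancel₀ (a := 15 * ((N.q : ℤ) - 1)) (by omega) ?_)
  rw [a2, a3] at hx
  push_cast at hx
  linear_combination (y : ℤ) ^ 2 * hx + (x + 1) * ((j : ℤ) * y + 30 * (N.q - 1)) * a1

end F

end GF
end H20
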