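import Mathlib
import Cfsg.Agent.H6.XB
import Cfsg.Agent.H6.XT

/-!
# Large extraspecial subgroups: small tools
-/

set_option autoImplicit false
set_option linter.all false
set_option synthInstance.maxSize 8000

namespace H20.XA

open Subgroup H24 H15 H15.XP Module H6.XS

theorem z2 : ∀ a : ZMod 2, a = 0 ∨ a = 1 := by decide
theorem z1 : ∀ {a : ZMod 2}, a ≠ 0 → a = 1 := by decide
theorem z0 : ∀ {a : ZMod 2}, a ≠ 1 → a = 0 := by decide
theorem zz : ∀ a : ZMod 2, a + a = 0 := by decide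

section lin

variable {V : Type*} [AddCommGroup V] [Module (ZMod 2) V] {q : QuadraticForm (ZMod 2) V}
  {n x y u v : V} {g k : (ofQuad q).Isom}

theorem vv (v : V) : v + v = 0 := by rw [← two_smul (ZMod 2)]; exact zero_smul _ _
theorem vv' (v u : V) : v + (v + u) = u := by rw [← add_assoc, vv, zero_add]
theorem vv'' (v u : V) : u + v + v = u := by rw [add_assoc, vv, add_zero]
theorem aez : u + v = 0 ↔ u = v :=
  ⟨fun e => by rw [← vv'' v u, e, zero_add], fun e => e ▸ vv u⟩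
theorem pp (v : V) : pol q v v = 0 := by rw [pol_self]; exact zero_mul _
theorem qs (a : ZMod 2) (v : V) : q (a • v) = a * q v := by
  rw [quad_smul, (by decide : ∀ a : ZMod 2, a ^ 2 = a)]
theorem mp (g : (ofQuad q).Isom) (x y : V) : pol q (g.1 x) (g.1 y) = pol q x y := Form.Isom.map_pol g x y
theorem mq (g : (ofQuad q).Isom) (x : V) : q (g.1 x) = q x := Form.Isom.map_quad g x

theorem dec (h : pol q n x = 1) (y : V) : pol q n (y + (pol q x y • n + pol q n y • x)) = 0 ∧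
    pol q x (y + (pol q x y • n + pol q n y • x)) = 0 := by
  simp [-ofQuad_B, pp, h, pol_comm q x n, zz]

theorem plane (hq : (ofQuad q).Nondeg) (h : pol q n x = 1)
    (hv : ∀ u, pol q n u = 0 → pol q x u = 0 → pol q u v = 0) : v = pol q x v • n + pol q n v • x := by
  rw [← aez]
  obtain ⟨a1, a2⟩ := dec h v
  refine hq.right _ fun y => ?_
  obtain ⟨b1, b2⟩ := dec h y
  have := hv _ b1 b2
  rw [← vv'' (pol q x y • n + pol q n y • x) y]
  generalize y + (pol q x y • n + pol q n y • x) = y' at b1 b2 this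
  generalize hw : v + (pol q x v • n + pol q n v • x) = w at a1 a2
  show pol q _ w = 0
  rw [map_add, map_add, LinearMap.add_apply, LinearMap.add_apply, map_smul, map_smul,
    LinearMap.smul_apply, LinearMap.smul_apply, a1, a2, ← hw]
  simp [-ofQuad_B, this, pol_comm q y' n, pol_comm q y' x, b1, b2]

/-- `g` fixes the perpendicular space of `n, x` -/
def Fx (n x : V) (g : (ofQuad q).Isom) : Prop := ∀ u, pol q n u = 0 → pol q x u = 0 → g.1 u = u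

theorem Fx.mat (hq : (ofQuad q).Nondeg) (h : pol q n x = 1) (hg : Fx n x g) :
    ∃ a b c d : ZMod 2, ∀ s t : ZMod 2, g.1 (s • n + t • x) = (s * a + t * c) • n + (s * b + t * d) • x := by
  have e1 := plane hq h (v := g.1 n) fun u h1 h2 => by rw [← hg u h1 h2, mp, pol_comm, h1]
  have e2 := plane hq h (v := g.1 x) fun u h1 h2 => by rw [← hg u h1 h2, mp, pol_comm, h2]
  refine ⟨pol q x (g.1 n), pol q n (g.1 n), pol q x (g.1 x), pol q n (g.1 x), fun s t => ?_⟩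
  rw [map_add, map_smul, map_smul]
  nth_rw 1 [e1, e2]
  module

theorem Fx.ext (h : pol q n x = 1) (hg : Fx n x g) (hk : Fx n x k)
    (e : ∀ s t : ZMod 2, g.1 (s • n + t • x) = k.1 (s • n + t • x)) : g = k :=
  Form.Isom.ext fun y => by
    obtain ⟨b1, b2⟩ := dec h y
    rw [← vv'' (pol q x y • n + pol q n y • x) y, map_add, map_add k.1, e, hg _ b1 b2, hk _ b1 b2]

theorem co (h : pol q n x = 1) {a b c d : ZMod 2} (e : a • n + b • x = c • n + d • x) :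
    a = c ∧ b = d := by
  have e1 := congrArg (pol q x) e
  have e2 := congrArg (pol q n) e
  simpa [-ofQuad_B, pp, h, pol_comm q x n] using And.intro e1 e2

theorem qco (h : pol q n x = 1) (a b : ZMod 2) : q (a • n + b • x) = a * q n + b * q x + a * b := by
  rw [quad_add, qs, qs]; simp [-ofQuad_B, h, mul_comm]

theorem pco (h : pol q n x = 1) (a b c d : ZMod 2) :
    pol q (a • n + b • x) (c • n + d • x) = a * d + b * c := by
  simp [-ofQuad_B, pp, h, pol_comm q x n]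

theorem odd3 {W : Type*} [AddCommGroup W] [Module (ZMod 2) W] [Finite W] (hW : finrank (ZMod 2) W = 3)
    (b : W →ₗ[ZMod 2] W →ₗ[ZMod 2] ZMod 2) (hs : ∀ x y, b x y = b y x)
    (hn : ∀ x, (∀ y, b x y = 0) → x = 0) : (∃ x, b x x = 1) ∧
      ∀ x, b x x = 0 → (∀ y, b y y = 0 → b y x = 0) → x = 0 := by
  let e := Module.finBasisOfFinrankEq (ZMod 2) W hW
  have h1 : ∀ x, ∃ a b c : ZMod 2, x = a • e 0 + b • e 1 + c • e 2 := fun x =>
    ⟨_, _, _, by nth_rw 1 [← e.sum_repr x, Fin.sum_univ_three]⟩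
  have h2 : ∀ a b c : ZMod 2, a • e 0 + b • e 1 + c • e 2 = 0 → a = 0 ∧ b = 0 ∧ c = 0 := fun a b c h => by
    have h0 := congrArg (e.repr · 0) h
    have h1 := congrArg (e.repr · 1) h
    have h2 := congrArg (e.repr · 2) h
    simpa using And.intro h0 (And.intro h1 h2)
  have h3 : ∀ x y z x' y' z' : ZMod 2, b (x • e 0 + y • e 1 + z • e 2) (x' • e 0 + y' • e 1 + z' • e 2) =
      x * x' * b (e 0) (e 0) + y * y' * b (e 1) (e 1) + z * z' * b (e 2) (e 2) +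
      (x * y' + y * x') * b (e 0) (e 1) + (x * z' + z * x') * b (e 0) (e 2) +
      (y * z' + z * y') * b (e 1) (e 2) := fun x y z x' y' z' => by
    simp [hs (e 1) (e 0), hs (e 2) (e 0), hs (e 2) (e 1)]; ring
  have key : ∀ a b c d e f : ZMod 2, let B := fun x y z x' y' z' : ZMod 2 => x * x' * a + y * y' * b +
      z * z' * c + (x * y' + y * x') * d + (x * z' + z * x') * e + (y * z' + z * y') * f
      (∀ x y z, (∀ x' y' z', B x y z x' y' z' = 0) → x = 0 ∧ y = 0 ∧ z = 0) →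
      (∃ x y z, B x y z x y z = 1) ∧ ∀ x y z, B x y z x y z = 0 →
        (∀ x' y' z', B x' y' z' x' y' z' = 0 → B x' y' z' x y z = 0) → x = 0 ∧ y = 0 ∧ z = 0 := by
    decide +kernel
  obtain ⟨⟨x, y, z, k1⟩, k2⟩ := key (b (e 0) (e 0)) (b (e 1) (e 1)) (b (e 2) (e 2)) (b (e 0) (e 1))
    (b (e 0) (e 2)) (b (e 1) (e 2)) fun x y z h => h2 x y z (hn _ fun w => by
      obtain ⟨x', y', z', rfl⟩ := h1 w
      rw [h3]; exact h x' y' z')
  refine ⟨⟨_, (h3 ..).trans k1⟩, fun w a1 a2 => ?_⟩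
  obtain ⟨x, y, z, rfl⟩ := h1 w
  obtain ⟨rfl, rfl, rfl⟩ := k2 x y z ((h3 ..).symm.trans a1) fun x' y' z' c =>
    (h3 ..).symm.trans (a2 _ ((h3 ..).trans c))
  simp

end lin

variable {G : Type*} [Group G] [Finite G] {D : Set G} {Q : G → Subgroup G} {w : ℕ} {z : G}
  {V : Type*} [AddCommGroup V] [Module (ZMod 2) V] [Finite V] (F : Fr z (Q z) V)
  (h : Sit D Q w) (hz : z ∈ D) {x y a b c d t : G}
include h hz

theorem cQ (ht : t ∈ C{z}) (ha : a ∈ Q z) : t * a * t⁻¹ ∈ Q z := conj_mem (h.norm hz ht) ha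

theorem zc (ht : t ∈ C{z}) : t * (z * a) * t⁻¹ = z * (t * a * t⁻¹) := by
  rw [← mul_assoc, mem_C1.1 ht]; group

theorem cj_or (t : C{z}) (ha : a ∈ Q z) (e : (F.ρ t).1 (F.π a) = F.π a) :
    t * a * (t : G)⁻¹ = a ∨ t * a * (t : G)⁻¹ = z * a := by
  rwa [F.ρ_π t a ha, F.π_eq h hz (cQ h hz t.2 ha) ha] at e

theorem ρ_fix (t : C{z}) (ha : a ∈ Q z) (e : t * a = a * t) : (F.ρ t).1 (F.π a) = F.π a := by
  rw [F.ρ_π t a ha, e, mul_inv_cancel_right]

theorem ρ_mul (t : C{z}) (hy : y ∈ Q z) : F.ρ (t * ⟨y, h.le hz hy⟩) = F.ρ t := by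
  rw [map_mul, (F.ker ⟨y, _⟩).2 hy, mul_one]

theorem adj (t : C{z}) (W : Submodule (ZMod 2) V) (hW : ∀ v ∈ W, (F.ρ t).1 v = v) :
    ∃ s : C{z}, F.ρ s = F.ρ t ∧ (∃ y ∈ Q z, (s : G) = t * y) ∧
      ∀ a ∈ Q z, F.π a ∈ W → s * a = a * s := by
  by_cases h0 : ∀ a ∈ Q z, F.π a ∈ W → t * a = a * t
  · exact ⟨t, rfl, ⟨1, one_mem _, (mul_one _).symm⟩, h0⟩
  push Not at h0
  obtain ⟨b, b1, b2, b3⟩ := h0
  have b4 := (cj_or F h hz t b1 (hW _ b2)).resolve_left fun e => b3 (mul_inv_eq_iff_eq_mul.1 e)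
  obtain ⟨v, v1, v2⟩ := F.nondeg.exists_perp_eq_one (H := F.im C{(t : G)}) (u := F.π b) (by
    rintro ⟨a, a1, a2, e⟩
    rcases (F.π_eq h hz a2 b1).1 e with rfl | rfl
    · exact b3 (mem_C1.1 a1).symm
    · exact b3 (mem_C1.1 ((mul_mem_cancel_left (mem_C1_comm.1 t.2)).1 a1)).symm)
  obtain ⟨y, y1, rfl⟩ := F.π_surj v
  refine ⟨t * ⟨y, h.le hz y1⟩, ρ_mul F h hz t y1, ⟨y, y1, rfl⟩, fun a a1 a2 => ?_⟩
  show t * y * a = a * (t * y)
  rcases cj_or F h hz t a1 (hW _ a2) with e | e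
  · have e' := mul_inv_eq_iff_eq_mul.1 e
    rw [mul_assoc, (F.pol_π y y1 a a1).1 (v1 _ ⟨a, mem_C1.2 e'.symm, a1, rfl⟩), ← mul_assoc, e', mul_assoc]
  · have := v1 _ ⟨a * b, mem_C1_comm.1 (mem_C1_iff_conj.2 (by
      rw [show (t : G) * (a * b) * (t : G)⁻¹ = t * a * (t : G)⁻¹ * (t * b * (t : G)⁻¹) by group, e, b4,
        mul_assoc z, ← mul_assoc a, mem_C1.1 (h.le hz a1), ← mul_assoc, ← mul_assoc,
        h.sq hz, one_mul])), mul_mem a1 b1, rfl⟩
    rw [F.π_mul a a1 b b1, map_add, v2] at this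
    have := (F.pol_one h hz y1 a1).1 ((by decide : ∀ a : ZMod 2, a + 1 = 0 → a = 1) _ this)
    rw [← mul_inv_eq_iff_eq_mul, show (t : G) * y * a * (t * y)⁻¹ = t * (y * a * y⁻¹) * (t : G)⁻¹ by group,
      this, zc h hz t.2, e, ← mul_assoc, h.sq hz, one_mul]

theorem tf [IsSimpleGroup G] (K : Subgroup (ofQuad F.q).Isom)
    (hK : ∀ a b : C{z}, F.ρ a ∉ K → F.ρ b ∉ K → F.ρ a * F.ρ b ∈ K) (x : C{z}) (hx : F.ρ x ∉ K)
    (h2 : (x : G) * x = 1 ∨ ((x : G) * x = z ∧ ∀ d : C{z}, (d : G) ∈ D → F.ρ d ∈ K)) :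
    ∃ d ∈ D, d ≠ z ∧ d ∈ C{z} ∧ d * x = x * d ∧ ∀ y ∈ Q z, x * y = y * x → d * y = y * d := by
  have hm : ∀ g : C{z}, (g : G) ∈ (K.comap F.ρ).map C{z}.subtype ↔ F.ρ g ∈ K := fun g =>
    mem_map_iff_mem C{z}.subtype_injective
  obtain ⟨g, g1, g2⟩ := transfer_fix (h.index_ne_two hz) (h.odd_index hz)
    (M0 := (K.comap F.ρ).map C{z}.subtype) (T := Q z ⊓ C{(x : G)}) (map_subtype_le _)
    (relIndex_eq_two_iff_exists_notMem_and.2 ⟨x, x.2, fun c => hx ((hm x).1 c), fun b hb => by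
      by_cases c : F.ρ ⟨b, hb⟩ ∈ K
      · exact Or.inr ((hm ⟨b, hb⟩).2 c)
      · exact Or.inl ((hm (⟨b, hb⟩ * x)).2 (by rw [map_mul]; exact hK _ _ c hx))⟩) x.2
    (fun c => hx ((hm x).1 c)) (by
      rw [show (x : G) ^ 4 = x * x * (x * x) by simp [pow_succ, mul_assoc]]
      rcases h2 with e | e
      exacts [by rw [e, one_mul], by rw [e.1, h.sq hz]]) (fun g c => by
      rcases h2 with e | e
      · rw [e, mul_one, mul_inv_cancel]; exact one_mem _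
      · exact (hm ⟨_, c⟩).2 (e.2 _ (show g * (x * x) * g⁻¹ ∈ D by rw [e.1]; exact h.conj z hz g)))
    ((h.two hz).to_le inf_le_left) inf_le_right
  have cm : ∀ {y}, g * y * g⁻¹ ∈ C{z} → g⁻¹ * z * g⁻¹⁻¹ * y = y * (g⁻¹ * z * g⁻¹⁻¹) := fun {y} c => by
    calc _ = g⁻¹ * (z * (g * y * g⁻¹)) * g := by group
      _ = _ := by rw [← mem_C1.1 c]; group
  refine ⟨_, h.conj z hz g⁻¹, fun e => ?_, mem_C1.2 (cm (g2 (conj_mem_cj g ⟨h.mem hz,
    mem_C1_comm.1 x.2⟩))), cm (map_subtype_le _ g1), fun y y1 y2 =>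
    cm (g2 (conj_mem_cj g ⟨y1, mem_C1.2 y2.symm⟩))⟩
  have g3 : g ∈ C{z} := inv_mem_iff.1 (mem_C1_iff_conj.2 e)
  have g4 := (hm (⟨g, g3⟩ * x * ⟨g, g3⟩⁻¹)).1 g1
  rw [map_mul, map_mul, map_inv] at g4
  by_cases c : F.ρ ⟨g, g3⟩ ∈ K
  · exact hx ((mul_mem_cancel_left c).1 ((mul_mem_cancel_right (inv_mem c)).1 g4))
  · exact c (inv_mem_iff.1 ((mul_mem_cancel_left (hK _ _ c hx)).1 g4))

theorem small (hd : d ∈ D) (hdz : d ∈ C{z}) (hB : ∀ b ∈ Q d, b ∈ C{z} → b = 1 ∨ b = d) : False := by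
  have h1 := h.card_cent hd (h.sq hz) (mem_C1_comm.1 hdz)
  have h2 : Nat.card ↥(Q d ⊓ C{z}) ≤ Nat.card (zpowers d) :=
    card_le_of_le fun b hb => (h.mem_zp hd).2 (hB b hb.1 hb.2)
  rw [Nat.card_zpowers, h.ord hd] at h2
  have h3 := Nat.pow_le_pow_right two_pos h.two_le
  omega

theorem comm_of_bot (hd : d ∈ D) (hI : ∀ i ∈ Q z, i ∈ Q d → i = 1) (ha : a ∈ Q z) (had : a ∈ C{d})
    (hb : b ∈ Q d) (hbz : b ∈ C{z}) : b * a = a * b := by
  have := hI (b * a * b⁻¹ * a⁻¹) (mul_mem (cQ h hz hbz ha) (inv_mem ha)) (by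
    rw [show b * a * b⁻¹ * a⁻¹ = b * (a * b⁻¹ * a⁻¹) by group]
    exact mul_mem hb (cQ h hd had (inv_mem hb)))
  rwa [mul_inv_eq_one, mul_inv_eq_iff_eq_mul] at this

end H20.XA
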