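import Mathlib
import Cfsg.Agent.H6.XB
import Cfsg.Agent.H6.L52Cent
import Cfsg.Agent.H1.Gaschutz

/-! The centraliser of a transvection in `L₅(2)` as an affine group -/

set_option autoImplicit false
set_option linter.unusedSectionVars false

namespace H20.XA

open Subgroup H24 Module H6.XS

theorem tv5 {M : Type*} [Group M] [Finite M] {W : Type*} [AddCommGroup W] [Module (ZMod 2) W] [Finite W]
    (hW : finrank (ZMod 2) W = 5) (ψ : M →* Module.End (ZMod 2) W) (hi : Function.Injective ψ) {z : M}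
    (hz : ∀ m, m * z = z * m) {p : W} {f : W →ₗ[ZMod 2] ZMod 2} (hp : p ≠ 0) (hf : f ≠ 0) (h0 : f p = 0)
    (ht : ∀ x, ψ z x = x + f x • p) (hc : Nat.card M = 21504) (s : Matrix.SpecialLinearGroup (Fin 5) (ZMod 2))
    (hs : (s : Matrix (Fin 5) (Fin 5) (ZMod 2)) = Matrix.transvection 0 1 1) : Nonempty (M ≃* C{s}) := by
  obtain ⟨n, b, i, j, ij, rfl, rfl⟩ := exists_basis_of_pairing_eq_zero h0 hf hp
  let _ : Fintype n := Fintype.ofFinite n
  let e := Fintype.equivFinOfCardEq ((finrank_eq_card_basis b).symm.trans hW)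
  obtain ⟨σ, s1, s2⟩ : ∃ σ : Equiv.Perm (Fin 5), σ (e i) = 0 ∧ σ (e j) = 1 := by
    have : e i ≠ e j := fun k => ij (e.injective k)
    refine ⟨Equiv.swap (Equiv.swap (e i) 0 (e j)) 1 * Equiv.swap (e i) 0, ?_⟩
    revert this; generalize e i = a; generalize e j = c; decide +revert
  let c := b.reindex (e.trans σ)
  have c0 : c 0 = b i := by rw [Basis.reindex_apply, ← s1]; exact congrArg b ((e.trans σ).symm_apply_apply i)
  have c1 : ∀ x, b.coord j x = c.repr x 1 := fun x => by
    rw [Basis.repr_reindex_apply, ← s2]; exact congrArg (b.repr x) ((e.trans σ).symm_apply_apply j).symm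
  let φ : M →* Matrix (Fin 5) (Fin 5) (ZMod 2) := (LinearMap.toMatrixAlgEquiv c).toMulEquiv.toMonoidHom.comp ψ
  have d1 : ∀ m, (φ m).det = 1 := fun m => by
    have : (φ m).det * (φ m⁻¹).det = 1 := by rw [← Matrix.det_mul, ← map_mul, mul_inv_cancel, map_one, Matrix.det_one]
    revert this; generalize (φ m).det = x; generalize (φ m⁻¹).det = y; decide +revert
  have d2 : φ z = s := by
    rw [hs]
    ext k l
    change LinearMap.toMatrixAlgEquiv c (ψ z) k l = _
    rw [LinearMap.toMatrixAlgEquiv_apply, ht, c1, ← c0]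
    simp only [map_add, map_smul, Basis.repr_self, Finsupp.add_apply, Finsupp.smul_apply, Finsupp.single_apply,
      Matrix.transvection, Matrix.add_apply, Matrix.one_apply, Matrix.single_apply, smul_eq_mul]
    clear * -; decide +revert
  let χ : M →* C{s} :=
    { toFun := fun m => ⟨⟨φ m, d1 m⟩, mem_C1.2 (Subtype.ext (by
        change φ m * s = s * φ m
        rw [← d2, ← map_mul, hz, map_mul]))⟩
      map_one' := Subtype.ext (Subtype.ext (map_one φ))
      map_mul' := fun x y => Subtype.ext (Subtype.ext (map_mul φ x y)) }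
  exact ⟨MulEquiv.ofBijective χ ((Nat.bijective_iff_injective_and_card _).2 ⟨fun x y k =>
    hi ((LinearMap.toMatrixAlgEquiv c).injective (congrArg (fun t : C{s} => t.1.1) k)),
    hc.trans (H6.card_centralizer_transvection s hs).symm⟩)⟩

theorem aff5 {M : Type*} [Group M] [Finite M] {U K : Subgroup M} [U.Normal] (hU : EA U) (h16 : Nat.card U = 16)
    (hK : IsComplement' U K) (hC : C[U] ≤ U) {z : M} (zU : z ∈ U) (z1 : z ≠ 1) (hz : ∀ m, m * z = z * m)
    (hc : Nat.card M = 21504) (s : Matrix.SpecialLinearGroup (Fin 5) (ZMod 2))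
    (hs : (s : Matrix (Fin 5) (Fin 5) (ZMod 2)) = Matrix.transvection 0 1 1) : Nonempty (M ≃* C{s}) := by
  let _ : CommGroup U := { (inferInstance : Group U) with mul_comm := fun a b => Subtype.ext (hU.comm a.2 b.2) }
  let _ : Module (ZMod 2) (Additive U) := AddCommGroup.zmodModule fun x => by
    rw [two_nsmul]; exact Subtype.ext (hU _ x.toMul.2)
  have hδ : ∀ m : M, ∃ u : U, (u : M)⁻¹ * m ∈ K := fun m => by
    obtain ⟨⟨u, k⟩, rfl⟩ := hK.2 m
    exact ⟨u, by simp⟩
  choose δ hδ using hδ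
  have un : ∀ (m : M) (u : U), (u : M)⁻¹ * m ∈ K → δ m = u := fun m u k => Subtype.ext (by
    have := hK.disjoint.le_bot (mem_inf.2 ⟨mul_mem (inv_mem u.2) (δ m).2,
      by simpa [mul_assoc] using mul_mem k (inv_mem (hδ m))⟩)
    exact (inv_mul_eq_one.1 this).symm)
  have dm : ∀ m n : M, δ (m * n) = H1.conjN U m (δ n) * δ m := fun m n => un _ _ (by
    convert mul_mem (hδ m) (hδ n) using 1
    rw [coe_mul, H1.coe_conjN]; group)
  have du : ∀ u : U, δ u = u := fun u => un _ _ (by simp)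
  let cn : M → Additive U →ₗ[ZMod 2] Additive U := fun m =>
    AddMonoidHom.toZModLinearMap 2 (MonoidHom.toAdditive (H1.conjN U m))
  have c1 : ∀ m n x, cn (m * n) x = cn m (cn n x) := fun m n x => H1.conjN_mul U m n _
  have c2 : ∀ (u : U) x, cn u x = x := fun u x => Subtype.ext (by
    change (u : M) * x.toMul * (u : M)⁻¹ = x.toMul
    rw [hU.comm u.2 x.toMul.2, mul_inv_cancel_right])
  let ψ0 : M → Module.End (ZMod 2) (Additive U × ZMod 2) := fun m =>
    ((cn m).coprod (LinearMap.toSpanSingleton _ _ (Additive.ofMul (δ m)))).prod (LinearMap.snd _ _ _)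
  have p0 : ∀ m x, ψ0 m x = (cn m x.1 + x.2 • Additive.ofMul (δ m), x.2) := fun _ _ => rfl
  let ψ : M →* Module.End (ZMod 2) (Additive U × ZMod 2) :=
    { toFun := ψ0
      map_one' := LinearMap.ext fun x => by
        rw [p0, show (1 : M) = (1 : U) from rfl, c2, du]; simp
      map_mul' := fun m n => LinearMap.ext fun x => by
        rw [Module.End.mul_apply, p0, p0, p0, dm, c1, map_add, map_smul, ofMul_mul, smul_add, add_assoc]; rfl }
  have fr : finrank (ZMod 2) (Additive U) = 4 := by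
    have := Module.natCard_eq_pow_finrank (K := ZMod 2) (V := Additive U)
    rw [Nat.card_zmod, show Nat.card (Additive U) = 2 ^ 4 from h16] at this
    exact (Nat.pow_right_injective le_rfl this).symm
  refine tv5 (by rw [finrank_prod, fr, finrank_self]) ψ (fun m n e => ?_) hz
    (p := (Additive.ofMul ⟨z, zU⟩, 0)) (f := LinearMap.snd _ _ _)
    (fun e => z1 (congrArg (fun t : Additive U × ZMod 2 => (t.1.toMul : M)) e))
    (fun e => one_ne_zero (congrArg (· ((0 : Additive U), (1 : ZMod 2))) e)) rfl (fun x => ?_) hc s hs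
  · have k : ψ (n⁻¹ * m) = 1 := by rw [map_mul, e, ← map_mul, inv_mul_cancel, map_one]
    have k1 : n⁻¹ * m ∈ U := hC (mem_C'.2 fun a ha => mul_inv_eq_iff_eq_mul.1 (by
      have := (p0 _ _).symm.trans (LinearMap.congr_fun k (Additive.ofMul ⟨a, ha⟩, 0))
      rw [zero_smul, add_zero] at this
      exact congrArg (fun t : Additive U × ZMod 2 => (t.1.toMul : M)) this))
    have := (p0 _ _).symm.trans (LinearMap.congr_fun k (0, 1))
    rw [map_zero, zero_add, one_smul, show n⁻¹ * m = (⟨_, k1⟩ : U) from rfl, du] at this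
    exact (inv_mul_eq_one.1 (congrArg (fun t : Additive U × ZMod 2 => (t.1.toMul : M)) this)).symm
  · refine (p0 _ _).trans ?_
    rw [c2 ⟨z, zU⟩, du ⟨z, zU⟩]
    ext <;> simp

theorem split5 {G : Type*} [Group G] [Finite G] {M U K : Subgroup G} (hM : U ≤ M) (hN : M ≤ N[U]) (hU : EA U)
    (h16 : Nat.card U = 16) (hK : K ≤ M) (hi : U ⊓ K = ⊥) (h64 : Nat.card K = 64) (hC : M ⊓ C[U] ≤ U) {z : G}
    (zU : z ∈ U) (z1 : z ≠ 1) (hz : M ≤ C{z}) (hc : Nat.card M = 21504)
    (s : Matrix.SpecialLinearGroup (Fin 5) (ZMod 2))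
    (hs : (s : Matrix (Fin 5) (Fin 5) (ZMod 2)) = Matrix.transvection 0 1 1) : Nonempty (M ≃* C{s}) := by
  have := Nml.normal (K := U) (H := M) ⟨hM, hN⟩
  have e : EA (U.subgroupOf M) := fun x hx => Subtype.ext (hU x hx)
  have : IsMulCommutative (U.subgroupOf M) := ⟨⟨fun a b => Subtype.ext (e.comm a.2 b.2)⟩⟩
  have c := (card_subgroupOf_of_le hM).trans h16
  obtain ⟨L, hL⟩ := H1.gaschutz_exists (U.subgroupOf M) ((U ⊔ K).subgroupOf M)
    (subgroupOf_mono _ le_sup_left) (by
      have := card_mul_relIndex (sup_le hM hK)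
      rw [card_sup_of_inf (hK.trans hN) hi, h16, h64, hc] at this
      rw [c, show ((U ⊔ K).subgroupOf M).index = 21 by change (U ⊔ K).relIndex M = 21; omega]; decide)
    (K.subgroupOf M) (eq_bot_iff.2 fun x hx => Subtype.ext (hi.le ⟨hx.2, hx.1⟩)) (subgroupOf_sup hM hK).symm
  exact aff5 e c hL (fun x hx => hC ⟨x.2, mem_C'.2 fun a ha =>
    congrArg Subtype.val (mem_C'.1 hx ⟨a, hM ha⟩ ha)⟩) (z := ⟨z, hM zU⟩) zU
    (fun k => z1 (congrArg Subtype.val k)) (fun m => Subtype.ext (mem_C1.1 (hz m.2))) hc s hs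

end H20.XA
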