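import Mathlib
import Cfsg.Agent.H6.XV0
import Cfsg.Agent.H6.XV1
import Cfsg.Agent.H20.XA0

/-!
# Width three, plus type: coordinates
-/

set_option autoImplicit false
set_option linter.all false
set_option synthInstance.maxSize 8000

namespace H20.XA

open Subgroup H24 H15 H15.XP Module H6.XS

abbrev T3 := ZMod 2 × ZMod 2 × ZMod 2

/-- cross product -/
def cr (u s : T3) : T3 :=
  (s.2.2 * u.2.1 + u.2.2 * s.2.1, s.2.2 * u.1 + u.2.2 * s.1, s.2.1 * u.1 + u.2.1 * s.1)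

section lin

variable {V : Type*} [AddCommGroup V] [Module (ZMod 2) V] [Finite V] {q : QuadraticForm (ZMod 2) V}

theorem la (hq : (ofQuad q).Nondeg) (hd : finrank (ZMod 2) V = 2 * 3) {A : Submodule (ZMod 2) V}
    (hA : TS q A) (h3 : finrank (ZMod 2) A = 3) : ∃ (c : V → T3) (ψ : (ofQuad q).Isom → T3),
      (∀ a b, c (a + b) = c a + c b) ∧ (∀ a ∈ A, c a = 0 → a = 0) ∧ (∀ t, ∃ a ∈ A, c a = t) ∧
      (∀ g g' : (ofQuad q).Isom, (∀ a ∈ A, g.1 a = a) → (∀ a ∈ A, g'.1 a = a) →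
        ψ (g * g') = ψ g + ψ g') ∧
      (∀ g : (ofQuad q).Isom, (∀ a ∈ A, g.1 a = a) → ψ g = 0 → g = 1) ∧
      ∀ u ∈ A, ∀ s ∈ A, ∀ g, Ei u s g → ψ g = cr (c u) (c s) := by
  obtain ⟨e, f, H, rfl⟩ := hq.exists_hyp_of_totSing ((totSing_ofQuad _).2 hA) h3
  have ef : ∀ i j, pol q (e i) (f j) = if i = j then 1 else 0 := H.ef
  have fe : ∀ i j, pol q (f j) (e i) = if i = j then 1 else 0 := fun i j => (pol_comm ..).trans (ef i j)
  have ff : ∀ i j, pol q (f i) (f j) = 0 := H.ff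
  have ee : ∀ i j, pol q (e i) (e j) = 0 := H.ee
  have me : ∀ i, e i ∈ Submodule.span (ZMod 2) (Set.range e) := fun i => Submodule.subset_span ⟨i, rfl⟩
  have h0 : ∀ a ∈ Submodule.span (ZMod 2) (Set.range e), (∀ i, pol q (f i) a = 0) → a = 0 := fun a h1 h2 => by
    obtain ⟨k, rfl⟩ := (Submodule.mem_span_range_iff_exists_fun _).1 h1
    have : ∀ i, k i = 0 := fun i => by simpa [-ofQuad_B, fe] using h2 i
    simp [this]
  have pA : ∀ v, (∀ i, pol q (e i) v = 0) → v ∈ Submodule.span (ZMod 2) (Set.range e) := fun v h =>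
    H28.XL.perp_self hq (fun a h b h' => H28.XL.ts_pol hA h h') (by rw [hd, h3]) fun a c =>
      (Form.mem_perp_span _).2 (by rintro _ ⟨i, rfl⟩; exact h i) a c
  have gA : ∀ g : (ofQuad q).Isom, (∀ a ∈ Submodule.span (ZMod 2) (Set.range e), g.1 a = a) →
      ∀ v, g.1 v + v ∈ Submodule.span (ZMod 2) (Set.range e) := fun g hg v => pA _ fun i => by
    rw [map_add]; nth_rw 1 [← hg _ (me i)]; rw [mp, zz]
  refine ⟨fun v => (pol q (f 0) v, pol q (f 1) v, pol q (f 2) v),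
    fun g => (pol q (f 1) (g.1 (f 2)), pol q (f 0) (g.1 (f 2)), pol q (f 0) (g.1 (f 1))),
    fun a b => by simp [-ofQuad_B], fun a h1 h2 => h0 a h1 fun i => ?_, fun t =>
    ⟨t.1 • e 0 + t.2.1 • e 1 + t.2.2 • e 2, add_mem (add_mem (Submodule.smul_mem _ _ (me _))
      (Submodule.smul_mem _ _ (me _))) (Submodule.smul_mem _ _ (me _)), by simp [-ofQuad_B, fe]⟩,
    fun g g' h1 h2 => ?_, fun g h1 h2 => ?_, fun u h1 s h2 g h => ?_⟩
  · simp only [Prod.mk_eq_zero] at h2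
    fin_cases i
    exacts [h2.1, h2.2.1, h2.2.2]
  · have : ∀ i j, pol q (f i) ((g * g').1 (f j)) = pol q (f i) (g.1 (f j)) + pol q (f i) (g'.1 (f j)) :=
      fun i j => by
        rw [Form.Isom.mul_apply]
        nth_rw 1 [← vv'' (f j) (g'.1 (f j))]
        rw [map_add g.1, h1 _ (gA g' h2 _), map_add, map_add, ff, add_zero, add_comm]
    simp only [this, Prod.mk_add_mk]
  · have a1 : ∀ v, pol q v (g.1 v) = 0 := fun v => by
      have := quad_add q (g.1 v) v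
      rwa [hA _ (gA g h1 v), mq, zz, zero_add, pol_comm, eq_comm] at this
    have a2 : ∀ v w, pol q v (g.1 w) = pol q w (g.1 v) := fun v w => by
      have := a1 (v + w)
      simp only [map_add, LinearMap.add_apply, a1, zero_add, add_zero] at this
      exact (H28.XL.z2eq this).symm
    simp only [Prod.mk_eq_zero] at h2
    have a3 : ∀ j, g.1 (f j) = f j := fun j => aez.1 (h0 _ (gA g h1 _) fun i => by
      rw [map_add, ff, add_zero]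
      fin_cases i <;> fin_cases j
      exacts [a1 _, h2.2.2, h2.2.1, (a2 ..).trans h2.2.2, a1 _, h2.1, (a2 ..).trans h2.2.1,
        (a2 ..).trans h2.1, a1 _])
    refine Form.Isom.ext fun v => ?_
    have := h1 _ (pA (v + ∑ i, pol q (e i) v • f i) fun i => by simp [-ofQuad_B, ef, zz])
    simpa [a3] using this
  · have : ∀ i j, pol q (f i) (g.1 (f j)) = pol q (f j) s * pol q (f i) u + pol q (f j) u * pol q (f i) s :=
      fun i j => by rw [h, hA s h2]; simp [-ofQuad_B, ff, pol_comm q s, pol_comm q u]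
    simp only [this, cr]

end lin

variable {G : Type*} [Group G] [Finite G] {D : Set G} {Q : G → Subgroup G} {w : ℕ} {z : G}
  (h : Sit D Q w) {x x' y a b c c' d v t : G}
  (h2 : ∀ d ∈ D, ∀ v ∈ D, v ∈ Q d → v ≠ d → Q d ⊓ Q v ≤ zpowers d ⊔ zpowers v)
include h h2

theorem four (hz : z ∈ D) (hv : v ∈ D) (hm : v ∈ Q z) (hne : v ≠ z) (h1 : a ∈ Q z) (h1' : a ∈ Q v) :
    a = 1 ∨ a = z ∨ a = v ∨ a = z * v := by
  have := h2 z hz v hv hm hne ⟨h1, h1'⟩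
  rw [← SetLike.mem_coe, coe_mul_of_left_le_normalizer_right _ _ (norm_zpowers_of_cent
    (zpowers_le.2 (mem_C1_comm.1 (h.le hz hm))))] at this
  obtain ⟨s, s1, t, t1, rfl⟩ := this
  rcases (h.mem_zp hz).1 s1 with rfl | rfl <;> rcases (h.mem_zp hv).1 t1 with rfl | rfl <;> simp

theorem swp (hz : z ∈ D) (hv : v ∈ D) (hm : v ∈ Q z) (hx : x ∈ Q z) (e : x * v * x⁻¹ = z * v)
    (hx' : x' ∈ Q v) (e' : x' * z * x'⁻¹ = v * z) : x⁻¹ * x' * z * (x⁻¹ * x')⁻¹ = v ∧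
      x⁻¹ * x' * (z * v) * (x⁻¹ * x')⁻¹ = z := by
  have cm := mem_C1.1 (h.le hz hm)
  have e1 : x⁻¹ * x' * z * (x⁻¹ * x')⁻¹ = v := by
    rw [show x⁻¹ * x' * z * (x⁻¹ * x')⁻¹ = x⁻¹ * (x' * z * x'⁻¹) * x⁻¹⁻¹ by group, e',
      show x⁻¹ * (v * z) * x⁻¹⁻¹ = x⁻¹ * v * x⁻¹⁻¹ * (x⁻¹ * z * x⁻¹⁻¹) by group,
      h.cj_inv hz hm hx e, mem_C1_iff_conj.1 (h.le hz (inv_mem hx)), mul_assoc, cm, ← mul_assoc,
      h.sq hz, one_mul]
  refine ⟨e1, ?_⟩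
  rw [show x⁻¹ * x' * (z * v) * (x⁻¹ * x')⁻¹ = x⁻¹ * x' * z * (x⁻¹ * x')⁻¹ *
    (x⁻¹ * (x' * v * x'⁻¹) * x⁻¹⁻¹) by group, e1, mem_C1_iff_conj.1 (h.le hv hx'),
    h.cj_inv hz hm hx e, ← mul_assoc, cm, mul_assoc, h.sq hv, mul_one]

theorem st0 (hz : z ∈ D) (hv : v ∈ D) (hm : v ∈ Q z) (hx : x ∈ Q z) (e : x * v * x⁻¹ = z * v)
    (hx' : x' ∈ Q v) (e' : x' * z * x'⁻¹ = v * z) (c1 : c ∈ Q z) (c2 : c ∈ C{v}) :
    x⁻¹ * x' * c * (x⁻¹ * x')⁻¹ ∈ Q v ∧ x⁻¹ * x' * c * (x⁻¹ * x')⁻¹ ∈ C{z} := by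
  obtain ⟨e1, e2⟩ := swp h h2 hz hv hm hx e hx' e'
  refine ⟨?_, ?_⟩
  · rw [← e1, h.eqv z hz]; exact conj_mem_cj _ c1
  · nth_rw 1 [← e2]
    rw [← cj_C1, conj_mem_cj_iff, mem_C1_comm]
    exact mul_mem (mem_C1_comm.1 (h.le hz c1)) (mem_C1_comm.1 c2)

theorem st1 (hz : z ∈ D) (hv : v ∈ D) (hm : v ∈ Q z) (hne : v ≠ z) (hx : x ∈ Q z)
    (e : x * v * x⁻¹ = z * v) (hx' : x' ∈ Q v) (e' : x' * z * x'⁻¹ = v * z) (c1 : c' ∈ Q z)
    (c2 : c' ∈ C{v}) (hy : y = x⁻¹ * x' * c' * (x⁻¹ * x')⁻¹) :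
    (∃ n ∈ Q z, n ∈ Q v ∧ x * y * x⁻¹ = y * n * c') ∧ ∀ c ∈ Q z, c ∈ C{v} → c * c' = c' * c →
      y * c * y⁻¹ * c⁻¹ = 1 ∨ y * c * y⁻¹ * c⁻¹ = z := by
  obtain ⟨y1, y2⟩ := st0 h h2 hz hv hm hx e hx' e' c1 c2
  rw [← hy] at y1 y2
  have n1 : y⁻¹ * (x * y * x⁻¹) * c'⁻¹ ∈ Q z := by
    have := mul_mem (mul_mem (cQ h hz (inv_mem y2) hx) (inv_mem hx)) (inv_mem c1)
    simpa [mul_assoc] using this
  have n2 : y⁻¹ * (x * y * x⁻¹) * c'⁻¹ ∈ Q v := by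
    have := mul_mem (inv_mem y1) (mul_mem hx' (cQ h hv c2 (inv_mem hx')))
    convert this using 1
    nth_rw 2 [hy]; group
  have n3 : x * y * x⁻¹ = y * (y⁻¹ * (x * y * x⁻¹) * c'⁻¹) * c' := by group
  generalize y⁻¹ * (x * y * x⁻¹) * c'⁻¹ = n at n1 n2 n3
  refine ⟨⟨n, n1, n2, n3⟩, fun c a1 a2 a3 => ?_⟩
  have a4 := mem_C1.1 (h.le hz a1)
  have a5 : n * c = c * n := by
    rcases four h h2 hz hv hm hne n1 n2 with rfl | rfl | rfl | rfl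
    exacts [by simp, a4.symm, (mem_C1.1 a2).symm,
      by rw [mul_assoc, ← mem_C1.1 a2, ← mul_assoc, ← a4, mul_assoc]]
  have a6 : x * (y * c * y⁻¹ * c⁻¹) * x⁻¹ = y * c * y⁻¹ * c⁻¹ := by
    have b : y * n * c' * c * (y * n * c')⁻¹ = y * c * y⁻¹ := by
      rw [mul_assoc _ c', ← a3, show y * n * (c * c') * (y * n * c')⁻¹ = y * (n * c) * n⁻¹ * y⁻¹ by group, a5]
      group
    rw [show x * (y * c * y⁻¹ * c⁻¹) * x⁻¹ = x * y * x⁻¹ * (x * c * x⁻¹) * (x * y * x⁻¹)⁻¹ * (x * c * x⁻¹)⁻¹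
      by group, n3]
    rcases h.cj_or hz hx a1 with k | k <;> rw [k]
    · rw [b]
    · rw [zc h hz (mul_mem (mul_mem y2 (h.le hz n1)) (h.le hz c1)), b, show z * (y * c * y⁻¹) * (z * c)⁻¹ =
        z * (y * c * y⁻¹ * c⁻¹) * z⁻¹ by group, mem_C1_iff_conj.1 (mem_C1_comm.1 (mul_mem (mul_mem
        (mul_mem y2 (h.le hz a1)) (inv_mem y2)) (inv_mem (h.le hz a1))))]
  have a7 := mem_C1_iff_conj.1 (h.le hz hx)
  rcases four h h2 hz hv hm hne (mul_mem (cQ h hz y2 a1) (inv_mem a1)) (show y * c * y⁻¹ * c⁻¹ ∈ Q v by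
    simpa [mul_assoc] using mul_mem y1 (cQ h hv a2 (inv_mem y1))) with k | k | k | k
  · exact Or.inl k
  · exact Or.inr k
  · rw [k, e] at a6; exact absurd (mul_eq_right.1 a6) (h.ne_one hz)
  · rw [k, zc h hz (h.le hz hx), e, mul_right_inj] at a6
    exact absurd (mul_eq_right.1 a6) (h.ne_one hz)

theorem st2 (hz : z ∈ D) (hv : v ∈ D) (hm : v ∈ Q z) (hne : v ≠ z) (hx : x ∈ Q z)
    (e : x * v * x⁻¹ = z * v) (hx' : x' ∈ Q v) (e' : x' * z * x'⁻¹ = v * z) (c1 : c' ∈ Q z)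
    (c2 : c' ∈ C{v}) (a1 : c ∈ Q z) (a2 : c ∈ C{v}) (a3 : c * c' = c' * c) :
    x⁻¹ * x' * c' * (x⁻¹ * x')⁻¹ * c = c * (x⁻¹ * x' * c' * (x⁻¹ * x')⁻¹) := by
  obtain ⟨y1, y2⟩ := st0 h h2 hz hv hm hx e hx' e' c1 c2
  obtain ⟨y3, y4⟩ := st0 h h2 hz hv hm hx e hx' e' a1 a2
  have b1 := (st1 h h2 hz hv hm hne hx e hx' e' c1 c2 rfl).2 c a1 a2 a3
  have b2 := (st1 h h2 hv hz (h.symm hz hv hm) hne.symm hx' e' hx e y3 y4 (y := c) (by group)).2 _ y1 y2 (by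
    rw [show ∀ k a b : G, k * a * k⁻¹ * (k * b * k⁻¹) = k * (a * b) * k⁻¹ from fun _ _ _ => by group,
      ← a3]; group)
  generalize x⁻¹ * x' * c' * (x⁻¹ * x')⁻¹ = y at b1 b2
  rw [show c * y * c⁻¹ * y⁻¹ = (y * c * y⁻¹ * c⁻¹)⁻¹ by group] at b2
  rcases b1 with k | k
  · rwa [mul_inv_eq_one, mul_inv_eq_iff_eq_mul] at k
  · rw [k, inv_eq_of_mul_eq_one_right (h.sq hz)] at b2
    exact (b2.elim (h.ne_one hz) hne.symm).elim

end H20.XA
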