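import Mathlib
import Cfsg.Agent.H20.TB0

/-! The Artin–Zorn theorem for finite rings with the two inverse properties
(Hua's identity, Artin's two-generator theorem, Wedderburn's theorem). -/

set_option autoImplicit false
set_option linter.unusedSectionVars false

namespace H17
namespace AZ

variable {R : Type*} [NonAssocRing R]

theorem exists_inv [Finite R] (hl : ∀ s : R, s ≠ 0 → ∃ u : R, ∀ t, u * (s * t) = t) {s : R}
    (hs : s ≠ 0) : ∃ u : R, (∀ t, u * (s * t) = t) ∧ ∀ t, s * (u * t) = t := by
  obtain ⟨u, hu⟩ := hl s hs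
  have hi : Function.Injective fun t => s * t := fun x y h => by
    have h' : s * x = s * y := h
    rw [← hu x, h', hu]
  refine ⟨u, hu, fun t => ?_⟩
  obtain ⟨y, hy⟩ := Finite.surjective_of_injective hi t
  have hy' : s * y = t := hy
  rw [← hy', hu]

/-- the left Moufang identity, by Hua's identity -/
theorem hua [Finite R] (hl : ∀ s : R, s ≠ 0 → ∃ u : R, ∀ t, u * (s * t) = t) (a b x : R) :
    a * (b * (a * x)) = (a * (b * a)) * x := by
  suffices h : ∃ e : R, ∀ x, a * (b * (a * x)) = e * x by
    obtain ⟨e, he⟩ := h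
    have h1 := he 1
    rw [mul_one, mul_one] at h1
    rw [he, h1]
  by_cases ha : a = 0
  · exact ⟨0, fun x => by simp [ha]⟩
  by_cases hb : b = 0
  · exact ⟨0, fun x => by simp [hb]⟩
  obtain ⟨a', ha1, -⟩ := exists_inv hl ha
  obtain ⟨b', hb1, hb2⟩ := exists_inv hl hb
  by_cases hc : b' - a = 0
  · exact ⟨a, fun x => by rw [← sub_eq_zero.mp hc, hb1]⟩
  obtain ⟨c', hc1, -⟩ := exists_inv hl hc
  have key : ∀ x, (a' + c') * (a * x - a * (b * (a * x))) = x := fun x => by
    have e1 : a' * (a * x - a * (b * (a * x))) = x - b * (a * x) := by rw [← mul_sub, ha1]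
    have e2 : a * x - a * (b * (a * x)) = (b' - a) * (b * (a * x)) := by rw [sub_mul, hb1]
    rw [add_mul, e1, e2, hc1, sub_add_cancel]
  by_cases hw : a' + c' = 0
  · exact ⟨0, fun x => by
      have : x = 0 := by rw [← key x, hw, zero_mul]
      simp [this]⟩
  obtain ⟨u, hu⟩ := hl _ hw
  refine ⟨a - u, fun x => ?_⟩
  have := hu (a * x - a * (b * (a * x)))
  rw [key] at this
  rw [sub_mul, this, sub_sub_cancel]

/-- the associator -/
def as (x y z : R) : R := x * y * z - x * (y * z)

/-- the two Moufang identities -/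
structure Alt (R : Type*) [NonAssocRing R] : Prop where
  lm : ∀ a b x : R, a * (b * (a * x)) = (a * (b * a)) * x
  rm : ∀ a b x : R, ((x * a) * b) * a = x * ((a * b) * a)

namespace Alt

variable (h : Alt R)
include h

theorem l0 (x y : R) : as x x y = 0 := by
  have := h.lm x 1 y
  simp only [one_mul] at this
  rw [as, this, sub_self]

theorem r0 (x y : R) : as y x x = 0 := by
  have := h.rm x 1 y
  simp only [mul_one] at this
  rw [as, this, sub_self]

theorem sw1 (x y z : R) : as x y z = -as y x z := by
  have h1 := h.l0 (x + y) z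
  have h2 := h.l0 x z
  have h3 := h.l0 y z
  simp only [as, mul_add, add_mul] at *
  linear_combination (norm := abel1) h1 - h2 - h3

theorem sw2 (x y z : R) : as x y z = -as x z y := by
  have h1 := h.r0 (y + z) x
  have h2 := h.r0 y x
  have h3 := h.r0 z x
  simp only [as, mul_add, add_mul] at *
  linear_combination (norm := abel1) h1 - h2 - h3

theorem m1 (y x a : R) : as y (x * a) x = -(as y x a * x) := by
  simp only [as, sub_mul, h.rm x a y]
  abel

theorem m2 (y x a z : R) :
    as y (x * a) z = -as y (z * a) x - as y x a * z - as y z a * x := by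
  have h1 := h.m1 y (x + z) a
  have h2 := h.m1 y x a
  have h3 := h.m1 y z a
  simp only [as, mul_add, add_mul, sub_mul] at *
  linear_combination (norm := abel1) h1 - h2 - h3

end Alt

/-- the value of a word -/
def ev : List R → R
  | [] => 1
  | c :: w => c * ev w

/-- words in two letters -/
def Wd (a b : R) (w : List R) : Prop := ∀ c ∈ w, c = a ∨ c = b

theorem Wd.tail {a b c : R} {w : List R} (h : Wd a b (c :: w)) : Wd a b w :=
  fun d hd => h d (List.mem_cons_of_mem _ hd)

theorem Wd.single {a b c : R} {w : List R} (h : Wd a b (c :: w)) : Wd a b [c] :=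
  fun d hd => h d (by rw [List.mem_singleton.mp hd]; exact List.mem_cons_self)

theorem Wd.append {a b : R} {v w : List R} (h : Wd a b v) (h' : Wd a b w) : Wd a b (v ++ w) :=
  fun d hd => (List.mem_append.mp hd).elim (h d) (h' d)

theorem ev_single (c : R) : ev [c] = c := mul_one c

theorem ev_append {a b : R} {n : ℕ}
    (ih : ∀ p q r : List R, Wd a b p → Wd a b q → Wd a b r → p.length + q.length + r.length < n →
      as (ev p) (ev q) (ev r) = 0) :
    ∀ p q : List R, Wd a b p → Wd a b q → p.length + q.length < n → ev p * ev q = ev (p ++ q)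
  | [], q, _, _, _ => one_mul _
  | c :: p, q, hp, hq, hn => by
    have h1 := ih [c] p q hp.single hp.tail hq (by simp at hn ⊢; omega)
    rw [ev_single, as, sub_eq_zero] at h1
    rw [ev, h1, ev_append ih p q hp.tail hq (by simp at hn; omega)]
    rfl

/-- Artin's theorem for words -/
theorem Alt.words (h : Alt R) (a b : R) (n : ℕ) : ∀ p q r : List R, Wd a b p → Wd a b q → Wd a b r →
    p.length + q.length + r.length < n → as (ev p) (ev q) (ev r) = 0 := by
  induction n with
  | zero => intro p q r _ _ _ hn; omega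
  | succ n ih =>
    have key : ∀ (x : R) (p q r : List R), Wd a b p → Wd a b (x :: q) → Wd a b (x :: r) →
        p ≠ [] → p.length + (q.length + 1) + (r.length + 1) < n + 1 →
        as (ev p) (ev (x :: q)) (ev (x :: r)) = 0 := by
      intro x p q r hp hq hr hp0 hn
      have hl : 0 < p.length := List.length_pos_iff.mpr hp0
      have e1 := ih (x :: r) [x] q hr hr.single hq.tail (by simp; omega)
      have e2 := ih (x :: r) p q hr hp hq.tail (by simp; omega)
      have e3 := ih (p ++ q) [x] r (hp.append hq.tail) hr.single hr.tail (by simp; omega)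
      rw [← ev_append ih p q hp hq.tail (by omega)] at e3
      rw [ev_single] at e1 e3
      have e4 : as (ev (x :: r)) (ev p * ev q) x = 0 := by
        rw [h.sw1, ev, h.m1, e3]; simp
      have e5 := h.m2 (ev (x :: r)) x (ev q) (ev p)
      rw [e1, e2, e4] at e5
      rw [h.sw2, h.sw1, h.sw2]
      simpa [ev] using e5
    rintro (_ | ⟨x, p⟩) q r hp hq hr hn
    · simp [as, ev]
    rcases q with _ | ⟨y, q⟩
    · simp [as, ev]
    rcases r with _ | ⟨z, r⟩
    · simp [as, ev]
    simp only [List.length_cons] at hn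
    by_cases h1 : y = z
    · subst h1
      exact key y _ q r hp hq hr (by simp) (by simp; omega)
    by_cases h2 : x = z
    · subst h2
      rw [h.sw1, key x _ p r hq hp hr (by simp) (by simp; omega), neg_zero]
    have h3 : x = y := by
      rcases hp x List.mem_cons_self with e | e <;> rcases hq y List.mem_cons_self with e' | e' <;>
        rcases hr z List.mem_cons_self with e'' | e'' <;> simp_all
    subst h3
    rw [h.sw2, h.sw1, key x _ p q hr hp hq (by simp) (by simp; omega), neg_zero, neg_zero]

/-- the additive span of the words in `a, b` -/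
def Sp (a b : R) : AddSubgroup R := AddSubgroup.closure {x | ∃ w, Wd a b w ∧ ev w = x}

theorem ev_mem {a b : R} {w : List R} (hw : Wd a b w) : ev w ∈ Sp a b :=
  AddSubgroup.subset_closure ⟨w, hw, rfl⟩

theorem left_mem (a b : R) : a ∈ Sp a b := by
  simpa [ev] using ev_mem (a := a) (b := b) (w := [a]) (by simp [Wd])

theorem right_mem (a b : R) : b ∈ Sp a b := by
  simpa [ev] using ev_mem (a := a) (b := b) (w := [b]) (by simp [Wd])

theorem Alt.mul_mem (h : Alt R) {a b x y : R} (hx : x ∈ Sp a b) (hy : y ∈ Sp a b) :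
    x * y ∈ Sp a b := by
  induction hx using AddSubgroup.closure_induction with
  | zero => simp
  | add _ _ _ _ h1 h2 => rw [add_mul]; exact add_mem h1 h2
  | neg _ _ h1 => rw [neg_mul]; exact neg_mem h1
  | mem x hx =>
    obtain ⟨p, hp, rfl⟩ := hx
    induction hy using AddSubgroup.closure_induction with
    | zero => simp
    | add _ _ _ _ h1 h2 => rw [mul_add]; exact add_mem h1 h2
    | neg _ _ h1 => rw [mul_neg]; exact neg_mem h1
    | mem y hy =>
      obtain ⟨q, hq, rfl⟩ := hy
      rw [ev_append (h.words a b _) p q hp hq (Nat.lt_succ_self _)]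
      exact ev_mem (hp.append hq)

theorem Alt.assoc (h : Alt R) {a b x y z : R} (hx : x ∈ Sp a b) (hy : y ∈ Sp a b)
    (hz : z ∈ Sp a b) : x * y * z = x * (y * z) := by
  induction hx using AddSubgroup.closure_induction with
  | zero => simp
  | add _ _ _ _ h1 h2 => simp only [add_mul, h1, h2]
  | neg _ _ h1 => simp only [neg_mul, h1]
  | mem x hx =>
    induction hy using AddSubgroup.closure_induction with
    | zero => simp
    | add _ _ _ _ h1 h2 => simp only [add_mul, mul_add, h1, h2]
    | neg _ _ h1 => simp only [neg_mul, mul_neg, h1]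
    | mem y hy =>
      induction hz using AddSubgroup.closure_induction with
      | zero => simp
      | add _ _ _ _ h1 h2 => simp only [mul_add, h1, h2]
      | neg _ _ h1 => simp only [mul_neg, h1]
      | mem z hz =>
        obtain ⟨p, hp, rfl⟩ := hx
        obtain ⟨q, hq, rfl⟩ := hy
        obtain ⟨r, hr, rfl⟩ := hz
        exact sub_eq_zero.mp (h.words a b _ p q r hp hq hr (Nat.lt_succ_self _))

/-- the subring generated by two elements -/
def Alt.sub (h : Alt R) (a b : R) : Subring R where
  carrier := Sp a b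
  mul_mem' := h.mul_mem
  one_mem' := ev_mem (a := a) (b := b) (w := []) (by simp [Wd])
  add_mem' := add_mem
  zero_mem' := zero_mem _
  neg_mem' := neg_mem

theorem Alt.field [Finite R] [Nontrivial R] (h : Alt R)
    (hl : ∀ s : R, s ≠ 0 → ∃ u : R, ∀ t, u * (s * t) = t) (a b : R) :
    (∀ x ∈ Sp a b, ∀ y ∈ Sp a b, x * y = y * x) ∧ ∃ c, ∀ d, Sp a b ≤ Sp c d := by
  letI : Ring (h.sub a b) :=
    { (inferInstance : NonAssocRing (h.sub a b)) with
      mul_assoc := fun x y z => Subtype.ext (h.assoc x.2 y.2 z.2) }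
  haveI : Nontrivial (h.sub a b) := ⟨⟨0, 1, fun e => zero_ne_one (congrArg Subtype.val e)⟩⟩
  haveI : NoZeroDivisors (h.sub a b) := ⟨fun {x y} e => by
    by_cases hx : (x : R) = 0
    · exact Or.inl (Subtype.ext hx)
    obtain ⟨u, hu⟩ := hl _ hx
    have e' : (x : R) * y = 0 := congrArg Subtype.val e
    exact Or.inr (Subtype.ext (by rw [← hu y, e', mul_zero]; rfl))⟩
  haveI : IsDomain (h.sub a b) := NoZeroDivisors.to_isDomain _
  have hF := Finite.isDomain_to_isField (h.sub a b)
  refine ⟨fun x hx y hy => congrArg Subtype.val (hF.mul_comm ⟨x, hx⟩ ⟨y, hy⟩), ?_⟩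
  letI := hF.toField
  obtain ⟨c, hc⟩ := IsCyclic.exists_monoid_generator (α := (h.sub a b)ˣ)
  refine ⟨((c : h.sub a b) : R), fun d x hx => ?_⟩
  by_cases h0 : x = 0
  · rw [h0]; exact zero_mem _
  obtain ⟨n, hn⟩ := hc (Units.mk0 ⟨x, hx⟩ fun e => h0 (congrArg Subtype.val e))
  have hp : ∀ n : ℕ, (((c ^ n : (h.sub a b)ˣ) : h.sub a b) : R) ∈ Sp ((c : h.sub a b) : R) d := by
    intro n
    induction n with
    | zero => exact (h.sub _ d).one_mem
    | succ n ih => rw [pow_succ]; exact h.mul_mem ih (left_mem _ _)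
  have := hp n
  have hn' : c ^ n = _ := hn
  rw [hn'] at this
  exact this

end AZ
end H17

namespace H20
namespace TB

open Subgroup
open scoped commutatorElement

universe u

/-- AZ (Artin–Zorn): a finite division ring with the two inverse properties is associative and commutative. -/
theorem artin_zorn {R : Type*} [NonAssocRing R] [Finite R]
    (hl : ∀ s : R, s ≠ 0 → ∃ u : R, ∀ t, u * (s * t) = t)
    (hr : ∀ s : R, s ≠ 0 → ∃ u : R, ∀ t, (t * s) * u = t) :
    (∀ a b c : R, a * b * c = a * (b * c)) ∧ ∀ a b : R, a * b = b * a := by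
  rcases subsingleton_or_nontrivial R with h0 | h0
  · exact ⟨fun _ _ _ => Subsingleton.elim _ _, fun _ _ => Subsingleton.elim _ _⟩
  haveI : Finite Rᵐᵒᵖ := Finite.of_equiv R MulOpposite.opEquiv
  have h : H17.AZ.Alt R := ⟨H17.AZ.hua hl, fun a b x => by
    have := H17.AZ.hua (R := Rᵐᵒᵖ) (fun s hs => by
      obtain ⟨u, hu⟩ := hr s.unop (by simpa using hs)
      exact ⟨MulOpposite.op u, fun t => MulOpposite.unop_injective (hu t.unop)⟩)
      (MulOpposite.op a) (MulOpposite.op b) (MulOpposite.op x)
    exact congrArg MulOpposite.unop this⟩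
  refine ⟨fun a b d => ?_, fun a b =>
    (h.field hl a b).1 a (H17.AZ.left_mem a b) b (H17.AZ.right_mem a b)⟩
  obtain ⟨c, hc⟩ := (h.field hl a b).2
  exact h.assoc (hc d (H17.AZ.left_mem a b)) (hc d (H17.AZ.right_mem a b)) (H17.AZ.right_mem c d)

end TB
end H20
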