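import Mathlib
import Cfsg.Agent.H20.TB0
import Cfsg.Agent.H20.TAZ
import Cfsg.Agent.H17.THex1

/-! Finite Moufang triangles. -/

set_option autoImplicit false
set_option linter.unusedSectionVars false

namespace H20
namespace TB

open Subgroup
open scoped commutatorElement

universe u

variable {G : Type u} {G' : Type*} [Group G] [Group G']

theorem Hex.exists_par (H : Hex G) {e : G} (he : e ∈ H.U 0) (h1 : e ≠ 1) :
    ∃ (K : Type u) (_ : Field K) (_ : Finite K) (P : H.Par K), P.x0 1 = e := by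
  obtain ⟨R, _, _, P, hP⟩ := H.exists_PP he h1
  haveI : Nontrivial R := ⟨⟨1, 0, fun h => h1 (by rw [← hP, h, Hex.zero17 P.add0])⟩⟩
  have hl := P.left_inv
  have hr : ∀ s : R, s ≠ 0 → ∃ u : R, ∀ t, (t * s) * u = t := fun s hs => by
    obtain ⟨u, hu⟩ := P.rev.left_inv (MulOpposite.op s) (by simpa using hs)
    exact ⟨u.unop, fun t => congrArg MulOpposite.unop (hu (MulOpposite.op t))⟩
  obtain ⟨h2, h3⟩ := artin_zorn hl hr
  letI : CommRing R := { (inferInstance : NonAssocRing R) with mul_assoc := h2, mul_comm := h3 }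
  have hF : IsField R := ⟨exists_pair_ne R, h3, fun {s} hs => by
    obtain ⟨u, hu⟩ := hr s hs
    exact ⟨u, by simpa using hu 1⟩⟩
  letI := hF.toField
  exact ⟨R, inferInstance, inferInstance, ⟨P.x0, P.x1, P.x2, P.add0, P.add1, P.add2, P.inj0, P.inj1,
    P.inj2, P.mem0, P.mem1, P.mem2, P.rel⟩, hP⟩

namespace Hex.Par

variable {H : Hex G} {K : Type*} [Field K] (P : H.Par K)

theorem m0 (t : K) : P.x0 t ∈ H.U 0 := (P.mem0 _).mpr ⟨t, rfl⟩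
theorem m1 (t : K) : P.x1 t ∈ H.U 1 := (P.mem1 _).mpr ⟨t, rfl⟩
theorem m2 (t : K) : P.x2 t ∈ H.U (0 + 2) := (P.mem2 _).mpr ⟨t, rfl⟩

theorem ne0 {s : K} (hs : s ≠ 0) : P.x0 s ≠ 1 := fun e => hs (P.inj0 (e.trans (zero17 P.add0).symm))
theorem ne2 {s : K} (hs : s ≠ 0) : P.x2 s ≠ 1 := fun e => hs (P.inj2 (e.trans (zero17 P.add2).symm))

theorem c02 {s : K} {m : G} (hm : Mu 3 H.U 0 (P.x0 s) m) (t : K) :
    m * P.x2 t * m⁻¹ = P.x1 (s * t) := by rw [conj17 (P.m0 s) hm (P.m2 t), P.rel]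

theorem c01 {s : K} {m : G} (hm : Mu 3 H.U 0 (P.x0 s) m) (t : K) :
    m * P.x1 (-s * t) * m⁻¹ = P.x2 t := by
  have h := hm.inv17
  rw [← neg17 P.add0] at h
  rw [← P.c02 h]; group

theorem c20 {s : K} {m : G} (hm : Mu 3 H.U 2 (P.x2 s) m) (t : K) :
    m * P.x0 t * m⁻¹ = P.x1 (-(t * s)) := by
  rw [conj17' (i := 0) (P.m2 s) hm (P.m0 t), ← commutatorElement_inv, P.rel, neg17 P.add1]

theorem c21 {s : K} {m : G} (hm : Mu 3 H.U 2 (P.x2 s) m) (t : K) :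
    m * P.x1 (t * s) * m⁻¹ = P.x0 t := by
  have h := hm.inv17
  rw [← neg17 P.add2] at h
  have := P.c20 h t
  rw [mul_neg, neg_neg] at this
  rw [← this]; group

/-- the Heisenberg coordinates -/
def w (a b c : K) : G := P.x0 a * P.x1 b * P.x2 c

theorem w_mul (a b c a' b' c' : K) :
    P.w a b c * P.w a' b' c' = P.w (a + a') (b + b' - a' * c) (c + c') := by
  have h1 : P.x2 c * P.x0 a' = P.x1 (-(a' * c)) * P.x0 a' * P.x2 c := by
    rw [neg17 P.add1, ← P.rel, commutatorElement_def]; group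
  have h2 : ∀ s t, P.x1 t * P.x0 s = P.x0 s * P.x1 t := fun s t => (H.c1 0 _ (P.m0 s) _ (P.m1 t)).symm
  have h3 : P.x2 c * P.x1 b' = P.x1 b' * P.x2 c := (H.c1 1 _ (P.m1 b') _ (P.m2 c)).symm
  have e : b + b' - a' * c = b + -(a' * c) + b' := by ring
  simp only [w, e, P.add0, P.add1, P.add2]
  calc _ = P.x0 a * P.x1 b * (P.x2 c * P.x0 a') * P.x1 b' * P.x2 c' := by group
    _ = P.x0 a * (P.x1 b * (P.x1 (-(a' * c)) * P.x0 a')) * (P.x2 c * P.x1 b') * P.x2 c' := by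
      rw [h1]; group
    _ = _ := by rw [h2, h3, ← mul_assoc (P.x1 b), h2]; group

theorem w_zero : P.w 0 0 0 = 1 := by simp [w, zero17 P.add0, zero17 P.add1, zero17 P.add2]

theorem w_inv (a b c : K) : (P.w a b c)⁻¹ = P.w (-a) (-b - a * c) (-c) := by
  rw [inv_eq_iff_mul_eq_one, w_mul, ← P.w_zero]
  congr 1 <;> ring

theorem w_eq_one {a b c : K} (h : P.w a b c = 1) : a = 0 ∧ b = 0 ∧ c = 0 := by
  obtain ⟨h0, h1, h2⟩ := H.ind 0 _ (P.m0 a) _ (P.m1 b) _ (P.m2 c) h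
  exact ⟨P.inj0 (h0.trans (zero17 P.add0).symm), P.inj1 (h1.trans (zero17 P.add1).symm),
    P.inj2 (h2.trans (zero17 P.add2).symm)⟩

theorem gr {H' : Hex G'} {K' : Type*} [Field K'] (P' : H'.Par K') (φ : K ≃+* K') :
    ∃ Γ : Subgroup (G × G'), Gr3 H.U H'.U Γ ∧ ∀ t, (P.x0 t, P'.x0 (φ t)) ∈ Γ := by
  let Γ : Subgroup (G × G') :=
    { carrier := {γ | ∃ a b c, γ = (P.w a b c, P'.w (φ a) (φ b) (φ c))}
      one_mem' := ⟨0, 0, 0, by simp [w_zero, Prod.ext_iff]⟩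
      mul_mem' := by
        rintro _ _ ⟨a, b, c, rfl⟩ ⟨a', b', c', rfl⟩
        exact ⟨a + a', b + b' - a' * c, c + c', by simp [w_mul]⟩
      inv_mem' := by
        rintro _ ⟨a, b, c, rfl⟩
        exact ⟨-a, -b - a * c, -c, by simp [w_inv]⟩ }
  have g0 : ∀ t, (P.x0 t, P'.x0 (φ t)) ∈ Γ := fun t =>
    ⟨t, 0, 0, by simp [w, zero17 P.add1, zero17 P.add2, zero17 P'.add1, zero17 P'.add2]⟩
  have g1 : ∀ t, (P.x1 t, P'.x1 (φ t)) ∈ Γ := fun t =>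
    ⟨0, t, 0, by simp [w, zero17 P.add0, zero17 P.add2, zero17 P'.add0, zero17 P'.add2]⟩
  have g2 : ∀ t, (P.x2 t, P'.x2 (φ t)) ∈ Γ := fun t =>
    ⟨0, 0, t, by simp [w, zero17 P.add0, zero17 P.add1, zero17 P'.add0, zero17 P'.add1]⟩
  refine ⟨Γ, ⟨fun i h0 h3 a ha => ?_, fun i h0 h3 a ha => ?_, ?_, ?_⟩, g0⟩
  · interval_cases i
    · obtain ⟨t, rfl⟩ := (P.mem0 a).mp ha
      exact ⟨_, P'.m0 _, g0 t⟩
    · obtain ⟨t, rfl⟩ := (P.mem1 a).mp ha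
      exact ⟨_, P'.m1 _, g1 t⟩
    · obtain ⟨t, rfl⟩ := (P.mem2 a).mp ha
      exact ⟨_, P'.m2 _, g2 t⟩
  · interval_cases i
    · obtain ⟨t, rfl⟩ := (P'.mem0 a).mp ha
      exact ⟨_, P.m0 _, by simpa using g0 (φ.symm t)⟩
    · obtain ⟨t, rfl⟩ := (P'.mem1 a).mp ha
      exact ⟨_, P.m1 _, by simpa using g1 (φ.symm t)⟩
    · obtain ⟨t, rfl⟩ := (P'.mem2 a).mp ha
      exact ⟨_, P.m2 _, by simpa using g2 (φ.symm t)⟩
  · rintro _ ⟨a, b, c, rfl⟩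
    constructor
    · intro h
      obtain ⟨rfl, rfl, rfl⟩ := P.w_eq_one h
      simp [w_zero]
    · intro h
      obtain ⟨h0, h1, h2⟩ := P'.w_eq_one h
      rw [map_eq_zero] at h0 h1 h2
      simp [h0, h1, h2, w_zero]
  · rintro _ ⟨a, b, c, rfl⟩
    exact ⟨_, g0 a, _, g1 b, _, g2 c, ⟨P.m0 _, P'.m0 _⟩, ⟨P.m1 _, P'.m1 _⟩, ⟨P.m2 _, P'.m2 _⟩, rfl⟩

include P in
theorem card0 : Nat.card (H.U 0) = Nat.card K :=
  (Nat.card_congr (Equiv.ofBijective (fun t => (⟨P.x0 t, P.m0 t⟩ : H.U 0))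
    ⟨fun _ _ h => P.inj0 (congrArg Subtype.val h), fun g => by
      obtain ⟨t, ht⟩ := (P.mem0 g).mp g.2
      exact ⟨t, Subtype.ext ht⟩⟩)).symm

end Hex.Par

theorem Hex.Par.tor {H : Hex G} {K : Type*} [Field K] (P : H.Par K) (s : K) (hs : s ≠ 0) :
    ∃ a ∈ H.U 2, ∃ e ∈ H.U 2, a ≠ 1 ∧ e ≠ 1 ∧ ∀ m m', Mu 3 H.U 2 a m → Mu 3 H.U 2 e m' →
      ∀ t, (m * m'⁻¹) * P.x0 t * (m * m'⁻¹)⁻¹ = P.x0 (s * t) := by
  refine ⟨P.x2 s⁻¹, P.m2 _, P.x2 1, P.m2 _, P.ne2 (inv_ne_zero hs), P.ne2 one_ne_zero,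
    fun m m' hm hm' t => ?_⟩
  have h1 := P.c21 hm' t
  have h2 := P.c21 hm (s * t)
  rw [show s * t * s⁻¹ = t * 1 by field_simp] at h2
  rw [← h2, ← h1]; group

theorem Hex.Par.hua {H : Hex G} {K : Type*} [Field K] (P : H.Par K) (s : K) (hs : s ≠ 0) {m m' : G}
    (hm : Mu 3 H.U 0 (P.x0 s) m) (hm' : Mu 3 H.U 0 (P.x0 1) m') (t : K) :
    (m * m'⁻¹) * P.x0 t * (m * m'⁻¹)⁻¹ = P.x0 (s ^ 2 * t) := by
  have h1 : (m * m'⁻¹) * P.x1 (t * 1) * (m * m'⁻¹)⁻¹ = P.x1 (s * t) := by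
    rw [← P.c02 hm, mul_comm t, ← P.c02 hm']; group
  have h2 : (m * m'⁻¹) * P.x2 1 * (m * m'⁻¹)⁻¹ = P.x2 s⁻¹ := by
    rw [← P.c01 hm s⁻¹, ← P.c01 hm' 1, show -s * s⁻¹ = -1 * 1 by field_simp]; group
  have h3 : (m * m'⁻¹) * P.x0 t * (m * m'⁻¹)⁻¹ ∈ H.U 0 := by
    have := (hm.2 _ _).mp ((hm'.inv17.2 0 _).mp (P.m0 t))
    simpa [mul_assoc] using this
  refine Hex.inj_left17 (P.m2 s⁻¹) (P.ne2 (inv_ne_zero hs)) h3 (P.m0 _) ?_
  rw [P.rel, show s ^ 2 * t * s⁻¹ = s * t by field_simp, ← h1, ← h2, ← P.rel]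
  simp only [commutatorElement_def]; group

theorem Hex.iso (H : Hex G) (H' : Hex G') (h : Nat.card (H.U 0) = Nat.card (H'.U 0)) :
    ∃ Γ : Subgroup (G × G'), Gr3 H.U H'.U Γ := by
  obtain ⟨e, he, h1⟩ := H.exists_ne17 0
  obtain ⟨e', he', h1'⟩ := H'.exists_ne17 0
  obtain ⟨K, _, _, P, -⟩ := H.exists_par he h1
  obtain ⟨K', _, _, P', -⟩ := H'.exists_par he' h1'
  haveI := Fintype.ofFinite K
  haveI := Fintype.ofFinite K'
  rw [P.card0, P'.card0, Nat.card_eq_fintype_card, Nat.card_eq_fintype_card] at h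
  obtain ⟨Γ, hΓ, -⟩ := P.gr P' (FiniteField.ringEquivOfCardEq h)
  exact ⟨Γ, hΓ⟩

theorem mul_of_sq17 {K K' : Type*} [Field K] [Field K'] [Finite K] (φ : K →+ K')
    (hi : Function.Injective φ) (h1 : φ 1 = 1) (h : ∀ s t, φ (s ^ 2 * t) = φ s ^ 2 * φ t) (s t : K) :
    φ (s * t) = φ s * φ t := by
  by_cases h2 : (2 : K') = 0
  · have h3 : (2 : K) = 0 := hi (by rw [← one_add_one_eq_two, map_add, h1, map_zero, ← h2]; norm_num)
    haveI := Fintype.ofFinite K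
    have h4 : ringChar K = 2 :=
      (Nat.prime_dvd_prime_iff_eq (CharP.char_is_prime K (ringChar K)) Nat.prime_two).mp
        ((ringChar.spec K 2).mp (by exact_mod_cast h3))
    obtain ⟨r, rfl⟩ := FiniteField.isSquare_of_char_two h4 s
    have := h r 1
    rw [mul_one, h1, mul_one] at this
    rw [← sq, h, this]
  · have h3 := h (s + 1) t
    rw [show (s + 1) ^ 2 * t = s ^ 2 * t + (s * t + s * t) + t by ring, map_add, map_add, map_add,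
      map_add, h, h1] at h3
    exact mul_left_cancel₀ h2 (by linear_combination h3)

theorem Hex.ext (H : Hex G) (H' : Hex G') (Λ : Subgroup (G × G'))
    (hl : ∀ a ∈ H.U 0, ∃ a' ∈ H'.U 0, (a, a') ∈ Λ) (hr : ∀ a' ∈ H'.U 0, ∃ a ∈ H.U 0, (a, a') ∈ Λ)
    (hf : ∀ a ∈ H.U 0, ∀ a' ∈ H'.U 0, (a, a') ∈ Λ → (a = 1 ↔ a' = 1))
    (hm : ∀ a ∈ H.U 0, ∀ a' ∈ H'.U 0, (a, a') ∈ Λ → a ≠ 1 →
      ∃ m m', Mu 3 H.U 0 a m ∧ Mu 3 H'.U 0 a' m' ∧ (m, m') ∈ Λ) :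
    ∃ Γ : Subgroup (G × G'), Gr3 H.U H'.U Γ ∧ ∀ a ∈ H.U 0, ∀ a' ∈ H'.U 0, (a, a') ∈ Λ → (a, a') ∈ Γ := by
  obtain ⟨e, he, h1⟩ := H.exists_ne17 0
  obtain ⟨e', he', hee⟩ := hl e he
  obtain ⟨K, _, _, P, hP⟩ := H.exists_par he h1
  obtain ⟨K', _, _, P', hP'⟩ := H'.exists_par he' fun h => h1 ((hf e he e' he' hee).mpr h)
  have ex : ∀ t, ∃ t', (P.x0 t, P'.x0 t') ∈ Λ := fun t => by
    obtain ⟨a', ha', h⟩ := hl _ (P.m0 t)
    obtain ⟨t', rfl⟩ := (P'.mem0 a').mp ha'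
    exact ⟨t', h⟩
  choose φ hφ using ex
  have key : ∀ t t' r r', (P.x0 t, P'.x0 t') ∈ Λ → (P.x0 r, P'.x0 r') ∈ Λ → (t = r ↔ t' = r') := by
    intro t t' r r' h h'
    have := hf _ (mul_mem (inv_mem (P.m0 t)) (P.m0 r)) _ (mul_mem (inv_mem (P'.m0 t')) (P'.m0 r'))
      (Λ.mul_mem (Λ.inv_mem h) h')
    rwa [inv_mul_eq_one, inv_mul_eq_one, P.inj0.eq_iff, P'.inj0.eq_iff] at this
  have un : ∀ t t', (P.x0 t, P'.x0 t') ∈ Λ → φ t = t' := fun t t' h => (key _ _ _ _ (hφ t) h).mp rfl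
  let ψ : K →+ K' := AddMonoidHom.mk' φ fun s t => un _ _ (by
    rw [P.add0, P'.add0]; exact Λ.mul_mem (hφ s) (hφ t))
  have hi : Function.Injective ψ := fun s t h => (key _ _ _ _ (hφ s) (hφ t)).mpr h
  have hs : Function.Surjective ψ := fun t' => by
    obtain ⟨a, ha, h⟩ := hr _ (P'.m0 t')
    obtain ⟨t, rfl⟩ := (P.mem0 a).mp ha
    exact ⟨t, un _ _ h⟩
  have ψ1 : ψ 1 = 1 := un _ _ (by rw [hP, hP']; exact hee)
  have hsq : ∀ s t, ψ (s ^ 2 * t) = ψ s ^ 2 * ψ t := fun s t => by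
    by_cases h0 : s = 0
    · simp [h0]
    obtain ⟨m, m', a1, a2, a3⟩ := hm _ (P.m0 s) _ (P'.m0 _) (hφ s) (P.ne0 h0)
    obtain ⟨n, n', b1, b2, b3⟩ := hm _ (P.m0 1) _ (P'.m0 1) (by rw [hP, hP']; exact hee)
      (P.ne0 one_ne_zero)
    refine un _ _ ?_
    rw [← P.hua s h0 a1 b1, ← P'.hua (ψ s) (fun h => h0 (hi (h.trans (map_zero ψ).symm))) a2 b2]
    have h3 := Λ.mul_mem a3 (Λ.inv_mem b3)
    exact Λ.mul_mem (Λ.mul_mem h3 (hφ t)) (Λ.inv_mem h3)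
  let χ : K ≃+* K' := { Equiv.ofBijective ψ ⟨hi, hs⟩ with
    map_mul' := mul_of_sq17 ψ hi ψ1 hsq
    map_add' := map_add ψ }
  obtain ⟨Γ, hΓ, h0⟩ := P.gr P' χ
  refine ⟨Γ, hΓ, fun a ha a' ha' h => ?_⟩
  obtain ⟨t, rfl⟩ := (P.mem0 a).mp ha
  obtain ⟨t', rfl⟩ := (P'.mem0 a').mp ha'
  rw [← un _ _ h]
  exact h0 t

theorem comm_of_mul17 {K : Type*} [Field K] [Finite K] (σ τ : K →*₀ K) (s : K) :
    σ (τ s) = τ (σ s) := by
  obtain ⟨g, hg⟩ := IsCyclic.exists_monoid_generator (α := Kˣ)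
  have h : ∀ x : K, x ≠ 0 → ∃ n : ℕ, (g : K) ^ n = x := fun x hx => by
    obtain ⟨n, hn⟩ := hg (Units.mk0 x hx)
    exact ⟨n, by simpa using congrArg Units.val hn⟩
  by_cases hs : s = 0
  · simp [hs]
  obtain ⟨n, rfl⟩ := h s hs
  obtain ⟨a, ha⟩ := h (σ g) ((map_ne_zero σ).mpr g.ne_zero)
  obtain ⟨b, hb⟩ := h (τ g) ((map_ne_zero τ).mpr g.ne_zero)
  simp only [map_pow, ← ha, ← hb, ← pow_mul]
  congr 1; ring

theorem semi_sol17 {K : Type*} [Field K] [Finite K] (x : K → G) (hx : Function.Injective x)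
    (T : Subgroup G) (hT : ∀ t ∈ T, ∃ a, a ≠ 0 ∧ ∃ σ : K →*₀ K, ∀ s, t * x s * t⁻¹ = x (a * σ s)) :
    ∀ t ∈ ds T 2, ∀ s, t * x s = x s * t := by
  let T1 : Subgroup G :=
    { carrier := {g | ∃ a, a ≠ 0 ∧ ∀ s, g * x s * g⁻¹ = x (a * s)}
      one_mem' := ⟨1, one_ne_zero, fun s => by simp⟩
      mul_mem' := by
        rintro g g' ⟨a, ha, h⟩ ⟨a', ha', h'⟩
        exact ⟨a * a', mul_ne_zero ha ha', fun s => by rw [mul_assoc a, ← h, ← h']; group⟩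
      inv_mem' := by
        rintro g ⟨a, ha, h⟩
        refine ⟨a⁻¹, inv_ne_zero ha, fun s => ?_⟩
        have := h (a⁻¹ * s)
        rw [mul_inv_cancel_left₀ ha] at this
        rw [← this]; group }
  have h1 : ⁅T, T⁆ ≤ T1 := Subgroup.commutator_le.mpr fun t ht t' ht' => by
    obtain ⟨a, ha, σ, h⟩ := hT t ht
    obtain ⟨a', ha', σ', h'⟩ := hT t' ht'
    have hne : a' * σ' a ≠ 0 := mul_ne_zero ha' ((map_ne_zero σ').mpr ha)
    refine ⟨a * σ a' / (a' * σ' a), div_ne_zero (mul_ne_zero ha ((map_ne_zero σ).mpr ha')) hne,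
      fun r => ?_⟩
    have i1 : Function.Injective σ := fun s r e => hx (by
      have := h s
      rw [e, ← h] at this
      simpa using this)
    have i2 : Function.Injective σ' := fun s r e => hx (by
      have := h' s
      rw [e, ← h'] at this
      simpa using this)
    have i3 := (map_ne_zero σ').mpr ha
    obtain ⟨s, hs⟩ := (Finite.surjective_of_injective (i2.comp i1)) (r / (a' * σ' a))
    have hs' : σ' (σ s) = r / (a' * σ' a) := hs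
    have e1 : t' * t * x s * (t' * t)⁻¹ = x r := by
      rw [show t' * t * x s * (t' * t)⁻¹ = t' * (t * x s * t⁻¹) * t'⁻¹ by group, h, h', map_mul, hs']
      congr 1; field_simp
    have e2 : t * t' * x s * (t * t')⁻¹ = x (a * σ a' / (a' * σ' a) * r) := by
      rw [show t * t' * x s * (t * t')⁻¹ = t * (t' * x s * t'⁻¹) * t⁻¹ by group, h', h, map_mul,
        comm_of_mul17 σ σ', hs']
      congr 1; field_simp
    rw [← e2, ← e1, commutatorElement_def]; group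
  have h2 : ⁅T1, T1⁆ ≤ centralizer (Set.range x) := Subgroup.commutator_le.mpr fun g hg g' hg' => by
    obtain ⟨a, ha, h⟩ := hg
    obtain ⟨a', ha', h'⟩ := hg'
    rintro _ ⟨r, rfl⟩
    have e1 : g' * g * x (r / (a * a')) * (g' * g)⁻¹ = x r := by
      rw [show g' * g * x (r / (a * a')) * (g' * g)⁻¹ = g' * (g * x (r / (a * a')) * g⁻¹) * g'⁻¹ by
        group, h, h']
      congr 1; field_simp
    have e2 : g * g' * x (r / (a * a')) * (g * g')⁻¹ = x r := by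
      rw [show g * g' * x (r / (a * a')) * (g * g')⁻¹ = g * (g' * x (r / (a * a')) * g'⁻¹) * g⁻¹ by
        group, h', h]
      congr 1; field_simp
    calc x r * ⁅g, g'⁆ = g * g' * x (r / (a * a')) * (g * g')⁻¹ * ⁅g, g'⁆ := by rw [e2]
      _ = ⁅g, g'⁆ * (g' * g * x (r / (a * a')) * (g' * g)⁻¹) := by rw [commutatorElement_def]; group
      _ = _ := by rw [e1]
  intro t ht s
  exact (h2 (Subgroup.commutator_mono h1 h1 ht) _ ⟨s, rfl⟩).symm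

theorem Hex.sol (H : Hex G) (T : Subgroup G) (hT : ∀ t ∈ T, ∀ j g, g ∈ H.U j ↔ t * g * t⁻¹ ∈ H.U j) :
    ∀ t ∈ ds T 2, (∀ g ∈ H.U 0, t * g = g * t) ∧ ∀ g ∈ H.U 2, t * g = g * t := by
  obtain ⟨e, he, h1⟩ := H.exists_ne17 0
  obtain ⟨K, _, _, P, -⟩ := H.exists_par he h1
  have key : ∀ t ∈ T, ∃ a c, a ≠ 0 ∧ c ≠ 0 ∧ ∃ σ : K →*₀ K,
      (∀ s, t * P.x0 s * t⁻¹ = P.x0 (a * σ s)) ∧ ∀ s, t * P.x2 s * t⁻¹ = P.x2 (c * σ s) := by
    intro t ht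
    choose α hα using fun s => (P.mem0 _).mp ((hT t ht 0 _).mp (P.m0 s))
    choose γ hγ using fun s => (P.mem2 _).mp ((hT t ht 2 _).mp (P.m2 s))
    have h : ∀ s r, P.x1 (α s * γ r) = t * P.x1 (s * r) * t⁻¹ := fun s r => by
      rw [← P.rel, ← P.rel, hα, hγ]; simp only [commutatorElement_def]; group
    have h2 : ∀ s r, α s * γ r = α (s * r) * γ 1 := fun s r => P.inj1 (by rw [h, h, mul_one])
    have a1 : α 1 ≠ 0 := fun e => P.ne0 one_ne_zero (by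
      have := hα 1
      rw [e, Hex.zero17 P.add0] at this
      simpa [conj_eq_one_iff] using this.symm)
    have c1 : γ 1 ≠ 0 := fun e => P.ne2 one_ne_zero (by
      have := hγ 1
      rw [e, Hex.zero17 P.add2] at this
      simpa [conj_eq_one_iff] using this.symm)
    have a0 : α 0 = 0 := P.inj0 (by rw [hα, Hex.zero17 P.add0]; group)
    refine ⟨α 1, γ 1, a1, c1, ⟨⟨fun s => α s / α 1, by simp [a0]⟩, div_self a1, fun s r => ?_⟩,
      fun s => ?_, fun s => ?_⟩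
    · have e1 := h2 s r
      have e2 := h2 1 r
      rw [one_mul] at e2
      show α (s * r) / α 1 = α s / α 1 * (α r / α 1)
      field_simp
      exact mul_right_cancel₀ c1 (by linear_combination α s * e2 - α 1 * e1)
    · rw [← hα]; congr 1
      show _ = α 1 * (α s / α 1)
      field_simp
    · rw [← hγ]; congr 1
      have e2 := h2 1 s
      rw [one_mul] at e2
      show _ = γ 1 * (α s / α 1)
      field_simp
      linear_combination e2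
  intro t ht
  refine ⟨fun g hg => ?_, fun g hg => ?_⟩
  · obtain ⟨s, rfl⟩ := (P.mem0 g).mp hg
    exact semi_sol17 P.x0 P.inj0 T (fun t ht => by
      obtain ⟨a, c, ha, -, σ, h, -⟩ := key t ht
      exact ⟨a, ha, σ, h⟩) t ht s
  · obtain ⟨s, rfl⟩ := (P.mem2 g).mp hg
    exact semi_sol17 P.x2 P.inj2 T (fun t ht => by
      obtain ⟨a, c, -, hc, σ, -, h⟩ := key t ht
      exact ⟨c, hc, σ, h⟩) t ht s

end TB
end H20
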