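import Mathlib
import Cfsg.Agent.H20.TB0
import Cfsg.Agent.H17.TPQ1

/-! Anisotropic quadratic and pseudo-quadratic spaces over finite fields. -/

set_option autoImplicit false
set_option linter.unusedSectionVars false

namespace H20
namespace TB

open Subgroup
open scoped commutatorElement

universe u

variable {K K' M M' : Type*} [Field K] [Field K'] [Group M] [Group M'] [Finite K] [Finite K']
  [Finite M] [Finite M']

theorem PQ.cardA1 (P : PQ K M) (h : ∀ u, P.γ u = 1) {e : M} (he : e ≠ 1)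
    (hs : ∀ m, ∃ s, P.act s e = m) : Nat.card M = Nat.card K :=
  (Nat.card_congr (Equiv.ofBijective _ ⟨P.act_inj h he, hs⟩)).symm

theorem PQ.cardA2 (P : PQ K M) (h : ∀ u, P.γ u = 1) {e e' : M} (he : e ≠ 1)
    (ha : H7.Aniso (P.f e e' / P.q e) (P.q e' / P.q e)) (hs : ∀ m, ∃ s t, P.w e e' s t = m) :
    Nat.card M = Nat.card K ^ 2 := by
  rw [sq, ← Nat.card_prod]
  refine (Nat.card_congr (Equiv.ofBijective (fun x : K × K => P.w e e' x.1 x.2)
    ⟨fun x y hxy => ?_, fun m => ?_⟩)).symm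
  · obtain ⟨h1, h2⟩ := P.w_inj h he ha hxy
    exact Prod.ext h1 h2
  · obtain ⟨s, t, rfl⟩ := hs m
    exact ⟨(s, t), rfl⟩

theorem odd_card17 (h : (2 : K) ≠ 0) : Odd (Nat.card K) := by
  haveI := Fintype.ofFinite K
  rw [Nat.card_eq_fintype_card, Nat.odd_iff]
  refine FiniteField.odd_card_of_char_ne_two fun e => h ?_
  exact_mod_cast (ringChar.spec K 2).mpr (by rw [e])

theorem two_ne17 (h : Odd (Nat.card K)) : (2 : K) ≠ 0 := fun h2 => by
  haveI := Fintype.ofFinite K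
  have h4 : ringChar K = 2 :=
    (Nat.prime_dvd_prime_iff_eq (CharP.char_is_prime K (ringChar K)) Nat.prime_two).mp
      ((ringChar.spec K 2).mp (by exact_mod_cast h2))
  rw [Nat.card_eq_fintype_card, Nat.odd_iff, FiniteField.even_card_of_char_two h4] at h
  exact zero_ne_one h

theorem PQ.card (P : PQ K M) :
    ((∀ u, P.γ u = 1) → (Nat.card M = Nat.card K ∨ Nat.card M = Nat.card K ^ 2) ∧
      (Odd (Nat.card K) → ∃ m m', P.f m m' ≠ 0)) ∧
    (¬ (∀ u, P.γ u = 1) → (Nat.card M = Nat.card K ∧ Odd (Nat.card K) ∧ ∀ m m', P.f m m' = 0) ∨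
      Nat.card M ^ 2 = Nat.card K ∨ Nat.card M ^ 2 = Nat.card K ^ 3) := by
  refine ⟨fun h => ?_, fun h => ?_⟩
  · obtain ⟨e, he, h1⟩ := P.caseA h
    refine ⟨h1.imp (P.cardA1 h he) fun ⟨e', ha, hs⟩ => P.cardA2 h he ha hs, fun ho => ⟨e, e, ?_⟩⟩
    rw [P.f_self h]
    exact mul_ne_zero (two_ne17 ho) (mt (P.q_eq_zero e).mp he)
  obtain ⟨c, hc, τ, N⟩ := P.exists_nm h
  by_cases h1 : τ = RingHom.id K
  · refine Or.inl ⟨N.c1 h1, odd_card17 fun h2 => ?_, fun m m' => ?_⟩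
    · obtain ⟨θ, hθ⟩ := N.tr
      rw [h1, RingHom.id_apply, ← two_mul, h2, zero_mul] at hθ
      exact zero_ne_one hθ
    · obtain ⟨u, rfl⟩ := N.memZ (m := m') (by simp [N.fd, h1])
      exact P.f_γ _ _
  by_cases h2 : ∀ m, (P.scale c hc).f m m = 0
  · exact Or.inr (Or.inl (N.c2 h1 h2))
  · push Not at h2
    obtain ⟨e, he⟩ := h2
    exact Or.inr (Or.inr (N.c3 he))

theorem PQ.isoA (P : PQ K M) (P' : PQ K' M') (hK : Nat.card K = Nat.card K')
    (hM : Nat.card M = Nat.card M') (h : ∀ u, P.γ u = 1) (h' : ∀ u, P'.γ u = 1) (φ : K ≃+* K') :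
    ∃ (c : K') (Φ : M ≃* M'), c ≠ 0 ∧ (∀ t m, Φ (P.act t m) = P'.act (φ t) (Φ m)) ∧
      ∀ m, P'.q (Φ m) = c * φ (P.q m) := by
  obtain ⟨e, he, h1⟩ := P.caseA h
  obtain ⟨e', he', h1'⟩ := P'.caseA h'
  have hq := mt (P.q_eq_zero e).mp he
  have hq' := mt (P'.q_eq_zero e').mp he'
  have hφ : φ (P.q e) ≠ 0 := (map_ne_zero φ).mpr hq
  have h2 : 1 < Nat.card K' := Finite.one_lt_card
  refine ⟨P'.q e' / φ (P.q e), ?_⟩
  rcases h1 with hs | ⟨d, ha, hs⟩ <;> rcases h1' with hs' | ⟨d', ha', hs'⟩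
  · obtain ⟨Φ, hΦ⟩ := iso_of_param17 (fun s => P.act s e) (fun s => P'.act (φ s) e') hs
      (fun m => by obtain ⟨s, rfl⟩ := hs' m; exact ⟨φ.symm s, by simp⟩)
      (fun s t => (P.act_inj h he).eq_iff.trans ((P'.act_inj h' he').comp φ.injective).eq_iff.symm)
      (fun s t => ⟨s + t, (P.act_add' h ..).symm, by simp only [map_add, P'.act_add' h']⟩)
    refine ⟨Φ, div_ne_zero hq' hφ, fun t m => ?_, fun m => ?_⟩ <;> obtain ⟨s, rfl⟩ := hs m
    · rw [← P.act_mul, hΦ, hΦ, map_mul, P'.act_mul]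
    · rw [hΦ, P'.q_act, P.q_act, P.σ_of_γ h, P'.σ_of_γ h', map_mul, map_mul]; field_simp
  · have := P'.cardA2 h' he' ha' hs'
    rw [← hM, P.cardA1 h he hs, hK] at this
    nlinarith
  · have := P.cardA2 h he ha hs
    rw [hM, P'.cardA1 h' he' hs', hK] at this
    nlinarith
  haveI := Fintype.ofFinite K'
  have hb : H7.Aniso (φ (P.f e d / P.q e)) (φ (P.q d / P.q e)) := fun s t hst => by
    obtain ⟨h3, h4⟩ := ha (φ.symm s) (φ.symm t) (φ.injective (by simpa using hst))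
    exact ⟨by simpa using h3, by simpa using h4⟩
  obtain ⟨g, hg⟩ := H7.aniso_equiv hb ha'
  have hv : ∀ x y : Fin 2 → K', P'.w e' d' (x 0) (x 1) = P'.w e' d' (y 0) (y 1) ↔ x = y :=
    fun x y => ⟨fun hxy => by
      obtain ⟨h3, h4⟩ := P'.w_inj h' he' ha' hxy
      ext i; fin_cases i <;> assumption, fun e => by rw [e]⟩
  obtain ⟨Φ, hΦ⟩ := iso_of_param17 (fun x : Fin 2 → K => P.w e d (x 0) (x 1))
    (fun x => P'.w e' d' (g (φ ∘ x) 0) (g (φ ∘ x) 1))
    (fun m => by obtain ⟨s, t, rfl⟩ := hs m; exact ⟨![s, t], rfl⟩)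
    (fun m => by
      obtain ⟨s, t, rfl⟩ := hs' m
      refine ⟨φ.symm ∘ g.symm ![s, t], ?_⟩
      have : φ ∘ (φ.symm ∘ g.symm ![s, t]) = g.symm ![s, t] := by ext i; simp
      simp only [this, LinearEquiv.apply_symm_apply]
      rfl)
    (fun x y => by
      rw [hv, g.injective.eq_iff, φ.injective.comp_left.eq_iff]
      refine ⟨fun hxy => ?_, fun e => by rw [e]⟩
      obtain ⟨h3, h4⟩ := P.w_inj h he ha hxy
      ext i; fin_cases i <;> assumption)
    (fun x y => ⟨x + y, P.w_add h .., by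
      have : φ ∘ (x + y) = φ ∘ x + φ ∘ y := by ext i; simp
      simp only [this, map_add, P'.w_add h', Pi.add_apply]⟩)
  refine ⟨Φ, div_ne_zero hq' hφ, fun r m => ?_, fun m => ?_⟩ <;> obtain ⟨s, t, rfl⟩ := hs m
  · have e1 := hΦ ![s, t]
    have e2 := hΦ (r • ![s, t])
    have : φ ∘ (r • ![s, t]) = φ r • (φ ∘ ![s, t]) :=
      funext fun i => map_mul φ r (![s, t] i)
    simp only [this, map_smul, Pi.smul_apply, smul_eq_mul] at e2
    exact (congrArg Φ (P.act_w ..)).trans (e2.trans (by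
      rw [← P'.act_w]; exact congrArg _ e1.symm))
  · have e1 := hΦ ![s, t]
    have e2 := hg (φ ∘ ![s, t])
    refine (congrArg P'.q e1).trans ?_
    rw [P'.q_w h', P.q_w h]
    simp only [Function.comp_apply, Matrix.cons_val_zero, Matrix.cons_val_one, map_div₀, map_add,
      map_mul, map_pow] at e2 ⊢
    field_simp at e2 ⊢
    linear_combination e2

theorem PQ.isoB {P : PQ K M} {P' : PQ K' M'} (hK : Nat.card K = Nat.card K')
    (hM : Nat.card M = Nat.card M') {τ : K →+* K} {τ' : K' →+* K'} (N : P.Nm τ) (N' : P'.Nm τ')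
    (φ : K ≃+* K') :
    ∃ Φ : M ≃* M', (∀ t m, Φ (P.act t m) = P'.act (φ t) (Φ m)) ∧
      (∀ m, P'.q (Φ m) = φ (P.q m)) ∧ (∀ s, τ' (φ s) = φ (τ s)) ∧ ∀ u, Φ (P.γ u) = P'.γ (φ u) := by
  have h2 : 1 < Nat.card K' := Finite.one_lt_card
  have n1 : Nat.card K' ^ 2 ≠ Nat.card K' := by nlinarith
  have n2 : Nat.card K' ^ 2 ≠ Nat.card K' ^ 3 := (Nat.pow_lt_pow_right h2 (by norm_num)).ne
  have n3 : Nat.card K' ≠ Nat.card K' ^ 3 := by simpa using (Nat.pow_lt_pow_right h2 (by norm_num : 1 < 3)).ne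
  have a1 : τ = RingHom.id K ↔ Nat.card M = Nat.card K := ⟨N.c1, fun e => by
    by_contra h1
    by_cases h3 : ∀ m, P.f m m = 0
    · have := N.c2 h1 h3
      rw [e, hK] at this
      exact n1 this
    · push Not at h3
      obtain ⟨d, hd⟩ := h3
      exact n2 (by rw [← hK, ← N.c3 hd, e])⟩
  have a2 : τ' = RingHom.id K' ↔ Nat.card M' = Nat.card K' := ⟨N'.c1, fun e => by
    by_contra h1
    by_cases h3 : ∀ m, P'.f m m = 0
    · have := N'.c2 h1 h3
      rw [e] at this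
      exact n1 this
    · push Not at h3
      obtain ⟨d, hd⟩ := h3
      exact n2 (by rw [← N'.c3 hd, e])⟩
  have a3 : τ = RingHom.id K ↔ τ' = RingHom.id K' := by rw [a1, a2, hK, hM]
  have hτ : ∀ s, τ' (φ s) = φ (τ s) := by
    by_cases h1 : τ = RingHom.id K
    · intro s; rw [a3.mp h1, h1]; rfl
    · have := invol_unique17 τ' (φ.toRingHom.comp (τ.comp φ.symm.toRingHom)) (mt a3.mpr h1)
        (fun e => h1 (RingHom.ext fun x => φ.injective (by simpa using DFunLike.congr_fun e (φ x))))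
        N'.inv (fun a => by simp [N.inv])
      intro s; rw [this]; simp
  obtain ⟨e, e', hs, hs', hq⟩ : ∃ e e', (∀ m, ∃ s u, P.v e s u = m) ∧ (∀ m, ∃ s u, P'.v e' s u = m) ∧
      P'.q e' = φ (P.q e) := by
    by_cases h3 : ∀ m, P.f m m = 0
    · refine ⟨1, 1, N.surj_one h3, N'.surj_one fun d => ?_, by simp [PQ.q_one]⟩
      by_contra hd
      exact n3 (by rw [← N'.c3 hd, ← hM, N.c2 (mt a3.mp (N'.ne_id hd)) h3, hK])
    push Not at h3
    obtain ⟨e, he⟩ := h3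
    obtain ⟨d, hd⟩ : ∃ d, P'.f d d ≠ 0 := by
      by_contra h4
      push Not at h4
      exact n3 (by rw [← hK, ← N.c3 he, hM, N'.c2 (mt a3.mpr (N.ne_id he)) h4, hK])
    obtain ⟨s, hs⟩ := N'.exists_norm hd (d := φ (P.f e e)) (by rw [hτ, ← map_neg, ← N.skew])
    obtain ⟨u, hu⟩ := N'.exists_tr (a := φ (P.q e) - s * τ' s * P'.q d) (by
      rw [N.fd, N'.fd, map_sub, ← hτ] at hs
      simp only [map_sub, map_mul, N'.inv]
      linear_combination hs)
    have hq : P'.q (P'.v d s u) = φ (P.q e) := by rw [N'.q_v, hu]; ring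
    refine ⟨e, _, N.surj he, N'.surj ?_, hq⟩
    rw [N'.fd, hq, hτ, ← map_sub, ← N.fd]
    exact (map_ne_zero φ).mpr he
  have hf : P'.f e' e' = φ (P.f e e) := by rw [N'.fd, hq, hτ, ← map_sub, ← N.fd]
  have hv : ∀ s u, P'.q (P'.v e' (φ s) (φ u)) = φ (P.q (P.v e s u)) := fun s u => by
    simp only [N.q_v, N'.q_v, hq, hτ, map_add, map_mul]
  obtain ⟨Φ, hΦ⟩ := iso_of_param17 (fun x : K × K => P.v e x.1 x.2)
    (fun x => P'.v e' (φ x.1) (φ x.2))
    (fun m => by obtain ⟨s, t, rfl⟩ := hs m; exact ⟨(s, t), rfl⟩)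
    (fun m => by obtain ⟨s, t, rfl⟩ := hs' m; exact ⟨(φ.symm s, φ.symm t), by simp⟩)
    (fun x y => ⟨fun hxy => by
      have h3 := congrArg (P.f e) hxy
      rw [P.f_v, P.f_v] at h3
      exact N'.det (by rw [hf, ← map_mul, h3, map_mul]) (by rw [hv, hv, hxy]),
      fun hxy => by
      have h3 := congrArg (P'.f e') hxy
      have h4 := congrArg P'.q hxy
      rw [P'.f_v, P'.f_v, hf, ← map_mul, ← map_mul] at h3
      rw [hv, hv] at h4
      exact N.det (φ.injective h3) (φ.injective h4)⟩)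
    (fun x y => ⟨(y.1 + x.1, x.2 + y.2 - P.σ y.1 * x.1 * P.q e), P.v_mul .., by
      simp only [P'.v_mul, N.σ_eq, N'.σ_eq, hq, hτ, map_add, map_sub, map_mul]⟩)
  have hΦ' : ∀ s u, Φ (P.v e s u) = P'.v e' (φ s) (φ u) := fun s u => hΦ (s, u)
  refine ⟨Φ, fun t m => ?_, fun m => ?_, hτ, fun u => ?_⟩
  · obtain ⟨s, u, rfl⟩ := hs m
    simp only [P.act_v, hΦ', P'.act_v, N.σ_eq, N'.σ_eq, hτ, map_mul]
  · obtain ⟨s, u, rfl⟩ := hs m
    rw [hΦ', hv]
  · simpa [PQ.v, PQ.act_zero] using hΦ' 0 u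

theorem PQ.iso (P : PQ K M) (P' : PQ K' M') (hK : Nat.card K = Nat.card K')
    (hM : Nat.card M = Nat.card M') (hγ : (∀ u, P.γ u = 1) ↔ ∀ u, P'.γ u = 1) :
    ∃ (φ : K ≃+* K') (c : K') (Φ : M ≃* M'), c ≠ 0 ∧ (∀ t m, Φ (P.act t m) = P'.act (φ t) (Φ m)) ∧
      (∀ m, P'.q (Φ m) = c * φ (P.q m)) ∧ (∀ s, P'.σ (φ s) = φ (P.σ s)) ∧
      ∀ u, Φ (P.γ u) = P'.γ (c * φ u) := by
  haveI := Fintype.ofFinite K
  haveI := Fintype.ofFinite K'
  let φ : K ≃+* K' := FiniteField.ringEquivOfCardEq (by simpa using hK)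
  refine ⟨φ, ?_⟩
  by_cases h : ∀ u, P.γ u = 1
  · obtain ⟨c, Φ, hc, h1, h2⟩ := P.isoA P' hK hM h (hγ.mp h) φ
    exact ⟨c, Φ, hc, h1, h2, fun s => by rw [P.σ_of_γ h, P'.σ_of_γ (hγ.mp h)],
      fun u => by rw [h, hγ.mp h, map_one]⟩
  obtain ⟨a, ha, τ, N⟩ := P.exists_nm h
  obtain ⟨a', ha', τ', N'⟩ := P'.exists_nm (mt hγ.mpr h)
  obtain ⟨Φ, h1, h2, h3, h4⟩ := PQ.isoB hK hM N N' φ
  have hφ : φ a ≠ 0 := (map_ne_zero φ).mpr ha
  refine ⟨a' / φ a, Φ, div_ne_zero ha' hφ, h1, fun m => ?_, fun s => ?_, fun u => ?_⟩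
  · have h5 : P'.q (Φ m) / a' = φ (P.q m / a) := h2 m
    rw [map_div₀] at h5
    field_simp at h5 ⊢
    linear_combination h5
  · exact (N'.σ_eq _).trans ((h3 s).trans (congrArg φ (N.σ_eq s).symm))
  · have h5 : Φ (P.γ (a * (u / a))) = P'.γ (a' * φ (u / a)) := h4 (u / a)
    rw [mul_div_cancel₀ u ha, map_div₀] at h5
    rw [h5]; congr 1; ring

theorem PQ.sol (P : PQ K M) (T : Subgroup (MulAut M))
    (hT : ∀ g ∈ T, (∀ s m, g (P.act s m) = P.act s (g m)) ∧ ∃ c, ∀ m, P.q (g m) = c * P.q m) :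
    ∃ n, ds T n = ⊥ := by
  by_cases h : ∀ u, P.γ u = 1
  · obtain ⟨e, he, hs | ⟨d, ha, hs⟩⟩ := P.caseA h
    · refine ⟨2, semi_aut17 (fun s => P.act s e) ⟨P.act_inj h he, hs⟩ T fun g hg => ?_⟩
      obtain ⟨a, ha⟩ := hs (g e)
      refine ⟨a, ?_, MonoidWithZeroHom.id K, fun s => ?_⟩
      · rintro rfl
        rw [P.act_zero] at ha
        exact he ((map_eq_one_iff g g.injective).mp ha.symm)
      · rw [(hT g hg).1, ← ha, ← P.act_mul, mul_comm]; rfl
    have hq := mt (P.q_eq_zero e).mp he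
    haveI := ha.fact
    set a := P.f e d / P.q e with ha0
    set b := P.q d / P.q e with hb0
    haveI := H7.qa_finite a b
    let x : H7.QA a b → M := fun z => P.w e d z.re z.im
    have hx : Function.Bijective x := ⟨fun z z' hz => by
      obtain ⟨h1, h2⟩ := P.w_inj h he ha hz
      exact QuadraticAlgebra.ext h1 h2, fun m => by
      obtain ⟨s, t, rfl⟩ := hs m
      exact ⟨⟨s, t⟩, rfl⟩⟩
    have hN : ∀ z, P.q (x z) = P.q e * z.norm := fun z => by
      have e1 : P.q e * a = P.f e d := by rw [ha0]; field_simp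
      have e2 : P.q e * b = P.q d := by rw [hb0]; field_simp
      rw [H7.qa_norm]
      show P.q (P.w e d z.re z.im) = _
      rw [P.q_w h]
      linear_combination (-z.re * z.im) * e1 - z.im ^ 2 * e2
    refine ⟨2, semi_aut17 x hx T fun g hg => ?_⟩
    obtain ⟨h1, c, h2⟩ := hT g hg
    obtain ⟨α, hα⟩ := hx.2 (g e)
    obtain ⟨β, hβ⟩ := hx.2 (g d)
    have h3 : ∀ z, g (x z) = x (z.re • α + z.im • β) := fun z => by
      show g (P.act _ _ * P.act _ _) = _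
      rw [map_mul, h1, h1, ← hα, ← hβ]
      simp only [x, P.act_w, P.w_add h]
      rfl
    have h4 : ∀ z : H7.QA a b, (z.re • α + z.im • β).norm = c * z.norm := fun z =>
      mul_left_cancel₀ hq (by rw [← hN, ← h3, h2, hN]; ring)
    have hc := P.c_ne h2
    have h5 : α.norm = c := by simpa [H7.qa_norm] using h4 ⟨1, 0⟩
    have hα0 : α ≠ 0 := by rintro rfl; exact hc (by simpa using h5.symm)
    obtain ⟨y, rfl⟩ : ∃ y, β = α * y := ⟨α⁻¹ * β, by rw [mul_inv_cancel_left₀ hα0]⟩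
    have h6 : ∀ z : H7.QA a b, (z.re • (1 : H7.QA a b) + z.im • y).norm = z.norm := fun z =>
      mul_left_cancel₀ hc (by
        rw [← h4 z, ← h5, ← map_mul, mul_add, mul_smul_comm, mul_smul_comm, mul_one])
    have h7 := h6 ⟨0, 1⟩
    have h8 := h6 ⟨1, 1⟩
    simp only [H7.qa_norm, zero_smul, one_smul, zero_add, QuadraticAlgebra.re_add,
      QuadraticAlgebra.im_add, QuadraticAlgebra.re_one, QuadraticAlgebra.im_one] at h7 h8
    have h9 : (y - ⟨0, 1⟩) * (y - ⟨a, -1⟩) = 0 := by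
      ext
      · simp only [QuadraticAlgebra.re_mul, QuadraticAlgebra.re_sub, QuadraticAlgebra.im_sub,
          QuadraticAlgebra.re_zero]
        linear_combination y.re * (h8 - h7) - h7
      · simp only [QuadraticAlgebra.im_mul, QuadraticAlgebra.re_sub, QuadraticAlgebra.im_sub,
          QuadraticAlgebra.im_zero]
        linear_combination y.im * (h8 - h7)
    refine ⟨α, hα0, ?_⟩
    rcases mul_eq_zero.mp h9 with h0 | h0 <;> obtain rfl := sub_eq_zero.mp h0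
    · refine ⟨MonoidWithZeroHom.id _, fun z => (h3 z).trans (congrArg x ?_)⟩
      ext <;> simp <;> ring
    · refine ⟨(starRingEnd (H7.QA a b)).toMonoidWithZeroHom, fun z => (h3 z).trans (congrArg x ?_)⟩
      ext <;> simp [starRingEnd_apply] <;> ring
  obtain ⟨a, ha, τ, N⟩ := P.exists_nm h
  set Q := P.scale a ha
  obtain ⟨e, hs⟩ : ∃ e, ∀ m, ∃ s u, Q.v e s u = m := by
    by_cases h3 : ∀ m, Q.f m m = 0
    · exact ⟨1, N.surj_one h3⟩
    · push Not at h3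
      obtain ⟨e, he⟩ := h3
      exact ⟨e, N.surj he⟩
  have key : ∀ g ∈ T, ∃ α c, ∀ m, Q.f e (g m) = α * Q.f e m ∧ Q.q (g m) = c * Q.q m := fun g hg => by
    obtain ⟨h1, c, h2⟩ := hT g hg
    have h2' : ∀ m, Q.q (g m) = c * Q.q m := fun m => by
      show P.q (g m) / a = c * (P.q m / a)
      rw [h2]; ring
    obtain ⟨α, u0, h3⟩ := hs (g e)
    refine ⟨α, c, fun m => ⟨?_, h2' m⟩⟩
    obtain ⟨s, u, rfl⟩ := hs m
    obtain ⟨u', hu'⟩ := N.memZ (m := g (Q.γ u)) (by rw [Q.f_aut h2', Q.f_γ, mul_zero])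
    have h4 : g (Q.act s e) = Q.act s (g e) := h1 s e
    rw [Q.f_v, PQ.v, map_mul, h4, ← hu', Q.f_mul_right, Q.f_γ, Q.f_act_right, ← h3, Q.f_v]
    ring
  refine ⟨1, le_bot_iff.mp (Subgroup.commutator_le.mpr fun g hg g' hg' => ?_)⟩
  obtain ⟨α, c, h1⟩ := key g hg
  obtain ⟨α', c', h2⟩ := key g' hg'
  rw [Subgroup.mem_bot, commutatorElement_eq_one_iff_mul_comm]
  refine MulEquiv.ext fun m => ?_
  have e1 : Q.f e (g (g' m)) = Q.f e (g' (g m)) := by rw [(h1 _).1, (h2 _).1, (h2 _).1, (h1 _).1]; ring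
  have e2 : Q.q (g (g' m)) = Q.q (g' (g m)) := by rw [(h1 _).2, (h2 _).2, (h2 _).2, (h1 _).2]; ring
  show g (g' m) = g' (g m)
  obtain ⟨s, u, h3⟩ := hs (g (g' m))
  obtain ⟨t, u', h4⟩ := hs (g' (g m))
  rw [← h3, ← h4] at e1 e2 ⊢
  rw [Q.f_v, Q.f_v] at e1
  exact N.det e1 e2

end TB
end H20
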