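import Mathlib
import Cfsg.Agent.H20.TB0
import Cfsg.Agent.H20.TPQ
import Cfsg.Agent.H17.TOct1

/-! Finite Moufang quadrangles inside a building of type `C₃`. -/

set_option autoImplicit false
set_option linter.unusedSectionVars false

namespace H20
namespace TB

open Subgroup
open scoped commutatorElement

universe u

variable {G G' K K' : Type*} [Group G] [Group G'] [Field K] [Field K'] [Finite K] [Finite K']

namespace Oct.Raw

variable {O : Oct G} {C : O.C3 K} (R : Raw C)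

/-- the scalar action -/
def act (t : K) (m : O.U 3) : O.U 3 := R.B _ (R.A_mem t m)

theorem A_act (t : K) (m : O.U 3) : R.A 1 (R.act t m) = R.A t m := R.A_B _ _

/-- the polar form -/
noncomputable def f (m m' : O.U 3) : K := (R.exists_f m (R.A_mem 1 m')).choose

theorem y_f (m m' : O.U 3) : R.y (R.f m m') = ⁅(m : G), R.A 1 m'⁆ :=
  (R.exists_f m (R.A_mem 1 m')).choose_spec

/-- the central part -/
def γ (u : K) : O.U 3 := R.B _ (R.bm 1 u)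

theorem A_γ (u : K) : R.A 1 (R.γ u) = ⁅C.x 1, R.y u⁆ := R.A_B _ _

theorem A_mul (t : K) (m m' : O.U 3) : R.A t (m * m') = R.A t m * R.A t m' := by
  obtain ⟨u, hu⟩ := R.exists_f m (R.A_mem t m')
  exact (R.mul_right t u m m' hu).1

theorem q_mul (m m' : O.U 3) : R.q (m * m') = R.q m + R.q m' + R.f m m' := by
  have := (R.mul_right 1 _ m m' (R.y_f m m')).2
  linear_combination this

theorem f_act_right (s : K) (m m' : O.U 3) : R.f m (R.act s m') = s * R.f m m' := by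
  have := (R.mul_right s _ m m' (by rw [R.y_f, R.A_act] : R.y (R.f m (R.act s m')) = _)).2
  rw [R.q_mul] at this
  linear_combination -this

theorem act_zero (m : O.U 3) : R.act 0 m = 1 := R.A_inj (by
  have := R.A_mul 1 1 1
  rw [mul_one] at this
  rw [R.A_act, R.A_zero, left_eq_mul.mp this])

theorem act_hom (s : K) (m m' : O.U 3) : R.act s (m * m') = R.act s m * R.act s m' :=
  R.A_inj (by simp only [R.A_mul, R.A_act])

theorem gen (r : K) (hr : r ≠ 0) : ∃ c : K, (∀ t m, R.A t (R.act r m) = R.A (t * r) m) ∧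
    (∀ m, R.q (R.act r m) = r * c * R.q m) ∧ (∀ u, ⁅C.x r, R.y u⁆ = ⁅C.x 1, R.y (c * u)⁆) ∧
    (O.ab 0 → c = r) := by
  obtain ⟨g, g1, g2, g3, g4⟩ := R.exists_g r hr
  have key : ∀ t (m : O.U 3), R.A t ⟨_, g1 3 m m.2⟩ = R.A (t * r) m ∧
      R.y (t * R.q ⟨_, g1 3 m m.2⟩) = g * R.y (t * r * R.q m) * g⁻¹ := fun t m => by
    refine uniq17 (R.A_mem ..) (R.ym _) (R.A_mem ..) (g1 2 _ (R.ym _)) ?_
    rw [← R.rel, ← g2 _ (R.A_mem (t * r) m), show g * R.A (t * r) m * g⁻¹ *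
      (g * R.y (t * r * R.q m) * g⁻¹) = g * (R.A (t * r) m * R.y (t * r * R.q m)) * g⁻¹ by group,
      ← R.rel, show C.x t = g * C.x (t * r) * g⁻¹ by rw [g3]; congr 1; field_simp]
    simp only [commutatorElement_def]; group
  have ha : ∀ m : O.U 3, R.act r m = ⟨_, g1 3 m m.2⟩ := fun m =>
    R.A_inj (by rw [R.A_act, (key 1 m).1, one_mul])
  obtain ⟨e, he, h1⟩ := O.exists_ne17 3
  have hq := R.q_ne ⟨e, he⟩ fun h => h1 (congrArg Subtype.val h)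
  set c := R.q (R.act r ⟨e, he⟩) / (r * R.q ⟨e, he⟩) with hc
  have hy : ∀ u, g * R.y u * g⁻¹ = R.y (c * u) := fun u => by
    have := (key (u / (r * R.q ⟨e, he⟩)) ⟨e, he⟩).2
    rw [show u / (r * R.q ⟨e, he⟩) * r * R.q ⟨e, he⟩ = u by field_simp, ← ha] at this
    rw [← this, hc]; congr 1; ring
  refine ⟨c, fun t m => by rw [ha, (key t m).1], fun m => R.y_inj ?_, fun u => ?_, fun h0 => ?_⟩
  · have := (key 1 m).2
    rw [one_mul, one_mul, ← ha, hy] at this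
    rw [this]; congr 1; ring
  · rw [← g2 _ (R.bm r u), ← hy, ← inv_mul_cancel₀ hr, ← g3]
    simp only [commutatorElement_def]; group
  · simpa using R.y_inj ((hy 1).symm.trans (g4 h0 1))

theorem exists_σ : ∃ σ : K → K, σ 0 = 0 ∧ (∀ r m, R.q (R.act r m) = r * σ r * R.q m) ∧
    (∀ r u, ⁅C.x r, R.y u⁆ = ⁅C.x 1, R.y (σ r * u)⁆) ∧ (O.ab 0 → ∀ r, σ r = r) := by
  classical
  choose c h1 h2 h3 h4 using R.gen
  refine ⟨fun r => if h : r = 0 then 0 else c r h, by simp, fun r m => ?_, fun r u => ?_,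
    fun h0 r => ?_⟩ <;> by_cases h : r = 0
  · simp [h, R.act_zero, R.q_one]
  · simp only [h, dite_false, h2 r h]
  · simp [h, Hex.zero17 C.add, Hex.zero17 R.y_add]
  · simp only [h, dite_false, h3 r h]
  · simp [h]
  · simp only [h, dite_false, h4 r h h0]

theorem act_mul (s t : K) (m : O.U 3) : R.act (s * t) m = R.act s (R.act t m) := by
  by_cases ht : t = 0
  · have := R.act_hom s 1 1
    rw [mul_one] at this
    rw [ht, mul_zero, R.act_zero, left_eq_mul.mp this]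
  · obtain ⟨c, h, -⟩ := R.gen t ht
    exact R.A_inj (by rw [R.A_act, R.A_act, h])

theorem f_mul_left (m m' n : O.U 3) : R.f (m * m') n = R.f m n + R.f m' n := R.y_inj (by
  have c1 := O.c1 2 _ (R.ym (R.f m' n)) m m.2
  rw [add_comm, R.y_add]
  calc _ = (m * R.y (R.f m' n)) * (m : G)⁻¹ * R.y (R.f m n) := by
        simp only [R.y_f, commutatorElement_def, coe_mul]; group
    _ = _ := by rw [← c1]; group)

theorem f_mul_right (m n n' : O.U 3) : R.f m (n * n') = R.f m n + R.f m n' := R.y_inj (by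
  have c1 := O.c1 1 _ (R.A_mem 1 n) _ (R.ym (R.f m n'))
  rw [R.y_add]
  calc _ = R.y (R.f m n) * (R.A 1 n * R.y (R.f m n')) * (R.A 1 n)⁻¹ := by
        simp only [R.y_f, commutatorElement_def, R.A_mul]; group
    _ = _ := by rw [c1]; group)

end Oct.Raw

theorem Oct.C3.exists_pq {O : Oct G} (C : O.C3 K) :
    ∃ (P : PQ K (O.U 3)) (A : O.U 3 → G) (y : K → G),
      (∀ m m', A (m * m') = A m * A m') ∧ Function.Injective A ∧ (∀ g, g ∈ O.U 1 ↔ ∃ m, A m = g) ∧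
      (∀ s t, y (s + t) = y s * y t) ∧ Function.Injective y ∧ (∀ g, g ∈ O.U 2 ↔ ∃ t, y t = g) ∧
      (∀ t (m : O.U 3), ⁅C.x t, (m : G)⁆ = A (P.act t m) * y (t * P.q m)) ∧
      (∀ s u, ⁅C.x s, y u⁆ = A (P.γ (P.σ s * u))) ∧
      ∀ m m' : O.U 3, ⁅(m : G), A m'⁆ = y (P.f m m') := by
  obtain ⟨R⟩ := C.exists_raw
  obtain ⟨σ, σ0, σq, σb, σa⟩ := R.exists_σ
  obtain ⟨e, he, h1⟩ := O.exists_ne17 3
  have hq := R.q_ne ⟨e, he⟩ fun h => h1 (congrArg Subtype.val h)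
  have a1 : ∀ m, R.act 1 m = m := fun m => R.A_inj (R.A_act 1 m)
  have A1 : R.A 1 1 = 1 := left_eq_mul.mp (by rw [← R.A_mul, mul_one] : R.A 1 1 = R.A 1 1 * R.A 1 1)
  let P : PQ K (O.U 3) :=
    { act := R.act, q := R.q, f := R.f, γ := R.γ, σ := σ
      act_zero := R.act_zero
      act_one := a1
      act_mul := R.act_mul
      act_hom := R.act_hom
      act_add := fun s t m => R.A_inj (by
        simp only [R.A_mul, R.A_act, R.A_γ, R.add_left, σb s, mul_assoc (σ s)])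
      q_mul := R.q_mul
      q_eq_zero := fun m => ⟨fun h => by_contra fun h' => R.q_ne m h' h, fun h => h ▸ R.q_one⟩
      q_act := σq
      f_mul_left := R.f_mul_left
      f_mul_right := R.f_mul_right
      f_act_left := fun s m n => by
        by_cases hs : s = 0
        · have := R.f_mul_left 1 1 n
          rw [mul_one] at this
          rw [hs, R.act_zero, σ0, zero_mul]
          linear_combination -this
        · have := σq s (m * n)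
          rw [R.act_hom, R.q_mul, R.q_mul, σq, σq, R.f_act_right] at this
          exact mul_left_cancel₀ hs (by linear_combination this)
      f_act_right := R.f_act_right
      f_γ := fun m u => R.y_inj (by rw [R.y_f, R.A_γ, (R.b_cent u m).1, Hex.zero17 R.y_add])
      σ_zero := σ0
      σ_one := mul_right_cancel₀ hq (by simpa [a1] using (σq 1 ⟨e, he⟩).symm)
      σ_mul := fun s t => by
        by_cases hs : s = 0
        · simp [hs, σ0]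
        by_cases ht : t = 0
        · simp [ht, σ0]
        have := σq (s * t) ⟨e, he⟩
        rw [R.act_mul, σq, σq] at this
        exact mul_left_cancel₀ (mul_ne_zero (mul_ne_zero hs ht) hq) (by linear_combination -this)
      γ_add := fun u v => R.A_inj (by simp only [R.A_mul, R.A_γ, R.b_add_right])
      γ_comm := fun u m => R.A_inj (by simp only [R.A_mul, R.A_γ, (R.b_cent u m).2])
      γ_σ_add := fun s t u => R.A_inj (by
        simp only [R.A_mul, R.A_γ, ← σb]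
        rw [add_comm, R.b_add_left])
      act_γ := fun r u => by
        by_cases hr : r = 0
        · refine R.A_inj ?_
          simp [hr, R.act_zero, A1, R.A_γ, Hex.zero17 R.y_add]
        obtain ⟨k, -, k2, k3, k4⟩ := R.tor r hr
        refine R.A_inj ?_
        rw [R.A_act, R.A_γ, show r * σ r * u = σ r * (r * u) by ring, ← σb, ← k3, ← mul_one r, ← k4,
          ← k2, R.A_γ]
        simp only [commutatorElement_def]; group
      σ_of_γ := fun h => σa fun a ha b hb => by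
        obtain ⟨s, rfl⟩ := (C.mem a).mp ha
        obtain ⟨u, rfl⟩ := (R.y_mem b).mp hb
        rw [← commutatorElement_eq_one_iff_mul_comm, σb, ← R.A_γ, h, A1]
      ne := ⟨⟨e, he⟩, fun h => h1 (congrArg Subtype.val h)⟩ }
  exact ⟨P, R.A 1, R.y, R.A_mul 1, R.A_inj,
    fun g => ⟨fun hg => ⟨_, R.A_B g hg⟩, fun ⟨m, hm⟩ => hm ▸ R.A_mem 1 m⟩, R.y_add, R.y_inj, R.y_mem,
    fun t m => by rw [R.rel]; exact congrArg (· * _) (R.A_act t m).symm,
    fun s u => (σb s u).trans (R.A_γ _).symm, fun m m' => (R.y_f m m').symm⟩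

theorem one_of_mul17 {M : Type*} [Group M] {A : M → G} (h : ∀ m m', A (m * m') = A m * A m') :
    A 1 = 1 := left_eq_mul.mp (by rw [← h, mul_one] : A 1 = A 1 * A 1)

theorem Oct.C3.ab0 {O : Oct G} (C : O.C3 K) {P : PQ K (O.U 3)} {A : O.U 3 → G} {y : K → G}
    (h1 : ∀ m m', A (m * m') = A m * A m') (h2 : Function.Injective A)
    (h6 : ∀ g, g ∈ O.U 2 ↔ ∃ t, y t = g) (h8 : ∀ s u, ⁅C.x s, y u⁆ = A (P.γ (P.σ s * u))) :
    O.ab 0 ↔ ∀ u, P.γ u = 1 := by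
  refine ⟨fun h u => h2 ?_, fun h a ha b hb => ?_⟩
  · have := h8 1 u
    rw [P.σ_one, one_mul] at this
    rw [← this, one_of_mul17 h1, commutatorElement_eq_one_iff_mul_comm]
    exact h _ (C.m0 1) _ ((h6 _).mpr ⟨u, rfl⟩)
  · obtain ⟨s, rfl⟩ := (C.mem a).mp ha
    obtain ⟨u, rfl⟩ := (h6 b).mp hb
    rw [← commutatorElement_eq_one_iff_mul_comm, h8, h, one_of_mul17 h1]

theorem Oct.C3.card {O : Oct G} (C : O.C3 K) :
    (O.ab 0 → (Nat.card (O.U 3) = Nat.card K ∨ Nat.card (O.U 3) = Nat.card K ^ 2) ∧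
      (Odd (Nat.card K) → ¬ O.ab 1)) ∧
    (¬ O.ab 0 → (Nat.card (O.U 3) = Nat.card K ∧ Odd (Nat.card K) ∧ O.ab 1) ∨
      Nat.card (O.U 3) ^ 2 = Nat.card K ∨ Nat.card (O.U 3) ^ 2 = Nat.card K ^ 3) := by
  obtain ⟨P, A, y, h1, h2, h3, h4, h5, h6, h7, h8, h9⟩ := C.exists_pq
  haveI := O.fin 3
  have b1 : O.ab 1 ↔ ∀ m m', P.f m m' = 0 := by
    refine ⟨fun h m m' => h5 ?_, fun h a ha b hb => ?_⟩
    · rw [← h9, Hex.zero17 h4, commutatorElement_eq_one_iff_mul_comm]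
      exact (h _ ((h3 _).mpr ⟨m', rfl⟩) m m.2).symm
    · obtain ⟨m, rfl⟩ := (h3 a).mp ha
      have := h9 ⟨b, hb⟩ m
      rw [h, Hex.zero17 h4, commutatorElement_eq_one_iff_mul_comm] at this
      exact this.symm
  rw [C.ab0 h1 h2 h6 h8, b1]
  refine ⟨fun h => ⟨(P.card.1 h).1, fun ho hf => ?_⟩, P.card.2⟩
  obtain ⟨m, m', hm⟩ := (P.card.1 h).2 ho
  exact hm (hf m m')

theorem Oct.C3.iso {O : Oct G} {O' : Oct G'} (C : O.C3 K) (C' : O'.C3 K')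
    (hK : Nat.card K = Nat.card K') (hM : Nat.card (O.U 3) = Nat.card (O'.U 3))
    (hab : O.ab 0 ↔ O'.ab 0) : ∃ Γ : Subgroup (G × G'), Gr4 O.U O'.U Γ := by
  obtain ⟨P, A, y, h1, h2, h3, h4, h5, h6, h7, h8, h9⟩ := C.exists_pq
  obtain ⟨P', A', y', h1', h2', h3', h4', h5', h6', h7', h8', h9'⟩ := C'.exists_pq
  haveI := O.fin 3
  haveI := O'.fin 3
  obtain ⟨φ, c, Φ, hc, i1, i2, i3, i4⟩ := P.iso P' hK hM
    (by rw [← C.ab0 h1 h2 h6 h8, ← C'.ab0 h1' h2' h6' h8', hab])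
  have i5 : ∀ m n, P'.f (Φ m) (Φ n) = c * φ (P.f m n) := fun m n => by
    have := i2 (m * n)
    rw [map_mul, P'.q_mul, P.q_mul, i2, i2, map_add, map_add] at this
    linear_combination this
  let V0 := (MonoidHom.mk' (fun t : Multiplicative K => (C.x t.toAdd, C'.x (φ t.toAdd)))
    fun s t => by simp [C.add, C'.add]).range
  let V1 := (MonoidHom.mk' (fun m : O.U 3 => (A m, A' (Φ m))) fun s t => by simp [h1, h1']).range
  let V2 := (MonoidHom.mk' (fun t : Multiplicative K => (y t.toAdd, y' (c * φ t.toAdd)))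
    fun s t => by simp [h4, h4', mul_add]).range
  let V3 := (MonoidHom.mk' (fun m : O.U 3 => ((m : G), (Φ m : G'))) fun s t => by simp).range
  have v0 : ∀ g, g ∈ V0 ↔ ∃ t, (C.x t, C'.x (φ t)) = g := fun g => Iff.rfl
  have v1 : ∀ g, g ∈ V1 ↔ ∃ m, (A m, A' (Φ m)) = g := fun g => Iff.rfl
  have v2 : ∀ g, g ∈ V2 ↔ ∃ t, (y t, y' (c * φ t)) = g := fun g => Iff.rfl
  have v3 : ∀ g, g ∈ V3 ↔ ∃ m : O.U 3, ((m : G), (Φ m : G')) = g := fun g => Iff.rfl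
  have l0 : V0 ≤ (O.U 0).prod (O'.U 0) := by rintro _ ⟨t, rfl⟩; exact ⟨C.m0 _, C'.m0 _⟩
  have l1 : V1 ≤ (O.U 1).prod (O'.U 1) := by
    rintro _ ⟨t, rfl⟩; exact ⟨(h3 _).mpr ⟨_, rfl⟩, (h3' _).mpr ⟨_, rfl⟩⟩
  have l2 : V2 ≤ (O.U 2).prod (O'.U 2) := by
    rintro _ ⟨t, rfl⟩; exact ⟨(h6 _).mpr ⟨_, rfl⟩, (h6' _).mpr ⟨_, rfl⟩⟩
  have l3 : V3 ≤ (O.U 3).prod (O'.U 3) := by rintro _ ⟨t, rfl⟩; exact ⟨t.2, (Φ t).2⟩
  have cm : ∀ a b : G × G', ⁅a, b⁆ = (⁅a.1, b.1⁆, ⁅a.2, b.2⁆) := fun a b => rfl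
  have dec := prod4_17 V0 V1 V2 V3
    (fun a ha b hb => Prod.ext (O.c1 0 _ (l0 ha).1 _ (l1 hb).1) (O'.c1 0 _ (l0 ha).2 _ (l1 hb).2))
    (fun a ha b hb => Prod.ext (O.c1 1 _ (l1 ha).1 _ (l2 hb).1) (O'.c1 1 _ (l1 ha).2 _ (l2 hb).2))
    (fun a ha b hb => Prod.ext (O.c1 2 _ (l2 ha).1 _ (l3 hb).1) (O'.c1 2 _ (l2 ha).2 _ (l3 hb).2))
    (fun a ha b hb => by
      obtain ⟨s, rfl⟩ := (v0 a).mp ha
      obtain ⟨u, rfl⟩ := (v2 b).mp hb
      refine (v1 _).mpr ⟨P.γ (P.σ s * u), ?_⟩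
      rw [cm, h8, h8', i4, i3, map_mul, mul_left_comm])
    (fun a ha b hb => by
      obtain ⟨s, rfl⟩ := (v3 a).mp ha
      obtain ⟨u, rfl⟩ := (v1 b).mp hb
      exact (v2 _).mpr ⟨P.f s u, by rw [cm, h9, h9', i5]⟩)
    (fun a ha b hb => by
      obtain ⟨s, rfl⟩ := (v0 a).mp ha
      obtain ⟨m, rfl⟩ := (v3 b).mp hb
      rw [cm, h7, h7', ← Prod.mk_mul_mk]
      exact mul_mem (mem_sup_left ((v1 _).mpr ⟨_, by rw [i1]⟩))
        (mem_sup_right ((v2 _).mpr ⟨s * P.q m, by rw [i2, map_mul, mul_left_comm]⟩)))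
  have g0 : V0 ≤ V0 ⊔ (V1 ⊔ V2) ⊔ V3 := le_sup_left.trans le_sup_left
  have g1 : V1 ≤ V0 ⊔ (V1 ⊔ V2) ⊔ V3 := (le_sup_left.trans le_sup_right).trans le_sup_left
  have g2 : V2 ≤ V0 ⊔ (V1 ⊔ V2) ⊔ V3 := (le_sup_right.trans le_sup_right).trans le_sup_left
  have g3 : V3 ≤ V0 ⊔ (V1 ⊔ V2) ⊔ V3 := le_sup_right
  refine ⟨V0 ⊔ (V1 ⊔ V2) ⊔ V3, fun i a0 a4 a ha => ?_, fun i a0 a4 a ha => ?_, fun γ hγ => ?_, fun γ hγ => ?_⟩
  · interval_cases i
    · obtain ⟨t, rfl⟩ := (C.mem a).mp ha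
      exact ⟨_, C'.m0 _, g0 ((v0 _).mpr ⟨t, rfl⟩)⟩
    · obtain ⟨t, rfl⟩ := (h3 a).mp ha
      exact ⟨_, (h3' _).mpr ⟨_, rfl⟩, g1 ((v1 _).mpr ⟨t, rfl⟩)⟩
    · obtain ⟨t, rfl⟩ := (h6 a).mp ha
      exact ⟨_, (h6' _).mpr ⟨_, rfl⟩, g2 ((v2 _).mpr ⟨t, rfl⟩)⟩
    · exact ⟨_, (Φ ⟨a, ha⟩).2, g3 ((v3 _).mpr ⟨⟨a, ha⟩, rfl⟩)⟩
  · interval_cases i
    · obtain ⟨t, rfl⟩ := (C'.mem a).mp ha
      exact ⟨_, C.m0 (φ.symm t), g0 ((v0 _).mpr ⟨φ.symm t, by simp⟩)⟩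
    · obtain ⟨t, rfl⟩ := (h3' a).mp ha
      exact ⟨_, (h3 _).mpr ⟨Φ.symm t, rfl⟩, g1 ((v1 _).mpr ⟨Φ.symm t, by simp⟩)⟩
    · obtain ⟨t, rfl⟩ := (h6' a).mp ha
      exact ⟨_, (h6 _).mpr ⟨φ.symm (t / c), rfl⟩, g2 ((v2 _).mpr ⟨φ.symm (t / c), by
        simp [mul_div_cancel₀ t hc]⟩)⟩
    · exact ⟨_, (Φ.symm ⟨a, ha⟩).2, g3 ((v3 _).mpr ⟨Φ.symm ⟨a, ha⟩, by simp⟩)⟩
  · obtain ⟨a, ha, b, hb, d, hd, e, he, rfl⟩ := dec γ hγ
    have j1 := O.ind 0 _ (l0 ha).1 _ (l1 hb).1 _ (l2 hd).1 _ (l3 he).1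
    have j2 := O'.ind 0 _ (l0 ha).2 _ (l1 hb).2 _ (l2 hd).2 _ (l3 he).2
    obtain ⟨s, rfl⟩ := (v0 a).mp ha
    obtain ⟨m, rfl⟩ := (v1 b).mp hb
    obtain ⟨u, rfl⟩ := (v2 d).mp hd
    obtain ⟨n, rfl⟩ := (v3 e).mp he
    have k0 : C.x s = 1 ↔ C'.x (φ s) = 1 := by
      rw [← Hex.zero17 C.add, ← Hex.zero17 C'.add, C.inj.eq_iff, C'.inj.eq_iff, map_eq_zero]
    have k1 : A m = 1 ↔ A' (Φ m) = 1 := by
      rw [← one_of_mul17 h1, ← one_of_mul17 h1', h2.eq_iff, h2'.eq_iff, map_eq_one_iff Φ Φ.injective]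
    have k2 : y u = 1 ↔ y' (c * φ u) = 1 := by
      rw [← Hex.zero17 h4, ← Hex.zero17 h4', h5.eq_iff, h5'.eq_iff]; simp [hc]
    have k3 : (n : G) = 1 ↔ (Φ n : G') = 1 := by simp
    refine ⟨fun h => ?_, fun h => ?_⟩
    · obtain ⟨e0, e1, e2, e3⟩ := j1 h
      simp [k0.mp e0, k1.mp e1, k2.mp e2, k3.mp e3]
    · obtain ⟨e0, e1, e2, e3⟩ := j2 h
      simp [k0.mpr e0, k1.mpr e1, k2.mpr e2, k3.mpr e3]
  · obtain ⟨a, ha, b, hb, d, hd, e, he, rfl⟩ := dec γ hγ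
    exact ⟨a, g0 ha, b, g1 hb, d, g2 hd, e, g3 he, l0 ha, l1 hb, l2 hd, l3 he, rfl⟩

theorem Oct.C3.sol {O : Oct G} (C : O.C3 K) (T : Subgroup G)
    (hT : ∀ t ∈ T, ∀ j g, g ∈ O.U j ↔ t * g * t⁻¹ ∈ O.U j) (h0 : ∀ t ∈ T, ∀ g ∈ O.U 0, t * g = g * t) :
    ∃ n, ∀ t ∈ ds T n, ∀ g ∈ O.U 3, t * g = g * t := by
  obtain ⟨P, A, y, h1, h2, h3, h4, h5, h6, h7, h8, h9⟩ := C.exists_pq
  haveI := O.fin 3
  have hN : T ≤ normalizer (O.U 3 : Set G) := fun t ht => mem_normalizer_iff.mpr (hT t ht 3)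
  let ρ : T →* MulAut (O.U 3) := (O.U 3).normalizerMonoidHom.comp (inclusion hN)
  have hρ : ∀ t m, (ρ t m : G) = t * m * (t : G)⁻¹ := fun t m => rfl
  obtain ⟨n, hn⟩ := P.sol ((⊤ : Subgroup T).map ρ) (by
    rintro _ ⟨t, -, rfl⟩
    have key : ∀ s m, A (P.act s (ρ t m)) = t * A (P.act s m) * (t : G)⁻¹ ∧
        y (s * P.q (ρ t m)) = t * y (s * P.q m) * (t : G)⁻¹ := fun s m => by
      refine Oct.uniq17 ((h3 _).mpr ⟨_, rfl⟩) ((h6 _).mpr ⟨_, rfl⟩)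
        ((hT t t.2 1 _).mp ((h3 _).mpr ⟨_, rfl⟩)) ((hT t t.2 2 _).mp ((h6 _).mpr ⟨_, rfl⟩)) ?_
      rw [← h7, show (t : G) * A (P.act s m) * (t : G)⁻¹ * (t * y (s * P.q m) * (t : G)⁻¹) =
        t * (A (P.act s m) * y (s * P.q m)) * (t : G)⁻¹ by group, ← h7, hρ]
      conv_lhs => rw [show C.x s = t * C.x s * (t : G)⁻¹ by rw [h0 t t.2 _ (C.m0 s)]; group]
      simp only [commutatorElement_def]; group
    refine ⟨fun s m => h2 ?_, ?_⟩
    · have := (key 1 (P.act s m)).1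
      rw [P.act_one, P.act_one] at this
      rw [this, (key s m).1]
    · obtain ⟨e, he⟩ := P.ne
      have hq := mt (P.q_eq_zero e).mp he
      refine ⟨P.q (ρ t e) / P.q e, fun m => h5 ?_⟩
      have e1 := (key 1 m).2
      have e2 := (key (P.q m / P.q e) e).2
      rw [div_mul_cancel₀ _ hq] at e2
      rw [one_mul, one_mul, ← e2] at e1
      rw [e1]; congr 1; ring)
  refine ⟨n, fun t ht g hg => ?_⟩
  rw [← ds_map17] at hn
  rw [← range_subtype T, MonoidHom.range_eq_map, ← ds_map17] at ht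
  obtain ⟨t', ht', rfl⟩ := ht
  have e : ρ t' = 1 := (Subgroup.eq_bot_iff_forall _).mp hn _ ⟨t', ht', rfl⟩
  have := hρ t' ⟨g, hg⟩
  rw [e] at this
  exact (eq_mul_inv_iff_mul_eq.mp this).symm

end TB
end H20
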