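import Mathlib
import Cfsg.Agent.H8.Exchange

/-!
# Finite Coxeter systems: parabolic subgroups, longest elements, opposition
-/

set_option autoImplicit false
set_option linter.unusedSectionVars false
set_option linter.unusedVariables false

namespace H20
namespace TB

open H8

/-- A Coxeter system given by the exchange condition. -/
structure CS (I W : Type*) [Group W] extends GenSys I W where
  ex : toGenSys.Exchange
  inj : Function.Injective σ

namespace CS

variable {I W : Type*} [Group W] (D : CS I W)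

/-- standard parabolic subgroup -/
def WJ (J : Set I) : Subgroup W := Subgroup.closure (D.σ '' J)

theorem σ_mem {J : Set I} {i : I} (h : i ∈ J) : D.σ i ∈ D.WJ J := Subgroup.subset_closure ⟨i, h, rfl⟩

theorem mem_of_σ_mem {J : Set I} {i : I} (h : D.σ i ∈ D.WJ J) : i ∈ J := by
  obtain ⟨j, hj, e⟩ := D.ex.σ_mem_closure h
  rwa [← D.inj e]

theorem WJ_mono {J K : Set I} (h : J ⊆ K) : D.WJ J ≤ D.WJ K := Subgroup.closure_mono (Set.image_mono h)

theorem mem_univ (w : W) : w ∈ D.WJ Set.univ := by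
  obtain ⟨l, rfl⟩ := D.gen w
  exact (D.mem_closure_iff _ _).2 ⟨l, by simp, rfl⟩

theorem mem_inter {J K : Set I} {w : W} (h1 : w ∈ D.WJ J) (h2 : w ∈ D.WJ K) : w ∈ D.WJ (J ∩ K) := by
  obtain ⟨l, hl, rfl, hr⟩ := D.ex.exists_reduced_of_mem_closure h1
  exact (D.mem_closure_iff _ _).2
    ⟨l, fun i hi => ⟨hl i hi, D.mem_of_σ_mem (D.ex.σ_mem_closure_of_reduced hr h2 i hi)⟩, rfl⟩

theorem lenσ (i : I) : D.len (D.σ i) = 1 := D.ex.len_σ i

theorem lenL (i : I) (w : W) : D.len (D.σ i * w) = D.len w + 1 ∨ D.len (D.σ i * w) + 1 = D.len w :=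
  D.ex.len_σ_mul i w

theorem lenR (w : W) (i : I) : D.len (w * D.σ i) = D.len w + 1 ∨ D.len (w * D.σ i) + 1 = D.len w :=
  D.ex.len_mul_σ i w

theorem σne (i : I) : D.σ i ≠ 1 := D.ex.σ_ne_one i

theorem mem_single {i : I} {w : W} : w ∈ D.WJ {i} ↔ w = 1 ∨ w = D.σ i := by
  constructor
  · intro h
    induction h using Subgroup.closure_induction with
    | mem x hx => obtain ⟨j, rfl, rfl⟩ := hx; exact Or.inr rfl
    | one => exact Or.inl rfl
    | mul x y _ _ hx hy => rcases hx with rfl | rfl <;> rcases hy with rfl | rfl <;> simp [D.sq]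
    | inv x _ hx => rcases hx with rfl | rfl <;> simp [D.σ_inv]
  · rintro (rfl | rfl)
    exacts [one_mem _, D.σ_mem rfl]

theorem mem_of_descL {J : Set I} {i : I} {w : W} (hw : w ∈ D.WJ J) (h : D.len (D.σ i * w) ≤ D.len w) : i ∈ J :=
  D.mem_of_σ_mem (D.ex.σ_mem_closure_of_len_le hw h)

theorem len_rev (w : W) (i : I) : D.len (w * D.σ i) = D.len (D.σ i * w⁻¹) := by
  rw [← D.len_inv, mul_inv_rev, D.σ_inv]

theorem mem_of_descR {J : Set I} {i : I} {w : W} (hw : w ∈ D.WJ J) (h : D.len (w * D.σ i) ≤ D.len w) : i ∈ J :=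
  D.mem_of_descL (inv_mem hw) (by rwa [← D.len_rev, D.len_inv])

/-- induction along reduced words inside `W_J`, multiplying on the right -/
theorem indR {J : Set I} {P : W → Prop} (h1 : P 1)
    (hs : ∀ w ∈ D.WJ J, ∀ i ∈ J, D.len (w * D.σ i) = D.len w + 1 → P w → P (w * D.σ i)) :
    ∀ w ∈ D.WJ J, P w := by
  intro w hw
  induction h : D.len w using Nat.strong_induction_on generalizing w with
  | _ n ih =>
    by_cases h0 : w = 1
    · exact h0 ▸ h1
    obtain ⟨i, w', rfl, hl⟩ := D.exists_right_descent h0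
    have hi : i ∈ J := D.mem_of_descR hw (by rw [D.mul_σ_σ]; omega)
    have hw' : w' ∈ D.WJ J := by simpa using mul_mem hw (D.σ_mem hi)
    exact hs w' hw' i hi hl (ih _ (by omega) w' hw' rfl)

theorem indR' {P : W → Prop} (h1 : P 1)
    (hs : ∀ w i, D.len (w * D.σ i) = D.len w + 1 → P w → P (w * D.σ i)) (w : W) : P w :=
  D.indR (J := Set.univ) h1 (fun w _ i _ => hs w i) w (D.mem_univ w)

/-- the folding condition -/
theorem fold {i j : I} {w : W} (h1 : D.len w < D.len (D.σ i * w)) (h2 : D.len w < D.len (w * D.σ j)) :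
    D.len (D.σ i * w * D.σ j) = D.len w + 2 ∨ D.σ i * w = w * D.σ j := by
  have a1 := D.lenL i w
  have a2 := D.lenR w j
  have a3 := D.lenL i (w * D.σ j)
  rw [← mul_assoc] at a3
  by_cases h : D.len (D.σ i * w * D.σ j) = D.len w + 2
  · exact Or.inl h
  right
  obtain ⟨l, rfl, hl⟩ := D.exists_reduced w
  obtain ⟨l₁, k, l₂, e, h'⟩ := D.ex i (l ++ [j]) (by simp only [D.π_append, D.π_singleton, ← mul_assoc]; omega)
  rcases List.eq_nil_or_concat l₂ with rfl | ⟨l₃, k', rfl⟩
  · obtain ⟨rfl, h3⟩ := List.append_inj' e rfl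
    simp only [List.cons.injEq, and_true] at h3
    rw [h', h3]
  · exfalso
    rw [List.concat_eq_append, ← List.cons_append, ← List.append_assoc] at e
    obtain ⟨rfl, -⟩ := List.append_inj' e rfl
    have := D.len_le (l₁ ++ l₃)
    rw [← D.π_delete h'] at this
    simp only [List.length_append, List.length_cons] at this hl
    omega

/-- `d` is minimal in `d W_J` -/
def MinR (J : Set I) (d : W) : Prop := ∀ v ∈ D.WJ J, D.len (d * v) = D.len d + D.len v

theorem exists_minR (J : Set I) (w : W) : ∃ v ∈ D.WJ J, D.MinR J (w * v) := by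
  classical
  have hex : ∃ n, ∃ v ∈ D.WJ J, D.len (w * v) = n := ⟨_, 1, one_mem _, rfl⟩
  obtain ⟨v, hv, hn⟩ := Nat.find_spec hex
  have hmin : ∀ u ∈ D.WJ J, D.len (w * v) ≤ D.len (w * u) := fun u hu => hn ▸ Nat.find_min' hex ⟨u, hu, rfl⟩
  refine ⟨v, hv, fun u hu => le_antisymm (D.len_mul_le _ _) ?_⟩
  obtain ⟨l, hl, hl'⟩ := D.exists_reduced (w * v)
  obtain ⟨m, hm, rfl, hm'⟩ := D.ex.exists_reduced_of_mem_closure hu
  obtain ⟨l', hs, e, hr⟩ := D.ex.exists_reduced_sublist (l ++ m)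
  obtain ⟨l₁, l₂, rfl, s1, s2⟩ := List.sublist_append_iff.1 hs
  have m2 : D.π l₂ ∈ D.WJ J := (D.mem_closure_iff _ _).2 ⟨l₂, fun i hi => hm i (s2.subset hi), rfl⟩
  simp only [D.π_append] at e
  have e1 : D.π l₁ = w * (v * D.π m * (D.π l₂)⁻¹) := by
    rw [← mul_assoc, ← mul_assoc, ← hl, ← e]; group
  have h1 : l.length ≤ l₁.length := by
    have := hmin _ (mul_mem (mul_mem hv hu) (inv_mem m2))
    rw [← e1] at this
    exact hl' ▸ this.trans (D.len_le _)
  obtain rfl := s1.eq_of_length_le h1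
  have e2 : D.π l₂ = D.π m := mul_left_cancel e
  have h2 := D.len_le l₂
  unfold GenSys.Reduced at hr hm'
  rw [D.π_append, hl, e2] at hr
  rw [e2] at h2
  simp only [List.length_append] at hr
  omega

theorem minR_of {J : Set I} {d : W} (h : ∀ j ∈ J, D.len d < D.len (d * D.σ j)) : D.MinR J d := by
  obtain ⟨v, hv, hm⟩ := D.exists_minR J d
  by_cases h0 : v⁻¹ = 1
  · rwa [inv_eq_one.1 h0, mul_one] at hm
  obtain ⟨i, w', e, hl⟩ := D.exists_right_descent h0
  have hi : i ∈ J := D.mem_of_descR (inv_mem hv) (by rw [e, D.mul_σ_σ, ← e]; omega)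
  have hw' : w' ∈ D.WJ J := by simpa [e] using mul_mem (inv_mem hv) (D.σ_mem hi)
  have h1 := hm _ (inv_mem hv)
  have h2 := hm _ hw'
  have h3 := h i hi
  rw [mul_inv_cancel_right] at h1
  have : d * v * w' = d * D.σ i := by
    have : w' = v⁻¹ * D.σ i := by rw [e, D.mul_σ_σ]
    rw [this]; group
  rw [this] at h2
  omega

theorem MinR.mono {J K : Set I} {d : W} (h : D.MinR K d) (hJ : J ⊆ K) : D.MinR J d :=
  fun v hv => h v (D.WJ_mono hJ hv)

theorem len_top {J : Set I} {w : W} (h : ∀ j ∈ J, D.len (D.σ j * w) ≤ D.len w) :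
    ∀ v ∈ D.WJ J, D.len (v⁻¹ * w) + D.len v = D.len w := by
  have key : ∀ l : List I, (∀ i ∈ l, i ∈ J) → D.Reduced l →
      ∃ t : List I, D.π (l ++ t) = w ∧ l.length + t.length = D.len w := by
    intro l hl hr
    induction l with
    | nil => obtain ⟨t, h1, h2⟩ := D.exists_reduced w; exact ⟨t, by simpa using h1, by simpa using h2⟩
    | cons i l ih =>
      obtain ⟨t, h1, h2⟩ := ih (fun j hj => hl j (by simp [hj])) hr.tail
      obtain ⟨l₁, k, l₂, e, h'⟩ := D.ex i (l ++ t) (h1 ▸ h i (hl i (by simp)))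
      rcases List.append_eq_append_iff.1 e with ⟨a, rfl, rfl⟩ | ⟨a, rfl, e2⟩
      · refine ⟨a ++ l₂, ?_, by simp only [List.length_append, List.length_cons] at h2 ⊢; omega⟩
        rw [← h1, List.cons_append, D.π_cons, ← List.append_assoc, ← D.π_delete h', D.σ_σ_mul,
          List.append_assoc]
      · cases a with
        | nil =>
          simp only [List.nil_append, List.append_nil] at e2 h1 h2 ⊢
          subst e2
          refine ⟨l₂, ?_, by simp only [List.length_cons] at h2 ⊢; omega⟩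
          rw [← h1, List.cons_append, D.π_cons, ← D.π_delete h', D.σ_σ_mul]
        | cons b a =>
          exfalso
          simp only [List.cons_append, List.cons.injEq] at e2
          obtain ⟨rfl, -⟩ := e2
          have := D.len_le (l₁ ++ a)
          rw [← D.π_delete h'] at this
          unfold GenSys.Reduced at hr
          rw [D.π_cons] at hr
          simp only [List.length_append, List.length_cons] at this hr
          omega
  intro v hv
  obtain ⟨l, hl, rfl, hr⟩ := D.ex.exists_reduced_of_mem_closure hv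
  obtain ⟨t, h1, h2⟩ := key l hl hr
  have e : (D.π l)⁻¹ * w = D.π t := by rw [← h1]; simp
  have a1 := D.len_le t
  have a2 := D.len_mul_le (D.π l) (D.π t)
  rw [← D.π_append, h1] at a2
  unfold GenSys.Reduced at hr
  rw [e]; omega

variable [Finite W]

theorem exists_top (J : Set I) : ∃ w ∈ D.WJ J, ∀ v ∈ D.WJ J, D.len v ≤ D.len w :=
  Set.exists_max_image (D.WJ J : Set W) D.len (Set.toFinite _) ⟨1, one_mem _⟩

/-- the longest element of `W_J` -/
noncomputable def wJ (J : Set I) : W := (D.exists_top J).choose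

theorem wJ_mem (J : Set I) : D.wJ J ∈ D.WJ J := (D.exists_top J).choose_spec.1

theorem len_le_wJ {J : Set I} {v : W} (hv : v ∈ D.WJ J) : D.len v ≤ D.len (D.wJ J) :=
  (D.exists_top J).choose_spec.2 v hv

theorem len_mul_wJ {J : Set I} {v : W} (hv : v ∈ D.WJ J) : D.len (v * D.wJ J) + D.len v = D.len (D.wJ J) := by
  have := D.len_top (J := J) (w := D.wJ J)
    (fun j hj => D.len_le_wJ (mul_mem (D.σ_mem hj) (D.wJ_mem J))) v⁻¹ (inv_mem hv)
  rwa [inv_inv, D.len_inv] at this

theorem eq_wJ {J : Set I} {v : W} (hv : v ∈ D.WJ J) (h : D.len (D.wJ J) ≤ D.len v) : v = D.wJ J := by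
  have := D.len_mul_wJ (inv_mem hv)
  rw [D.len_inv] at this
  exact inv_mul_eq_one.1 (D.len_eq_zero_iff.1 (by omega))

theorem wJ_inv (J : Set I) : (D.wJ J)⁻¹ = D.wJ J := D.eq_wJ (inv_mem (D.wJ_mem J)) (by rw [D.len_inv])

@[simp] theorem wJ_sq (J : Set I) : D.wJ J * D.wJ J = 1 := by
  nth_rw 1 [← D.wJ_inv]; exact inv_mul_cancel _

@[simp] theorem wJ_wJ_mul (J : Set I) (w : W) : D.wJ J * (D.wJ J * w) = w := by
  rw [← mul_assoc, D.wJ_sq, one_mul]

@[simp] theorem mul_wJ_wJ (J : Set I) (w : W) : w * D.wJ J * D.wJ J = w := by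
  rw [mul_assoc, D.wJ_sq, mul_one]

theorem len_wJ_mul {J : Set I} {v : W} (hv : v ∈ D.WJ J) : D.len (D.wJ J * v) + D.len v = D.len (D.wJ J) := by
  rw [← D.len_inv, mul_inv_rev, D.wJ_inv, ← D.len_inv v]; exact D.len_mul_wJ (inv_mem hv)

theorem eq_wJ_of_desc {J : Set I} {v : W} (hv : v ∈ D.WJ J) (h : ∀ j ∈ J, D.len (D.σ j * v) ≤ D.len v) :
    v = D.wJ J :=
  D.eq_wJ hv (by have := D.len_top h _ (D.wJ_mem J); omega)

theorem wJ_single (i : I) : D.wJ {i} = D.σ i := by
  refine (D.eq_wJ (D.σ_mem (Set.mem_singleton i)) ?_).symm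
  rcases D.mem_single.1 (D.wJ_mem {i}) with h | h <;> rw [h]
  simp

theorem len_conj_wJ {J : Set I} {v : W} (hv : v ∈ D.WJ J) : D.len (D.wJ J * v * D.wJ J) = D.len v := by
  have h1 := D.len_mul_wJ (mul_mem (D.wJ_mem J) hv)
  have h2 := D.len_wJ_mul hv
  omega

theorem exists_bar {J : Set I} {k : I} (hk : k ∈ J) : ∃ j ∈ J, D.wJ J * D.σ k = D.σ j * D.wJ J := by
  have h := D.len_conj_wJ (D.σ_mem hk)
  rw [D.lenσ] at h
  obtain ⟨l, e, hl⟩ := D.exists_reduced (D.wJ J * D.σ k * D.wJ J)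
  obtain ⟨j, rfl⟩ := List.length_eq_one_iff.1 (hl.trans h)
  rw [D.π_singleton] at e
  refine ⟨j, D.mem_of_σ_mem (e ▸ mul_mem (mul_mem (D.wJ_mem J) (D.σ_mem hk)) (D.wJ_mem J)), ?_⟩
  rw [e, D.mul_wJ_wJ]

/-- the longest element -/
noncomputable abbrev w0 : W := D.wJ Set.univ

/-- the opposition involution -/
noncomputable def bar (k : I) : I := (D.exists_bar (Set.mem_univ k)).choose

theorem w0_σ (k : I) : D.w0 * D.σ k = D.σ (D.bar k) * D.w0 := (D.exists_bar (Set.mem_univ k)).choose_spec.2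

theorem σ_bar (k : I) : D.σ (D.bar k) = D.w0 * D.σ k * D.w0 := by rw [w0_σ, D.mul_wJ_wJ]

@[simp] theorem bar_bar (k : I) : D.bar (D.bar k) = k := D.inj (by simp [σ_bar, mul_assoc])

theorem σ_w0 (k : I) : D.σ k * D.w0 = D.w0 * D.σ (D.bar k) := by rw [w0_σ, bar_bar]

theorem len_w0_mul (v : W) : D.len (D.w0 * v) + D.len v = D.len D.w0 := D.len_wJ_mul (D.mem_univ v)

theorem len_mul_w0 (v : W) : D.len (v * D.w0) + D.len v = D.len D.w0 := D.len_mul_wJ (D.mem_univ v)

theorem len_conj (v : W) : D.len (D.w0 * v * D.w0) = D.len v := D.len_conj_wJ (D.mem_univ v)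

/-- the opposite type -/
def barS (J : Set I) : Set I := D.bar ⁻¹' J

@[simp] theorem barS_barS (J : Set I) : D.barS (D.barS J) = J := by ext; simp [barS]

theorem barS_mono {J K : Set I} (h : J ⊆ K) : D.barS J ⊆ D.barS K := fun _ hi => h hi

theorem barS_inter (J K : Set I) : D.barS (J ∩ K) = D.barS J ∩ D.barS K := rfl

theorem barS_single (i : I) : D.barS {i} = {D.bar i} := by
  ext j; simp only [barS, Set.mem_preimage, Set.mem_singleton_iff]
  exact ⟨fun h => by rw [← h, bar_bar], fun h => by rw [h, bar_bar]⟩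

theorem barS_pair (i j : I) : D.barS {i, j} = {D.bar i, D.bar j} := by
  rw [Set.insert_eq, Set.insert_eq, ← barS_single, ← barS_single]; rfl

theorem conj_mem {J : Set I} {v : W} (hv : v ∈ D.WJ J) : D.w0 * v * D.w0 ∈ D.WJ (D.barS J) := by
  induction hv using Subgroup.closure_induction with
  | mem x hx => obtain ⟨j, hj, rfl⟩ := hx; rw [← σ_bar]; exact D.σ_mem (by simpa [barS] using hj)
  | one => simp
  | mul x y _ _ hx hy => simpa [mul_assoc] using mul_mem hx hy
  | inv x _ hx => simpa [mul_assoc, wJ_inv] using inv_mem hx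

theorem conj_mem' {J : Set I} {v : W} (hv : v ∈ D.WJ (D.barS J)) : D.w0 * v * D.w0 ∈ D.WJ J := by
  simpa using D.conj_mem hv

theorem wJ_bar (J : Set I) : D.wJ (D.barS J) = D.w0 * D.wJ J * D.w0 := by
  refine (D.eq_wJ (D.conj_mem (D.wJ_mem J)) ?_).symm
  rw [D.len_conj, ← D.len_conj (D.wJ (D.barS J))]
  exact D.len_le_wJ (D.conj_mem' (D.wJ_mem (D.barS J)))

/-- the distance between opposite residues: `op J = w0 w_J = w_{bar J} w0` -/
noncomputable def op (J : Set I) : W := D.w0 * D.wJ J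

theorem op_eq (J : Set I) : D.op J = D.wJ (D.barS J) * D.w0 := by simp [op, wJ_bar]

theorem op_inv (J : Set I) : (D.op J)⁻¹ = D.op (D.barS J) := by
  rw [op_eq D (D.barS J), barS_barS, op, mul_inv_rev, wJ_inv, wJ_inv]

theorem len_op (J : Set I) : D.len (D.op J) + D.len (D.wJ J) = D.len D.w0 := D.len_w0_mul _

theorem op_minR (J : Set I) : D.MinR J (D.op J) := by
  intro v hv
  have h1 := D.len_w0_mul (D.wJ J * v)
  have h2 := D.len_wJ_mul hv
  have h3 := D.len_op J
  rw [op, mul_assoc, ← op]; omega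

theorem op_minL (J : Set I) {v : W} (hv : v ∈ D.WJ (D.barS J)) : D.len (v * D.op J) = D.len v + D.len (D.op J) := by
  rw [← D.len_inv, mul_inv_rev, op_inv, D.op_minR _ _ (inv_mem hv), D.len_inv, ← op_inv, D.len_inv, add_comm]

theorem op_conj {J : Set I} {v : W} (hv : v ∈ D.WJ J) : D.op J * v * (D.op J)⁻¹ ∈ D.WJ (D.barS J) := by
  have := D.conj_mem (mul_mem (mul_mem (D.wJ_mem J) hv) (D.wJ_mem J))
  simpa [op, mul_assoc, wJ_inv] using this

theorem op_conj' {J : Set I} {v : W} (hv : v ∈ D.WJ (D.barS J)) : (D.op J)⁻¹ * v * D.op J ∈ D.WJ J := by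
  have := D.op_conj hv
  rwa [barS_barS, ← op_inv, inv_inv] at this

theorem op_single (i : I) : D.op {i} = D.w0 * D.σ i := by rw [op, wJ_single]

theorem len_wJ_three (J K : Set I) :
    D.len (D.wJ J * D.wJ (J ∩ K) * D.wJ K) = D.len (D.wJ J * D.wJ (J ∩ K)) + D.len (D.wJ K) := by
  have hL : D.wJ (J ∩ K) ∈ D.WJ J := D.WJ_mono Set.inter_subset_left (D.wJ_mem _)
  refine D.minR_of (J := K) (fun k hk => ?_) _ (D.wJ_mem K)
  by_cases hJ : k ∈ J
  · have h1 := D.len_wJ_mul (mul_mem hL (D.σ_mem hJ))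
    have h2 := D.len_wJ_mul hL
    have h3 := D.len_wJ_mul (D.σ_mem (J := J ∩ K) ⟨hJ, hk⟩)
    rw [D.lenσ] at h3
    rw [mul_assoc]; omega
  · exact lt_of_not_ge fun h => hJ (D.mem_of_descR (mul_mem (D.wJ_mem J) hL) h)

end CS

end TB
end H20
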