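import Mathlib
import Cfsg.Agent.H20.TB1

/-!
# Thick spherical buildings as `W`-metric spaces: projections, apartments, rigidity
-/

set_option autoImplicit false
set_option linter.unusedSectionVars false
set_option linter.unusedVariables false

namespace H20
namespace TB

open H8

/-- A thick building. -/
structure Bld {I W : Type*} [Group W] (D : CS I W) (C : Type*) where
  δ : C → C → W
  eq_one : ∀ x y, δ x y = 1 ↔ x = y
  inv : ∀ x y, δ y x = (δ x y)⁻¹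
  wd2 : ∀ x y z i, δ y z = D.σ i → δ x z = δ x y * D.σ i ∨ δ x z = δ x y
  wd2' : ∀ x y z i, δ y z = D.σ i → D.len (δ x y) < D.len (δ x y * D.σ i) → δ x z = δ x y * D.σ i
  wd3 : ∀ x y i, ∃ z, δ y z = D.σ i ∧ δ x z = δ x y * D.σ i
  thick : ∀ x i, ∃ y z, δ x y = D.σ i ∧ δ x z = D.σ i ∧ y ≠ z

namespace Bld

variable {I W : Type*} [Group W] {D : CS I W} {C C' : Type*} (Δ : Bld D C)

@[simp] theorem δ_self (x : C) : Δ.δ x x = 1 := (Δ.eq_one x x).2 rfl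

/-- same `J`-residue -/
def R (J : Set I) (x y : C) : Prop := Δ.δ x y ∈ D.WJ J

theorem R.refl (J : Set I) (x : C) : Δ.R J x x := by simp [R]

variable {Δ}

theorem R.symm {J : Set I} {x y : C} (h : Δ.R J x y) : Δ.R J y x := by
  rw [R, Δ.inv]; exact inv_mem h

theorem R.mono {J K : Set I} {x y : C} (h : Δ.R J x y) (hJ : J ⊆ K) : Δ.R K x y := D.WJ_mono hJ h

theorem R.of_σ {J : Set I} {x y : C} {i : I} (h : Δ.δ x y = D.σ i) (hi : i ∈ J) : Δ.R J x y := by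
  rw [R, h]; exact D.σ_mem hi

theorem σ_symm {x y : C} {i : I} (h : Δ.δ x y = D.σ i) : Δ.δ y x = D.σ i := by rw [Δ.inv, h, D.σ_inv]

theorem R_single {x y : C} {i : I} : Δ.R {i} x y ↔ x = y ∨ Δ.δ x y = D.σ i := by
  rw [R, D.mem_single, Δ.eq_one]

theorem ne_of_σ {x y : C} {i : I} (h : Δ.δ x y = D.σ i) : x ≠ y := fun e =>
  D.σne i (by rw [← h, e, δ_self])

theorem σ_trans {x y z : C} {i : I} (h1 : Δ.δ x y = D.σ i) (h2 : Δ.δ x z = D.σ i) (h : y ≠ z) :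
    Δ.δ y z = D.σ i := by
  rcases Δ.wd2 y x z i h2 with h3 | h3
  · rw [σ_symm h1, D.sq, Δ.eq_one] at h3; exact absurd h3 h
  · rw [h3, σ_symm h1]

variable (Δ) in
theorem third {x y : C} {i : I} (h : Δ.δ x y = D.σ i) : ∃ z, Δ.δ x z = D.σ i ∧ Δ.δ y z = D.σ i := by
  obtain ⟨a, b, ha, hb, hab⟩ := Δ.thick x i
  by_cases e : y = a
  · exact ⟨b, hb, σ_trans h hb (e ▸ hab)⟩
  · exact ⟨a, ha, σ_trans h ha e⟩

theorem step_down {x y : C} {v : W} {i : I} (h : Δ.δ x y = v * D.σ i) : ∃ z, Δ.δ x z = v ∧ Δ.δ z y = D.σ i := by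
  obtain ⟨z, h1, h2⟩ := Δ.wd3 x y i
  exact ⟨z, by rw [h2, h, D.mul_σ_σ], σ_symm h1⟩

variable (Δ) in
theorem exists_δ (x y : C) (v : W) : ∃ z, Δ.δ y z = v ∧ Δ.δ x z = Δ.δ x y * v := by
  induction v using D.indR' with
  | h1 => exact ⟨y, by simp, by simp⟩
  | hs w i hl ih =>
    obtain ⟨z, h1, h2⟩ := ih
    obtain ⟨z', h3, h4⟩ := Δ.wd3 x z i
    exact ⟨z', by rw [Δ.wd2' y z z' i h3 (by rw [h1]; omega), h1], by rw [h4, h2, mul_assoc]⟩

theorem exists_mid {x z : C} {u v : W} (h : Δ.δ x z = u * v) : ∃ y, Δ.δ x y = u ∧ Δ.δ y z = v := by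
  obtain ⟨y, h1, h2⟩ := Δ.exists_δ x z v⁻¹
  exact ⟨y, by rw [h2, h, mul_inv_cancel_right], by rw [Δ.inv, h1, inv_inv]⟩

theorem δ_mul {x y z : C} {u v : W} (h1 : Δ.δ x y = u) (h2 : Δ.δ y z = v)
    (h : D.len (u * v) = D.len u + D.len v) : Δ.δ x z = u * v := by
  induction v using D.indR' generalizing z with
  | h1 => rw [Δ.eq_one] at h2; rw [← h2, h1, mul_one]
  | hs w i hl ih =>
    obtain ⟨z', h3, h4⟩ := step_down h2
    have a1 := D.len_mul_le u w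
    have a2 := D.len_mul_σ_le i (u * w)
    rw [← mul_assoc] at h
    have h5 := ih h3 (by omega)
    rw [Δ.wd2' x z' z i h4 (by rw [h5]; omega), h5, mul_assoc]

theorem mid_unique {x y y' z : C} {u v : W} (h : D.len (u * v) = D.len u + D.len v) (h1 : Δ.δ x y = u)
    (h2 : Δ.δ y z = v) (h1' : Δ.δ x y' = u) (h2' : Δ.δ y' z = v) : y = y' := by
  induction u using D.indR' generalizing y y' v with
  | h1 => rw [Δ.eq_one] at h1 h1'; rw [← h1, ← h1']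
  | hs w i hl ih =>
    obtain ⟨a, h3, h4⟩ := step_down h1
    obtain ⟨a', h3', h4'⟩ := step_down h1'
    have a1 := D.len_mul_le w (D.σ i * v)
    have a2 := D.len_σ_mul_le i v
    have a3 := D.lenσ i
    rw [mul_assoc] at h
    have hv : D.len (D.σ i * v) = D.len (D.σ i) + D.len v := by omega
    obtain rfl := ih (by omega) h3 (δ_mul h4 h2 hv) h3' (δ_mul h4' h2' hv)
    by_contra hne
    have := δ_mul (σ_trans h4 h4' hne) h2' hv
    rw [h2] at this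
    exact D.σne i (by simpa using this.symm)

theorem δ_mem {J : Set I} {y z : C} (x : C) (h : Δ.R J y z) : ∃ v ∈ D.WJ J, Δ.δ x z = Δ.δ x y * v := by
  refine D.indR (P := fun w => ∀ z, Δ.δ y z = w → ∃ v ∈ D.WJ J, Δ.δ x z = Δ.δ x y * v) (J := J) ?_ ?_ _ h z rfl
  · intro z hw
    rw [Δ.eq_one] at hw; exact ⟨1, one_mem _, by simp [hw]⟩
  · intro w hwJ i hi hl ih z hw
    obtain ⟨z', h3, h4⟩ := step_down hw
    obtain ⟨v, hv, e⟩ := ih z' h3
    rcases Δ.wd2 x z' z i h4 with h5 | h5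
    · exact ⟨v * D.σ i, mul_mem hv (D.σ_mem hi), by rw [h5, e, mul_assoc]⟩
    · exact ⟨v, hv, by rw [h5, e]⟩

theorem R.trans {J : Set I} {x y z : C} (h1 : Δ.R J x y) (h2 : Δ.R J y z) : Δ.R J x z := by
  obtain ⟨v, hv, e⟩ := δ_mem x h2
  rw [R, e]; exact mul_mem h1 hv

theorem R.inter {J K : Set I} {x y : C} (h1 : Δ.R J x y) (h2 : Δ.R K x y) : Δ.R (J ∩ K) x y :=
  D.mem_inter h1 h2

/-- the gate property -/
theorem gate {J : Set I} {z p y : C} {d : W} (h : Δ.δ z p = d) (hm : D.MinR J d) (hy : Δ.R J p y) :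
    Δ.δ z y = d * Δ.δ p y := δ_mul h rfl (hm _ hy)

variable (Δ) in
theorem exists_proj (J : Set I) (x z : C) : ∃ p, Δ.R J x p ∧ D.MinR J (Δ.δ z p) := by
  obtain ⟨v, hv, hm⟩ := D.exists_minR J (Δ.δ z x)
  obtain ⟨p, h1, h2⟩ := Δ.exists_δ z x v
  exact ⟨p, by rw [R, h1]; exact hv, h2 ▸ hm⟩

theorem eq_of_gate {J : Set I} {z p y : C} {d : W} (h : Δ.δ z p = d) (hm : D.MinR J d) (hy : Δ.R J p y)
    (h' : Δ.δ z y = d) : p = y := by
  rw [gate h hm hy, mul_eq_left, Δ.eq_one] at h'; exact h'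

/-- induction along galleries in a residue -/
theorem R.ind {J : Set I} {x : C} {P : C → Prop} (h0 : P x)
    (hs : ∀ y z i, Δ.R J x y → i ∈ J → Δ.δ y z = D.σ i → D.len (Δ.δ x y) < D.len (Δ.δ x y * D.σ i) → P y → P z)
    {y : C} (h : Δ.R J x y) : P y := by
  refine D.indR (P := fun w => ∀ y, Δ.δ x y = w → P y) (J := J) ?_ ?_ _ h y rfl
  · intro y hw
    rw [Δ.eq_one] at hw; exact hw ▸ h0
  · intro w hwJ i hi hl ih y hw
    obtain ⟨z, h3, h4⟩ := step_down hw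
    exact hs z y i (by rw [R, h3]; exact hwJ) hi h4 (by rw [h3]; omega) (ih z h3)

/-- a map preserving adjacency is an isometry -/
theorem δ_map {Δ' : Bld D C'} {J : Set I} {x : C} (r : C → C' → Prop) (ht : ∀ y, Δ.R J x y → ∃ y', r y y')
    (hf : ∀ y, Δ.R J x y → ∀ y' y'', r y y' → r y y'' → y' = y'')
    (ha : ∀ y z y' z' i, Δ.R J x y → i ∈ J → r y y' → r z z' → Δ.δ y z = D.σ i → Δ'.δ y' z' = D.σ i)
    {y z : C} {y' z' : C'} (hy : Δ.R J x y) (hz : Δ.R J x z) (h1 : r y y') (h2 : r z z') :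
    Δ.δ y z = Δ'.δ y' z' := by
  refine R.ind (P := fun z => ∀ z', r z z' → Δ.δ y z = Δ'.δ y' z') (fun z' h => ?_) ?_ (hy.symm.trans hz) z' h2
  · rw [hf y hy _ _ h h1]; simp
  · intro a b i hya hi hab hl ih b' hb
    obtain ⟨a', ha'⟩ := ht a (hy.trans hya)
    have e := ih a' ha'
    rw [Δ.wd2' y a b i hab hl, Δ'.wd2' y' a' b' i (ha a b a' b' i (hy.trans hya) hi ha' hb hab) (e ▸ hl), e]

variable [Finite W]

theorem w0_symm {J : Set I} {x y : C} (h : Δ.δ x y = D.wJ J) : Δ.δ y x = D.wJ J := by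
  rw [Δ.inv, h, D.wJ_inv]

theorem op_symm {J : Set I} {x y : C} (h : Δ.δ x y = D.op J) : Δ.δ y x = D.op (D.barS J) := by
  rw [Δ.inv, h, D.op_inv]

theorem op_symm' {J : Set I} {x y : C} (h : Δ.δ x y = D.op (D.barS J)) : Δ.δ y x = D.op J := by
  rw [op_symm h, D.barS_barS]

theorem gateR {J : Set I} {p u v : C} (h : Δ.δ p u = D.op J) (hv : Δ.R J u v) :
    Δ.δ p v = D.op J * Δ.δ u v := gate h (D.op_minR J) hv

theorem gateL {J : Set I} {p u y : C} (h : Δ.δ p u = D.op J) (hy : Δ.R (D.barS J) y p) :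
    Δ.δ y u = Δ.δ y p * D.op J := δ_mul rfl h (D.op_minL J hy)

theorem op_uniqueR {J : Set I} {p u v : C} (h : Δ.δ p u = D.op J) (h' : Δ.δ p v = D.op J) (hv : Δ.R J u v) :
    u = v := eq_of_gate h (D.op_minR J) hv h'

theorem op_uniqueL {J : Set I} {p q u : C} (h : Δ.δ p u = D.op J) (h' : Δ.δ q u = D.op J)
    (hv : Δ.R (D.barS J) p q) : p = q := op_uniqueR (op_symm h) (op_symm h') hv

theorem exists_op0 {J : Set I} {x z : C} (h : Δ.δ x z = D.w0) : ∃ p, Δ.R (D.barS J) x p ∧ Δ.δ p z = D.op J := by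
  obtain ⟨p, h1, h2⟩ := exists_mid (u := D.wJ (D.barS J)) (v := D.op J) (h.trans (by simp [D.op_eq]))
  exact ⟨p, by rw [R, h1]; exact D.wJ_mem _, h2⟩

theorem exists_opL {J : Set I} {x z u : C} (h : Δ.δ x z = D.w0) (hu : Δ.R J z u) :
    ∃ p, Δ.R (D.barS J) x p ∧ Δ.δ p u = D.op J := by
  obtain ⟨p, h1, h2⟩ := exists_op0 (J := J) h
  obtain ⟨q, h3, h4⟩ := exists_mid (u := D.op J * Δ.δ z u * (D.op J)⁻¹) (v := D.op J)
    ((gateR h2 hu).trans (by group))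
  exact ⟨q, h1.trans (by rw [R, h3]; exact D.op_conj hu), h4⟩

theorem exists_opR {J : Set I} {x z p : C} (h : Δ.δ x z = D.w0) (hp : Δ.R (D.barS J) x p) :
    ∃ u, Δ.R J z u ∧ Δ.δ p u = D.op J := by
  obtain ⟨u, h1, h2⟩ := exists_opL (w0_symm h) hp
  exact ⟨u, by simpa using h1, op_symm' h2⟩

/-- distances in opposite residues -/
theorem δ_op {J : Set I} {p u q v : C} (h : Δ.δ p u = D.op J) (h' : Δ.δ q v = D.op J) (hv : Δ.R J u v)
    (hq : Δ.R (D.barS J) p q) : Δ.δ u v = (D.op J)⁻¹ * Δ.δ p q * D.op J := by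
  have h1 := gateR h hv
  rw [gateL h' hq] at h1
  rw [mul_assoc, h1]; group

/-- projections onto `R_J` of chambers of a `K`-residue which are opposite the `J ∩ K`-residue -/
theorem lemF {J K : Set I} {c u v p : C} (hu : Δ.δ c u = D.op (J ∩ K)) (hv : Δ.δ c v = D.op (J ∩ K))
    (huv : Δ.R K u v) (hp : Δ.R (D.barS J) c p) (hpv : Δ.δ p v = D.op J) : Δ.δ p u = D.op J := by
  have hL : D.wJ (J ∩ K) ∈ D.WJ K := D.WJ_mono Set.inter_subset_right (D.wJ_mem _)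
  have hL' : D.wJ (J ∩ K) ∈ D.WJ J := D.WJ_mono Set.inter_subset_left (D.wJ_mem _)
  obtain ⟨e, h1, h2⟩ := Δ.exists_δ c u (D.wJ (J ∩ K) * D.wJ K)
  have hue : Δ.R K u e := by rw [R, h1]; exact mul_mem hL (D.wJ_mem _)
  have h3 : Δ.δ c e = D.op K := by rw [h2, hu]; simp [CS.op, mul_assoc]
  obtain ⟨q, h4, h5⟩ := exists_mid (u := D.op (J ∩ K) * (D.op J)⁻¹)
    (v := D.w0 * (D.wJ J * D.wJ (J ∩ K) * D.wJ K)) (h3.trans (by simp [CS.op, mul_assoc, D.wJ_inv]))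
  have key : ∀ t, Δ.δ c t = D.op (J ∩ K) → Δ.R K e t → Δ.δ q t = D.op J := by
    intro t ht het
    have h6 := gateR h3 het
    have h7 : Δ.δ e t = D.wJ K * D.wJ (J ∩ K) := by
      rw [ht] at h6
      rw [← inv_mul_cancel_left (D.op K) (Δ.δ e t), ← h6]; simp [CS.op, mul_assoc, D.wJ_inv]
    have e1 : D.w0 * (D.wJ J * D.wJ (J ∩ K) * D.wJ K) * (D.wJ K * D.wJ (J ∩ K)) = D.op J := by
      simp [CS.op, mul_assoc]
    rw [δ_mul h5 h7 ?_, e1]
    have a1 := D.len_w0_mul (D.wJ J * D.wJ (J ∩ K) * D.wJ K)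
    have a2 := D.len_wJ_three J K
    have a3 := D.len_wJ_mul hL
    have a4 := D.len_wJ_mul hL'
    have a5 := D.len_op J
    rw [e1]; omega
  have hq : Δ.R (D.barS J) c q := by
    rw [R, h4]
    have := D.conj_mem (mul_mem hL' (D.wJ_mem J))
    simpa [CS.op, mul_assoc, D.wJ_inv] using this
  rw [op_uniqueL hpv (key v hv (hue.symm.trans huv)) (hp.symm.trans hq)]
  exact key u hu hue.symm

/-- in a panel all chambers but the projection are opposite -/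
theorem opp_of_ne {J : Set I} {y a b : C} {k : I} (hk : k ∈ J) (ha : Δ.δ y a = D.wJ J * D.σ k)
    (hab : Δ.δ a b = D.σ k) : Δ.δ y b = D.wJ J := by
  have := D.len_wJ_mul (D.σ_mem hk)
  rw [D.lenσ] at this
  rw [Δ.wd2' y a b k hab (by rw [ha, D.mul_σ_σ]; omega), ha, D.mul_σ_σ]

/-- two chambers having opposites in a panel have a common opposite in it -/
theorem common_opp {J : Set I} {y₁ y₂ e₁ e₂ : C} {k : I} (hk : k ∈ J) (h1 : Δ.δ y₁ e₁ = D.wJ J)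
    (h2 : Δ.δ y₂ e₂ = D.wJ J) (he : Δ.R {k} e₁ e₂) :
    ∃ e, Δ.R {k} e₁ e ∧ Δ.δ y₁ e = D.wJ J ∧ Δ.δ y₂ e = D.wJ J := by
  obtain ⟨a₁, h3, h4⟩ := Δ.wd3 y₁ e₁ k
  obtain ⟨a₂, h5, h6⟩ := Δ.wd3 y₂ e₂ k
  rw [h1] at h4
  rw [h2] at h6
  have r1 : Δ.R {k} e₁ a₁ := R.of_σ h3 rfl
  have r2 : Δ.R {k} a₁ a₂ := r1.symm.trans (he.trans (R.of_σ h5 rfl))
  rcases R_single.1 r2 with rfl | h7
  · exact ⟨e₁, R.refl _ _ _, h1, opp_of_ne hk h6 (σ_symm h3)⟩
  · obtain ⟨e, h8, h9⟩ := Δ.third h7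
    exact ⟨e, r1.trans (R.of_σ h8 rfl), opp_of_ne hk h4 h8, opp_of_ne hk h6 h9⟩

/-! ### Apartments -/

variable (Δ) in
open Classical in
/-- the apartment spanned by opposite chambers -/
noncomputable def ap (x z : C) (w : W) : C :=
  if h : Δ.δ x z = D.w0 then (exists_mid (u := w) (v := w⁻¹ * D.w0) (h.trans (by group))).choose else x

section Ap

variable {x z : C} (h : Δ.δ x z = D.w0)
include h

theorem ap_left (w : W) : Δ.δ x (Δ.ap x z w) = w := by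
  rw [ap, dif_pos h]; exact (exists_mid (u := w) (v := w⁻¹ * D.w0) (h.trans (by group))).choose_spec.1

theorem ap_right (w : W) : Δ.δ (Δ.ap x z w) z = w⁻¹ * D.w0 := by
  rw [ap, dif_pos h]; exact (exists_mid (u := w) (v := w⁻¹ * D.w0) (h.trans (by group))).choose_spec.2

theorem eq_ap {w : W} {a : C} (h1 : Δ.δ x a = w) (h2 : Δ.δ a z = w⁻¹ * D.w0) : a = Δ.ap x z w := by
  refine mid_unique ?_ h1 h2 (ap_left h w) (ap_right h w)
  have := D.len_mul_w0 w⁻¹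
  rw [D.len_inv] at this
  rw [mul_inv_cancel_left]; omega

theorem ap_one : Δ.ap x z 1 = x := (eq_ap h (by simp) (by simpa using h)).symm

theorem ap_w0 : Δ.ap x z D.w0 = z := (eq_ap h h (by simp)).symm

theorem ap_σ (w : W) (i : I) : Δ.δ (Δ.ap x z w) (Δ.ap x z (w * D.σ i)) = D.σ i := by
  have key : ∀ w, D.len w < D.len (w * D.σ i) → Δ.δ (Δ.ap x z w) (Δ.ap x z (w * D.σ i)) = D.σ i := by
    intro w hw
    obtain ⟨b, h1, h2⟩ := exists_mid (u := D.σ i) (v := (w * D.σ i)⁻¹ * D.w0)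
      ((ap_right h w).trans (by simp [D.σ_inv, mul_assoc]))
    rwa [← eq_ap h (by rw [Δ.wd2' x _ b i h1 (by rwa [ap_left h]), ap_left h]) h2]
  rcases D.lenR w i with h1 | h1
  · exact key w (by omega)
  · have := key (w * D.σ i) (by rw [D.mul_σ_σ]; omega)
    rw [D.mul_σ_σ] at this
    exact σ_symm this

theorem ap_ap (v w : W) : Δ.δ (Δ.ap x z v) (Δ.ap x z w) = v⁻¹ * w := by
  obtain ⟨u, rfl⟩ : ∃ u, w = v * u := ⟨v⁻¹ * w, by group⟩
  rw [inv_mul_cancel_left]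
  induction u using D.indR' with
  | h1 => simp
  | hs u i hl ih => rw [← mul_assoc, Δ.wd2' _ _ _ i (ap_σ h (v * u) i) (by rw [ih]; omega), ih]

theorem ap_opp (v : W) : Δ.δ (Δ.ap x z v) (Δ.ap x z (v * D.w0)) = D.w0 := by rw [ap_ap h]; group

theorem ap_ap' (v w : W) : Δ.ap (Δ.ap x z v) (Δ.ap x z (v * D.w0)) w = Δ.ap x z (v * w) :=
  (eq_ap (ap_opp h v) (by rw [ap_ap h]; group) (by rw [ap_ap h]; group)).symm

theorem ap_inj {v w : W} (e : Δ.ap x z v = Δ.ap x z w) : v = w := by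
  rw [← ap_left h v, e, ap_left h]

theorem ap_swap (w : W) : Δ.ap z x w = Δ.ap x z (D.w0 * w) := by
  have := ap_ap' h D.w0 w
  rwa [D.wJ_sq, ap_w0 h, ap_one h] at this

/-- apartments through adjacent chambers share a root -/
theorem ap_eq_of_adj {z₁ : C} {l : I} (h₁ : Δ.δ x z₁ = D.w0) (hz : Δ.R {l} z z₁) {u : W}
    (hu : D.len u < D.len (D.σ (D.bar l) * u)) : Δ.ap x z u = Δ.ap x z₁ u := by
  obtain ⟨g, h1, h2⟩ := Δ.wd3 x z l
  rw [h] at h2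
  have a1 := D.len_w0_mul (D.σ l)
  have a2 := D.len_mul_w0 (u⁻¹ * D.σ (D.bar l))
  have a3 := D.len_mul_w0 u⁻¹
  have a4 := D.lenσ l
  rw [D.len_rev, inv_inv] at a2
  rw [D.len_inv] at a3
  have e : u⁻¹ * D.σ (D.bar l) * D.w0 * D.σ l = u⁻¹ * D.w0 := by
    rw [mul_assoc u⁻¹, ← D.w0_σ, ← mul_assoc, D.mul_σ_σ]
  obtain ⟨b, h3, h4⟩ := exists_mid (u := u) (v := u⁻¹ * D.σ (D.bar l) * D.w0)
    (h2.trans (by rw [D.w0_σ]; group))
  have key : ∀ t, Δ.δ x t = D.w0 → Δ.R {l} g t → b = Δ.ap x t u := by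
    intro t ht hg
    rcases R_single.1 hg with rfl | hg
    · rw [h2] at ht; exact absurd (mul_eq_left.1 ht) (D.σne l)
    · exact eq_ap ht h3 (by rw [Δ.wd2' b g t l hg (by rw [h4, e]; omega), h4, e])
  have r1 : Δ.R {l} g z := R.of_σ (σ_symm h1) rfl
  rw [← key z h r1, ← key z₁ h₁ (r1.trans hz)]

end Ap

variable (Δ) in
theorem exists_opp (x : C) : ∃ z, Δ.δ x z = D.w0 := by
  obtain ⟨z, h, -⟩ := Δ.exists_δ x x D.w0
  exact ⟨z, h⟩

/-! ### Rigidity -/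

/-- `r` is an isometry on the `J`-residue of `x` -/
structure Iso (Δ : Bld D C) (Δ' : Bld D C') (J : Set I) (x : C) (r : C → C' → Prop) : Prop where
  tot : ∀ y, Δ.R J x y → ∃ y', r y y'
  iso : ∀ {y z y' z'}, Δ.R J x y → Δ.R J x z → r y y' → r z z' → Δ.δ y z = Δ'.δ y' z'

theorem Iso.func {Δ' : Bld D C'} {J : Set I} {x : C} {r : C → C' → Prop} (h : Iso Δ Δ' J x r) {y : C}
    (hy : Δ.R J x y) {y' y'' : C'} (h1 : r y y') (h2 : r y y'') : y' = y'' := by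
  rw [← Δ'.eq_one, ← h.iso hy hy h1 h2, δ_self]

/-- Tits' rigidity theorem -/
theorem rigid {Δ' : Bld D C'} {J : Set I} {x o : C} {o' : C'} {r s : C → C' → Prop} (hr : Iso Δ Δ' J x r)
    (hs : Iso Δ Δ' J x s) (hx : ∀ j ∈ J, ∀ y y', Δ.R {j} x y → r y y' → s y y') (hx0 : ∀ y', r x y' → s x y')
    (ho : Δ.δ x o = D.wJ J) (h1 : r o o') (h2 : s o o') {y : C} (hy : Δ.R J x y) {y' : C'} (h : r y y') :
    s y y' := by
  let F : C → Prop := fun y => ∀ y', r y y' → s y y'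
  let Full : C → Prop := fun y => F y ∧ ∀ j ∈ J, ∀ v, Δ.δ y v = D.σ j → F v
  have hRo : ∀ {y o : C}, Δ.δ y o = D.wJ J → Δ.R J y o := fun h => by rw [R, h]; exact D.wJ_mem _
  have A : ∀ y o, Δ.R J x y → Full y → Δ.δ y o = D.wJ J → F o → Full o := by
    intro y o hy hF ho hFo
    refine ⟨hFo, fun k hk v hv v' hv' => ?_⟩
    have hxo := hy.trans (hRo ho)
    have hxv := hxo.trans (R.of_σ hv hk)
    obtain ⟨j, hj, e⟩ := D.exists_bar hk
    have hp : ∃ p, Δ.R J y p ∧ F p ∧ Δ.δ p v = D.wJ J * D.σ k := by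
      rcases Δ.wd2 y o v k hv with h3 | h3
      · exact ⟨y, R.refl _ _ _, hF.1, by rw [h3, ho]⟩
      · obtain ⟨p, h4, h5⟩ := exists_mid (u := D.σ j) (v := D.σ j * D.wJ J) (h3.trans (by simpa using ho))
        exact ⟨p, R.of_σ h4 hj, hF.2 j hj p h4, by rw [h5, e]⟩
    obtain ⟨p, hyp, hFp, hpv⟩ := hp
    obtain ⟨p', hp'⟩ := hr.tot p (hy.trans hyp)
    obtain ⟨o', ho'⟩ := hr.tot o hxo
    obtain ⟨v'', hv''⟩ := hs.tot v hxv
    have e1 := hr.iso (hy.trans hyp) hxv hp' hv'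
    have e2 := hs.iso (hy.trans hyp) hxv (hFp _ hp') hv''
    have e3 := hr.iso hxo hxv ho' hv'
    have e4 := hs.iso hxo hxv (hFo _ ho') hv''
    by_cases hne : v' = v''
    · exact hne ▸ hv''
    · have := opp_of_ne hk (e1.symm.trans hpv) (σ_trans (e3.symm.trans hv) (e4.symm.trans hv) hne)
      rw [← e2, hpv] at this
      exact absurd (mul_eq_left.1 this) (D.σne k)
  have B : ∀ y, Δ.R J x y → Full y ∧ ∃ o, Δ.δ y o = D.wJ J ∧ F o := by
    intro y hy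
    refine R.ind (P := fun y => Full y ∧ ∃ o, Δ.δ y o = D.wJ J ∧ F o) ?_ ?_ hy
    · refine ⟨⟨hx0, fun j hj v hv y' => hx j hj v y' (R.of_σ hv rfl)⟩, o, ho, fun y' h' => ?_⟩
      rw [hr.func (hRo ho) h' h1]; exact h2
    · rintro y z j hy hj hyz - ⟨hF, o, ho, hFo⟩
      have hFull := A y o hy hF ho hFo
      have hFz := hF.2 j hj z hyz
      have hxz := hy.trans (R.of_σ hyz hj)
      obtain ⟨k, hk, e⟩ := D.exists_bar hj
      have hc : ∃ o₁, Δ.δ y o₁ = D.wJ J ∧ Δ.δ z o₁ = D.wJ J ∧ F o₁ := by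
        rcases Δ.wd2 o y z j hyz with h3 | h3
        · obtain ⟨o₂, h4, h5⟩ := Δ.wd3 z o k
          rw [Δ.inv o z, h3, w0_symm ho, e, mul_inv_rev, D.wJ_inv, D.σ_inv, D.mul_σ_σ] at h5
          obtain ⟨o₁, h6, h7, h8⟩ := common_opp hk ho h5 (R.of_σ h4 rfl)
          refine ⟨o₁, h7, h8, ?_⟩
          rcases R_single.1 h6 with rfl | h6
          exacts [hFo, hFull.2 k hk _ h6]
        · exact ⟨o, ho, w0_symm (h3.trans (w0_symm ho)), hFo⟩
      obtain ⟨o₁, h3, h4, h5⟩ := hc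
      exact ⟨A o₁ z (hy.trans (hRo h3)) (A y o₁ hy hF h3 h5) (w0_symm h4) hFz, o₁, h4, h5⟩
  exact (B y hy).1.1 y' h

end Bld

end TB
end H20
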