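import Mathlib
import Cfsg.Agent.H20.TB2

/-!
# Local isomorphisms of buildings: transport to opposite chambers and moves
-/

set_option autoImplicit false
set_option linter.unusedSectionVars false
set_option linter.unusedVariables false

namespace H20
namespace TB

open H8

/-- types of rank at most two -/
def Sm {I : Type*} (J : Set I) : Prop := ∃ i j, J ⊆ {i, j}

theorem Sm.mono {I : Type*} {J K : Set I} (h : Sm K) (hJ : J ⊆ K) : Sm J := by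
  obtain ⟨i, j, h⟩ := h; exact ⟨i, j, hJ.trans h⟩

theorem Sm.pair {I : Type*} (i j : I) : Sm {i, j} := ⟨i, j, le_rfl⟩

theorem Sm.single {I : Type*} (i : I) : Sm {i} := ⟨i, i, by simp⟩

namespace Bld

variable {I W : Type*} [Group W] [Finite W] {D : CS I W} {C C' : Type*} {Δ : Bld D C} {Δ' : Bld D C'}

theorem _root_.H20.TB.Sm.bar {J : Set I} (h : Sm J) (D : CS I W) : Sm (D.barS J) := by
  obtain ⟨i, j, h⟩ := h
  exact ⟨D.bar i, D.bar j, by rw [← D.barS_pair]; exact D.barS_mono h⟩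

variable (Δ Δ') in
/-- `r` is an isomorphism between the rank two neighbourhoods of `x` and `x'` compatible with the
opposite chambers `z`, `z'` -/
structure IsSt (x z : C) (x' z' : C') (r : C → C' → Prop) : Prop where
  opp : Δ.δ x z = D.w0
  base : r x x'
  dom : ∀ {y y'}, r y y' → ∃ J, Sm J ∧ Δ.R J x y
  tot : ∀ {J}, Sm J → ∀ {y}, Δ.R J x y → ∃ y', r y y'
  tot' : ∀ {J}, Sm J → ∀ {y'}, Δ'.R J x' y' → ∃ y, r y y'
  iso : ∀ {J}, Sm J → ∀ {y v y' v'}, Δ.R J x y → Δ.R J x v → r y y' → r v v' → Δ.δ y v = Δ'.δ y' v'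
  dist : ∀ {y y'}, r y y' → Δ.δ y z = Δ'.δ y' z'

variable (Δ Δ') in
/-- transport to the `J`-residue of the opposite chamber -/
def TJ (x z : C) (z' : C') (r : C → C' → Prop) (J : Set I) (u : C) (u' : C') : Prop :=
  Δ.R J z u ∧ Δ'.R J z' u' ∧ ∃ p p', r p p' ∧ Δ.R (D.barS J) x p ∧ Δ.δ p u = D.op J ∧ Δ'.δ p' u' = D.op J

variable (Δ Δ') in
/-- transport to the opposite chamber -/
def Tr (x z : C) (z' : C') (r : C → C' → Prop) (u : C) (u' : C') : Prop :=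
  ∃ J, Sm J ∧ TJ Δ Δ' x z z' r J u u'

namespace IsSt

variable {x z : C} {x' z' : C'} {r : C → C' → Prop} (h : IsSt Δ Δ' x z x' z' r)
include h

theorem opp' : Δ'.δ x' z' = D.w0 := by rw [← h.dist h.base, h.opp]

theorem δ_base {y : C} {y' : C'} (hy : r y y') : Δ.δ x y = Δ'.δ x' y' := by
  obtain ⟨J, hJ, h1⟩ := h.dom hy
  exact h.iso hJ (R.refl _ _ _) h1 h.base hy

theorem R_iff {J : Set I} {y : C} {y' : C'} (hy : r y y') : Δ.R J x y ↔ Δ'.R J x' y' := by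
  rw [R, R, h.δ_base hy]

theorem toIso {J : Set I} (hJ : Sm J) : Iso Δ Δ' J x r := ⟨fun y hy => h.tot hJ hy, fun a b c d => h.iso hJ a b c d⟩

theorem func {y : C} {y' y'' : C'} (h1 : r y y') (h2 : r y y'') : y' = y'' := by
  obtain ⟨J, hJ, hy⟩ := h.dom h1
  exact (h.toIso hJ).func hy h1 h2

theorem TJ_dist {J : Set I} (hJ : Sm J) {u y : C} {u' y' : C'} (hu : TJ Δ Δ' x z z' r J u u') (hy : r y y')
    (hR : Δ.R (D.barS J) x y) : Δ.δ y u = Δ'.δ y' u' := by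
  obtain ⟨-, -, p, p', h1, h2, h3, h4⟩ := hu
  rw [gateL h3 (hR.symm.trans h2), gateL h4 (((h.R_iff hy).1 hR).symm.trans ((h.R_iff h1).1 h2)),
    h.iso (hJ.bar D) hR h2 hy h1]

theorem TJ_iso {J : Set I} (hJ : Sm J) {u v : C} {u' v' : C'} (hu : TJ Δ Δ' x z z' r J u u')
    (hv : TJ Δ Δ' x z z' r J v v') : Δ.δ u v = Δ'.δ u' v' := by
  obtain ⟨a1, a2, p, p', h1, h2, h3, h4⟩ := hu
  have e := h.TJ_dist hJ hv h1 h2
  rw [gateR h3 (a1.symm.trans hv.1), gateR h4 (a2.symm.trans hv.2.1)] at e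
  exact mul_left_cancel e

theorem TJ_base {J : Set I} (hJ : Sm J) : TJ Δ Δ' x z z' r J z z' := by
  obtain ⟨p, h1, h2⟩ := exists_op0 (J := J) h.opp
  obtain ⟨p', h3⟩ := h.tot (hJ.bar D) h1
  exact ⟨R.refl _ _ _, R.refl _ _ _, p, p', h3, h1, h2, by rw [← h.dist h3, h2]⟩

theorem TJ_tot {J : Set I} (hJ : Sm J) {u : C} (hu : Δ.R J z u) : ∃ u', TJ Δ Δ' x z z' r J u u' := by
  obtain ⟨p, h1, h2⟩ := exists_opL h.opp hu
  obtain ⟨p', h3⟩ := h.tot (hJ.bar D) h1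
  obtain ⟨u', h4, h5⟩ := exists_opR h.opp' ((h.R_iff h3).1 h1)
  exact ⟨u', hu, h4, p, p', h3, h1, h2, h5⟩

theorem TJ_tot' {J : Set I} (hJ : Sm J) {u' : C'} (hu : Δ'.R J z' u') : ∃ u, TJ Δ Δ' x z z' r J u u' := by
  obtain ⟨p', h1, h2⟩ := exists_opL h.opp' hu
  obtain ⟨p, h3⟩ := h.tot' (hJ.bar D) h1
  obtain ⟨u, h4, h5⟩ := exists_opR h.opp ((h.R_iff h3).2 h1)
  exact ⟨u, h4, hu, p, p', h3, (h.R_iff h3).2 h1, h5, h2⟩

theorem TJ_down {L K : Set I} (hK : Sm K) (hL : L ⊆ K) {u : C} {u' : C'} (hu : TJ Δ Δ' x z z' r K u u')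
    (hR : Δ.R L z u) : TJ Δ Δ' x z z' r L u u' := by
  obtain ⟨c, h1, h2⟩ := exists_opL h.opp hR
  obtain ⟨c', h3⟩ := h.tot ((hK.mono hL).bar D) h1
  refine ⟨hR, ?_, c, c', h3, h1, h2, ?_⟩
  · rwa [R, ← h.TJ_iso hK (h.TJ_base hK) hu]
  · rw [← h.TJ_dist hK hu h3 (h1.mono (D.barS_mono hL)), h2]

theorem TJ_up {L K : Set I} (hK : Sm K) (hL : L ⊆ K) {u : C} {u' : C'} (hu : TJ Δ Δ' x z z' r L u u') :
    TJ Δ Δ' x z z' r K u u' := by
  obtain ⟨u'', h1⟩ := h.TJ_tot hK (hu.1.mono hL)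
  have h2 := h.TJ_down hK hL h1 hu.1
  have := h.TJ_iso (hK.mono hL) hu h2
  rw [δ_self, eq_comm, Δ'.eq_one] at this
  exact this ▸ h1

theorem Tr_iff {K : Set I} (hK : Sm K) {u : C} {u' : C'} (hR : Δ.R K z u) :
    Tr Δ Δ' x z z' r u u' ↔ TJ Δ Δ' x z z' r K u u' := by
  refine ⟨fun ⟨J, hJ, hu⟩ => ?_, fun hu => ⟨K, hK, hu⟩⟩
  exact h.TJ_up hK Set.inter_subset_right (h.TJ_down hJ Set.inter_subset_left hu (hu.1.inter hR))

theorem Tr_dist {K : Set I} (hK : Sm K) {u y : C} {u' y' : C'} (hu : Tr Δ Δ' x z z' r u u') (hR : Δ.R K z u)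
    (hy : r y y') (hR' : Δ.R (D.barS K) x y) : Δ.δ y u = Δ'.δ y' u' :=
  h.TJ_dist hK ((h.Tr_iff hK hR).1 hu) hy hR'

theorem swap : IsSt Δ Δ' z x z' x' (Tr Δ Δ' x z z' r) where
  opp := w0_symm h.opp
  base := by obtain ⟨J, hJ, -⟩ := h.dom h.base; exact ⟨J, hJ, h.TJ_base hJ⟩
  dom := fun ⟨J, hJ, hu⟩ => ⟨J, hJ, hu.1⟩
  tot := fun hJ _ hu => by obtain ⟨u', h1⟩ := h.TJ_tot hJ hu; exact ⟨u', _, hJ, h1⟩
  tot' := fun hJ _ hu => by obtain ⟨u', h1⟩ := h.TJ_tot' hJ hu; exact ⟨u', _, hJ, h1⟩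
  iso := fun hJ _ _ _ _ h1 h2 h3 h4 => h.TJ_iso hJ ((h.Tr_iff hJ h1).1 h3) ((h.Tr_iff hJ h2).1 h4)
  dist := fun ⟨J, hJ, hu⟩ => by rw [Δ.inv, Δ'.inv, h.TJ_dist hJ hu h.base (R.refl _ _ _)]

theorem eq_of_le {z₁ : C} {z₁' : C'} {s : C → C' → Prop} (hs : IsSt Δ Δ' x z₁ x' z₁' s)
    (hle : ∀ y y', r y y' → s y y') : r = s := by
  ext y y'
  refine ⟨hle y y', fun h1 => ?_⟩
  obtain ⟨J, hJ, hy⟩ := hs.dom h1
  obtain ⟨y'', h2⟩ := h.tot hJ hy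
  rwa [hs.func h1 (hle _ _ h2)]

theorem Tr_Tr : Tr Δ Δ' z x x' (Tr Δ Δ' x z z' r) = r := by
  refine (h.eq_of_le h.swap.swap fun y y' hy => ?_).symm
  obtain ⟨J, hJ, h1⟩ := h.dom hy
  obtain ⟨u, h2, h3⟩ := exists_opL (w0_symm h.opp) h1
  obtain ⟨u', h4⟩ := h.swap.tot (hJ.bar D) h2
  refine ⟨J, hJ, h1, (h.R_iff hy).1 h1, u, u', h4, h2, h3, ?_⟩
  rw [Δ'.inv, ← h.Tr_dist (hJ.bar D) h4 h2 hy (by simpa using h1), ← Δ.inv, h3]

/-- the transport only depends on the residues -/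
theorem Tr_local {x₁ z₁ : C} {x₁' z₁' : C'} {s : C → C' → Prop} (hs : IsSt Δ Δ' x₁ z₁ x₁' z₁' s) {K : Set I}
    (hK : Sm K) (h1 : Δ.R (D.barS K) x x₁) (h2 : Δ.R K z z₁) (h3 : Δ'.R K z' z₁')
    (hrs : ∀ y y', Δ.R (D.barS K) x y → r y y' → s y y') {u : C} {u' : C'} (hu : Δ.R K z u)
    (ht : Tr Δ Δ' x z z' r u u') : Tr Δ Δ' x₁ z₁ z₁' s u u' := by
  obtain ⟨a1, a2, p, p', b1, b2, b3, b4⟩ := (h.Tr_iff hK hu).1 ht
  exact ⟨K, hK, h2.symm.trans a1, h3.symm.trans a2, p, p', hrs _ _ b2 b1, h1.symm.trans b2, b3, b4⟩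

/-- moving the opposite chamber -/
theorem move {u : C} {u' : C'} (hu : Tr Δ Δ' x z z' r u u') (ho : Δ.δ x u = D.w0) : IsSt Δ Δ' x u x' u' r where
  opp := ho
  base := h.base
  dom := h.dom
  tot := h.tot
  tot' := h.tot'
  iso := h.iso
  dist := by
    intro y y' hy
    obtain ⟨J₀, hJ₀, h1⟩ := h.dom hy
    obtain ⟨J, rfl⟩ : ∃ J, J₀ = D.barS J := ⟨D.barS J₀, by simp⟩
    have hJ : Sm J := by simpa using hJ₀.bar D
    obtain ⟨K, hK, hu'⟩ := hu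
    have hL : Sm (J ∩ K) := hK.mono Set.inter_subset_right
    obtain ⟨c, c1, c2⟩ := exists_op0 (J := J ∩ K) ho
    obtain ⟨v, v1, v2⟩ := exists_opR h.opp c1
    obtain ⟨c', c3⟩ := h.tot (hL.bar D) c1
    obtain ⟨v', v3⟩ := h.TJ_tot hL v1
    have vJ := h.TJ_up hJ Set.inter_subset_left v3
    have vK := h.TJ_up hK Set.inter_subset_right v3
    have cJ : Δ.R (D.barS J) x c := c1.mono (D.barS_mono Set.inter_subset_left)
    have cK : Δ.R (D.barS K) x c := c1.mono (D.barS_mono Set.inter_subset_right)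
    obtain ⟨-, -, p, p', p1, p2, p3, p4⟩ := id vJ
    have e1 := lemF c2 v2 (hu'.1.symm.trans vK.1) (cJ.symm.trans p2) p3
    have e2 := lemF ((h.TJ_dist hK hu' c3 cK).symm.trans c2) ((h.TJ_dist hK vK c3 cK).symm.trans v2)
      (hu'.2.1.symm.trans vK.2.1) (((h.R_iff c3).1 cJ).symm.trans ((h.R_iff p1).1 p2)) p4
    rw [gateL e1 (h1.symm.trans p2), gateL e2 (((h.R_iff hy).1 h1).symm.trans ((h.R_iff p1).1 p2)),
      h.iso hJ₀ h1 p2 hy p1]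

theorem exists_far {J : Set I} (hJ : Sm J) :
    ∃ o, Δ.δ x o = D.wJ J ∧ Δ.δ o z = D.wJ J * D.w0 := exists_mid (h.opp.trans (by simp))

/-- agreement on a residue from agreement on the panels and on the projection of the opposite chamber -/
theorem agree {z₁ : C} {z₁' : C'} {s : C → C' → Prop} (hs : IsSt Δ Δ' x z₁ x' z₁' s) {J : Set I} (hJ : Sm J)
    (h1 : ∀ j y y', Δ.R {j} x y → r y y' → s y y') {o : C} {o' : C'} (ho : Δ.δ x o = D.wJ J) (h2 : r o o')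
    (h3 : s o o') {y : C} {y' : C'} (hy : Δ.R J x y) (h4 : r y y') : s y y' :=
  rigid (h.toIso hJ) (hs.toIso hJ) (fun j _ => h1 j) (fun _ h5 => h.func h.base h5 ▸ hs.base) ho h2 h3 hy h4

theorem uniq {s : C → C' → Prop} (hs : IsSt Δ Δ' x z x' z' s)
    (h1 : ∀ j y y', Δ.R {j} x y → r y y' → s y y') : r = s := by
  refine h.eq_of_le hs fun y y' hy => ?_
  obtain ⟨J, hJ, h2⟩ := h.dom hy
  obtain ⟨o, o1, o2⟩ := exists_op0 (J := D.barS J) h.opp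
  rw [D.barS_barS] at o1
  obtain ⟨o', o3⟩ := h.tot hJ o1
  obtain ⟨o'', o4⟩ := hs.tot hJ o1
  have e : o' = o'' := op_uniqueL ((h.dist o3).symm.trans o2) ((hs.dist o4).symm.trans o2)
    (by simpa using ((h.R_iff o3).1 o1).symm.trans ((hs.R_iff o4).1 o1))
  refine h.agree hs hJ h1 (o := o) ?_ o3 (e ▸ o4) h2 hy
  have := gateL o2 (y := x) (by simpa using o1)
  rw [h.opp, D.op_eq, D.barS_barS, ← mul_assoc, eq_comm, mul_eq_right, mul_eq_one_iff_eq_inv, D.wJ_inv] at this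
  exact this

/-- passing to a neighbour which is also opposite -/
theorem step {y : C} {y' : C'} {i : I} (hy : r y y') (hi : Δ.R {i} x y) (ho : Δ.δ y z = D.w0) :
    ∃ s, IsSt Δ Δ' y z y' z' s ∧ Tr Δ Δ' y z z' s = Tr Δ Δ' x z z' r ∧
      ∀ J, Sm J → i ∈ J → ∀ v v', Δ.R J x v → r v v' → s v v' := by
  have h1 := h.swap.move (u := y) (u' := y') (by rw [h.Tr_Tr]; exact hy) (w0_symm ho)
  refine ⟨_, h1.swap, h1.Tr_Tr, fun J hJ hiJ v v' hv hr => ?_⟩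
  have hi' := hi.mono (Set.singleton_subset_iff.2 hiJ)
  exact h.swap.Tr_local h1 hJ (R.refl _ _ _) hi' ((h.R_iff hy).1 hi') (fun _ _ _ h => h) hv
    (by rw [h.Tr_Tr]; exact hr)

theorem panel_of {y : C} {y' : C'} {z₁ : C} {z₁' : C'} {s t : C → C' → Prop} (ht : IsSt Δ Δ' y z₁ y' z₁' t)
    {i : I} (hi : Δ.R {i} x y) (h1 : ∀ J, Sm J → i ∈ J → ∀ v v', Δ.R J x v → r v v' → s v v')
    (h2 : ∀ J, Sm J → i ∈ J → ∀ v v', Δ.R J x v → r v v' → t v v') (hs : ∀ {v v' v''}, s v v' → s v v'' → v' = v'')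
    (j : I) (v : C) (v' : C') (hv : Δ.R {j} y v) (h3 : s v v') : t v v' := by
  have hxv : Δ.R {i, j} x v := (hi.mono (by simp)).trans (hv.mono (by simp))
  obtain ⟨v'', h4⟩ := h.tot (Sm.pair i j) hxv
  rw [hs h3 (h1 _ (Sm.pair i j) (by simp) _ _ hxv h4)]
  exact h2 _ (Sm.pair i j) (by simp) _ _ hxv h4

theorem common {y : C} {y' : C'} {i : I} {s : C → C' → Prop} (hs : IsSt Δ Δ' y z y' z' s) (hy : r y y')
    (hi : Δ.R {i} x y) (h1 : ∀ J, Sm J → i ∈ J → ∀ v v', Δ.R J x v → r v v' → s v v') :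
    Tr Δ Δ' y z z' s = Tr Δ Δ' x z z' r := by
  obtain ⟨t, h2, h3, h4⟩ := h.step hy hi hs.opp
  rw [hs.uniq h2 (h.panel_of h2 hi h1 h4 hs.func), h3]

end IsSt

end Bld

end TB
end H20
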