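import Mathlib
import Cfsg.Agent.H20.TB3

/-!
# Dihedral parabolic subgroups and panels opposite an apartment
-/

set_option autoImplicit false
set_option linter.unusedSectionVars false
set_option linter.unusedVariables false

namespace H20
namespace TB

open H8 H8.GenSys

namespace CS

variable {I W : Type*} [Group W] (D : CS I W)

theorem alt_succ' (a b : I) (n : ℕ) : alt a b (n + 1) = alt a b n ++ [if n % 2 = 0 then a else b] := by
  induction n generalizing a b with
  | zero => rfl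
  | succ n ih =>
    rw [alt, ih b a, alt]
    rcases Nat.mod_two_eq_zero_or_one n with h | h <;> simp [h, Nat.add_mod]

theorem alt_split {a b j : I} {n : ℕ} {l₁ l₂ : List I} (h : alt a b n = l₁ ++ j :: l₂) :
    l₁ = alt a b l₁.length ∧ l₁ ++ [j] = alt a b (l₁.length + 1) := by
  induction l₁ generalizing a b n with
  | nil =>
    cases n with
    | zero => simp [alt] at h
    | succ n => simp only [alt, List.nil_append, List.cons.injEq] at h; simp [alt, h.1]
  | cons c l ih =>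
    cases n with
    | zero => simp [alt] at h
    | succ n =>
      simp only [alt, List.cons_append, List.cons.injEq] at h
      obtain ⟨h1, h2⟩ := ih h.2
      simp only [List.length_cons, List.cons_append]
      exact ⟨by rw [alt, ← h1, h.1], by rw [alt, ← h2, h.1]⟩

theorem π_alt (a b : I) (n : ℕ) : D.π (alt a b n) * (D.π (alt b a n))⁻¹ = (D.σ a * D.σ b) ^ n :=
  prod_alt D.σ D.sq a b n

theorem len_alt (a b : I) (n : ℕ) (hn : ∀ k, 0 < k → k < n → (D.σ a * D.σ b) ^ k ≠ 1) :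
    D.len (D.π (alt a b n)) = n := by
  induction n generalizing a b with
  | zero => simp [alt]
  | succ n ih =>
    have h1 := ih b a fun k h0 hk e => hn k h0 (by omega) (by
      rw [← inv_eq_one, ← inv_pow, mul_inv_rev, D.σ_inv, D.σ_inv, e])
    rw [alt, D.π_cons]
    rcases D.lenL a (D.π (alt b a n)) with h | h
    · omega
    · exfalso
      obtain ⟨l₁, j, l₂, e, h'⟩ := D.ex a (alt b a n) (by omega)
      obtain ⟨h2, h3⟩ := alt_split e
      have h4 := congrArg List.length e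
      simp only [length_alt, List.length_append, List.length_cons] at h4
      refine hn (l₁.length + 1) (by omega) (by omega) ?_
      rw [← D.π_alt, ← h3, alt, ← h2, D.π_cons, h', D.π_append, D.π_singleton, mul_inv_cancel]

theorem len_alt' {a b : I} {n : ℕ} (hn : n ≤ orderOf (D.σ a * D.σ b)) : D.len (D.π (alt a b n)) = n :=
  D.len_alt a b n fun k h0 hk e => by
    have := orderOf_le_of_pow_eq_one h0 e; omega

theorem order_symm (a b : I) : orderOf (D.σ a * D.σ b) = orderOf (D.σ b * D.σ a) := by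
  rw [← orderOf_inv, mul_inv_rev, D.σ_inv, D.σ_inv]

theorem alt_braid (a b : I) :
    D.π (alt a b (orderOf (D.σ a * D.σ b))) = D.π (alt b a (orderOf (D.σ a * D.σ b))) := by
  rw [← mul_inv_eq_one, D.π_alt, pow_orderOf_eq_one]

theorem alt_mem (a b : I) (n : ℕ) : D.π (alt a b n) ∈ D.WJ {a, b} := by
  induction n generalizing a b with
  | zero => simp [alt]
  | succ n ih => rw [alt, D.π_cons]; exact mul_mem (D.σ_mem (by simp)) (Set.pair_comm a b ▸ ih b a)

theorem wJ_pair [Finite W] (a b : I) : D.wJ {a, b} = D.π (alt a b (orderOf (D.σ a * D.σ b))) := by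
  have key : ∀ a b, D.len (D.σ a * D.π (alt a b (orderOf (D.σ a * D.σ b)))) ≤
      D.len (D.π (alt a b (orderOf (D.σ a * D.σ b)))) := by
    intro a b
    rw [D.len_alt' le_rfl]
    obtain ⟨n, hn⟩ : ∃ n, orderOf (D.σ a * D.σ b) = n + 1 := ⟨_, (Nat.succ_pred_eq_of_pos (orderOf_pos _)).symm⟩
    rw [hn, alt, D.π_cons, D.σ_σ_mul]
    exact (D.len_le _).trans (by simp)
  refine (D.eq_wJ_of_desc (D.alt_mem a b _) ?_).symm
  rintro j (rfl | rfl)
  · exact key _ _
  · rw [D.alt_braid, D.order_symm]; exact key _ _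

theorem mem_pair {a b : I} {w : W} (hw : w ∈ D.WJ {a, b}) [Finite W] :
    ∃ n ≤ orderOf (D.σ a * D.σ b), w = D.π (alt a b n) ∨ w = D.π (alt b a n) := by
  refine D.indR (P := fun w => ∃ n, D.len w = n ∧ (w = D.π (alt a b n) ∨ w = D.π (alt b a n))) ?_ ?_ w hw
    |>.elim fun n hn => ⟨n, ?_, hn.2⟩
  · exact ⟨0, by simp, Or.inl rfl⟩
  · rintro w hw i hi hl ⟨n, hn, h⟩
    refine ⟨n + 1, by omega, ?_⟩
    have key : ∀ a b, (i = a ∨ i = b) → w = D.π (alt a b n) →
        w * D.σ i = D.π (alt a b (n + 1)) ∨ w * D.σ i = D.π (alt b a (n + 1)) := by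
      intro a b hi e
      cases n with
      | zero => rcases hi with rfl | rfl <;> simp [e, alt]
      | succ n =>
        left
        by_cases h2 : i = if (n + 1) % 2 = 0 then a else b
        · rw [alt_succ' a b (n + 1), D.π_append, D.π_singleton, ← e, ← h2]
        · have h3 : i = if n % 2 = 0 then a else b := by
            rcases Nat.mod_two_eq_zero_or_one n with h | h <;> rcases hi with rfl | rfl <;>
              simp_all [Nat.add_mod]
          rw [alt_succ', D.π_append, D.π_singleton, ← h3] at e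
          have := D.len_le (alt a b n)
          rw [length_alt] at this
          have e2 : w * D.σ i = D.π (alt a b n) := by rw [e, D.mul_σ_σ]
          rw [e2] at hl
          omega
    rcases h with h | h
    · exact key a b hi h
    · exact (key b a (Or.symm hi) h).symm
  · have := D.len_le_wJ hw
    rwa [D.wJ_pair, D.len_alt' le_rfl, hn.1] at this

end CS

namespace Bld

variable {I W : Type*} [Group W] [Finite W] {D : CS I W} {C : Type*} {Δ : Bld D C}

theorem δ_cons {x y z : C} {a : I} {l : List I} (h1 : Δ.δ x y = D.σ a) (h2 : Δ.δ y z = D.π l)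
    (h : D.len (D.π (a :: l)) = l.length + 1) : Δ.δ x z = D.π (a :: l) := by
  have := D.len_le l
  have h3 := D.len_σ_mul_le a (D.π l)
  rw [D.π_cons] at h ⊢
  exact δ_mul h1 h2 (by rw [D.lenσ]; omega)

/-- a panel opposite all panels of an apartment of a generalized `m`-gon, `m ≤ 4` -/
theorem exists_far_panel {x z : C} (h : Δ.δ x z = D.w0) {a b : I}
    (hm : orderOf (D.σ a * D.σ b) = 2 ∨ orderOf (D.σ a * D.σ b) = 3 ∨ orderOf (D.σ a * D.σ b) = 4) :
    ∃ k ∈ ({a, b} : Set I), ∃ e₀, Δ.R {a, b} x e₀ ∧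
      ∀ w ∈ D.WJ {a, b}, ∃ e, Δ.R {k} e₀ e ∧ Δ.δ (Δ.ap x z w) e = D.wJ {a, b} := by
  have T : ∀ u i, ∃ c, Δ.δ (Δ.ap x z u) c = D.σ i ∧ Δ.δ (Δ.ap x z (u * D.σ i)) c = D.σ i :=
    fun u i => Δ.third (ap_σ h u i)
  have A : ∀ u i, Δ.δ (Δ.ap x z (u * D.σ i)) (Δ.ap x z u) = D.σ i := fun u i => σ_symm (ap_σ h u i)
  have E : ∀ {k e₀ e y}, Δ.R {k} e₀ e → Δ.δ y e * D.σ k = D.wJ {a, b} → ∃ e, Δ.R {k} e₀ e ∧ Δ.δ y e = D.wJ {a, b} := by
    intro k e₀ e y h1 h2
    obtain ⟨e', h3, h4⟩ := Δ.wd3 y e k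
    exact ⟨e', h1.trans (R.of_σ h3 rfl), h4.trans h2⟩
  have L := fun n => D.len_alt' (a := a) (b := b) (n := n)
  have L' := fun n => D.len_alt' (a := b) (b := a) (n := n)
  have w1 := D.wJ_pair a b
  have w2 := w1.trans (D.alt_braid a b)
  have hx : ∀ {u e}, u ∈ D.WJ {a, b} → Δ.δ (Δ.ap x z u) e ∈ D.WJ {a, b} → Δ.R {a, b} x e := fun hu he =>
    R.trans (by rw [R, ap_left h]; exact hu) he
  rw [← D.order_symm] at L'
  rcases hm with hm | hm | hm <;> rw [hm] at L L' w1 w2
  · obtain ⟨c, c1, c2⟩ := T 1 a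
    have d1 := δ_cons (A 1 b) (c1.trans (D.π_singleton a).symm) (L' 2 le_rfl)
    have d2 := δ_cons (A (1 * D.σ a) b) (c2.trans (D.π_singleton a).symm) (L' 2 le_rfl)
    refine ⟨b, by simp, c, hx (one_mem _) (c1 ▸ D.σ_mem (by simp)), fun w hw => ?_⟩
    obtain ⟨n, hn, hw⟩ := D.mem_pair hw
    rw [hm] at hn
    interval_cases n <;> rcases hw with rfl | rfl
    · exact E (R.refl _ _ _) (by simpa [w1, alt] using c1)
    · exact E (R.refl _ _ _) (by simpa [w1, alt] using c1)
    · exact E (R.refl _ _ _) (by simpa [w1, alt] using c2)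
    · exact ⟨c, R.refl _ _ _, by simpa [w2, alt] using d1⟩
    · exact ⟨c, R.refl _ _ _, by simpa [w2, alt] using d2⟩
    · rw [← w2]; exact ⟨c, R.refl _ _ _, by nth_rw 2 [w2]; rw [w1]; simpa [alt] using d2⟩
  · obtain ⟨c, c1, c2⟩ := T 1 a
    obtain ⟨g, g1, g2⟩ := T (1 * D.σ b) a
    have d1 := δ_cons (σ_symm c1) (δ_cons (σ_symm (A 1 b)) (g1.trans (D.π_singleton a).symm) (L' 2 (by omega)))
      (L 3 le_rfl)
    obtain ⟨e₁, e1, e2⟩ := exists_mid (u := D.σ b) (v := D.σ a * D.σ b)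
      (d1.trans ((w1.symm.trans w2).trans (by simp [alt])))
    obtain ⟨e₂, e3, e4⟩ := exists_mid e2
    have f1 := δ_cons c1 (e1.trans (D.π_singleton b).symm) (L 2 (by omega))
    have f2 := δ_cons c2 (e1.trans (D.π_singleton b).symm) (L 2 (by omega))
    have f3 := δ_cons (A 1 b) f1 (L' 3 le_rfl)
    have f4 := δ_cons (A (1 * D.σ a) b) f2 (L' 3 le_rfl)
    have f5 := δ_cons g2 ((σ_symm e4).trans (D.π_singleton b).symm) (L 2 (by omega))
    have f6 := δ_cons (A (1 * D.σ b * D.σ a) b) f5 (L' 3 le_rfl)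
    refine ⟨a, by simp, e₁, hx (one_mem _) (f1 ▸ D.alt_mem a b 2), fun w hw => ?_⟩
    obtain ⟨n, hn, hw⟩ := D.mem_pair hw
    rw [hm] at hn
    interval_cases n <;> rcases hw with rfl | rfl
    · exact E (R.refl _ _ _) (by simpa [w1, alt, ← mul_assoc] using f1)
    · exact E (R.refl _ _ _) (by simpa [w1, alt, ← mul_assoc] using f1)
    · exact E (R.refl _ _ _) (by simpa [w1, alt, ← mul_assoc] using f2)
    · exact ⟨e₁, R.refl _ _ _, by simpa [w2, alt] using f3⟩
    · exact ⟨e₁, R.refl _ _ _, by simpa [w2, alt] using f4⟩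
    · exact E (R.of_σ e3 rfl) (by simpa [w1, alt, ← mul_assoc] using f5)
    · rw [← w1, w2]; exact ⟨e₂, R.of_σ e3 rfl, by rw [← w2, w1, ← w1, w2]; simpa [alt, mul_assoc] using f6⟩
    · exact ⟨e₂, R.of_σ e3 rfl, by simpa [w2, alt, mul_assoc] using f6⟩
  · have br : D.σ a * (D.σ b * (D.σ a * D.σ b)) = D.σ b * (D.σ a * (D.σ b * D.σ a)) := by
      simpa [alt] using w1.symm.trans w2
    obtain ⟨c, c1, c2⟩ := T 1 a
    let v := D.σ b * D.σ a * D.σ b
    have d0 : Δ.δ (Δ.ap x z 1) (Δ.ap x z v) = D.π [b, a, b] := by simp [ap_ap h, v, mul_assoc]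
    have d0' : Δ.δ (Δ.ap x z (1 * D.σ a)) (Δ.ap x z (v * D.σ a)) = D.π [b, a, b] := by
      simp [ap_ap h, v, mul_assoc, D.σ_inv, ← br]
    have d1 := δ_cons (σ_symm c1) d0 (L 4 le_rfl)
    have d2 := δ_cons (σ_symm c2) d0' (L 4 le_rfl)
    obtain ⟨g, g1, g2⟩ := Δ.wd3 c (Δ.ap x z v) a
    have g3 : Δ.δ c g = D.σ b * (D.σ a * D.σ b) := by
      rw [g2, d1]; simp only [D.π_cons, D.π_nil, mul_one]; rw [br]; simp [mul_assoc, D.sq]
    have g4 : Δ.δ (Δ.ap x z (v * D.σ a)) g = D.σ a := by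
      refine σ_trans (ap_σ h v a) g1 fun e => ?_
      have h5 := L 4 le_rfl
      have h6 := L' 3 (by omega)
      rw [e, g3] at d2
      simp only [alt, D.π_cons, D.π_nil, mul_one] at d2 h5 h6
      rw [← d2] at h5; omega
    obtain ⟨e₁, e1, e2⟩ := exists_mid g3
    obtain ⟨e₂, e3, e4⟩ := exists_mid e2
    obtain ⟨e, e5, e6⟩ := Δ.third e3
    have k1 := δ_cons e1 (e5.trans (D.π_singleton a).symm) (L' 2 (by omega))
    have k2 := δ_cons (σ_symm e4) (e6.trans (D.π_singleton a).symm) (L' 2 (by omega))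
    have f1 := δ_cons c1 k1 (L 3 (by omega))
    have f2 := δ_cons c2 k1 (L 3 (by omega))
    have f3 := δ_cons (A 1 b) f1 (L' 4 le_rfl)
    have f4 := δ_cons (A (1 * D.σ a) b) f2 (L' 4 le_rfl)
    have f5 := δ_cons g1 k2 (L 3 (by omega))
    have f6 := δ_cons g4 k2 (L 3 (by omega))
    have f7 := δ_cons (A v b) f5 (L' 4 le_rfl)
    have f8 := δ_cons (A (v * D.σ a) b) f6 (L' 4 le_rfl)
    have v1 : v * D.σ b = D.σ b * D.σ a := by simp [v]
    have v2 : v * D.σ a = D.σ a * (D.σ b * (D.σ a * D.σ b)) := by simp [v, br, mul_assoc]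
    have v3 : v * D.σ a * D.σ b = D.σ a * (D.σ b * D.σ a) := by rw [v2]; simp [mul_assoc, D.sq]
    rw [v1] at f7
    rw [v3] at f8
    refine ⟨b, by simp, e, hx (one_mem _) (f1 ▸ D.alt_mem a b 3), fun w hw => ?_⟩
    obtain ⟨n, hn, hw⟩ := D.mem_pair hw
    rw [hm] at hn
    interval_cases n <;> rcases hw with rfl | rfl
    · exact E (R.refl _ _ _) (by simpa [w1, alt, ← mul_assoc] using f1)
    · exact E (R.refl _ _ _) (by simpa [w1, alt, ← mul_assoc] using f1)
    · exact E (R.refl _ _ _) (by simpa [w1, alt, ← mul_assoc] using f2)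
    · exact ⟨e, R.refl _ _ _, by simpa [w2, alt] using f3⟩
    · exact ⟨e, R.refl _ _ _, by simpa [w2, alt] using f4⟩
    · exact ⟨e, R.refl _ _ _, by simpa [w2, alt] using f7⟩
    · exact ⟨e, R.refl _ _ _, by simpa [w2, alt] using f8⟩
    · exact E (R.refl _ _ _) (by simpa [w1, alt, ← mul_assoc, v] using f5)
    · exact E (R.refl _ _ _) (by simpa [w1, alt, ← mul_assoc, v2] using f6)
    · exact E (R.refl _ _ _) (by simpa [w1, alt, ← mul_assoc, v] using f6)

end Bld

end TB
end H20
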