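import Mathlib
import Cfsg.Agent.H20.TB4
import Cfsg.Agent.H20.TB0

/-!
# Root groups of spherical buildings
-/

set_option autoImplicit false
set_option linter.unusedSectionVars false
set_option linter.unusedVariables false

namespace H20
namespace TB

open H8 H8.GenSys
open scoped commutatorElement

namespace CS

variable {I W : Type*} [Group W] (D : CS I W)

/-- the simple root `i` -/
def Pos (i : I) (u : W) : Prop := D.len u < D.len (D.σ i * u)

theorem pos_one (i : I) : D.Pos i 1 := by simp [Pos, D.lenσ]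

theorem pos_mul_of {i j : I} {w : W} (h : D.σ i * w ≠ w * D.σ j) (hw : D.Pos i w) : D.Pos i (w * D.σ j) := by
  have a1 := D.lenL i w
  have a2 := D.len_le_mul_σ j (D.σ i * w)
  unfold Pos at *
  rw [← mul_assoc]
  rcases D.lenR w j with h1 | h1
  · rcases D.fold hw (by omega : D.len w < D.len (w * D.σ j)) with h2 | h2
    · omega
    · exact absurd h2 h
  · omega

theorem pos_mul_iff {i j : I} {w : W} (h : D.σ i * w ≠ w * D.σ j) : D.Pos i (w * D.σ j) ↔ D.Pos i w := by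
  refine ⟨fun h1 => ?_, D.pos_mul_of h⟩
  have := D.pos_mul_of (j := j) (fun e => h (by
    rw [D.mul_σ_σ] at e; nth_rw 1 [← e]; rw [D.σ_σ_mul])) h1
  rwa [D.mul_σ_σ] at this

theorem pos_σ_mul (i : I) (w : W) : D.Pos i (D.σ i * w) ↔ ¬ D.Pos i w := by
  have := D.lenL i w
  unfold Pos
  rw [D.σ_σ_mul]; omega

theorem pos_conj {i k : I} {v : W} (hv : D.Pos i v) (h : D.σ i * v = v * D.σ k) (u : W) :
    D.Pos i (v * u) ↔ D.Pos k u := by
  induction u using D.indR' with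
  | h1 => simpa [hv] using D.pos_one k
  | hs u j _ ih =>
    by_cases e : D.σ k * u = u * D.σ j
    · rw [← e, D.pos_σ_mul, ← mul_assoc, ← h, mul_assoc, D.pos_σ_mul, ih]
    · rw [D.pos_mul_iff e, ← mul_assoc, D.pos_mul_iff, ih]
      intro e'
      rw [← mul_assoc, h, mul_assoc, mul_assoc] at e'
      exact e (mul_left_cancel e')

theorem exists_pos_mul [Nontrivial I] {i : I} {u : W} (h : D.Pos i u) : ∃ j, D.Pos i (u * D.σ j) := by
  obtain ⟨j, k, hjk⟩ := exists_pair_ne I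
  by_cases e : D.σ i * u = u * D.σ j
  · exact ⟨k, D.pos_mul_of (fun e' => hjk (D.inj (mul_left_cancel (e.symm.trans e')))) h⟩
  · exact ⟨j, D.pos_mul_of e h⟩

theorem pos_mul_w0 [Finite W] (i : I) (u : W) : D.Pos i (u * D.w0) ↔ ¬ D.Pos i u := by
  have a1 := D.len_mul_w0 u
  have a2 := D.len_mul_w0 (D.σ i * u)
  have := D.lenL i u
  unfold Pos
  rw [← mul_assoc]; omega

/-- the type of the adjacency between positions `t` and `t + 1` -/
def τ (a b : I) (t : ℤ) : I := if t % 2 = 0 then a else b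

/-- positions in the apartment of a rank two residue -/
def zz (a b : I) (t : ℤ) : W := (D.σ a * D.σ b) ^ (t / 2) * if t % 2 = 0 then 1 else D.σ a

variable {a b : I}

@[simp] theorem zz_zero : D.zz a b 0 = 1 := by simp [zz]

theorem zz_succ (t : ℤ) : D.zz a b (t + 1) = D.zz a b t * D.σ (τ a b t) := by
  unfold zz τ
  rcases Int.emod_two_eq_zero_or_one t with h | h
  · rw [show (t + 1) / 2 = t / 2 by omega, if_neg (by omega), if_pos h, if_pos h, mul_one]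
  · rw [show (t + 1) / 2 = t / 2 + 1 by omega, if_pos (by omega), if_neg (by omega), if_neg (by omega),
      zpow_add_one, mul_one, mul_assoc]

theorem zz_pred (t : ℤ) : D.zz a b (t - 1) = D.zz a b t * D.σ (τ a b (t - 1)) := by
  have := D.zz_succ (a := a) (b := b) (t - 1)
  rw [sub_add_cancel] at this
  rw [this, D.mul_σ_σ]

theorem τ_congr {s t : ℤ} (h : s % 2 = t % 2) : τ a b s = τ a b t := by simp [τ, h]

theorem τ_τ (s t : ℤ) : τ (τ a b s) (τ a b (s + 1)) t = τ a b (s + t) := by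
  unfold τ
  rcases Int.emod_two_eq_zero_or_one t with h | h <;> rcases Int.emod_two_eq_zero_or_one s with h' | h' <;>
    simp [h, h', Int.add_emod]

theorem τ_mem (t : ℤ) : τ a b t ∈ ({a, b} : Set I) := by unfold τ; split_ifs <;> simp

theorem eq_τ {l : I} (hl : l ∈ ({a, b} : Set I)) (t : ℤ) : l = τ a b t ∨ l = τ a b (t - 1) := by
  unfold τ
  rcases Int.emod_two_eq_zero_or_one t with h | h <;> rcases hl with rfl | rfl <;> simp [h, Int.sub_emod]

theorem pair_τ (s : ℤ) : ({τ a b s, τ a b (s + 1)} : Set I) = {a, b} := by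
  unfold τ
  rcases Int.emod_two_eq_zero_or_one s with h | h <;> simp [h, Int.add_emod, Set.pair_comm]

theorem order_τ (s : ℤ) : orderOf (D.σ (τ a b s) * D.σ (τ a b (s + 1))) = orderOf (D.σ a * D.σ b) := by
  unfold τ
  rcases Int.emod_two_eq_zero_or_one s with h | h <;> simp [h, Int.add_emod, D.order_symm a b]

theorem zz_add (s t : ℤ) : D.zz a b (s + t) = D.zz a b s * D.zz (τ a b s) (τ a b (s + 1)) t := by
  induction t using Int.induction_on with
  | zero => simp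
  | succ t ih => rw [← add_assoc, zz_succ, zz_succ, ih, τ_τ, mul_assoc]
  | pred t ih => rw [← add_sub_assoc, zz_pred, zz_pred, ih, τ_τ, mul_assoc, add_sub_assoc]

theorem σ_zz (t : ℤ) : D.σ a * D.zz a b t = D.zz a b (1 - t) := by
  induction t using Int.induction_on with
  | zero => simp [zz]
  | succ t ih =>
    rw [zz_succ, ← mul_assoc, ih, show (1 : ℤ) - (t + 1) = 1 - t - 1 by ring, zz_pred,
      τ_congr (s := t) (t := 1 - t - 1) (by omega)]
  | pred t ih =>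
    rw [zz_pred, ← mul_assoc, ih, show (1 : ℤ) - (-t - 1) = 1 - -t + 1 by ring, zz_succ,
      τ_congr (s := -t - 1) (t := 1 - -t) (by omega)]

theorem refl_zz (t j : ℤ) :
    D.zz a b t * D.σ (τ a b t) * (D.zz a b t)⁻¹ * D.zz a b j = D.zz a b (2 * t + 1 - j) := by
  rw [show j = t + (j - t) by ring, zz_add, mul_assoc, inv_mul_cancel_left, mul_assoc, σ_zz, ← zz_add]
  congr 1; ring

theorem zz_mem (t : ℤ) : D.zz a b t ∈ D.WJ {a, b} := by
  induction t using Int.induction_on with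
  | zero => simp
  | succ t ih => rw [zz_succ]; exact mul_mem ih (D.σ_mem (τ_mem _))
  | pred t ih => rw [zz_pred]; exact mul_mem ih (D.σ_mem (τ_mem _))

theorem zz_nat (n : ℕ) : D.zz a b n = D.π (alt a b n) := by
  induction n with
  | zero => simp [alt]
  | succ n ih =>
    rw [Nat.cast_succ, zz_succ, ih, alt_succ', D.π_append, D.π_singleton, τ]
    congr 2; exact if_congr (by omega) rfl rfl

theorem zz_neg (n : ℕ) : D.zz a b (-n) = D.π (alt b a n) := by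
  rw [show (-n : ℤ) = 1 - ((n + 1 : ℕ) : ℤ) by push_cast; ring, ← σ_zz, zz_nat, alt, D.π_cons, D.σ_σ_mul]

theorem len_zz {t : ℤ} (h : t.natAbs ≤ orderOf (D.σ a * D.σ b)) : D.len (D.zz a b t) = t.natAbs := by
  rcases Int.natAbs_eq t with e | e
  · nth_rw 1 [e]; rw [zz_nat, D.len_alt' h]
  · nth_rw 1 [e]; rw [zz_neg, D.len_alt' (D.order_symm a b ▸ h)]

theorem zz_eq_neg {n : ℕ} (h : D.zz a b n = D.zz a b (-n)) : orderOf (D.σ a * D.σ b) ∣ n := by
  rw [orderOf_dvd_iff_pow_eq_one, ← D.π_alt, ← zz_nat, ← zz_neg, h, mul_inv_cancel]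

theorem zz_top [Finite W] : D.zz a b (orderOf (D.σ a * D.σ b)) = D.wJ {a, b} := by rw [zz_nat, D.wJ_pair]

theorem zz_bot [Finite W] : D.zz a b (-orderOf (D.σ a * D.σ b)) = D.wJ {a, b} := by
  rw [zz_neg, D.wJ_pair, D.alt_braid]

theorem zz_add_top [Finite W] (s : ℤ) : D.zz a b (s + orderOf (D.σ a * D.σ b)) = D.zz a b s * D.wJ {a, b} := by
  rw [zz_add, ← D.order_τ s, zz_top, pair_τ]

theorem zz_per [Finite W] (s : ℤ) : D.zz a b (s + 2 * orderOf (D.σ a * D.σ b)) = D.zz a b s := by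
  rw [two_mul, ← add_assoc, zz_add_top, zz_add_top, D.mul_wJ_wJ]

theorem exists_zz [Finite W] {w : W} (hw : w ∈ D.WJ {a, b}) :
    ∃ t : ℤ, t.natAbs ≤ orderOf (D.σ a * D.σ b) ∧ w = D.zz a b t := by
  obtain ⟨n, hn, h | h⟩ := D.mem_pair hw
  · exact ⟨n, by simpa using hn, by rw [zz_nat, h]⟩
  · exact ⟨-n, by simpa using hn, by rw [zz_neg, h]⟩

theorem pos_zz {s : ℤ} (h1 : 1 - (orderOf (D.σ a * D.σ b) : ℤ) ≤ s) (h2 : s ≤ 0) : D.Pos a (D.zz a b s) := by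
  rw [Pos, σ_zz, D.len_zz (by omega), D.len_zz (by omega)]; omega

theorem pos_zz_mul {s : ℤ} {l : I} (h1 : 1 - (orderOf (D.σ a * D.σ b) : ℤ) ≤ s) (h2 : s ≤ 0)
    (h3 : ¬ (s = 0 ∧ l = τ a b s)) (h4 : ¬ (s = 1 - (orderOf (D.σ a * D.σ b) : ℤ) ∧ l = τ a b (s - 1))) :
    D.Pos a (D.zz a b s * D.σ l) := by
  by_cases hl : l ∈ ({a, b} : Set I)
  · rcases eq_τ hl s with rfl | rfl
    · rw [← zz_succ]; exact D.pos_zz (by omega) (by simp at h3; omega)
    · rw [← zz_pred]; exact D.pos_zz (by simp at h4; omega) (by omega)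
  · refine D.pos_mul_of (fun e => hl (D.mem_of_σ_mem ?_)) (D.pos_zz h1 h2)
    rw [← inv_mul_cancel_left (D.zz a b s) (D.σ l), ← e]
    exact mul_mem (inv_mem (D.zz_mem _)) (mul_mem (D.σ_mem (by simp)) (D.zz_mem _))

end CS

namespace Bld

variable {I W : Type*} [Group W] [Finite W] {D : CS I W} {C : Type*} (Δ : Bld D C)

/-- the type preserving automorphisms -/
def Aut : Subgroup (Equiv.Perm C) where
  carrier := {g | ∀ x y, Δ.δ (g x) (g y) = Δ.δ x y}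
  mul_mem' := fun {g h} hg hh x y => by simp only [Equiv.Perm.mul_apply]; rw [hg, hh]
  one_mem' := fun _ _ => rfl
  inv_mem' := fun {g} hg x y => by rw [← hg]; simp

/-- the root group of the simple root `i` of the apartment through `x` and `z` -/
def RG (x z : C) (i : I) : Subgroup (Equiv.Perm C) where
  carrier := {g | g ∈ Δ.Aut ∧ ∀ u j, D.Pos i u → D.Pos i (u * D.σ j) → ∀ y, Δ.R {j} (Δ.ap x z u) y → g y = y}
  mul_mem' := fun {g h} hg hh => ⟨mul_mem hg.1 hh.1, fun u j h1 h2 y hy => by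
    rw [Equiv.Perm.mul_apply, hh.2 u j h1 h2 y hy, hg.2 u j h1 h2 y hy]⟩
  one_mem' := ⟨one_mem _, fun _ _ _ _ _ _ => rfl⟩
  inv_mem' := fun {g} hg => ⟨inv_mem hg.1, fun u j h1 h2 y hy => by
    rw [Equiv.Perm.inv_eq_iff_eq, hg.2 u j h1 h2 y hy]⟩

/-- the Moufang property -/
def Mou : Prop := ∀ x z, Δ.δ x z = D.w0 → ∀ i y y', Δ.δ x y = D.σ i → Δ.δ x y' = D.σ i →
  ∃ g ∈ Δ.RG x z i, g y = y'

variable {Δ}

theorem Aut.R {g : Equiv.Perm C} (hg : g ∈ Δ.Aut) {J : Set I} {x y : C} : Δ.R J (g x) (g y) ↔ Δ.R J x y := by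
  rw [Bld.R, hg, Bld.R]

theorem Aut.ap {g : Equiv.Perm C} (hg : g ∈ Δ.Aut) {x z : C} (h : Δ.δ x z = D.w0) (w : W) :
    g (Δ.ap x z w) = Δ.ap (g x) (g z) w :=
  eq_ap (by rw [hg, h]) (by rw [hg, ap_left h]) (by rw [hg, ap_right h])

theorem Aut.fix_ap {g : Equiv.Perm C} (hg : g ∈ Δ.Aut) {x z : C} (h : Δ.δ x z = D.w0) (hx : g x = x)
    (hz : g z = z) (w : W) : g (Δ.ap x z w) = Δ.ap x z w := by rw [Aut.ap hg h, hx, hz]

theorem Aut.eq_one {g : Equiv.Perm C} (hg : g ∈ Δ.Aut) {x z : C} (h : Δ.δ x z = D.w0) (hx : g x = x)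
    (h1 : ∀ j y, Δ.R {j} x y → g y = y) (hz : g z = z) : g = 1 := by
  ext y
  exact rigid (Δ' := Δ) (J := Set.univ) (r := fun y y' => y = y') (s := fun y y' => g y = y')
    ⟨fun y _ => ⟨y, rfl⟩, fun _ _ a b => by rw [a, b]⟩ ⟨fun y _ => ⟨_, rfl⟩, fun _ _ a b => by rw [← a, ← b, hg]⟩
    (fun j _ y y' h2 e => e ▸ h1 j y h2) (fun y' e => e ▸ hx) h rfl hz (D.mem_univ _) rfl

theorem RG_conj {g k : Equiv.Perm C} (hk : k ∈ Δ.Aut) {x z : C} (h : Δ.δ x z = D.w0) {i : I}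
    (hg : g ∈ Δ.RG x z i) : k * g * k⁻¹ ∈ Δ.RG (k x) (k z) i := by
  refine ⟨mul_mem (mul_mem hk hg.1) (inv_mem hk), fun u j h1 h2 y hy => ?_⟩
  obtain ⟨y, rfl⟩ := k.surjective y
  rw [← Aut.ap hk h, Aut.R hk] at hy
  simp [hg.2 u j h1 h2 y hy]

theorem RG_conj_iff {g k : Equiv.Perm C} (hk : k ∈ Δ.Aut) {x z : C} (h : Δ.δ x z = D.w0) {i : I} :
    g ∈ Δ.RG x z i ↔ k * g * k⁻¹ ∈ Δ.RG (k x) (k z) i :=
  ⟨RG_conj hk h, fun hg => by simpa [mul_assoc] using RG_conj (inv_mem hk) (by rw [hk, h]) hg⟩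

theorem RG_eq {x z : C} (h : Δ.δ x z = D.w0) {i k : I} {v : W} (hv : D.Pos i v) (e : D.σ i * v = v * D.σ k) :
    Δ.RG (Δ.ap x z v) (Δ.ap x z (v * D.w0)) k = Δ.RG x z i := by
  ext g
  refine and_congr_right fun _ => ⟨fun H u j h1 h2 y hy => ?_, fun H u j h1 h2 y hy => ?_⟩
  · refine H (v⁻¹ * u) j ((D.pos_conj hv e _).1 (by simpa using h1)) ((D.pos_conj hv e _).1 ?_) y ?_
    · simpa [mul_assoc] using h2
    · simpa [ap_ap' h] using hy
  · rw [ap_ap' h] at hy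
    exact H (v * u) j ((D.pos_conj hv e _).2 h1) (by rw [mul_assoc]; exact (D.pos_conj hv e _).2 h2) y hy

theorem RG_fix [Nontrivial I] {x z : C} {i : I} {g : Equiv.Perm C} (hg : g ∈ Δ.RG x z i) {u : W}
    (hu : D.Pos i u) : g (Δ.ap x z u) = Δ.ap x z u := by
  obtain ⟨j, hj⟩ := D.exists_pos_mul hu
  exact hg.2 u j hu hj _ (R.refl _ _ _)

theorem nontrivial_of {i j : I} (hij : 3 ≤ orderOf (D.σ i * D.σ j)) : Nontrivial I :=
  ⟨i, j, fun e => by rw [e, D.sq, orderOf_one] at hij; omega⟩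

theorem RG_free {x z : C} (h : Δ.δ x z = D.w0) {i j : I} (hij : 3 ≤ orderOf (D.σ i * D.σ j)) {g : Equiv.Perm C}
    (hg : g ∈ Δ.RG x z i) {y : C} (hy : Δ.δ x y = D.σ i) (hgy : g y = y) : g = 1 := by
  have := nontrivial_of hij
  have l2 : D.len (D.σ i * D.σ j) = 2 := by simpa [alt] using D.len_alt' (a := i) (b := j) (n := 2) (by omega)
  have l3 : D.len (D.σ j * (D.σ i * D.σ j)) = 3 := by
    simpa [alt] using D.len_alt' (a := j) (b := i) (n := 3) (D.order_symm i j ▸ hij)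
  have p1 : D.Pos i (D.σ i * D.w0) := by rw [D.pos_mul_w0]; simpa using (D.pos_σ_mul i 1).not.2 (by simp [D.pos_one])
  have p2 : D.Pos i (D.σ j) := by rw [CS.Pos, l2, D.lenσ]; omega
  have o1 : Δ.δ y (Δ.ap x z (D.σ i * D.w0)) = D.w0 :=
    w0_symm (opp_of_ne (Set.mem_univ i) (by rw [Δ.inv, ap_left h]; simp [D.σ_inv, D.wJ_inv]) hy)
  have e : Δ.ap x z (D.σ j) = Δ.ap y (Δ.ap x z (D.σ i * D.w0)) (D.σ i * D.σ j) :=
    eq_ap o1 (δ_mul (σ_symm hy) (ap_left h _) (by rw [l2, D.lenσ, D.lenσ]))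
      (by rw [ap_ap h]; simp [D.σ_inv, mul_assoc])
  have f := Aut.fix_ap hg.1 o1 hgy (RG_fix hg p1)
  refine Aut.eq_one hg.1 (ap_opp o1 (D.σ i * D.σ j)) (f _) (fun l v hv => ?_) (f _)
  refine hg.2 _ l p2 (D.pos_mul_of (fun e' => ?_) p2) v (e ▸ hv)
  rw [e', D.σ_σ_mul, D.lenσ] at l3; omega

theorem exists_mu (hM : Δ.Mou) {x z : C} (h : Δ.δ x z = D.w0) {i j : I} (hij : 3 ≤ orderOf (D.σ i * D.σ j))
    {g : Equiv.Perm C} (hg : g ∈ Δ.RG x z i) (h1 : g ≠ 1) :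
    ∃ κ ∈ Δ.RG (Δ.ap x z (D.σ i)) (Δ.ap x z (D.σ i * D.w0)) i,
      ∃ l ∈ Δ.RG (Δ.ap x z (D.σ i)) (Δ.ap x z (D.σ i * D.w0)) i,
        ∀ u, (κ * g * l) (Δ.ap x z u) = Δ.ap x z (D.σ i * u) := by
  have := nontrivial_of hij
  set y := Δ.ap x z (D.σ i) with hy
  set v := Δ.ap x z (D.σ i * D.w0) with hv
  have o : Δ.δ y v = D.w0 := ap_opp h _
  have d : Δ.δ x y = D.σ i := ap_left h _
  have gx : ∀ {g}, g ∈ Δ.RG x z i → g x = x := fun hg => by simpa [ap_one h] using RG_fix hg (D.pos_one i)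
  have gy : ∀ {g}, g ∈ Δ.RG y v i → g y = y := fun hg => by simpa [ap_one o] using RG_fix hg (D.pos_one i)
  have p1 : D.Pos i (D.σ i * D.w0) := by rw [D.pos_mul_w0]; simpa using (D.pos_σ_mul i 1).not.2 (by simp [D.pos_one])
  have gz : ∀ {g}, g ∈ Δ.RG y v i → g z = z := fun hg => by
    have := RG_fix hg p1
    rwa [hy, hv, ap_ap' h, D.σ_σ_mul, ap_w0 h] at this
  have d1 : ∀ {g}, g ∈ Δ.RG x z i → g ≠ 1 → Δ.δ y (g y) = D.σ i := fun hg h1 =>
    σ_trans d (by rw [← d]; nth_rw 1 [← gx hg]; exact hg.1 _ _) fun e => h1 (RG_free h hij hg d e.symm)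
  obtain ⟨l, hl, e1⟩ := hM y v o i x _ (σ_symm d) (d1 (inv_mem hg) (inv_ne_one.2 h1))
  obtain ⟨κ, hκ, e2⟩ := hM y v o i _ x (d1 hg h1) (σ_symm d)
  refine ⟨κ, hκ, l, hl, fun u => ?_⟩
  have hm : κ * g * l ∈ Δ.Aut := mul_mem (mul_mem hκ.1 hg.1) hl.1
  have m1 : (κ * g * l) x = y := by simp [e1, gy hκ]
  have m2 : (κ * g * l) y = x := by simp [e2, gy hl]
  have dz : Δ.δ v z = D.σ (D.bar i) := by
    rw [hv, ap_right h, D.σ_bar]; simp [D.σ_inv, D.wJ_inv]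
  have hb := Set.mem_singleton (D.bar i)
  have r : Δ.R {D.bar i} v ((κ * g * l) z) := by
    have r1 : Δ.R {D.bar i} v (g z) := by
      have := (Aut.R hg.1).2 (R.of_σ dz hb)
      rwa [hv, RG_fix hg p1] at this
    have r2 := (Aut.R hκ.1).2 ((R.of_σ dz hb).symm.trans r1)
    rw [gz hκ] at r2
    simpa [gz hl] using (R.of_σ dz hb).trans r2
  have e3 : D.σ i * D.w0 = D.op {D.bar i} := by rw [D.op_single, D.σ_w0]
  have m3 : (κ * g * l) z = v := by
    refine (op_uniqueR (p := x) (by rw [hv, ap_left h, e3]) ?_ r).symm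
    rw [← m2, hm, hy, ap_right h, D.σ_inv, e3]
  rw [Aut.ap hm h, m1, m3, hy, hv, ap_ap' h]

/-- root groups of orthogonal simple roots commute -/
theorem RG_comm {x z : C} (h : Δ.δ x z = D.w0) {i k : I} (hik : orderOf (D.σ i * D.σ k) = 2)
    {f g : Equiv.Perm C} (hf : f ∈ Δ.RG x z i) (hg : g ∈ Δ.RG x z k) : f * g = g * f := by
  have hne : i ≠ k := fun e => by rw [e, D.sq, orderOf_one] at hik; omega
  have : Nontrivial I := ⟨i, k, hne⟩
  have c : D.σ i * D.σ k = D.σ k * D.σ i := by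
    have := D.alt_braid i k; rw [hik] at this; simpa [alt] using this
  have P : ∀ {i j}, i ≠ j → D.Pos i (1 * D.σ j) := fun h =>
    D.pos_mul_of (fun e => h (D.inj (by simpa using e))) (D.pos_one _)
  have fx : ∀ {g i}, g ∈ Δ.RG x z i → g x = x := fun hg => by simpa [ap_one h] using RG_fix hg (D.pos_one _)
  have pan : ∀ {g i j y}, g ∈ Δ.RG x z i → i ≠ j → Δ.R {j} x y → g y = y := fun hg hij hy =>
    hg.2 1 _ (D.pos_one _) (P hij) _ (by rwa [ap_one h])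
  have st : ∀ {g i j y}, g ∈ Δ.RG x z i → Δ.R {j} x y → Δ.R {j} x (g y) := fun hg hy => by
    have := (Aut.R hg.1).2 hy
    rwa [fx hg] at this
  -- the digon at the far end
  have key : ∀ {i k f}, i ≠ k → D.σ i * D.σ k = D.σ k * D.σ i → f ∈ Δ.RG x z i →
      f (Δ.ap x z (D.σ i * D.σ k * D.w0)) = Δ.ap x z (D.σ i * D.σ k * D.w0) ∧
      ∀ y, Δ.R {D.bar k} (Δ.ap x z (D.σ i * D.σ k * D.w0)) y → f y = y := by
    intro i k f hne c hf
    have p1 : D.Pos i (D.σ i * D.σ k * D.w0) := by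
      rw [D.pos_mul_w0, D.pos_σ_mul, not_not]; simpa using P hne
    have p2 : D.Pos i (D.σ i * D.σ k * D.w0 * D.σ (D.bar k)) := by
      rw [mul_assoc, ← D.σ_w0, ← mul_assoc, D.mul_σ_σ, D.pos_mul_w0]
      simpa using (D.pos_σ_mul i 1).not.2 (by simp [D.pos_one])
    exact ⟨RG_fix hf p1, hf.2 _ _ p1 p2⟩
  obtain ⟨f1, f2⟩ := key hne c hf
  obtain ⟨g1, g2⟩ := key hne.symm c.symm hg
  rw [← c] at g1 g2
  set d := Δ.ap x z (D.σ i * D.σ k * D.w0) with hd
  have hb : D.bar i ≠ D.bar k := fun e => hne (by rw [← D.bar_bar i, e, D.bar_bar])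
  have cb : D.σ (D.bar i) * D.σ (D.bar k) = D.σ (D.bar k) * D.σ (D.bar i) := by
    simp only [D.σ_bar, mul_assoc, D.wJ_wJ_mul]; rw [← mul_assoc (D.σ i), c, mul_assoc]
  have dz : Δ.δ d z = D.σ (D.bar i) * D.σ (D.bar k) := by
    rw [hd, ap_right h, cb]; simp [D.σ_bar, D.σ_inv, D.wJ_inv, mul_assoc]
  obtain ⟨p, p1, p2⟩ := exists_mid dz
  obtain ⟨q, q1, q2⟩ := exists_mid (dz.trans cb)
  have hi := Set.mem_singleton (D.bar i)
  have hk := Set.mem_singleton (D.bar k)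
  have fp : Δ.δ d (f p) = D.σ (D.bar i) := by rw [← p1]; nth_rw 1 [← f1]; exact hf.1 _ _
  have gq : Δ.δ d (g q) = D.σ (D.bar k) := by rw [← q1]; nth_rw 1 [← g1]; exact hg.1 _ _
  have hz : (f * g) z = (g * f) z := by
    have a1 : Δ.δ (f p) ((f * g) z) = D.σ (D.bar k) := by
      rw [Equiv.Perm.mul_apply, hf.1, ← g2 p (R.of_σ p1 hi), hg.1, p2]
    have a2 : Δ.δ (f p) ((g * f) z) = D.σ (D.bar k) := by
      rw [Equiv.Perm.mul_apply, ← g2 _ (R.of_σ fp hi), hg.1, hf.1, p2]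
    have a3 : Δ.δ (g q) ((f * g) z) = D.σ (D.bar i) := by
      rw [Equiv.Perm.mul_apply, ← f2 _ (R.of_σ gq hk), hf.1, hg.1, q2]
    have a4 : Δ.δ (g q) ((g * f) z) = D.σ (D.bar i) := by
      rw [Equiv.Perm.mul_apply, hg.1, ← f2 q (R.of_σ q1 hk), hf.1, q2]
    by_contra hne'
    exact hb (D.inj ((σ_trans a3 a4 hne').symm.trans (σ_trans a1 a2 hne')))
  rw [← inv_mul_eq_one]
  refine Aut.eq_one (mul_mem (inv_mem (mul_mem hf.1 hg.1)) (mul_mem hg.1 hf.1)) h (by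
    rw [Equiv.Perm.mul_apply, Equiv.Perm.inv_eq_iff_eq]; simp [fx hf, fx hg]) (fun j y hy => ?_)
    (by rw [Equiv.Perm.mul_apply, ← hz]; simp)
  rw [Equiv.Perm.mul_apply, Equiv.Perm.inv_eq_iff_eq]
  simp only [Equiv.Perm.mul_apply]
  by_cases hj : i = j
  · subst hj
    rw [pan hg hne.symm hy, pan hg hne.symm (st hf hy)]
  · rw [pan hf hj hy, pan hf hj (st hg hy)]

end Bld

end TB
end H20
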