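import Mathlib
import Cfsg.Agent.H20.TB7

/-!
# Coxeter combinatorics for the Moufang property
-/

set_option autoImplicit false
set_option linter.unusedSectionVars false
set_option linter.unusedVariables false

namespace H20
namespace TB

open H8 H8.GenSys

namespace CS

variable {I W : Type*} [Group W] (D : CS I W)

theorem len_refl_lt {g : W} {c : I} (h1 : D.Pos c g⁻¹) {w : W} (h : ¬ D.Pos c (g⁻¹ * w)) :
    D.len (g * D.σ c * g⁻¹ * w) < D.len w := by
  induction w using D.indR' with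
  | h1 => exact absurd (by simpa using h1) h
  | hs w b hl ih =>
    by_cases h2 : D.Pos c (g⁻¹ * w)
    · have e : D.σ c * (g⁻¹ * w) = g⁻¹ * w * D.σ b := by
        by_contra e; exact h (by rw [← mul_assoc]; exact D.pos_mul_of e h2)
      rw [show g * D.σ c * g⁻¹ * (w * D.σ b) = g * (D.σ c * (g⁻¹ * w)) * D.σ b by group, e]
      simp [mul_assoc, D.sq, hl]
    · have := D.len_mul_σ_le b (g * D.σ c * g⁻¹ * w)
      have := ih h2
      rw [← mul_assoc]; omega

theorem len_refl_gt {g : W} {c : I} (h1 : D.Pos c g⁻¹) {w : W} (h : D.Pos c (g⁻¹ * w)) :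
    D.len w < D.len (g * D.σ c * g⁻¹ * w) := by
  have := D.len_refl_lt h1 (w := g * D.σ c * g⁻¹ * w) (by
    rw [show g⁻¹ * (g * D.σ c * g⁻¹ * w) = D.σ c * (g⁻¹ * w) by group, D.pos_σ_mul, not_not]; exact h)
  simpa [mul_assoc] using this

theorem len_dyer {K : Set I} {g w : W} {c : I} (hg : D.MinR K g) (hw : w ∈ D.WJ K) (hc : c ∈ K) (h : D.Pos c w) :
    D.len (g * w * g⁻¹) < D.len (g * (D.σ c * w) * g⁻¹) := by
  have key : ∀ v ∈ D.WJ K, D.len (v * g⁻¹) = D.len g + D.len v := fun v hv => by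
    rw [← D.len_inv, mul_inv_rev, inv_inv, hg _ (inv_mem hv), D.len_inv]
  have := D.len_refl_gt (g := g) (c := c) (by rw [Pos, key _ (D.σ_mem hc), D.len_inv, D.lenσ]; omega)
    (w := g * w * g⁻¹) (by
      rw [show g⁻¹ * (g * w * g⁻¹) = w * g⁻¹ by group, Pos, ← mul_assoc, key _ hw, key _ (mul_mem (D.σ_mem hc) hw)]
      exact Nat.add_lt_add_left h _)
  simpa [mul_assoc] using this

/-- an involution of maximal length in its class -/
def Top (t : W) : Prop := t * t = 1 ∧ ∀ w, D.len (w * t * w⁻¹) ≤ D.len t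

theorem Top.max {t : W} (ht : D.Top t) {K : Set I} {g : W} (hg : D.MinR K g) (hm : g⁻¹ * t * g ∈ D.WJ K) {c : I}
    (hc : c ∈ K) (h : D.Pos c (g⁻¹ * t * g)) : D.σ c * (g⁻¹ * t * g) = g⁻¹ * t * g * D.σ c := by
  set u := g⁻¹ * t * g with hu
  have hi : u⁻¹ = u := inv_eq_of_mul_eq_one_right (by rw [hu]; simp [mul_assoc, ← mul_assoc t t, ht.1])
  have h' : D.len u < D.len (u * D.σ c) := by rw [D.len_rev, hi]; exact h
  refine (D.fold h h').resolve_left fun e => ?_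
  have a1 := D.len_dyer hg hm hc h
  have a2 := D.len_dyer hg (mul_mem hm (D.σ_mem hc)) hc (by
    have := D.lenR u c
    rw [Pos, ← mul_assoc]; omega)
  have a3 := ht.2 (g * D.σ c * g⁻¹)
  have e1 : g * u * g⁻¹ = t := by rw [hu]; group
  have e2 : D.len (g * (u * D.σ c) * g⁻¹) = D.len (g * (D.σ c * u) * g⁻¹) := by
    rw [← D.len_inv]; simp [mul_assoc, hi, D.σ_inv]
  have e3 : g * D.σ c * g⁻¹ * t * (g * D.σ c * g⁻¹)⁻¹ = g * (D.σ c * (u * D.σ c)) * g⁻¹ := by
    rw [hu]; simp [mul_assoc, D.σ_inv]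
  rw [e1] at a1
  rw [e3] at a3
  omega

theorem order_two {a b : I} (hab : a ≠ b) (h : D.σ a * D.σ b = D.σ b * D.σ a) : orderOf (D.σ a * D.σ b) = 2 := by
  refine orderOf_eq_prime ?_ fun e => hab (D.inj ?_)
  · rw [pow_two]; nth_rw 1 [h]; simp [mul_assoc, D.sq]
  · rw [← D.σ_inv a, eq_comm, eq_inv_iff_mul_eq_one, ← h, e]

theorem not_comm {a b : I} (h : 3 ≤ orderOf (D.σ a * D.σ b)) : D.σ a * D.σ b ≠ D.σ b * D.σ a := fun e => by
  by_cases hab : a = b
  · rw [hab, D.sq, orderOf_one] at h; omega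
  · rw [D.order_two hab e] at h; omega

theorem len_two {a b : I} (h : a ≠ b) : D.len (D.σ a * D.σ b) = 2 := by
  have h1 := D.pos_mul_of (i := a) (j := b) (w := 1) (fun e => h (D.inj (by simpa using e))) (D.pos_one _)
  have h2 := D.lenL a (D.σ b)
  rw [Pos, one_mul, D.lenσ] at h1
  rw [D.lenσ] at h2; omega

theorem len_three {a b : I} (h : 3 ≤ orderOf (D.σ a * D.σ b)) : D.len (D.σ a * D.σ b * D.σ a) = 3 := by
  simpa [alt, mul_assoc] using D.len_alt' (a := a) (b := b) (n := 3) h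

theorem comm_step {J : Set I} {x : W} {b c : I} (hx : x ∈ D.WJ J) (hc : c ∉ J) (h : D.σ c * x = x * D.σ c)
    (hb : D.len (x * D.σ b) < D.len x) : ¬ 3 ≤ orderOf (D.σ c * D.σ b) := fun h3 => by
  have hbJ := D.mem_of_descR hx hb.le
  have a0 : D.len (x * D.σ c) = D.len x + 1 := by
    have := D.lenR x c
    have : ¬ D.len (x * D.σ c) ≤ D.len x := fun h => hc (D.mem_of_descR hx h)
    omega
  have a1 := D.len_top (J := {b, c}) (w := (x * D.σ c)⁻¹) (by
    rintro j (rfl | rfl)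
    · have := D.len_σ_mul_le c (x * D.σ j)
      rw [← D.len_rev, D.len_inv]; nth_rw 1 [← h]; rw [mul_assoc]; omega
    · rw [← D.len_rev, D.len_inv, D.mul_σ_σ]; omega) (D.σ c * D.σ b * D.σ c)
    (mul_mem (mul_mem (D.σ_mem (by simp)) (D.σ_mem (by simp))) (D.σ_mem (by simp)))
  rw [← mul_inv_rev, D.len_inv, D.len_inv, D.len_three h3, a0] at a1
  simp only [← mul_assoc, D.mul_σ_σ] at a1
  have := D.lenR x b
  exact hc (D.mem_of_descR (mul_mem hx (D.σ_mem hbJ)) (by omega))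

theorem len_parity (v w : W) : D.len (v * w) % 2 = (D.len v + D.len w) % 2 := by
  induction w using D.indR' with
  | h1 => simp
  | hs w i hl ih => have := D.lenR (v * w) i; rw [← mul_assoc]; omega

theorem refl_pair [Finite W] {j k : I} (h4 : orderOf (D.σ j * D.σ k) ≤ 4) {u : W} {i : I}
    (h : u * D.σ i * u⁻¹ ∈ D.WJ {j, k}) : u * D.σ i * u⁻¹ = D.σ j ∨ u * D.σ i * u⁻¹ = D.σ k ∨
      (3 ≤ orderOf (D.σ j * D.σ k) ∧
        (u * D.σ i * u⁻¹ = D.σ j * D.σ k * D.σ j ∨ u * D.σ i * u⁻¹ = D.σ k * D.σ j * D.σ k)) := by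
  obtain ⟨n, hn, e⟩ := D.mem_pair h
  have p1 := D.len_parity (u * D.σ i) u⁻¹
  have p2 := D.lenR u i
  rw [D.len_inv] at p1
  have hl : D.len (u * D.σ i * u⁻¹) = n := by
    rcases e with e | e <;> rw [e]
    exacts [D.len_alt' hn, D.len_alt' (D.order_symm j k ▸ hn)]
  have : n = 1 ∨ n = 3 := by omega
  rcases this with rfl | rfl <;> rcases e with e | e <;> simp [e, alt, mul_assoc, hn]

/-- connected diagrams of rank at least three with labels at most four -/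
structure Nice : Prop where
  le4 : ∀ a b, a ≠ b → orderOf (D.σ a * D.σ b) = 2 ∨ orderOf (D.σ a * D.σ b) = 3 ∨ orderOf (D.σ a * D.σ b) = 4
  nb : ∀ i, ∃ j, 3 ≤ orderOf (D.σ j * D.σ i)
  third : ∀ j k, 3 ≤ orderOf (D.σ j * D.σ k) →
    ∃ l, l ≠ j ∧ l ≠ k ∧ (3 ≤ orderOf (D.σ l * D.σ j) ∨ 3 ≤ orderOf (D.σ l * D.σ k))
  c3 : ∀ j k, orderOf (D.σ j * D.σ k) = 4 → ∃ l, (orderOf (D.σ l * D.σ j) = 3 ∧ orderOf (D.σ l * D.σ k) = 2) ∨
    (orderOf (D.σ l * D.σ k) = 3 ∧ orderOf (D.σ l * D.σ j) = 2)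

theorem Nice.le {D : CS I W} (hD : D.Nice) (a b : I) : orderOf (D.σ a * D.σ b) ≤ 4 := by
  by_cases h : a = b
  · rw [h, D.sq, orderOf_one]; omega
  · have := hD.le4 a b h; omega

theorem Top.not_simple {t : W} (ht : D.Top t) {K : Set I} {g : W} (hg : D.MinR K g) {j k : I} (hj : j ∈ K) (hk : k ∈ K)
    (h3 : 3 ≤ orderOf (D.σ k * D.σ j)) : g⁻¹ * t * g ≠ D.σ j := fun e => by
  have := ht.max D hg (e ▸ D.σ_mem hj) hk (by
    rw [e, Pos, D.lenσ, D.len_two fun e' => D.not_comm h3 (by rw [e'])]; omega)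
  rw [e] at this
  exact D.not_comm h3 this

theorem Top.deep [Finite W] (hD : D.Nice) {u : W} {i : I} (ht : D.Top (u * D.σ i * u⁻¹)) {j k : I} :
    u * D.σ i * u⁻¹ ∉ D.WJ {j, k} := fun h => by
  have m1 : D.MinR Set.univ 1 := fun v _ => by simp
  have s1 : ∀ j, u * D.σ i * u⁻¹ ≠ D.σ j := fun j => by
    obtain ⟨k, hk⟩ := hD.nb j
    simpa using ht.not_simple D m1 (Set.mem_univ j) (Set.mem_univ k) hk
  have s3 : ∀ j k, 3 ≤ orderOf (D.σ j * D.σ k) → u * D.σ i * u⁻¹ ≠ D.σ j * D.σ k * D.σ j := fun j k h3 e => by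
    obtain ⟨l, l1, l2, l3⟩ := hD.third j k h3
    have hl : l ∉ ({j, k} : Set I) := by simp [l1, l2]
    have hm : D.σ j * D.σ k * D.σ j ∈ D.WJ {j, k} :=
      mul_mem (mul_mem (D.σ_mem (by simp)) (D.σ_mem (by simp))) (D.σ_mem (by simp))
    have c := ht.max D m1 (D.mem_univ _) (Set.mem_univ l) (by
      simpa [e, Pos] using lt_of_not_ge fun h => hl (D.mem_of_descL hm h))
    simp only [inv_one, one_mul, mul_one, e] at c
    have c1 := D.comm_step hm hl c (b := j) (by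
      rw [D.mul_σ_σ, D.len_three h3, D.len_two fun e' => D.not_comm h3 (by rw [e'])]; omega)
    have c2 : D.σ l * D.σ j = D.σ j * D.σ l := by
      have := D.alt_braid l j
      rw [show orderOf (D.σ l * D.σ j) = 2 by have := hD.le4 l j l1; omega] at this
      simpa [alt] using this
    refine D.not_comm (l3.resolve_left c1) ?_
    have : D.σ j * (D.σ l * D.σ k) * D.σ j = D.σ j * (D.σ k * D.σ l) * D.σ j := by
      rw [← mul_assoc, ← c2, mul_assoc (D.σ l), mul_assoc (D.σ l), c, mul_assoc _ (D.σ j), ← c2]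
      simp [mul_assoc]
    exact mul_left_cancel (mul_right_cancel this)
  rcases D.refl_pair (hD.le j k) h with e | e | ⟨h3, e | e⟩
  exacts [s1 _ e, s1 _ e, s3 _ _ h3 e, s3 _ _ (D.order_symm j k ▸ h3) e]

theorem exists_Top [Finite W] (i : I) : ∃ v, D.Pos i v ∧ D.Top (v⁻¹ * D.σ i * v⁻¹⁻¹) := by
  obtain ⟨v, -, hv⟩ := Set.exists_max_image Set.univ (fun v => D.len (v⁻¹ * D.σ i * v)) (Set.toFinite _) ⟨1, trivial⟩
  have key : D.Top (v⁻¹ * D.σ i * v) := ⟨by simp [mul_assoc], fun w => by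
    simpa [mul_assoc] using hv (v * w⁻¹) trivial⟩
  by_cases h : D.Pos i v
  · exact ⟨v, h, by simpa using key⟩
  · exact ⟨D.σ i * v, (D.pos_σ_mul i v).2 h, by simpa [mul_assoc, D.σ_inv] using key⟩

/-! ### Subsystems -/

section Sub

variable {I' W' : Type*} [Group W'] (e : I' → I)

theorem π_map_mem (l : List I') : D.π (l.map e) ∈ D.WJ (Set.range e) :=
  (D.mem_closure_iff _ _).2 ⟨_, by simp, rfl⟩

theorem exists_map {l : List I} (h : ∀ i ∈ l, i ∈ Set.range e) : ∃ l' : List I', l'.map e = l := by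
  induction l with
  | nil => exact ⟨[], rfl⟩
  | cons i l ih =>
    obtain ⟨l', rfl⟩ := ih fun j hj => h j (by simp [hj])
    obtain ⟨i', rfl⟩ := h i (by simp)
    exact ⟨i' :: l', rfl⟩

/-- the generators of a standard parabolic subgroup -/
def subG : GenSys I' (D.WJ (Set.range e)) where
  σ i := ⟨D.σ (e i), D.σ_mem ⟨i, rfl⟩⟩
  sq i := Subtype.ext (D.sq _)
  gen w := by
    obtain ⟨l, hl, h⟩ := (D.mem_closure_iff _ _).1 w.2
    obtain ⟨l', rfl⟩ := exists_map e hl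
    exact ⟨l', Subtype.ext (by rw [← h]; simp [GenSys.π, Function.comp_def])⟩

theorem subG_σ (i : I') : ((D.subG e).σ i : W) = D.σ (e i) := rfl

theorem subG_π (l : List I') : ((D.subG e).π l : W) = D.π (l.map e) := by
  induction l with
  | nil => rfl
  | cons i l ih => simp [ih, subG_σ]

theorem subG_len (w : D.WJ (Set.range e)) : (D.subG e).len w = D.len w := by
  refine le_antisymm ?_ ?_
  · obtain ⟨l, hl, h, hr⟩ := D.ex.exists_reduced_of_mem_closure w.2
    obtain ⟨l', rfl⟩ := exists_map e hl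
    have e1 : (D.subG e).π l' = w := Subtype.ext (by rw [subG_π, h])
    rw [← h, hr, ← e1, List.length_map]; exact GenSys.len_le _ _
  · obtain ⟨l, rfl, hl⟩ := (D.subG e).exists_reduced w
    rw [← hl, subG_π, ← List.length_map e]; exact D.len_le _

theorem subG_ex : (D.subG e).Exchange := by
  intro i l h
  rw [subG_len, subG_len, Subgroup.coe_mul, subG_π] at h
  obtain ⟨l₁, j, l₂, h1, h2⟩ := D.ex (e i) (l.map e) h
  obtain ⟨m₁, m, rfl, rfl, h3⟩ := List.map_eq_append_iff.1 h1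
  obtain ⟨j', m₂, rfl, rfl, rfl⟩ := List.map_eq_cons_iff.1 h3
  exact ⟨m₁, j', m₂, rfl, Subtype.ext (by simpa [subG_π, subG_σ] using h2)⟩

theorem exists_emb (D' : CS I' W') (h : ∀ i j, orderOf (D.σ (e i) * D.σ (e j)) = orderOf (D'.σ i * D'.σ j)) :
    ∃ ι : W' →* W, (∀ i, ι (D'.σ i) = D.σ (e i)) ∧ Function.Injective ι ∧ (∀ w, D.len (ι w) = D'.len w) ∧
      ∀ J : Set I', ∀ w ∈ D.WJ (e '' J), ∃ w' ∈ D'.WJ J, ι w' = w := by
  obtain ⟨ι, hι⟩ := D'.ex.exists_lift (fun i => D.σ (e i)) (fun i => D.sq _) fun i j n hn => by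
    rwa [← orderOf_dvd_iff_pow_eq_one, h, orderOf_dvd_iff_pow_eq_one]
  obtain ⟨φ, hφ⟩ := (D.subG_ex e).exists_lift D'.σ D'.sq fun i j n hn => by
    rw [← orderOf_dvd_iff_pow_eq_one, ← h, orderOf_dvd_iff_pow_eq_one]
    simpa [subG_σ] using congrArg Subtype.val hn
  have h1 : ∀ l, ι (D'.π l) = D.π (l.map e) := fun l => by induction l <;> simp [*]
  have h2 : ∀ l, φ ((D.subG e).π l) = D'.π l := fun l => by induction l <;> simp [*]
  have h3 : ∀ l l', D.π (l.map e) = D.π (l'.map e) → D'.π l = D'.π l' := fun l l' h => by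
    rw [← h2, ← h2, show (D.subG e).π l = (D.subG e).π l' from Subtype.ext (by rw [subG_π, subG_π, h])]
  refine ⟨ι, hι, fun v w hvw => ?_, fun w => le_antisymm ?_ ?_, fun J w hw => ?_⟩
  · obtain ⟨l, rfl, -⟩ := D'.exists_reduced' v
    obtain ⟨l', rfl, -⟩ := D'.exists_reduced' w
    exact h3 _ _ (by rw [← h1, ← h1, hvw])
  · obtain ⟨l, rfl, hl⟩ := D'.exists_reduced w
    rw [← hl, h1, ← List.length_map e]; exact D.len_le _
  · obtain ⟨l, rfl, -⟩ := D'.exists_reduced w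
    obtain ⟨m, hm, h4, hr⟩ := D.ex.exists_reduced_of_mem_closure (D.π_map_mem e l)
    obtain ⟨m', rfl⟩ := exists_map e hm
    rw [h1, ← h4, hr, ← h3 _ _ h4, List.length_map]; exact D'.len_le _
  · induction hw using Subgroup.closure_induction with
    | mem x hx => obtain ⟨_, ⟨j, hj, rfl⟩, rfl⟩ := hx; exact ⟨_, D'.σ_mem hj, hι j⟩
    | one => exact ⟨1, one_mem _, map_one _⟩
    | mul x y _ _ hx hy =>
      obtain ⟨x, hx, rfl⟩ := hx
      obtain ⟨y, hy, rfl⟩ := hy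
      exact ⟨_, mul_mem hx hy, map_mul _ _ _⟩
    | inv x _ hx => obtain ⟨x, hx, rfl⟩ := hx; exact ⟨_, inv_mem hx, map_inv _ _⟩

end Sub

end CS

end TB
end H20
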