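import Mathlib
import Cfsg.Agent.H20.TB10

/-!
# The Coxeter group of type `B₃`
-/

set_option autoImplicit false
set_option linter.unusedSectionVars false
set_option linter.unusedVariables false

namespace H20
namespace TB

open H8 H8.GenSys Equiv

/-- generators of the group of signed permutations of three letters -/
def b3s : Fin 3 → Perm (Fin 6) := ![swap 0 1 * swap 4 5, swap 1 2 * swap 3 4, swap 2 3]

/-- the group of signed permutations of three letters -/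
abbrev B3 : Subgroup (Perm (Fin 6)) := Subgroup.closure (Set.range b3s)

/-- the generators -/
def b3G : GenSys (Fin 3) B3 where
  σ i := ⟨b3s i, Subgroup.subset_closure ⟨i, rfl⟩⟩
  sq i := Subtype.ext (by revert i; decide)
  gen w := by
    obtain ⟨w, hw⟩ := w
    induction hw using Subgroup.closure_induction_left with
    | one => exact ⟨[], rfl⟩
    | mul_left x hx y hy ih => obtain ⟨i, rfl⟩ := hx; obtain ⟨l, hl⟩ := ih; exact ⟨i :: l, by simp [hl]⟩
    | inv_mul_cancel x hx y hy ih =>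
      obtain ⟨i, rfl⟩ := hx
      obtain ⟨l, hl⟩ := ih
      have : (b3s i)⁻¹ = b3s i := by revert i; decide
      exact ⟨i :: l, by simp [hl, this]⟩

theorem b3_sym (w : B3) (x : Fin 6) : w.1 x.rev = (w.1 x).rev := by
  obtain ⟨w, hw⟩ := w
  induction hw using Subgroup.closure_induction generalizing x with
  | mem x hx => obtain ⟨i, rfl⟩ := hx; revert i x; decide
  | one => rfl
  | mul x y _ _ hx hy => simp only [Perm.mul_apply] at *; rw [hy, hx]
  | inv y _ hy => simp only at *; rw [Perm.inv_eq_iff_eq, hy]; simp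

/-- the simple roots -/
def b3Q (i : Fin 3) : Set B3 := {w | w.1⁻¹ (Fin.castLE (by omega) i) < w.1⁻¹ (Fin.castLE (by omega) i + 1)}

theorem b3_key : ∀ (i j : Fin 3) (a b c : Fin 6), let F : Fin 6 → Fin 6 := ![a, b, c, c.rev, b.rev, a.rev]
    Function.Injective F → F (Fin.castLE (by omega) i) < F (Fin.castLE (by omega) i + 1) →
    ¬ b3s j (F (Fin.castLE (by omega) i)) < b3s j (F (Fin.castLE (by omega) i + 1)) →
    ∀ x, F (b3s i x) = b3s j (F x) := by
  decide +kernel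

theorem b3_hB (i : Fin 3) (w : B3) : b3G.σ i * w ∈ b3Q i ↔
    w.1⁻¹ (Fin.castLE (by omega) i + 1) < w.1⁻¹ (Fin.castLE (by omega) i) := by
  have : (b3s i)⁻¹ (Fin.castLE (by omega) i) = Fin.castLE (by omega) i + 1 ∧
      (b3s i)⁻¹ (Fin.castLE (by omega) i + 1) = Fin.castLE (by omega) i := by revert i; decide
  simp only [b3Q, b3G, Set.mem_ofPred_eq, Subgroup.coe_mul, mul_inv_rev, Perm.mul_apply, this]

theorem b3_hC (i j : Fin 3) (w : B3) (h1 : w ∈ b3Q i) (h2 : w * b3G.σ j ∉ b3Q i) : b3G.σ i * w = w * b3G.σ j := by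
  have e : ⇑(w.1⁻¹) = ![w.1⁻¹ 0, w.1⁻¹ 1, w.1⁻¹ 2, (w.1⁻¹ 2).rev, (w.1⁻¹ 1).rev, (w.1⁻¹ 0).rev] := by
    ext x
    fin_cases x
    iterate 3 rfl
    exacts [congrArg _ (b3_sym w⁻¹ 2), congrArg _ (b3_sym w⁻¹ 1), congrArg _ (b3_sym w⁻¹ 0)]
  have hi : ∀ i, (b3s i)⁻¹ = b3s i := by decide
  have := b3_key i j (w.1⁻¹ 0) (w.1⁻¹ 1) (w.1⁻¹ 2) (e ▸ w.1⁻¹.injective) (e ▸ h1)
    (e ▸ by simpa only [b3Q, b3G, Set.mem_ofPred_eq, Subgroup.coe_mul, mul_inv_rev, Perm.mul_apply, hi] using h2)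
  rw [← e] at this
  rw [← inv_inj]
  ext x
  simpa only [b3G, Subgroup.coe_mul, Subgroup.coe_inv, mul_inv_rev, Perm.mul_apply, hi, Fin.ext_iff] using this x

/-- the Coxeter system of type `B₃` -/
def b3 : CS (Fin 3) B3 where
  toGenSys := b3G
  ex := b3G.exchange_of_family b3Q (by simp only [b3Q, Set.mem_ofPred_eq]; decide)
    (fun i w h h' => lt_asymm h ((b3_hB i w).1 h')) b3_hC
  inj := fun i j h => by have := congrArg Subtype.val h; revert this; revert i j; decide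

theorem b3_pos (i : Fin 3) (w : B3) : b3.Pos i w ↔ w ∈ b3Q i :=
  (b3G.mem_iff_len_lt b3Q (by simp only [b3Q, Set.mem_ofPred_eq]; decide) (fun i w h h' => lt_asymm h ((b3_hB i w).1 h'))
    b3_hC i w).symm

theorem b3_order (i j : Fin 3) : orderOf (b3.σ i * b3.σ j) = ![![1, 3, 2], ![3, 1, 4], ![2, 4, 1]] i j := by
  rw [← Subgroup.orderOf_coe, orderOf_eq_iff (by revert i j; decide)]
  revert i j; decide

theorem b3_01 {w : B3} (h : w ∈ b3.WJ {0, 1}) : ∀ x, w.1 x < 3 ↔ x < 3 := by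
  induction h using Subgroup.closure_induction with
  | mem x hx => obtain ⟨_, rfl | rfl, rfl⟩ := hx <;> decide
  | one => simp
  | mul x y _ _ hx hy => intro a; simp [hx, hy]
  | inv y _ hy => intro a; rw [← hy]; simp

theorem b3_12 {w : B3} (h : w ∈ b3.WJ {1, 2}) : w.1 0 = 0 := by
  induction h using Subgroup.closure_induction with
  | mem x hx => obtain ⟨_, rfl | rfl, rfl⟩ := hx <;> decide
  | one => simp
  | mul x y _ _ hx hy => simp [hx, hy]
  | inv y _ hy => exact Perm.inv_eq_iff_eq.2 hy.symm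

/-- the reflections -/
def b3R : List (List (Fin 3)) :=
  [[0], [1], [2], [1, 0, 1], [2, 1, 2], [1, 2, 1], [2, 1, 0, 1, 2], [1, 2, 1, 0, 1, 2, 1], [0, 1, 2, 1, 0]]

theorem b3_refl (u : B3) (c : Fin 3) : ∃ l ∈ b3R, u * b3.σ c * u⁻¹ = b3.π l := by
  obtain ⟨m, rfl, -⟩ := b3.exists_reduced' u
  induction m with
  | nil => fin_cases c <;> simp [b3R]
  | cons i m ih =>
    obtain ⟨l, hl, e⟩ := ih
    have : ∀ i, ∀ l ∈ b3R, ∃ l' ∈ b3R, b3.σ i * b3.π l * b3.σ i = b3.π l' := by decide +kernel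
    obtain ⟨l', h1, h2⟩ := this i l hl
    exact ⟨l', h1, by rw [← h2, ← e]; simp [mul_assoc, b3.σ_inv]⟩

theorem b3_closure (P : B3 → Prop) {t : B3} (ht : ∃ l ∈ b3R, t = b3.π l)
    (hmax : ∀ c, b3.Pos c t → b3.σ c * t = t * b3.σ c) (hb : ∀ c, P (b3.σ c))
    (hr : ∀ w a b, w⁻¹ * t * w ∉ b3.WJ {a, b} → P (w * b3.σ a * w⁻¹) → P (w * b3.σ b * w⁻¹) →
      P (w * (b3.σ b * b3.σ a * b3.σ b) * w⁻¹)) :
    ∀ l ∈ b3R, b3.π l ≠ t → P (b3.π l) := by
  have h2 : t = b3.π [0, 1, 2, 1, 0] ∨ t = b3.π [1, 2, 1, 0, 1, 2, 1] := by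
    obtain ⟨l, hl, rfl⟩ := ht
    simp only [b3_pos, b3Q, Set.mem_ofPred_eq] at hmax
    clear hr
    revert l; decide +kernel
  have n01 : ∀ w : B3, (w = 1 ∨ w = b3.σ 2 ∨ (w = b3.σ 1 * b3.σ 2 ∧ t = b3.π [0, 1, 2, 1, 0])) →
      w⁻¹ * t * w ∉ b3.WJ {0, 1} := fun w hw h => by
    have := b3_01 h 0
    rcases h2 with rfl | rfl <;> rcases hw with rfl | rfl | ⟨rfl, h3⟩ <;> revert this
    iterate 5 decide
    exact absurd h3 (by decide)
  have n12 : ∀ w : B3, (w = 1 ∨ (w = b3.σ 0 ∧ t = b3.π [1, 2, 1, 0, 1, 2, 1])) →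
      w⁻¹ * t * w ∉ b3.WJ {1, 2} := fun w hw h => by
    have := b3_12 h
    rcases h2 with rfl | rfl <;> rcases hw with rfl | ⟨rfl, h3⟩ <;> revert this
    · decide
    · exact absurd h3 (by decide)
    · decide
    · decide
  have p1 : P (b3.π [1, 0, 1]) := by
    simpa [mul_assoc] using hr 1 0 1 (n01 _ (by simp)) (by simpa using hb 0) (by simpa using hb 1)
  have p2 : P (b3.π [2, 1, 2]) := by
    simpa [mul_assoc] using hr 1 1 2 (n12 _ (by simp)) (by simpa using hb 1) (by simpa using hb 2)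
  have p3 : P (b3.π [1, 2, 1]) := by
    simpa [mul_assoc] using hr 1 2 1 (Set.pair_comm (1 : Fin 3) 2 ▸ n12 _ (by simp)) (by simpa using hb 2)
      (by simpa using hb 1)
  have p4 : P (b3.π [2, 1, 0, 1, 2]) := by
    convert hr (b3.σ 2) 0 1 (n01 _ (by simp)) (by convert hb 0 using 1; decide) (by convert p2 using 1; decide) using 1
    decide
  intro l hl hne
  simp only [b3R, List.mem_cons, List.not_mem_nil, or_false] at hl
  rcases hl with rfl | rfl | rfl | rfl | rfl | rfl | rfl | rfl | rfl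
  · simpa using hb 0
  · simpa using hb 1
  · simpa using hb 2
  exacts [p1, p2, p3, p4, by
    convert hr (b3.σ 1 * b3.σ 2) 0 1 (n01 _ (by simp [h2.resolve_right (Ne.symm hne)]))
      (by convert p1 using 1; decide) (by convert p2 using 1; decide) using 1
    decide, by
    convert hr (b3.σ 0) 2 1 (Set.pair_comm (1 : Fin 3) 2 ▸ n12 _ (by simp [h2.resolve_left (Ne.symm hne)]))
      (by convert hb 2 using 1; decide) (by convert p1 using 1; decide) using 1
    decide]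

theorem CS.c3_closure {I W : Type*} [Group W] (D : CS I W) {i j k : I} (h1 : orderOf (D.σ i * D.σ j) = 3)
    (h2 : orderOf (D.σ j * D.σ k) = 4) (h3 : orderOf (D.σ i * D.σ k) = 2) (P : W → Prop) {u : W} {c : I}
    (hu : u ∈ D.WJ {i, j, k}) (hc : c ∈ ({i, j, k} : Set I))
    (hmax : ∀ a ∈ ({i, j, k} : Set I), D.Pos a (u * D.σ c * u⁻¹) → D.σ a * (u * D.σ c * u⁻¹) = u * D.σ c * u⁻¹ * D.σ a)
    (hb : ∀ a ∈ ({i, j, k} : Set I), P (D.σ a))
    (hr : ∀ w a b, w⁻¹ * (u * D.σ c * u⁻¹) * w ∉ D.WJ {a, b} → P (w * D.σ a * w⁻¹) → P (w * D.σ b * w⁻¹) →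
      P (w * (D.σ b * D.σ a * D.σ b) * w⁻¹))
    {v : W} {d : I} (hv : v ∈ D.WJ {i, j, k}) (hd : d ∈ ({i, j, k} : Set I))
    (hne : v * D.σ d * v⁻¹ ≠ u * D.σ c * u⁻¹) : P (v * D.σ d * v⁻¹) := by
  let e : Fin 3 → I := ![i, j, k]
  obtain ⟨ι, i1, i2, i3, i4⟩ := D.exists_emb e b3 (by
    intro a b
    rw [b3_order]
    fin_cases a <;> fin_cases b <;> simp [e, D.sq, h1, h2, h3, D.order_symm j i, D.order_symm k j, D.order_symm k i])
  have hK : ({i, j, k} : Set I) = e '' Set.univ := by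
    ext a; simp [e, eq_comm]; tauto
  rw [hK] at hu hc hv hd hmax hb
  obtain ⟨u, -, rfl⟩ := i4 _ u hu
  obtain ⟨v, -, rfl⟩ := i4 _ v hv
  obtain ⟨c, -, rfl⟩ := hc
  obtain ⟨d, -, rfl⟩ := hd
  obtain ⟨l, hl, e1⟩ := b3_refl v d
  simp only [← i1, ← map_inv, ← map_mul] at hmax hr hne ⊢
  rw [e1] at hne ⊢
  refine b3_closure (fun w => P (ι w)) (b3_refl u c) (fun a ha => i2 ?_) (fun a => ?_) (fun w a b h4 h5 h6 => ?_) l hl
    fun e => hne (by rw [e])
  · simpa [← i1] using hmax _ ⟨a, trivial, rfl⟩ (by simpa [CS.Pos, ← i1, ← map_mul, i3] using ha)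
  · simpa [i1] using hb _ ⟨a, trivial, rfl⟩
  · simp only [map_mul, map_inv, i1] at h5 h6 ⊢
    refine hr (ι w) (e a) (e b) (fun h7 => h4 ?_) h5 h6
    obtain ⟨w', h8, h9⟩ := i4 {a, b} _ (by rwa [Set.image_pair])
    simp only [← map_inv, ← map_mul] at h9
    exact i2 h9 ▸ h8

end TB
end H20
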