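import Mathlib
import Cfsg.Agent.H20.TB4

/-!
# Tits' extension theorem
-/

set_option autoImplicit false
set_option linter.unusedSectionVars false
set_option linter.unusedVariables false

namespace H20
namespace TB

open H8

/-- all labels are at most four -/
def CS.Le4 {I W : Type*} [Group W] (D : CS I W) : Prop :=
  ∀ a b, a ≠ b → orderOf (D.σ a * D.σ b) = 2 ∨ orderOf (D.σ a * D.σ b) = 3 ∨ orderOf (D.σ a * D.σ b) = 4

namespace Bld

variable {I W : Type*} [Group W] [Finite W] {D : CS I W} {C C' : Type*} {Δ : Bld D C} {Δ' : Bld D C'}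

theorem IsSt.ap_rel {x z : C} {x' z' : C'} {r : C → C' → Prop} (h : IsSt Δ Δ' x z x' z' r) {J : Set I} (hJ : Sm J)
    {w : W} (hw : w ∈ D.WJ J) : r (Δ.ap x z w) (Δ'.ap x' z' w) := by
  obtain ⟨y', hy⟩ := h.tot hJ (y := Δ.ap x z w) (by rw [R, ap_left h.opp]; exact hw)
  rwa [← eq_ap h.opp' (by rw [← h.δ_base hy, ap_left h.opp]) (by rw [← h.dist hy, ap_right h.opp])]

theorem IsSt.ap_Tr {x z : C} {x' z' : C'} {r : C → C' → Prop} (h : IsSt Δ Δ' x z x' z' r) {J : Set I} (hJ : Sm J)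
    {w : W} (hw : w ∈ D.WJ J) : Tr Δ Δ' x z z' r (Δ.ap x z (w * D.w0)) (Δ'.ap x' z' (w * D.w0)) := by
  have := h.swap.ap_rel (hJ.bar D) (D.conj_mem hw)
  rwa [ap_swap h.opp, ap_swap h.opp', mul_assoc, D.wJ_wJ_mul] at this

variable (Δ Δ') in
/-- local isomorphisms -/
@[ext] structure St where
  x : C
  z : C
  x' : C'
  z' : C'
  r : C → C' → Prop
  h : IsSt Δ Δ' x z x' z' r

namespace St

/-- `T` sits at position `w` of the apartment of `S` -/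
structure At (S : St Δ Δ') (w : W) (T : St Δ Δ') : Prop where
  x : T.x = Δ.ap S.x S.z w
  z : T.z = Δ.ap S.x S.z (w * D.w0)
  x' : T.x' = Δ'.ap S.x' S.z' w
  z' : T.z' = Δ'.ap S.x' S.z' (w * D.w0)

theorem At.one (S : St Δ Δ') : S.At 1 S :=
  ⟨(ap_one S.h.opp).symm, by rw [one_mul, ap_w0 S.h.opp], (ap_one S.h.opp').symm, by rw [one_mul, ap_w0 S.h.opp']⟩

theorem At.mul {S T U : St Δ Δ'} {v w : W} (h1 : S.At v T) (h2 : T.At w U) : S.At (v * w) U :=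
  ⟨by rw [h2.x, h1.x, h1.z, ap_ap' S.h.opp], by rw [h2.z, h1.x, h1.z, ap_ap' S.h.opp, mul_assoc],
    by rw [h2.x', h1.x', h1.z', ap_ap' S.h.opp'], by rw [h2.z', h1.x', h1.z', ap_ap' S.h.opp', mul_assoc]⟩

theorem At.R {S T : St Δ Δ'} {w : W} (h : S.At w T) {J : Set I} (hw : w ∈ D.WJ J) : Δ.R J S.x T.x := by
  rw [Bld.R, h.x, ap_left S.h.opp]; exact hw

theorem At.Rz {S T : St Δ Δ'} {w : W} (h : S.At w T) {J : Set I} (hw : w ∈ D.WJ J) : Δ.R (D.barS J) S.z T.z := by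
  rw [Bld.R, h.z]; nth_rw 1 [← ap_w0 S.h.opp]; rw [ap_ap S.h.opp, D.wJ_inv, ← mul_assoc]; exact D.conj_mem hw

theorem At.Rz' {S T : St Δ Δ'} {w : W} (h : S.At w T) {J : Set I} (hw : w ∈ D.WJ J) :
    Δ'.R (D.barS J) S.z' T.z' := by
  rw [Bld.R, h.z']; nth_rw 1 [← ap_w0 S.h.opp']; rw [ap_ap S.h.opp', D.wJ_inv, ← mul_assoc]; exact D.conj_mem hw

/-- neighbouring local isomorphisms along the apartment -/
def Nb (i : I) (S T : St Δ Δ') : Prop :=
  S.At (D.σ i) T ∧ ∀ J, Sm J → i ∈ J → ∀ v v', Δ.R J S.x v → S.r v v' → T.r v v'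

theorem agree_symm {S T : St Δ Δ'} {J : Set I} (hJ : Sm J) (hx : Δ.R J S.x T.x)
    (h : ∀ v v', Δ.R J S.x v → S.r v v' → T.r v v') (v : C) (v' : C') (hv : Δ.R J T.x v) (h1 : T.r v v') :
    S.r v v' := by
  obtain ⟨v'', h2⟩ := S.h.tot hJ (hx.trans hv)
  rwa [T.h.func h1 (h _ _ (hx.trans hv) h2)]

theorem Nb.symm {i : I} {S T : St Δ Δ'} (h : Nb i S T) : Nb i T S := by
  refine ⟨?_, fun J hJ hi => agree_symm hJ (h.1.R (D.σ_mem hi)) (h.2 J hJ hi)⟩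
  have := At.one S
  exact ⟨by rw [h.1.x, h.1.z, ap_ap' S.h.opp, D.sq, ← this.x],
    by rw [h.1.x, h.1.z, ap_ap' S.h.opp, ← mul_assoc, D.sq, ← this.z],
    by rw [h.1.x', h.1.z', ap_ap' S.h.opp', D.sq, ← this.x'],
    by rw [h.1.x', h.1.z', ap_ap' S.h.opp', ← mul_assoc, D.sq, ← this.z']⟩

theorem Nb.unique {i : I} {S T U : St Δ Δ'} (h1 : Nb i S T) (h2 : Nb i S U) : T = U := by
  have e1 : T.x = U.x := h1.1.x.trans h2.1.x.symm
  have e2 : T.z = U.z := h1.1.z.trans h2.1.z.symm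
  have e3 : T.x' = U.x' := h1.1.x'.trans h2.1.x'.symm
  have e4 : T.z' = U.z' := h1.1.z'.trans h2.1.z'.symm
  have hU := U.h
  rw [← e1, ← e2, ← e3, ← e4] at hU
  exact St.ext e1 e2 e3 e4 (T.h.uniq hU (S.h.panel_of hU (h1.1.R (D.σ_mem rfl)) h1.2 h2.2 T.h.func))

theorem exists_nb (i : I) (S : St Δ Δ') : ∃ T, Nb i S T := by
  have hi : D.σ i ∈ D.WJ {i} := D.σ_mem rfl
  have hy := S.h.ap_rel (Sm.single i) hi
  have hz := S.h.ap_Tr (Sm.single i) hi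
  have r1 : Δ.R {D.bar i} S.z (Δ.ap S.x S.z (D.σ i * D.w0)) := by
    refine R.of_σ (i := D.bar i) ?_ rfl
    nth_rw 1 [← ap_w0 S.h.opp]; rw [ap_ap S.h.opp, D.wJ_inv, D.σ_bar, mul_assoc]
  obtain ⟨e, e1, e2, e3⟩ := common_opp (Set.mem_univ _) S.h.opp (ap_opp S.h.opp (D.σ i)) r1
  obtain ⟨e', e4⟩ := S.h.swap.tot (Sm.single _) e1
  have h1 := S.h.move e4 e2
  obtain ⟨s, h2, h3, h4⟩ := h1.step hy (by rw [R, ap_left S.h.opp]; exact hi) e3
  have h5 := S.h.Tr_local h1 (Sm.single (D.bar i)) (R.refl _ _ _) e1 ((S.h.swap.R_iff e4).1 e1)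
    (fun _ _ _ h => h) r1 hz
  exact ⟨⟨_, _, _, _, s, h2.move (h3 ▸ h5) (ap_opp S.h.opp _)⟩, ⟨rfl, rfl, rfl, rfl⟩, h4⟩

variable (Δ Δ') in
/-- the move to the `i`-neighbour -/
noncomputable def mv (i : I) : Equiv.Perm (St Δ Δ') :=
  Function.Involutive.toPerm (fun S => (exists_nb i S).choose) fun S =>
    (exists_nb i _).choose_spec.unique (exists_nb i S).choose_spec.symm

theorem nb_mv (i : I) (S : St Δ Δ') : Nb i S (mv Δ Δ' i S) := (exists_nb i S).choose_spec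

theorem mv_sq (i : I) : mv Δ Δ' i * mv Δ Δ' i = 1 :=
  Equiv.ext fun S => (nb_mv i _).unique (nb_mv i S).symm

theorem braid (hD : D.Le4) (i k : I) (n : ℕ) (hn : (D.σ i * D.σ k) ^ n = 1) : (mv Δ Δ' i * mv Δ Δ' k) ^ n = 1 := by
  by_cases hik : i = k
  · rw [hik, mv_sq, one_pow]
  ext1 S
  have hJ : Sm ({i, k} : Set I) := Sm.pair i k
  obtain ⟨κ, hκ, e₀, he₀, hE⟩ := exists_far_panel (w0_symm S.h.opp) (hD (D.bar i) (D.bar k)
    fun e => hik (by rw [← D.bar_bar i, e, D.bar_bar]))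
  rw [← D.barS_pair] at hκ he₀ hE
  have hκ' : ({κ} : Set I) ⊆ D.barS {i, k} := Set.singleton_subset_iff.2 hκ
  have hE' : ∀ w ∈ D.WJ {i, k}, ∃ e, Δ.R {κ} e₀ e ∧ Δ.δ (Δ.ap S.x S.z w) e = D.w0 := by
    intro w hw
    obtain ⟨e, h1, h2⟩ := hE _ (mul_mem (D.conj_mem hw) (D.wJ_mem _))
    refine ⟨e, h1, ?_⟩
    have h3 : Δ.δ (Δ.ap S.x S.z w) (Δ.ap S.z S.x (D.w0 * w * D.w0 * D.wJ (D.barS {i, k}))) =
        D.op (D.barS {i, k}) := by rw [ap_swap S.h.opp, ap_ap S.h.opp]; simp [CS.op, mul_assoc]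
    rw [gateR h3 (by rw [R, h2]; exact D.wJ_mem _), h2]; simp [CS.op]
  obtain ⟨f, f1, f2⟩ := hE' 1 (one_mem _)
  rw [ap_one S.h.opp] at f2
  have fQ : Δ.R (D.barS {i, k}) S.z f := he₀.trans (f1.mono hκ')
  obtain ⟨f', f3⟩ := S.h.swap.tot (hJ.bar D) fQ
  have hf := S.h.move f3 f2
  let O : W → St Δ Δ' → Prop := fun w T => w ∈ D.WJ {i, k} ∧ S.At w T ∧
    (∀ v v', Δ.R {i, k} S.x v → S.r v v' → T.r v v') ∧
    ∀ e e', Δ.R {κ} f e → Tr Δ Δ' S.x S.z S.z' S.r e e' → Δ.δ T.x e = D.w0 → ∀ K, Sm K → κ ∈ K → ∀ u u',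
      Δ.R K f u → Tr Δ Δ' S.x f f' S.r u u' → Tr Δ Δ' T.x e e' T.r u u'
  have hmv : ∀ {w T}, w ∈ D.WJ {i, k} → S.At w T → (∀ v v', Δ.R {i, k} S.x v → S.r v v' → T.r v v') →
      ∀ {e e'}, Δ.R {κ} f e → Tr Δ Δ' S.x S.z S.z' S.r e e' → Δ.δ T.x e = D.w0 →
      IsSt Δ Δ' T.x e T.x' e' T.r := by
    intro w T hw hA hr e e' h1 h2 h3
    exact T.h.move (S.h.Tr_local T.h (hJ.bar D) (by simpa using hA.R hw) (hA.Rz hw) (hA.Rz' hw)
      (by simpa using hr) (fQ.trans (h1.mono hκ')) h2) h3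
  have hee : ∀ {e e' e₁ e₁'}, Δ.R {κ} f e → Tr Δ Δ' S.x S.z S.z' S.r e e' → Δ.R {κ} f e₁ →
      Tr Δ Δ' S.x S.z S.z' S.r e₁ e₁' → Δ'.R {κ} e' e₁' := by
    intro e e' e₁ e₁' h1 h2 h3 h4
    rw [R, ← S.h.swap.iso (hJ.bar D) (fQ.trans (h1.mono hκ')) (fQ.trans (h3.mono hκ')) h2 h4]
    exact h1.symm.trans h3
  have O1 : O 1 S := by
    refine ⟨one_mem _, At.one S, fun _ _ _ h => h, fun e e' h1 h2 h3 K hK hκK u u' hu => ?_⟩
    have hs : ({κ} : Set I) ⊆ K := Set.singleton_subset_iff.2 hκK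
    exact hf.Tr_local (S.h.move h2 h3) hK (R.refl _ _ _) (h1.mono hs) ((hee (R.refl _ _ _) f3 h1 h2).mono hs)
      (fun _ _ _ h => h) hu
  have Os : ∀ w T τ, τ ∈ ({i, k} : Set I) → O w T → O (w * D.σ τ) (mv Δ Δ' τ T) := by
    rintro w T τ hτ ⟨hw, hA, hr, hP⟩
    have hN := nb_mv τ T
    have hw' := mul_mem hw (D.σ_mem hτ)
    have hA' := hA.mul hN.1
    have hr' : ∀ v v', Δ.R {i, k} S.x v → S.r v v' → (mv Δ Δ' τ T).r v v' := fun v v' h1 h2 =>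
      hN.2 _ hJ hτ v v' ((hA.R hw).symm.trans h1) (hr v v' h1 h2)
    refine ⟨hw', hA', hr', fun e e' h1 h2 h3 K hK hκK u u' hu h4 => ?_⟩
    have hs : ({κ} : Set I) ⊆ K := Set.singleton_subset_iff.2 hκK
    obtain ⟨g, g1, g2⟩ := hE' w hw
    rw [← hA.x] at g2
    obtain ⟨g₁, g3, g4, g5⟩ := common_opp (Set.mem_univ κ) g2 h3 (g1.symm.trans (f1.trans h1))
    have g6 : Δ.R {κ} f g₁ := f1.symm.trans (g1.trans g3)
    obtain ⟨g', g7⟩ := S.h.swap.tot (hJ.bar D) (fQ.trans (g6.mono hκ'))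
    have s1 := hmv hw hA hr g6 g7 g4
    have s2 := hmv hw' hA' hr' g6 g7 g5
    have hx : T.r (mv Δ Δ' τ T).x (mv Δ Δ' τ T).x' := by
      rw [hN.1.x, hN.1.x']; exact T.h.ap_rel (Sm.single τ) (D.σ_mem rfl)
    have e1 := s1.common s2 hx (hN.1.R (D.σ_mem rfl)) hN.2
    have h5 := hP g₁ g' g6 g7 g4 K hK hκK u u' hu h4
    rw [← e1] at h5
    exact s2.Tr_local (hmv hw' hA' hr' h1 h2 h3) hK (R.refl _ _ _) ((g6.symm.trans h1).mono hs)
      ((hee g6 g7 h1 h2).mono hs) (fun _ _ _ h => h) ((g6.mono hs).symm.trans hu) h5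
  have On : ∀ n, O ((D.σ k * D.σ i) ^ n) (((mv Δ Δ' i * mv Δ Δ' k) ^ n) S) := by
    intro n
    induction n with
    | zero => simpa using O1
    | succ n ih =>
      rw [pow_succ, pow_succ', ← mul_assoc]
      exact Os _ _ i (by simp) (Os _ _ k (by simp) ih)
  have hn' : (D.σ k * D.σ i) ^ n = 1 := by rw [← inv_eq_one, ← inv_pow, mul_inv_rev, D.σ_inv, D.σ_inv, hn]
  obtain ⟨hw, hA, hr, hP⟩ := hn' ▸ On n
  generalize ((mv Δ Δ' i * mv Δ Δ' k) ^ n) S = T at *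
  have h0 := At.one S
  have e1 : T.x = S.x := hA.x.trans h0.x.symm
  have e2 : T.z = S.z := hA.z.trans h0.z.symm
  have e3 : T.x' = S.x' := hA.x'.trans h0.x'.symm
  have e4 : T.z' = S.z' := hA.z'.trans h0.z'.symm
  have hT := T.h
  have hT' := hmv hw hA hr (R.refl _ _ _) f3 (e1 ▸ f2)
  have hP' := hP f f' (R.refl _ _ _) f3 (e1 ▸ f2)
  rw [e1, e2, e3, e4] at hT
  rw [e1, e3] at hT'
  rw [e1] at hP'
  refine St.ext e1 e2 e3 e4 (S.h.uniq hT fun j y y' hy h1 => ?_).symm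
  have hK : Sm (D.barS {κ, D.bar j}) := (Sm.pair _ _).bar D
  rw [← hT'.Tr_Tr]
  rw [← hf.Tr_Tr] at h1
  refine hf.swap.Tr_local hT'.swap hK (R.refl _ _ _) (R.refl _ _ _) (R.refl _ _ _) ?_ (hy.mono ?_) h1
  · simpa using hP' _ (Sm.pair κ (D.bar j)) (by simp)
  · simp [CS.barS]

variable (hD : D.Le4)

variable (Δ Δ') in
/-- the action of `W` on local isomorphisms -/
noncomputable def act : W →* Equiv.Perm (St Δ Δ') :=
  (D.ex.exists_lift (mv Δ Δ') mv_sq (braid hD)).choose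

/-- the family of local isomorphisms along the apartment of `S` -/
noncomputable def fam (S : St Δ Δ') (w : W) : St Δ Δ' := act Δ Δ' hD w⁻¹ S

@[simp] theorem fam_one (S : St Δ Δ') : fam hD S 1 = S := by simp [fam]

theorem fam_σ (S : St Δ Δ') (w : W) (i : I) : fam hD S (w * D.σ i) = mv Δ Δ' i (fam hD S w) := by
  rw [fam, mul_inv_rev, map_mul, D.σ_inv, act, (D.ex.exists_lift (mv Δ Δ') mv_sq (braid hD)).choose_spec]
  rfl

theorem fam_fam (S : St Δ Δ') (v w : W) : fam hD (fam hD S v) w = fam hD S (v * w) := by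
  simp [fam]

theorem fam_nb (S : St Δ Δ') (w : W) (i : I) : Nb i (fam hD S w) (fam hD S (w * D.σ i)) := by
  rw [fam_σ]; exact nb_mv _ _

theorem fam_at (S : St Δ Δ') (w : W) : S.At w (fam hD S w) := by
  induction w using D.indR' with
  | h1 => simpa using At.one S
  | hs w i _ ih => exact ih.mul (fam_nb hD S w i).1

theorem fam_agree (S : St Δ Δ') {J : Set I} (hJ : Sm J) {w : W} (hw : w ∈ D.WJ J) :
    ∀ v v', Δ.R J S.x v → S.r v v' → (fam hD S w).r v v' := by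
  refine D.indR (P := fun w => ∀ v v', Δ.R J S.x v → S.r v v' → (fam hD S w).r v v') ?_ ?_ w hw
  · simp
  · intro w hw i hi _ ih v v' h1 h2
    exact (fam_nb hD S w i).2 J hJ hi v v' (((fam_at hD S w).R hw).symm.trans h1) (ih v v' h1 h2)

/-- the families of two local isomorphisms with adjacent opposite chambers agree on the common root -/
theorem root_move {S T : St Δ Δ'} {l : I} (hx : S.x = T.x) (hx' : S.x' = T.x') (hr : S.r = T.r)
    (hz : Δ.R {l} S.z T.z) (hz' : Δ'.R {l} S.z' T.z') (u : W) (hu : D.len u < D.len (D.σ (D.bar l) * u)) :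
    (fam hD S u).r = (fam hD T u).r := by
  have ea : ∀ u, D.len u < D.len (D.σ (D.bar l) * u) → Δ.ap S.x S.z u = Δ.ap T.x T.z u := fun u hu => by
    rw [← hx]; exact ap_eq_of_adj S.h.opp (hx ▸ T.h.opp) hz hu
  have ea' : ∀ u, D.len u < D.len (D.σ (D.bar l) * u) → Δ'.ap S.x' S.z' u = Δ'.ap T.x' T.z' u := fun u hu => by
    rw [← hx']; exact ap_eq_of_adj S.h.opp' (hx' ▸ T.h.opp') hz' hu
  induction hn : D.len u using Nat.strong_induction_on generalizing u with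
  | _ n ih =>
  by_cases h0 : u = 1
  · simpa [h0] using hr
  have aS := fam_at hD S u
  have aT := fam_at hD T u
  have ex : (fam hD T u).x = (fam hD S u).x := by rw [aT.x, aS.x, ea u hu]
  have ex' : (fam hD T u).x' = (fam hD S u).x' := by rw [aT.x', aS.x', ea' u hu]
  have hA := (fam hD S u).h
  have hB := (fam hD T u).h
  rw [ex, ex'] at hB
  have low : ∀ t, D.len (u * D.σ t) < D.len u → ∀ J, Sm J → t ∈ J → ∀ v v', Δ.R J (fam hD S u).x v →
      (fam hD S u).r v v' → (fam hD T u).r v v' := by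
    intro t ht J hJ htJ v v' h1 h2
    have a1 := D.len_le_mul_σ t (D.σ (D.bar l) * u)
    have a2 := D.lenR u t
    have e := ih _ (hn ▸ ht) (u * D.σ t) (by rw [← mul_assoc]; omega) rfl
    have n1 := fam_nb hD S u t
    have n2 := fam_nb hD T u t
    refine n2.symm.2 J hJ htJ v v' ((n2.1.R (D.σ_mem htJ)).symm.trans (ex ▸ h1)) ?_
    rw [← e]; exact n1.2 J hJ htJ v v' h1 h2
  obtain ⟨t, u₁, e1, e2⟩ := D.exists_right_descent h0
  have pan : ∀ j y y', Δ.R {j} (fam hD S u).x y → (fam hD S u).r y y' → (fam hD T u).r y y' :=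
    fun j y y' h1 => low t (by rw [e1, D.mul_σ_σ, ← e1]; omega) _ (Sm.pair t j) (by simp) y y' (h1.mono (by simp))
  by_cases hw : ∃ m, D.σ (D.bar l) * u = u * D.σ m
  · obtain ⟨m, hm⟩ := hw
    have hg : D.len (u * D.σ m * D.w0) < D.len (D.σ (D.bar l) * (u * D.σ m * D.w0)) := by
      have a1 := D.len_mul_w0 (u * D.σ m)
      have a2 := D.len_mul_w0 u
      rw [← mul_assoc, ← hm, D.σ_σ_mul]; rw [← hm] at a1; omega
    have d : (u * D.σ m * D.w0)⁻¹ * (u * D.w0) = D.σ (D.bar m) := by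
      rw [D.σ_bar]; simp [mul_assoc, D.wJ_inv, D.σ_inv]
    have r1 : Δ.R {D.bar m} (fam hD S u).z (fam hD T u).z := by
      refine (R.of_σ (x := Δ.ap S.x S.z (u * D.σ m * D.w0)) ?_ (Set.mem_singleton _)).symm.trans
        (R.of_σ ?_ (Set.mem_singleton _))
      · rw [aS.z, ap_ap S.h.opp, d]
      · rw [aT.z, ea _ hg, ap_ap T.h.opp, d]
    have r2 : Δ'.R {D.bar m} (fam hD S u).z' (fam hD T u).z' := by
      refine (R.of_σ (x := Δ'.ap S.x' S.z' (u * D.σ m * D.w0)) ?_ (Set.mem_singleton _)).symm.trans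
        (R.of_σ ?_ (Set.mem_singleton _))
      · rw [aS.z', ap_ap S.h.opp', d]
      · rw [aT.z', ea' _ hg, ap_ap T.h.opp', d]
    have h1 := hB.Tr_local hA (Sm.single (D.bar m)) (R.refl _ _ _) r1.symm r2.symm (fun y y' hy h2 => by
      rw [D.barS_single, D.bar_bar] at hy
      obtain ⟨y'', h3⟩ := hA.tot (Sm.single m) hy
      rwa [hB.func h2 (pan m _ _ hy h3)]) (R.refl _ _ _) hB.swap.base
    exact (hA.move h1 hB.opp).uniq hB pan
  · refine hA.eq_of_le hB fun y y' h1 => ?_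
    obtain ⟨J, hJ, hy⟩ := hA.dom h1
    by_cases hd : ∃ t ∈ J, D.len (u * D.σ t) < D.len u
    · obtain ⟨t, h2, h3⟩ := hd
      exact low t h3 J hJ h2 y y' hy h1
    have m0 : ∀ j ∈ J, D.len u < D.len (u * D.σ j) := fun j hj => by
      have := D.lenR u j
      have : ¬ D.len (u * D.σ j) < D.len u := fun h => hd ⟨j, hj, h⟩
      omega
    have m1 := D.minR_of m0 _ (D.wJ_mem J)
    have m2 := D.minR_of (J := J) (d := D.σ (D.bar l) * u) (fun j hj => by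
      have := D.lenL (D.bar l) u
      rcases D.fold hu (m0 j hj) with h | h
      · omega
      · exact absurd ⟨j, h⟩ hw) _ (D.wJ_mem J)
    have ho : D.len (u * D.wJ J) < D.len (D.σ (D.bar l) * (u * D.wJ J)) := by rw [← mul_assoc]; omega
    have o1 := (fam hD S u).h.ap_rel hJ (D.wJ_mem J)
    have o2 := (fam hD T u).h.ap_rel hJ (D.wJ_mem J)
    rw [aT.x, aT.z, aT.x', aT.z', ap_ap' T.h.opp, ap_ap' T.h.opp', ← ea _ ho, ← ea' _ ho] at o2
    rw [aS.x, aS.z, aS.x', aS.z', ap_ap' S.h.opp, ap_ap' S.h.opp'] at o1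
    exact hA.agree hB hJ pan (by rw [aS.x, ap_ap S.h.opp]; simp) o1 o2 hy h1

end St

end Bld

end TB
end H20
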