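import Mathlib
import Cfsg.Agent.H20.TB5

/-!
# Tits' extension theorem: the global isometry
-/

set_option autoImplicit false
set_option linter.unusedSectionVars false
set_option linter.unusedVariables false

namespace H20
namespace TB

open H8

namespace Bld

variable {I W : Type*} [Group W] [Finite W] {D : CS I W} {C C' : Type*} {Δ : Bld D C} {Δ' : Bld D C'}

theorem ap_reg {x z y : C} (h : Δ.δ x z = D.w0) {u : W}
    (hu : D.len (u⁻¹ * Δ.δ x y) = D.len u + D.len (Δ.δ x y)) : Δ.δ (Δ.ap x z u) y = u⁻¹ * Δ.δ x y :=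
  δ_mul (by rw [Δ.inv, ap_left h]) rfl (by rw [hu, D.len_inv])

theorem _root_.H20.TB.CS.reg_self (D : CS I W) (w : W) :
    D.len ((w * D.w0)⁻¹ * w) = D.len (w * D.w0) + D.len w := by
  rw [D.len_mul_w0]; simp [D.wJ_inv]

namespace St

variable (hD : D.Le4) (S : St Δ Δ')

/-- the local isomorphism at position `v` -/
noncomputable def Fa (v : W) : St Δ Δ' := fam hD ⟨_, _, _, _, _, S.h.swap⟩ (D.w0 * v)

/-- the invariant of the extension -/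
def Inv (y : C) (y' : C') : Prop :=
  Δ'.δ S.x' y' = Δ.δ S.x y ∧ ∃ T : St Δ Δ', T.x = Δ.ap S.x S.z (Δ.δ S.x y * D.w0) ∧ T.z = y ∧
    T.x' = Δ'.ap S.x' S.z' (Δ.δ S.x y * D.w0) ∧ T.z' = y' ∧
    ∀ u, D.len (u⁻¹ * Δ.δ S.x y) = D.len u + D.len (Δ.δ S.x y) →
      (fam hD T (D.w0 * (Δ.δ S.x y)⁻¹ * u)).r = (Fa hD S u).r

/-- the local isomorphism at `y` -/
def L (y : C) (y' : C') : C → C' → Prop :=
  Tr Δ Δ' (Δ.ap S.x S.z (Δ.δ S.x y * D.w0)) y y' (Fa hD S (Δ.δ S.x y * D.w0)).r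

variable {hD S}

theorem Inv.st {y : C} {y' : C'} (h : Inv hD S y y') :
    IsSt Δ Δ' y (Δ.ap S.x S.z (Δ.δ S.x y * D.w0)) y' (Δ'.ap S.x' S.z' (Δ.δ S.x y * D.w0)) (L hD S y y') := by
  obtain ⟨-, T, h1, h2, h3, h4, h5⟩ := h
  have e := h5 _ (D.reg_self _)
  rw [show D.w0 * (Δ.δ S.x y)⁻¹ * (Δ.δ S.x y * D.w0) = 1 by simp [mul_assoc], fam_one] at e
  have := T.h.swap
  rwa [h1, h2, h3, h4, e] at this

theorem Inv.step {y v : C} {y' v' : C'} {s : I} (h : Inv hD S y y') (hv : Δ.δ y v = D.σ s)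
    (hl : D.len (Δ.δ S.x y) < D.len (Δ.δ S.x y * D.σ s)) (hL : L hD S y y' v v') :
    Inv hD S v v' ∧ ∀ J, Sm J → s ∈ J → ∀ u u', Δ.R J y u → L hD S y y' u u' → L hD S v v' u u' := by
  have hst := h.st
  obtain ⟨h0, T, h1, h2, h3, h4, h5⟩ := h
  have hv' : Δ'.δ y' v' = D.σ s := by
    rw [← hst.δ_base hL, hv]
  have hw := Δ.wd2' S.x y v s hv hl
  have hw' := Δ'.wd2' S.x' y' v' s hv' (h0 ▸ hl)
  rw [h0, ← hw] at hw'
  set w := Δ.δ S.x y with hwdef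
  have a0 := D.lenR w s
  have hq : D.len ((w * D.σ s * D.w0)⁻¹ * w) = D.len (w * D.σ s * D.w0) + D.len w := by
    have a1 := D.len_mul_w0 (w * D.σ s)
    have a2 := D.len_w0_mul (D.σ s)
    have a3 := D.lenσ s
    rw [show (w * D.σ s * D.w0)⁻¹ * w = D.w0 * D.σ s by simp [D.wJ_inv, D.σ_inv, mul_assoc]]; omega
  have e0 : D.w0 * w⁻¹ * (w * D.σ s * D.w0) = D.σ (D.bar s) := by rw [D.σ_bar]; group
  have eT := h5 _ (D.reg_self _)
  rw [show D.w0 * w⁻¹ * (w * D.w0) = 1 by simp [mul_assoc], fam_one] at eT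
  have eQ := h5 _ hq
  rw [e0] at eQ
  have aQ := fam_at hD T (D.σ (D.bar s))
  have d1 := ap_reg S.h.opp hq
  have d1' := ap_reg (y := y') S.h.opp' (u := w * D.σ s * D.w0) (by rw [h0]; exact hq)
  rw [h0] at d1'
  have e1 : (w * D.σ s * D.w0)⁻¹ * w = D.w0 * D.σ s := by simp [D.wJ_inv, D.σ_inv, mul_assoc]
  have e2 : (w * D.σ s * D.w0)⁻¹ * w = (D.σ (D.bar s))⁻¹ * D.w0 := by rw [e1, D.σ_inv, D.w0_σ]
  have e3 : (w * D.w0)⁻¹ * (w * D.σ s * D.w0) = D.σ (D.bar s) := by rw [← e0, mul_inv_rev, D.wJ_inv]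
  have qx : (fam hD T (D.σ (D.bar s))).x = Δ.ap S.x S.z (w * D.σ s * D.w0) := by
    rw [aQ.x]; exact (eq_ap T.h.opp (by rw [h1, ap_ap S.h.opp, e3]) (by rw [h2, d1, e2])).symm
  have qx' : (fam hD T (D.σ (D.bar s))).x' = Δ'.ap S.x' S.z' (w * D.σ s * D.w0) := by
    rw [aQ.x']; exact (eq_ap T.h.opp' (by rw [h3, ap_ap S.h.opp', e3]) (by rw [h4, d1', e2])).symm
  set Q := fam hD T (D.σ (D.bar s)) with hQ
  have hb : ∀ {J : Set I}, s ∈ J → D.σ (D.bar s) ∈ D.WJ (D.barS J) := fun hJ => D.σ_mem (by simpa [CS.barS] using hJ)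
  have hs1 : s ∈ ({s} : Set I) := Set.mem_singleton s
  have rz := aQ.Rz (hb hs1)
  have rz' := aQ.Rz' (hb hs1)
  rw [D.barS_barS, h2] at rz
  rw [D.barS_barS, h4] at rz'
  have hL' : ∀ {u u'}, L hD S y y' u u' → Tr Δ Δ' T.x T.z T.z' T.r u u' := fun h => by
    rw [h1, h2, h4, eT]; exact h
  have t1 : Tr Δ Δ' Q.x Q.z Q.z' Q.r v v' :=
    T.h.Tr_local Q.h (Sm.single s) (aQ.R (hb hs1)) (h2 ▸ rz) (h4 ▸ rz')
      (fam_agree hD T ((Sm.single s).bar D) (hb hs1)) (h2 ▸ R.of_σ hv hs1) (hL' hL)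
  have o1 : Δ.δ Q.x v = D.w0 := opp_of_ne (Set.mem_univ s) (by rw [qx, d1, e1]) hv
  have hU := Q.h.move t1 o1
  refine ⟨⟨hw', ⟨_, _, _, _, _, hU⟩, by rw [hw]; exact qx, rfl, by rw [hw]; exact qx', rfl, fun u hu => ?_⟩,
    fun J hJ hs u u' hu h6 => ?_⟩
  · rw [hw] at hu ⊢
    have a1 := D.len_mul_σ_le s (u⁻¹ * w)
    have a2 := D.len_mul_le u⁻¹ w
    rw [D.len_inv] at a2
    rw [← mul_assoc] at hu
    have hu' : D.len (u⁻¹ * w) = D.len u + D.len w := by omega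
    have e4 : D.σ (D.bar s) * (D.w0 * (w * D.σ s)⁻¹ * u) = D.w0 * w⁻¹ * u := by
      rw [D.σ_bar]; simp [D.σ_inv, mul_assoc]
    rw [← h5 u hu', ← root_move hD (S := Q) (T := ⟨_, _, _, _, _, hU⟩) (l := s) rfl rfl rfl (rz.symm.trans (R.of_σ hv hs1))
      (rz'.symm.trans (R.of_σ hv' hs1)), hQ, fam_fam, e4]
    have b1 := D.len_w0_mul ((w * D.σ s)⁻¹ * u)
    have b2 := D.len_w0_mul (w⁻¹ * u)
    rw [← D.len_inv ((w * D.σ s)⁻¹ * u), mul_inv_rev ((w * D.σ s)⁻¹), inv_inv, ← mul_assoc u⁻¹] at b1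
    rw [← D.len_inv (w⁻¹ * u), mul_inv_rev, inv_inv] at b2
    rw [e4, mul_assoc, mul_assoc]; omega
  · have hsJ : ({s} : Set I) ⊆ J := Set.singleton_subset_iff.2 hs
    have := T.h.Tr_local hU hJ (aQ.R (hb hs)) (h2 ▸ R.of_σ hv hs) (h4 ▸ R.of_σ hv' hs)
      (fam_agree hD T (hJ.bar D) (hb hs)) (h2 ▸ hu) (hL' h6)
    rw [L, hw, ← eQ, ← qx]; exact this

variable (hD S) in
/-- the extension, as a relation -/
inductive Psi : C → C' → Prop
  | base : Psi S.x S.x'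
  | step {y v : C} {y' v' : C'} {s : I} : Psi y y' → Δ.δ y v = D.σ s →
      D.len (Δ.δ S.x y) < D.len (Δ.δ S.x y * D.σ s) → L hD S y y' v v' → Psi v v'

theorem Psi.inv {y : C} {y' : C'} (h : Psi hD S y y') : Inv hD S y y' := by
  induction h with
  | base =>
    refine ⟨by simp, ⟨_, _, _, _, _, S.h.swap⟩, by simp [ap_w0 S.h.opp], rfl, by simp [ap_w0 S.h.opp'], rfl,
      fun u _ => by simp [Fa]⟩
  | step _ h1 h2 h3 ih => exact (ih.step h1 h2 h3).1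

theorem L_base : L hD S S.x S.x' = S.r := by
  rw [L, Fa]; simp only [δ_self, one_mul, D.wJ_sq, fam_one, ap_w0 S.h.opp]; exact S.h.Tr_Tr

theorem psi_tot (y : C) : ∃ y', Psi hD S y y' := by
  refine R.ind (Δ := Δ) (J := Set.univ) (x := S.x) (P := fun y => ∃ y', Psi hD S y y') ⟨_, Psi.base⟩ ?_
    (D.mem_univ _)
  rintro y v s - - h1 h2 ⟨y', h3⟩
  obtain ⟨v', h4⟩ := h3.inv.st.tot (Sm.single s) (R.of_σ h1 (Set.mem_singleton s))
  exact ⟨v', h3.step h1 h2 h4⟩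

theorem psi_tot' (y' : C') : ∃ y, Psi hD S y y' := by
  refine R.ind (Δ := Δ') (J := Set.univ) (x := S.x') (P := fun y' => ∃ y, Psi hD S y y') ⟨_, Psi.base⟩ ?_
    (D.mem_univ _)
  rintro y' v' s - - h1 h2 ⟨y, h3⟩
  obtain ⟨v, h4⟩ := h3.inv.st.tot' (Sm.single s) (R.of_σ h1 (Set.mem_singleton s))
  exact ⟨v, h3.step (by rw [h3.inv.st.δ_base h4, h1]) (h3.inv.1 ▸ h2) h4⟩

theorem Psi.res {J : Set I} (hJ : Sm J) {g : C} {g' : C'} (h : Psi hD S g g') (hm : D.MinR J (Δ.δ S.x g)) {y : C}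
    (hy : Δ.R J g y) : ∀ y', L hD S g g' y y' →
      Psi hD S y y' ∧ ∀ u u', Δ.R J g u → L hD S g g' u u' → L hD S y y' u u' := by
  refine R.ind (P := fun y => ∀ y', L hD S g g' y y' →
    Psi hD S y y' ∧ ∀ u u', Δ.R J g u → L hD S g g' u u' → L hD S y y' u u') ?_ ?_ hy
  · intro y' h1
    rw [h.inv.st.func h1 h.inv.st.base]; exact ⟨h, fun _ _ _ h => h⟩
  · intro y v s hy hs h1 h2 ih v' h3
    obtain ⟨y', h4⟩ := h.inv.st.tot hJ hy
    obtain ⟨h5, h6⟩ := ih y' h4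
    have h7 : D.len (Δ.δ S.x y) < D.len (Δ.δ S.x y * D.σ s) := by
      rw [gate rfl hm hy, mul_assoc, hm _ hy, hm _ (mul_mem hy (D.σ_mem hs))]; omega
    have h8 := h6 v v' (hy.trans (R.of_σ h1 hs)) h3
    exact ⟨h5.step h1 h7 h8, fun u u' hu h9 =>
      (h5.inv.step h1 h7 h8).2 J hJ hs u u' (hy.symm.trans hu) (h6 u u' hu h9)⟩

theorem Psi.func {y : C} {y' y'' : C'} (h1 : Psi hD S y y') (h2 : Psi hD S y y'') : y' = y'' := by
  induction hn : D.len (Δ.δ S.x y) using Nat.strong_induction_on generalizing y y' y'' with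
  | _ n ih =>
  by_cases h0 : Δ.δ S.x y = 1
  · have e1 := h1.inv.1
    have e2 := h2.inv.1
    rw [h0, Δ'.eq_one] at e1 e2
    rw [← e1, ← e2]
  have key : ∀ {y'}, Psi hD S y y' → ∃ a a' s, Psi hD S a a' ∧ Δ.δ a y = D.σ s ∧
      D.len (Δ.δ S.x a) < n ∧ L hD S a a' y y' := by
    intro y' h
    cases h with
    | base => simp at h0
    | step a1 a2 a3 a4 => exact ⟨_, _, _, a1, a2, by rw [← hn, Δ.wd2' _ _ _ _ a2 a3]; exact a3, a4⟩
  obtain ⟨a, a', s, a1, a2, a3, a4⟩ := key h1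
  obtain ⟨b, b', t, b1, b2, b3, b4⟩ := key h2
  obtain ⟨g, g1, g2⟩ := Δ.exists_proj {s, t} y S.x
  obtain ⟨g', g3⟩ := psi_tot (hD := hD) (S := S) g
  obtain ⟨v, g4⟩ := g3.inv.st.tot (Sm.pair s t) g1.symm
  have K : ∀ {a a' y'}, Psi hD S a a' → Δ.R {s, t} a y → D.len (Δ.δ S.x a) < n → L hD S a a' y y' → y' = v := by
    intro a a' y' a1 a2 a3 a4
    have hga := g1.symm.trans a2.symm
    obtain ⟨a'', a5⟩ := g3.inv.st.tot (Sm.pair s t) hga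
    obtain ⟨a6, a7⟩ := g3.res (Sm.pair s t) g2 hga a'' a5
    obtain rfl := ih _ a3 a1 a6 rfl
    exact a1.inv.st.func a4 (a7 _ _ g1.symm g4)
  rw [K a1 (R.of_σ a2 (by simp)) a3 a4, K b1 (R.of_σ b2 (by simp)) b3 b4]

theorem Psi.adj {y v : C} {y' v' : C'} {s : I} (h1 : Psi hD S y y') (h2 : Psi hD S v v') (h : Δ.δ y v = D.σ s) :
    Δ'.δ y' v' = D.σ s := by
  obtain ⟨g, g1, g2⟩ := Δ.exists_proj {s} y S.x
  obtain ⟨g', g3⟩ := psi_tot (hD := hD) (S := S) g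
  have r2 := g1.symm.trans (R.of_σ h (Set.mem_singleton s))
  obtain ⟨a, a1⟩ := g3.inv.st.tot (Sm.single s) g1.symm
  obtain ⟨b, b1⟩ := g3.inv.st.tot (Sm.single s) r2
  rw [h1.func (g3.res (Sm.single s) g2 g1.symm a a1).1, h2.func (g3.res (Sm.single s) g2 r2 b b1).1,
    ← g3.inv.st.iso (Sm.single s) g1.symm r2 a1 b1, h]

theorem Psi.iso {y v : C} {y' v' : C'} (h1 : Psi hD S y y') (h2 : Psi hD S v v') : Δ.δ y v = Δ'.δ y' v' :=
  δ_map (J := Set.univ) (x := y) (Psi hD S) (fun y _ => psi_tot y) (fun _ _ _ _ => Psi.func)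
    (fun _ _ _ _ _ _ _ a b c => a.adj b c) (D.mem_univ _) (D.mem_univ _) h1 h2

theorem psi_ap (w : W) : Psi hD S (Δ.ap S.x S.z w) (Δ'.ap S.x' S.z' w) := by
  induction w using D.indR' with
  | h1 => rw [ap_one S.h.opp, ap_one S.h.opp']; exact Psi.base
  | hs w s hl ih =>
    refine ih.step (ap_σ S.h.opp w s) (by rw [ap_left S.h.opp]; omega) ?_
    have := ih.inv.st.ap_rel (Sm.single s) (D.σ_mem (Set.mem_singleton s))
    rwa [ap_left S.h.opp, ap_ap' S.h.opp, ap_ap' S.h.opp'] at this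

end St

/-- **Tits' extension theorem** -/
theorem IsSt.ext (hD : D.Le4) {x z : C} {x' z' : C'} {r : C → C' → Prop} (h : IsSt Δ Δ' x z x' z' r) :
    ∃ φ : C ≃ C', (∀ y v, Δ'.δ (φ y) (φ v) = Δ.δ y v) ∧ (∀ y y', r y y' → φ y = y') ∧ φ z = z' := by
  let S : St Δ Δ' := ⟨x, z, x', z', r, h⟩
  choose f hf using St.psi_tot (hD := hD) (S := S)
  have hi : ∀ y v, Δ'.δ (f y) (f v) = Δ.δ y v := fun y v => ((hf y).iso (hf v)).symm
  refine ⟨Equiv.ofBijective f ⟨fun y v e => ?_, fun y' => ?_⟩, hi, fun y y' hy => ?_, ?_⟩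
  · rw [← Δ.eq_one, ← hi, e, δ_self]
  · obtain ⟨y, hy⟩ := St.psi_tot' (hD := hD) (S := S) y'
    exact ⟨y, (hf y).func hy⟩
  · obtain ⟨J, hJ, h1⟩ := h.dom hy
    refine (hf y).func ((St.Psi.base (hD := hD) (S := S)).res hJ (fun v _ => by simp [S]) h1 y' ?_).1
    rw [St.L_base]; exact hy
  · have := St.psi_ap (hD := hD) (S := S) D.w0
    rw [ap_w0 h.opp, ap_w0 h.opp'] at this
    exact (hf z).func this

end Bld

end TB
end H20
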