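import Mathlib
import Cfsg.Agent.H20.TB6
import Cfsg.Agent.H20.TB11

/-!
# Irreducible spherical buildings of rank at least three are Moufang
-/

set_option autoImplicit false
set_option linter.unusedSectionVars false
set_option linter.unusedVariables false

namespace H20
namespace TB

open H8 H8.GenSys

namespace CS

variable {I W : Type*} [Group W] [Finite W] (D : CS I W) {a b : I}

theorem zz_congr {s t : ℤ} (h : (s - t) % (2 * orderOf (D.σ a * D.σ b)) = 0) : D.zz a b s = D.zz a b t := by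
  obtain ⟨n, hn⟩ := Int.dvd_of_emod_eq_zero h
  obtain rfl : s = t + 2 * orderOf (D.σ a * D.σ b) * n := by omega
  clear h hn
  induction n using Int.induction_on with
  | zero => simp
  | succ n ih => rw [mul_add, mul_one, ← add_assoc, D.zz_per, ih]
  | pred n ih => rw [← D.zz_per, ← ih]; congr 1; ring

theorem len_zz' (t : ℤ) : D.len (D.zz a b t) =
    ((t + orderOf (D.σ a * D.σ b)) % (2 * orderOf (D.σ a * D.σ b)) - orderOf (D.σ a * D.σ b)).natAbs := by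
  have h0 : 0 < orderOf (D.σ a * D.σ b) := orderOf_pos _
  have h1 := Int.emod_nonneg (t + orderOf (D.σ a * D.σ b)) (b := 2 * orderOf (D.σ a * D.σ b)) (by omega)
  have h2 := Int.emod_lt_of_pos (t + orderOf (D.σ a * D.σ b)) (b := 2 * orderOf (D.σ a * D.σ b)) (by omega)
  rw [← D.len_zz (a := a) (b := b) (by omega)]
  congr 1
  refine D.zz_congr ?_
  rw [Int.emod_def (t + _)]
  ring_nf
  simp [mul_comm]

theorem dih (hD : D.Nice) {j k : I} (hjk : j ≠ k) {u s : W} (hu : u ∈ D.WJ {j, k})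
    (hs : s = D.σ j ∨ s = D.σ k ∨
      (3 ≤ orderOf (D.σ j * D.σ k) ∧ (s = D.σ j * D.σ k * D.σ j ∨ s = D.σ k * D.σ j * D.σ k)))
    (h1 : D.len (u * D.σ j) < D.len u) (h2 : ¬ D.len (u * D.σ k) < D.len u) (h3 : D.len u < D.len (s * u))
    (h4 : s * u ≠ u * D.σ k) (h5 : 3 ≤ orderOf (D.σ j * D.σ k) → s ≠ D.σ j)
    (h6 : 3 ≤ orderOf (D.σ j * D.σ k) → s ≠ D.σ k) :
    orderOf (D.σ j * D.σ k) = 4 ∧ u = D.σ j ∧ s = D.σ k * D.σ j * D.σ k := by
  obtain ⟨t, ht, rfl⟩ := D.exists_zz hu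
  have e1 : D.zz j k t * D.σ j = D.zz j k (if t % 2 = 0 then t + 1 else t - 1) := by
    split_ifs with h
    · rw [D.zz_succ, τ, if_pos h]
    · rw [D.zz_pred, τ, if_pos (by omega)]
  have e2 : D.zz j k t * D.σ k = D.zz j k (if t % 2 = 0 then t - 1 else t + 1) := by
    split_ifs with h
    · rw [D.zz_pred, τ, if_neg (by omega)]
    · rw [D.zz_succ, τ, if_neg h]
  have r : ∀ p, D.zz j k (2 * p + 1) * D.zz j k t = D.zz j k (2 * p + 1 - t) := fun p => by
    rw [← D.refl_zz p t, ← sub_zero (2 * p + 1), ← D.refl_zz p 0, D.zz_zero, mul_one]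
  have z1 : D.σ j = D.zz j k (2 * 0 + 1) := by simpa [alt] using (D.zz_nat (a := j) (b := k) 1).symm
  have z2 : D.σ k = D.zz j k (2 * (-1) + 1) := by simpa [alt] using (D.zz_neg (a := j) (b := k) 1).symm
  have z3 : D.σ j * D.σ k * D.σ j = D.zz j k (2 * 1 + 1) := by
    simpa [alt, mul_assoc] using (D.zz_nat (a := j) (b := k) 3).symm
  have z4 : D.σ k * D.σ j * D.σ k = D.zz j k (2 * (-2) + 1) := by
    simpa [alt, mul_assoc] using (D.zz_neg (a := j) (b := k) 3).symm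
  rw [e1, D.len_zz', D.len_zz'] at h1
  rw [e2, D.len_zz', D.len_zz'] at h2
  rw [e2] at h4
  have hm := hD.le4 j k hjk
  have key : ∀ p, s = D.zz j k (2 * p + 1) → (p = 0 ∨ p = -1 → orderOf (D.σ j * D.σ k) = 2) →
      (p = 0 ∨ p = -1 ∨ p = 1 ∨ p = -2) → (p = 1 ∨ p = -2 → 3 ≤ orderOf (D.σ j * D.σ k)) →
      orderOf (D.σ j * D.σ k) = 4 ∧ t = 1 ∧ p = -2 := by
    rintro p rfl a1 a2 a3
    rw [r, D.len_zz', D.len_zz'] at h3
    have h7 := mt D.zz_congr (r p ▸ h4)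
    have hb : -4 ≤ t ∧ t ≤ 4 := by omega
    obtain ⟨b1, b2⟩ := hb
    clear e1 e2 r z1 z2 z3 z4 h4 h5 h6 hs
    rcases hm with o | o | o <;> rw [o] at ht h1 h2 h3 h7 a1 a3 ⊢ <;> rcases a2 with rfl | rfl | rfl | rfl <;>
      interval_cases t <;> simp at ht h1 h2 h3 h7 a1 a3 ⊢
  rcases hs with e | e | ⟨a, e | e⟩
  · have := key _ (e.trans z1) (fun _ => by have := mt h5 (not_not.2 e); omega) (by simp) (by simp); omega
  · have := key _ (e.trans z2) (fun _ => by have := mt h6 (not_not.2 e); omega) (by simp) (by simp); omega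
  · have := key _ (e.trans z3) (by simp) (by simp) (fun _ => a); omega
  · obtain ⟨b1, b2, -⟩ := key _ (e.trans z4) (by simp) (by simp) (fun _ => a)
    exact ⟨b1, by rw [b2, z1]; rfl, e⟩

end CS

namespace Bld

variable {I W : Type*} [Group W] [Finite W] {D : CS I W} {C : Type*} {Δ : Bld D C}

theorem Aut.rigid {g : Equiv.Perm C} (hg : g ∈ Δ.Aut) {J : Set I} {x o : C} (h : Δ.δ x o = D.wJ J) (hx : g x = x)
    (h1 : ∀ j ∈ J, ∀ y, Δ.R {j} x y → g y = y) (ho : g o = o) {y : C} (hy : Δ.R J x y) : g y = y :=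
  Bld.rigid (Δ' := Δ) (J := J) (r := fun y y' => y = y') (s := fun y y' => g y = y')
    ⟨fun y _ => ⟨y, rfl⟩, fun _ _ a b => by rw [a, b]⟩ ⟨fun y _ => ⟨_, rfl⟩, fun _ _ a b => by rw [← a, ← b, hg]⟩
    (fun j hj y y' h2 e => e ▸ h1 j hj y h2) (fun y' e => e ▸ hx) h rfl ho hy rfl

theorem fix_root (hD : D.Nice) {x z : C} (h : Δ.δ x z = D.w0) {i : I} {v : W} (hv : D.Pos i v)
    (ht : D.Top (v⁻¹ * D.σ i * v⁻¹⁻¹)) {g : Equiv.Perm C} (hg : g ∈ Δ.Aut)
    (h1 : ∀ w, D.Pos i (v * w) → g (Δ.ap x z w) = Δ.ap x z w) (h2 : ∀ j y, Δ.R {j} x y → g y = y)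
    (w : W) (hw : D.Pos i (v * w)) (k : I) (hk : D.Pos i (v * (w * D.σ k))) (y : C)
    (hy : Δ.R {k} (Δ.ap x z w) y) : g y = y := by
  set t := v⁻¹ * D.σ i * v⁻¹⁻¹ with htdef
  have up : ∀ {w}, D.Pos i (v * w) ↔ D.len w < D.len (t * w) := fun {w} =>
    ⟨fun hw => D.len_refl_gt (g := v⁻¹) (by simpa using hv) (by simpa using hw), fun hw => by
      by_contra hn
      exact lt_asymm hw (D.len_refl_lt (g := v⁻¹) (by simpa using hv) (by simpa using hn))⟩
  have cross : ∀ {w k}, D.Pos i (v * w) → t * w ≠ w * D.σ k → D.Pos i (v * (w * D.σ k)) := fun {w k} hw hne => by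
    rw [← mul_assoc]
    exact D.pos_mul_of (fun e => hne (by rw [htdef, inv_inv, mul_assoc, mul_assoc, e]; group)) hw
  have ncr : ∀ {w k}, D.Pos i (v * w) → D.Pos i (v * (w * D.σ k)) → t * w ≠ w * D.σ k := fun {w k} a b e => by
    have a1 := up.1 a
    have a2 := up.1 b
    rw [← e, ← mul_assoc, ht.1, one_mul] at a2
    omega
  have res : ∀ {J w}, D.Pos i (v * w) → w⁻¹ * t * w ∉ D.WJ J → ∀ u ∈ D.WJ J, D.Pos i (v * (w * u)) := by
    intro J w hw hn
    refine D.indR (by simpa using hw) fun u hu j hj _ ih => ?_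
    rw [← mul_assoc w]
    refine cross ih fun e => hn ?_
    rw [show w⁻¹ * t * w = w⁻¹ * (t * (w * u)) * u⁻¹ by group, e]
    simpa [mul_assoc] using mul_mem (mul_mem hu (D.σ_mem hj)) (inv_mem hu)
  let Fx : W → I → Prop := fun w k => ∀ y, Δ.R {k} (Δ.ap x z w) y → g y = y
  let P : W → Prop := fun r => ∀ w k, D.Pos i (v * w) → D.Pos i (v * (w * D.σ k)) → w * D.σ k * w⁻¹ = r → Fx w k
  have nxt : ∀ {w k}, Fx w k → Fx (w * D.σ k) k := fun {w k} a y hy =>
    a y ((R.of_σ (ap_σ h w k) (Set.mem_singleton k)).trans hy)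
  have par : ∀ {w k}, Fx w k → P (w * D.σ k * w⁻¹) := by
    have key : ∀ {w k w' k'}, Fx w k → D.Pos i (v * w') → w' * D.σ k' * w'⁻¹ = w * D.σ k * w⁻¹ →
        D.Pos k (w⁻¹ * w') → Fx w' k' := by
      intro w k w' k' a b e c p' hp'
      have e' : D.σ k * (w⁻¹ * w') = w⁻¹ * w' * D.σ k' := by
        rw [show D.σ k * (w⁻¹ * w') = w⁻¹ * (w * D.σ k * w⁻¹) * w' by group, ← e]; group
      have m : D.MinR {k'} (w⁻¹ * w') := D.minR_of (by rintro _ rfl; rwa [← e'])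
      rcases R_single.1 hp' with rfl | hp
      · exact h1 _ b
      obtain ⟨p, p1, p2⟩ := exists_mid (((gate (ap_ap h w w') m hp').trans (by rw [hp])).trans e'.symm)
      refine (eq_of_gate p2 m (hp'.symm.trans ?_) ?_).symm
      · rw [← h1 _ b]; exact (Aut.R hg).2 hp'
      · rw [← a p (R.of_σ p1 (Set.mem_singleton k)), hg, p2]
    intro w k a w' k' b _ e
    by_cases c : D.Pos k (w⁻¹ * w')
    · exact key a b e c
    · exact key (nxt a) b (by simpa [mul_assoc, D.σ_inv] using e)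
        (by simpa [mul_assoc, D.σ_inv] using (D.pos_σ_mul k _).2 c)
  have rig : ∀ {w a b}, D.Pos i (v * w) → w⁻¹ * t * w ∉ D.WJ {a, b} → Fx w a → Fx w b →
      ∀ u ∈ D.WJ {a, b}, ∀ c ∈ ({a, b} : Set I), Fx (w * u) c := by
    intro w a b hw hn fa fb u hu c hc y hy
    refine Aut.rigid hg (J := {a, b}) (o := Δ.ap x z (w * D.wJ {a, b})) (by rw [ap_ap h]; simp) (h1 _ hw) ?_
      (h1 _ (res hw hn _ (D.wJ_mem _))) (R.trans ?_ (hy.mono (Set.singleton_subset_iff.2 hc)))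
    · rintro _ (rfl | rfl)
      exacts [fa, fb]
    · rw [R, ap_ap h]; simpa using hu
  have rule : ∀ w a b, w⁻¹ * t * w ∉ D.WJ {a, b} → P (w * D.σ a * w⁻¹) → P (w * D.σ b * w⁻¹) →
      P (w * (D.σ b * D.σ a * D.σ b) * w⁻¹) := by
    have key : ∀ w a b, D.Pos i (v * w) → w⁻¹ * t * w ∉ D.WJ {a, b} → P (w * D.σ a * w⁻¹) → P (w * D.σ b * w⁻¹) →
        P (w * (D.σ b * D.σ a * D.σ b) * w⁻¹) := fun w a b hw hn pa pb => by
      have := par (rig hw hn (pa w a hw (res hw hn _ (D.σ_mem (by simp))) rfl)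
        (pb w b hw (res hw hn _ (D.σ_mem (by simp))) rfl) (D.σ b) (D.σ_mem (by simp)) a (by simp))
      simpa [mul_assoc, D.σ_inv] using this
    intro w a b hn pa pb
    by_cases hw : D.Pos i (v * w)
    · exact key w a b hw hn pa pb
    have := key (w * D.w0) (D.bar a) (D.bar b) (by rw [← mul_assoc]; exact (D.pos_mul_w0 _ _).2 hw)
      (fun e => hn (by
        rw [← D.barS_pair] at e
        simpa [mul_assoc, D.wJ_inv] using D.conj_mem' e))
      (by simpa [D.σ_bar, mul_assoc, D.wJ_inv] using pa) (by simpa [D.σ_bar, mul_assoc, D.wJ_inv] using pb)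
    simpa [D.σ_bar, mul_assoc, D.wJ_inv] using this
  have low : ∀ {J w u}, u ∈ D.WJ J → D.MinR J (w * u) → D.Pos i (v * w) →
      D.Pos i (v * (w * u)) ∧ D.len w = D.len (w * u) + D.len u := fun {J w u} hu hm hw => by
    have a1 := hm _ (inv_mem hu)
    have a2 := up.1 hw
    have a3 := D.len_mul_le (t * (w * u)) u⁻¹
    simp only [mul_assoc, mul_inv_cancel, mul_one, D.len_inv] at a1 a3
    exact ⟨up.2 (by omega), a1⟩
  revert y
  change Fx w k
  induction hn : D.len w using Nat.strong_induction_on generalizing w k with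
  | _ n ih =>
  by_cases h0 : w = 1
  · intro y hy; rw [h0, ap_one h] at hy; exact h2 k y hy
  obtain ⟨j, w₁, e1, e2⟩ := D.exists_right_descent h0
  have dj : D.len (w * D.σ j) < D.len w := by rw [e1, D.mul_σ_σ, ← e1]; omega
  by_cases hkd : D.len (w * D.σ k) < D.len w
  · simpa using nxt (ih _ (hn ▸ hkd) (w * D.σ k) hk k (by simpa using hw) rfl)
  obtain ⟨u, hu, hm⟩ := D.exists_minR {j, k} w
  obtain ⟨l1, l2⟩ := low hu hm hw
  have u1 : D.len u ≠ 0 := fun e => by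
    rw [D.len_eq_zero_iff] at e
    have := hm _ (D.σ_mem (i := j) (by simp))
    rw [e, mul_one] at this; omega
  by_cases hc : (w * u)⁻¹ * t * (w * u) ∉ D.WJ {j, k}
  · simpa using rig l1 hc (ih _ (by omega) _ l1 j (res l1 hc _ (D.σ_mem (by simp))) rfl)
      (ih _ (by omega) _ l1 k (res l1 hc _ (D.σ_mem (by simp))) rfl) u⁻¹ (inv_mem hu) k (by simp)
  rw [not_not] at hc
  -- the wall of the root meets the residue
  set q := w * u with hq
  have ew : w = q * u⁻¹ := by rw [hq]; group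
  have hjk : j ≠ k := fun e => hkd (e ▸ dj)
  have hne := ncr hw hk
  have hup := up.1 hw
  have et : t * w = q * (q⁻¹ * t * q * u⁻¹) := by rw [ew]; group
  have dj' : D.len (u⁻¹ * D.σ j) < D.len u⁻¹ := by
    rw [ew, mul_assoc, hm _ (inv_mem hu), hm _ (mul_mem (inv_mem hu) (D.σ_mem (by simp)))] at dj; omega
  have dk' : ¬ D.len (u⁻¹ * D.σ k) < D.len u⁻¹ := by
    rw [ew, mul_assoc, hm _ (inv_mem hu), hm _ (mul_mem (inv_mem hu) (D.σ_mem (by simp)))] at hkd; omega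
  rw [et, hm _ (mul_mem hc (inv_mem hu)), ew, hm _ (inv_mem hu), Nat.add_lt_add_iff_left] at hup
  rw [et, ew, mul_assoc q, ne_eq, mul_right_inj] at hne
  have er : q⁻¹ * t * q = (v * q)⁻¹ * D.σ i * (v * q)⁻¹⁻¹ := by rw [htdef]; group
  have hr := D.refl_pair (hD.le j k) (er ▸ hc)
  rw [← er] at hr
  obtain ⟨o4, eu, es⟩ := D.dih hD hjk (inv_mem hu) hr dj' dk' hup hne
    (fun h3 => ht.not_simple D hm (j := j) (k := k) (by simp) (by simp) (D.order_symm j k ▸ h3))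
    (fun h3 => ht.not_simple D hm (j := k) (k := j) (by simp) (by simp) h3)
  have fin : ∀ (l : I) (K : Set I), j ∈ K → k ∈ K → (∀ (P : W → Prop) {u : W} {c : I}, u ∈ D.WJ K → c ∈ K →
      (∀ a ∈ K, D.Pos a (u * D.σ c * u⁻¹) → D.σ a * (u * D.σ c * u⁻¹) = u * D.σ c * u⁻¹ * D.σ a) →
      (∀ a ∈ K, P (D.σ a)) → (∀ w a b, w⁻¹ * (u * D.σ c * u⁻¹) * w ∉ D.WJ {a, b} → P (w * D.σ a * w⁻¹) →
        P (w * D.σ b * w⁻¹) → P (w * (D.σ b * D.σ a * D.σ b) * w⁻¹)) →
      ∀ {v : W} {d : I}, v ∈ D.WJ K → d ∈ K → v * D.σ d * v⁻¹ ≠ u * D.σ c * u⁻¹ → P (v * D.σ d * v⁻¹)) →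
      (∀ a ∈ K, ∃ b ∈ K, 3 ≤ orderOf (D.σ b * D.σ a)) → Fx w k := by
    intro l K hj hk' H hnb
    obtain ⟨u₃, hu₃, hm₃⟩ := D.exists_minR K q
    obtain ⟨l3, l4⟩ := low hu₃ hm₃ l1
    have e3 : (q * u₃)⁻¹ * t * (q * u₃) = u₃⁻¹ * D.σ k * D.σ j * (u₃⁻¹ * D.σ k)⁻¹ := by
      rw [show (q * u₃)⁻¹ * t * (q * u₃) = u₃⁻¹ * (q⁻¹ * t * q) * u₃ by group, es]; simp [mul_assoc, D.σ_inv]
    have hmem : (q * u₃)⁻¹ * t * (q * u₃) ∈ D.WJ K := by
      rw [e3]
      exact mul_mem (mul_mem (mul_mem (inv_mem hu₃) (D.σ_mem hk')) (D.σ_mem hj))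
        (inv_mem (mul_mem (inv_mem hu₃) (D.σ_mem hk')))
    have := H (fun r => P (q * u₃ * r * (q * u₃)⁻¹)) (mul_mem (inv_mem hu₃) (D.σ_mem hk')) hj
      (fun a ha => by rw [← e3]; exact ht.max D hm₃ hmem ha) (fun a ha => by
        obtain ⟨b, hb, h3⟩ := hnb a ha
        refine par (ih _ (by omega) _ l3 a (cross l3 fun e => ht.not_simple D hm₃ ha hb h3 ?_) rfl)
        rw [mul_assoc, e]; group)
      (fun w' a b n1 p1 p2 => by
        have := rule (q * u₃ * w') a b (by rw [← e3] at n1; simpa [mul_assoc] using n1)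
          (by simpa [mul_assoc] using p1) (by simpa [mul_assoc] using p2)
        simpa [mul_assoc] using this)
      (mul_mem (inv_mem hu₃) (D.σ_mem hj)) hk' (fun e => by
        have e' : D.σ j * D.σ k * D.σ j = D.σ k * D.σ j * D.σ k :=
          mul_right_cancel (b := u₃) (by simpa [mul_assoc, D.σ_inv] using e)
        have : (D.σ j * D.σ k) ^ 3 = 1 := by
          rw [show (D.σ j * D.σ k) ^ 3 = D.σ j * D.σ k * D.σ j * (D.σ k * D.σ j * D.σ k) by
            simp [pow_succ, mul_assoc], e']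
          simp [mul_assoc, D.sq]
        have := orderOf_dvd_of_pow_eq_one this
        rw [o4] at this; omega)
    exact this w k hw hk (by rw [ew, eu]; simp [mul_assoc])
  have o4' := D.order_symm j k ▸ o4
  obtain ⟨l, ⟨c1, c2⟩ | ⟨c1, c2⟩⟩ := hD.c3 j k o4
  · refine fin l {l, j, k} (by simp) (by simp) (fun P _ _ a1 a2 a3 a4 a5 _ _ => D.c3_closure c1 o4 c2 P a1 a2 a3 a4 a5) ?_
    rintro _ (rfl | rfl | rfl)
    exacts [⟨j, by simp, by rw [D.order_symm, c1]⟩, ⟨k, by simp, by omega⟩, ⟨j, by simp, by omega⟩]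
  · refine fin l {l, k, j} (by simp) (by simp) (fun P _ _ a1 a2 a3 a4 a5 _ _ => D.c3_closure c1 o4' c2 P a1 a2 a3 a4 a5) ?_
    rintro _ (rfl | rfl | rfl)
    exacts [⟨k, by simp, by rw [D.order_symm, c1]⟩, ⟨j, by simp, by omega⟩, ⟨k, by simp, by omega⟩]

/-- **Tits**: thick irreducible spherical buildings of rank at least three are Moufang. -/
theorem mou (hD : D.Nice) (Δ : Bld D C) : Δ.Mou := by
  have key : ∀ p y y' l, Δ.δ p y = D.w0 → Δ.δ p y' = D.w0 → Δ.R {l} y y' →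
      ∃ g ∈ Δ.RG p y (D.bar l), g y = y' := by
    intro p y y' l h h' hR
    obtain ⟨v, hv, ht⟩ := D.exists_Top (D.bar l)
    have ea := fun u hu => ap_eq_of_adj h h' hR (u := u) hu
    have deep : ∀ {J}, Sm J → ∀ u ∈ D.WJ J, D.Pos (D.bar l) (v * u) := by
      rintro J ⟨j, k, hJ⟩
      refine D.indR (by simpa using hv) fun u hu c hc _ ih => ?_
      rw [← mul_assoc]
      refine D.pos_mul_of (fun e => ht.deep D hD (j := j) (k := k) (D.WJ_mono hJ ?_)) ih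
      rw [show v⁻¹ * D.σ (D.bar l) * v⁻¹⁻¹ = v⁻¹ * (D.σ (D.bar l) * (v * u)) * u⁻¹ by group, e]
      simpa [mul_assoc] using mul_mem (mul_mem hu (D.σ_mem hc)) (inv_mem hu)
    have st : IsSt Δ Δ (Δ.ap p y v) (Δ.ap p y (v * D.w0)) (Δ.ap p y v) (Δ.ap p y' (v * D.w0))
        fun a b => a = b ∧ ∃ J, Sm J ∧ Δ.R J (Δ.ap p y v) a :=
      { opp := ap_opp h v
        base := ⟨rfl, _, Sm.single l, R.refl _ _ _⟩
        dom := fun h => h.2
        tot := fun hJ a ha => ⟨a, rfl, _, hJ, ha⟩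
        tot' := fun hJ a ha => ⟨a, rfl, _, hJ, ha⟩
        iso := fun _ _ _ _ _ _ _ h1 h2 => by rw [h1.1, h2.1]
        dist := by
          rintro a _ ⟨rfl, J, hJ, ha⟩
          have r : Δ.R (D.barS (D.barS J)) a (Δ.ap p y (v * D.wJ J)) := by
            rw [D.barS_barS]; refine ha.symm.trans ?_; rw [R, ap_ap h]; simpa using D.wJ_mem J
          have e : (v * D.wJ J)⁻¹ * (v * D.w0) = D.op (D.barS J) := by simp [D.op_eq, D.wJ_inv, mul_assoc]
          have h1 : Δ.δ (Δ.ap p y (v * D.wJ J)) (Δ.ap p y (v * D.w0)) = D.op (D.barS J) := by rw [ap_ap h, e]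
          have h2 : Δ.δ (Δ.ap p y (v * D.wJ J)) (Δ.ap p y' (v * D.w0)) = D.op (D.barS J) := by
            rw [ea _ (deep hJ _ (D.wJ_mem J)), ap_ap h', e]
          rw [gateL h1 r, gateL h2 r] }
    obtain ⟨g, g1, g2, g3⟩ := st.ext hD.le4
    have hg : g ∈ Δ.Aut := g1
    have g4 : ∀ u, g (Δ.ap p y u) = Δ.ap p y' u := fun u => by
      have := Aut.ap hg (ap_opp h v) (v⁻¹ * u)
      rw [g3, g2 _ _ st.base, ap_ap' h] at this
      rw [ea v hv] at this
      simpa [ap_ap' h'] using this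
    refine ⟨g, ⟨hg, fun u j h1 h2 a ha => ?_⟩, by simpa [ap_w0 h, ap_w0 h'] using g4 D.w0⟩
    refine fix_root hD (ap_opp h v) hv ht hg (fun w hw => by rw [ap_ap' h, g4, ← ea _ hw])
      (fun j a ha => g2 a a ⟨rfl, _, Sm.single j, ha⟩) (v⁻¹ * u) (by simpa using h1) j
      (by simpa [mul_assoc] using h2) a (by simpa [ap_ap' h] using ha)
  intro x z h i y y' hy hy'
  have p1 : D.Pos i (D.σ i * D.w0) := by rw [D.pos_mul_w0]; simpa using (D.pos_σ_mul i 1).not.2 (by simp [D.pos_one])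
  have e := RG_eq h p1 (k := D.bar i) (by rw [D.σ_σ_mul, D.σ_w0, D.mul_σ_σ])
  rw [D.mul_wJ_wJ] at e
  have o : ∀ y, Δ.δ x y = D.σ i → Δ.δ (Δ.ap x z (D.σ i * D.w0)) y = D.w0 := fun y hy =>
    opp_of_ne (Set.mem_univ i) (by rw [Δ.inv, ap_left h]; simp [D.σ_inv, D.wJ_inv]) hy
  have k2 : ∀ y, Δ.δ x y = D.σ i → ∃ g ∈ Δ.RG x z i, g (Δ.ap x z (D.σ i)) = y := fun y hy => by
    rw [← e]
    exact key _ _ y i (o _ (ap_left h _)) (o y hy)
      ((R.of_σ (ap_left h _) (Set.mem_singleton i)).symm.trans (R.of_σ hy (Set.mem_singleton i)))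
  obtain ⟨g, hg, rfl⟩ := k2 y hy
  obtain ⟨g', hg', rfl⟩ := k2 y' hy'
  exact ⟨g' * g⁻¹, mul_mem hg' (inv_mem hg), by simp⟩

end Bld

end TB
end H20
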