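import Mathlib
import Cfsg.Agent.H20.TB7

/-!
# The root groups of a rank two residue of a Moufang building
-/

set_option autoImplicit false
set_option linter.unusedSectionVars false
set_option linter.unusedVariables false

namespace H20
namespace TB

open H8 H8.GenSys CS
open scoped commutatorElement

namespace Bld

variable {I W : Type*} [Group W] [Finite W] {D : CS I W} {C C' : Type*} {Δ : Bld D C} {Δ' : Bld D C'}

variable (Δ) in
/-- the chamber at position `t` -/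
noncomputable def bp (x z : C) (a b : I) (t : ℤ) : C := Δ.ap x z (D.zz a b t)

variable (Δ) in
/-- the root group at position `t` -/
noncomputable def UP (x z : C) (a b : I) (t : ℤ) : Subgroup (Equiv.Perm C) :=
  Δ.RG (Δ.ap x z (D.zz a b t)) (Δ.ap x z (D.zz a b t * D.w0)) (τ a b t)

variable (Δ) in
/-- the stabiliser of the opposite residue -/
def SQ (z : C) (J : Set I) : Subgroup (Equiv.Perm C) where
  carrier := {g | g ∈ Δ.Aut ∧ Δ.R (D.barS J) z (g z)}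
  mul_mem' := fun {g h} hg hh => ⟨mul_mem hg.1 hh.1, hg.2.trans ((Aut.R hg.1).2 hh.2)⟩
  one_mem' := ⟨one_mem _, R.refl _ _ _⟩
  inv_mem' := fun {g} hg => ⟨inv_mem hg.1, by rw [← Aut.R hg.1]; simpa using hg.2.symm⟩

variable {x z : C} (h : Δ.δ x z = D.w0) {a b : I} {m : ℕ} (hm : orderOf (D.σ a * D.σ b) = m) (h3 : 3 ≤ m)

section
include h

theorem bp_zero : Δ.bp x z a b 0 = x := by rw [bp, D.zz_zero, ap_one h]

theorem bp_succ (t : ℤ) : Δ.δ (Δ.bp x z a b t) (Δ.bp x z a b (t + 1)) = D.σ (τ a b t) := by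
  rw [bp, bp, D.zz_succ, ap_σ h]

theorem bp_pred (t : ℤ) : Δ.δ (Δ.bp x z a b t) (Δ.bp x z a b (t - 1)) = D.σ (τ a b (t - 1)) := by
  rw [bp, bp, D.zz_pred, ap_σ h]

theorem bp_shift (s t : ℤ) : Δ.bp (Δ.ap x z (D.zz a b s)) (Δ.ap x z (D.zz a b s * D.w0)) (τ a b s) (τ a b (s + 1)) t =
    Δ.bp x z a b (s + t) := by rw [bp, bp, ap_ap' h, ← D.zz_add]

theorem UP_zero : Δ.UP x z a b 0 = Δ.RG x z a := by simp [UP, ap_one h, ap_w0 h, τ]

include hm

theorem UP_per (t : ℤ) : Δ.UP x z a b (t + 2 * m) = Δ.UP x z a b t := by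
  rw [UP, UP, τ_congr (s := t + 2 * m) (t := t) (by omega), ← hm, D.zz_per]

include h3

theorem UP_other (t : ℤ) : Δ.UP x z a b t =
    Δ.RG (Δ.ap x z (D.zz a b (t - m + 1))) (Δ.ap x z (D.zz a b (t - m + 1) * D.w0)) (τ a b (t - m)) := by
  have o := D.order_τ (a := a) (b := b) t
  rw [hm] at o
  have e : D.zz (τ a b t) (τ a b (t + 1)) (-m) = D.zz (τ a b t) (τ a b (t + 1)) m := by
    rw [← o, D.zz_top, D.zz_bot]
  rw [UP, ← RG_eq (ap_opp h (D.zz a b t)) (k := τ a b (t - m)) (v := D.zz (τ a b t) (τ a b (t + 1)) (1 - m))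
    (D.pos_zz (by rw [o]) (by omega)), ap_ap' h, ap_ap' h, ← mul_assoc, ← D.zz_add,
    show t + (1 - m) = t - m + 1 by ring]
  rw [D.σ_zz, sub_sub_cancel, ← e, show (-m : ℤ) = 1 - m - 1 by ring, D.zz_pred, τ_τ,
    show t + (1 - m - 1) = t - m by ring]

theorem UP_top : Δ.UP x z a b (m - 1) = Δ.RG x z b := by
  rw [UP_other h hm h3, show (m - 1 - m + 1 : ℤ) = 0 by ring, show (m - 1 - m : ℤ) = -1 by ring]
  simp [ap_one h, ap_w0 h, τ]

theorem UP_panel {t s : ℤ} {g : Equiv.Perm C} (hg : g ∈ Δ.UP x z a b t) (h1 : t - m + 1 ≤ s) (h2 : s ≤ t) {l : I}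
    (h4 : ¬ (s = t ∧ l = τ a b s)) (h5 : ¬ (s = t - m + 1 ∧ l = τ a b (s - 1))) {y : C}
    (hy : Δ.R {l} (Δ.bp x z a b s) y) : g y = y := by
  have o := D.order_τ (a := a) (b := b) t
  rw [hm] at o
  refine hg.2 (D.zz (τ a b t) (τ a b (t + 1)) (s - t)) l (D.pos_zz (by rw [o]; omega) (by omega))
    (D.pos_zz_mul (by rw [o]; omega) (by omega) ?_ ?_) y ?_
  · rw [τ_τ, add_sub_cancel]; exact fun e => h4 ⟨by omega, e.2⟩
  · rw [τ_τ, o, show t + (s - t - 1) = s - 1 by ring]; exact fun e => h5 ⟨by omega, e.2⟩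
  · rwa [ap_ap' h, ← D.zz_add, add_sub_cancel]

theorem UP_fix {t s : ℤ} {g : Equiv.Perm C} (hg : g ∈ Δ.UP x z a b t) (h1 : t - m + 1 ≤ s) (h2 : s ≤ t) :
    g (Δ.bp x z a b s) = Δ.bp x z a b s := by
  have o := D.order_τ (a := a) (b := b) t
  rw [hm] at o
  have := nontrivial_of (hm ▸ h3)
  have := RG_fix hg (D.pos_zz (a := τ a b t) (b := τ a b (t + 1)) (s := s - t) (by rw [o]; omega) (by omega))
  rwa [ap_ap' h, ← D.zz_add, add_sub_cancel] at this

theorem UP_free {t : ℤ} {g : Equiv.Perm C} (hg : g ∈ Δ.UP x z a b t) {y : C}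
    (hy : Δ.δ (Δ.bp x z a b t) y = D.σ (τ a b t)) (hgy : g y = y) : g = 1 :=
  RG_free (ap_opp h _) (j := τ a b (t + 1)) (by rw [D.order_τ, hm]; exact h3) hg hy hgy

theorem UP_free1 {t : ℤ} {g : Equiv.Perm C} (hg : g ∈ Δ.UP x z a b t)
    (hgy : g (Δ.bp x z a b (t + 1)) = Δ.bp x z a b (t + 1)) : g = 1 := UP_free h hm h3 hg (bp_succ h t) hgy

theorem UP_free2 {t : ℤ} {g : Equiv.Perm C} (hg : g ∈ Δ.UP x z a b t)
    (hgy : g (Δ.bp x z a b (t - m)) = Δ.bp x z a b (t - m)) : g = 1 := by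
  rw [UP_other h hm h3] at hg
  refine RG_free (ap_opp h _) (j := τ a b (t - m + 1)) (by rw [D.order_τ, hm]; exact h3) hg ?_ hgy
  simpa [bp] using bp_pred h (a := a) (b := b) (t - m + 1)

theorem UP_SQ {t : ℤ} {g : Equiv.Perm C} (hg : g ∈ Δ.UP x z a b t) : g ∈ Δ.SQ z {a, b} := by
  have := nontrivial_of (hm ▸ h3)
  have p1 : D.Pos (τ a b t) (D.σ (τ a b t) * D.w0) := by
    rw [D.pos_mul_w0]; simpa using (D.pos_σ_mul _ 1).not.2 (by simp [D.pos_one])
  have f := RG_fix hg p1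
  rw [ap_ap' h, ← mul_assoc, ← D.zz_succ] at f
  have r : Δ.R (D.barS {a, b}) z (Δ.ap x z (D.zz a b (t + 1) * D.w0)) := by
    rw [R]; nth_rw 1 [← ap_w0 h]; rw [ap_ap h, D.wJ_inv, ← mul_assoc]; exact D.conj_mem (D.zz_mem _)
  exact ⟨hg.1, r.trans (by rw [← f]; exact (Aut.R hg.1).2 r.symm)⟩

theorem one_of {g : Equiv.Perm C} (hg : g ∈ Δ.SQ z {a, b}) {s : ℤ}
    (h1 : ∀ j y, Δ.R {j} (Δ.bp x z a b s) y → g y = y) (h2 : g (Δ.bp x z a b (s + m - 1)) = Δ.bp x z a b (s + m - 1)) :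
    g = 1 := by
  have f1 : g (Δ.ap x z (D.zz a b (s - 1))) = Δ.ap x z (D.zz a b (s - 1)) :=
    h1 _ _ (R.of_σ (bp_pred h s) (Set.mem_singleton _))
  have r : Δ.R (D.barS {a, b}) z (Δ.ap x z (D.zz a b (s - 1) * D.w0)) := by
    rw [R]; nth_rw 1 [← ap_w0 h]; rw [ap_ap h, D.wJ_inv, ← mul_assoc]; exact D.conj_mem (D.zz_mem _)
  have d : Δ.δ (Δ.bp x z a b (s + m - 1)) (Δ.ap x z (D.zz a b (s - 1) * D.w0)) = D.op (D.barS {a, b}) := by
    rw [bp, show s + m - 1 = s - 1 + m by ring, ← hm, D.zz_add_top, ap_ap h, D.op_eq]; simp [D.wJ_inv, mul_assoc]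
  have f2 := op_uniqueR d (by rw [← h2, hg.1, d]) (r.symm.trans (hg.2.trans ((Aut.R hg.1).2 r)))
  have f := Aut.fix_ap hg.1 (ap_opp h _) f1 f2.symm
  refine Aut.eq_one hg.1 (ap_opp h (D.zz a b s)) (h1 a _ (R.refl _ _ _)) h1 ?_
  simpa [ap_ap' h] using f ((D.zz a b (s - 1))⁻¹ * (D.zz a b s * D.w0))

theorem comm_fix {t t' s : ℤ} {f g : Equiv.Perm C} (hf : f ∈ Δ.UP x z a b t) (hg : g ∈ Δ.UP x z a b t')
    (h1 : t < t') (h2 : t' - m + 1 ≤ s) (h4 : s ≤ t) (j : I) (y : C) (hy : Δ.R {j} (Δ.bp x z a b s) y) :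
    ⁅f, g⁆ y = y := by
  have key : ∀ {f g : Equiv.Perm C}, g ∈ Δ.Aut → g (Δ.bp x z a b s) = Δ.bp x z a b s →
      (∀ y, Δ.R {j} (Δ.bp x z a b s) y → f y = y) → ∀ y, Δ.R {j} (Δ.bp x z a b s) y → f (g y) = g (f y) :=
    fun hg e H y hy => by rw [H y hy, H _ (by rw [← e]; exact (Aut.R hg).2 hy)]
  have hne : τ a b s ≠ τ a b (s - 1) := fun e => by
    have := D.order_τ (a := a) (b := b) (s - 1)
    rw [sub_add_cancel, e, D.sq, orderOf_one] at this; omega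
  have f0 := UP_fix h hm h3 hf (by omega) h4
  have g0 := UP_fix h hm h3 hg h2 (by omega)
  have hc : ∀ y, Δ.R {j} (Δ.bp x z a b s) y → f (g y) = g (f y) := by
    by_cases e : j = τ a b s
    · exact fun y hy => (key hf.1 f0 (fun y hy => UP_panel h hm h3 hg h2 (by omega) (by omega)
        (fun e' => hne (e.symm.trans e'.2)) hy) y hy).symm
    · exact key hg.1 g0 fun y hy => UP_panel h hm h3 hf (by omega) h4 (fun e' => e e'.2) (by omega) hy
  have hy' : Δ.R {j} (Δ.bp x z a b s) ((f⁻¹ * g⁻¹) y) := by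
    rw [← Aut.R (mul_mem hg.1 hf.1)]; simpa [f0, g0] using hy
  rw [commutatorElement_def, mul_assoc (f * g), Equiv.Perm.mul_apply, Equiv.Perm.mul_apply, hc _ hy']
  simp

theorem Mu_of {t : ℤ} {g κ l : Equiv.Perm C} (hg : g ∈ Δ.Aut)
    (hκ : κ ∈ Δ.RG (Δ.ap x z (D.zz a b t * D.σ (τ a b t))) (Δ.ap x z (D.zz a b t * D.σ (τ a b t) * D.w0)) (τ a b t))
    (hl : l ∈ Δ.RG (Δ.ap x z (D.zz a b t * D.σ (τ a b t))) (Δ.ap x z (D.zz a b t * D.σ (τ a b t) * D.w0)) (τ a b t))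
    (hn : ∀ u, (κ * g * l) (Δ.ap x z u) = Δ.ap x z (D.zz a b t * D.σ (τ a b t) * (D.zz a b t)⁻¹ * u)) :
    Mu m (Δ.UP x z a b) t g (κ * g * l) := by
  have e : Δ.UP x z a b (t + m) =
      Δ.RG (Δ.ap x z (D.zz a b t * D.σ (τ a b t))) (Δ.ap x z (D.zz a b t * D.σ (τ a b t) * D.w0)) (τ a b t) := by
    rw [UP_other h hm h3, add_sub_cancel_right, D.zz_succ]
  refine ⟨⟨κ, e ▸ hκ, l, e ▸ hl, rfl⟩, fun j f => ?_⟩
  rw [UP, RG_conj_iff (mul_mem (mul_mem hκ.1 hg) hl.1) (ap_opp h _), hn, hn, ← mul_assoc, D.refl_zz,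
    UP_other h hm h3, show 2 * t + m - j - m + 1 = 2 * t + 1 - j by ring, τ_congr (s := j) (t := 2 * t + m - j - m) (by omega)]

variable (hM : Δ.Mou)
include hM

theorem UP_trans (t : ℤ) {y y' : C} (hy : Δ.δ (Δ.bp x z a b t) y = D.σ (τ a b t))
    (hy' : Δ.δ (Δ.bp x z a b t) y' = D.σ (τ a b t)) : ∃ g ∈ Δ.UP x z a b t, g y = y' :=
  hM _ _ (ap_opp h _) _ _ _ hy hy'

theorem UP_trans2 (t : ℤ) {y y' : C} (hy : Δ.δ (Δ.bp x z a b (t - m + 1)) y = D.σ (τ a b (t - m)))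
    (hy' : Δ.δ (Δ.bp x z a b (t - m + 1)) y' = D.σ (τ a b (t - m))) : ∃ g ∈ Δ.UP x z a b t, g y = y' := by
  rw [UP_other h hm h3]; exact hM _ _ (ap_opp h _) _ _ _ hy hy'

theorem UP_mu (t : ℤ) {g : Equiv.Perm C} (hg : g ∈ Δ.UP x z a b t) (h1 : g ≠ 1) :
    ∃ n, Mu m (Δ.UP x z a b) t g n := by
  obtain ⟨κ, hκ, l, hl, hn⟩ := exists_mu hM (ap_opp h _) (j := τ a b (t + 1)) (by rw [D.order_τ, hm]; exact h3) hg h1
  simp only [ap_ap' h, ← mul_assoc] at hκ hl hn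
  exact ⟨_, Mu_of h hm h3 hg.1 hκ hl fun u => by simpa [mul_assoc] using hn ((D.zz a b t)⁻¹ * u)⟩

theorem UP_ne (t : ℤ) : Δ.UP x z a b t ≠ ⊥ := fun e => by
  obtain ⟨y, y', h1, h2, h4⟩ := Δ.thick (Δ.bp x z a b t) (τ a b t)
  obtain ⟨g, hg, e'⟩ := UP_trans h hm h3 hM t h1 h2
  rw [e, Subgroup.mem_bot] at hg
  exact h4 (by simpa [hg] using e')

theorem dec_step {g : Equiv.Perm C} (hg : g ∈ Δ.SQ z {a, b}) {s t : ℤ} (h1 : s < t) (h2 : t - m + 1 < s)
    (h4 : ∀ j y, Δ.R {j} (Δ.bp x z a b s) y → g y = y) (h5 : g (Δ.bp x z a b t) = Δ.bp x z a b t) :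
    ∃ u ∈ Δ.UP x z a b t, u⁻¹ * g ∈ Δ.SQ z {a, b} ∧ (∀ j y, Δ.R {j} (Δ.bp x z a b s) y → (u⁻¹ * g) y = y) ∧
      (u⁻¹ * g) (Δ.bp x z a b (t + 1)) = Δ.bp x z a b (t + 1) := by
  obtain ⟨u, hu, e⟩ := UP_trans h hm h3 hM t (bp_succ h t) (y' := g (Δ.bp x z a b (t + 1)))
    (by rw [← h5, hg.1, bp_succ h])
  refine ⟨u, hu, mul_mem (inv_mem (UP_SQ h hm h3 hu)) hg, fun j y hy => ?_, by simp [← e]⟩
  rw [Equiv.Perm.mul_apply, h4 j y hy]
  exact UP_panel h hm h3 (inv_mem hu) (by omega) (by omega) (by omega) (by omega) hy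

end

section
variable [Finite C] (hM : Δ.Mou)

omit hm h3 in
/-- the root groups of a Moufang triangle -/
noncomputable def hex (hm : orderOf (D.σ a * D.σ b) = 3) : Hex (Equiv.Perm C) :=
  have dec : ∀ {g s}, g ∈ Δ.SQ z {a, b} → (∀ j y, Δ.R {j} (Δ.bp x z a b s) y → g y = y) →
      g ∈ Δ.UP x z a b (s + 1) := fun {g s} hg h1 => by
    obtain ⟨u, hu, a1, a2, a3⟩ := dec_step h hm le_rfl hM hg (s := s) (t := s + 1) (by omega) (by omega) h1
      (h1 _ _ (R.of_σ (bp_succ h s) (Set.mem_singleton _)))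
    have := one_of h hm le_rfl a1 a2 (by rw [show s + (3 : ℕ) - 1 = s + 1 + 1 by omega]; exact a3)
    rwa [← inv_mul_eq_one.1 this]
  have sq : ∀ {f g s t}, f ∈ Δ.UP x z a b s → g ∈ Δ.UP x z a b t → ⁅f, g⁆ ∈ Δ.SQ z {a, b} := fun hf hg =>
    mul_mem (mul_mem (mul_mem (UP_SQ h hm le_rfl hf) (UP_SQ h hm le_rfl hg)) (inv_mem (UP_SQ h hm le_rfl hf)))
      (inv_mem (UP_SQ h hm le_rfl hg))
  { U := Δ.UP x z a b
    per := fun i => UP_per h hm i
    fin := fun _ => inferInstance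
    c1 := fun i f hf g hg => by
      have h1 := dec (sq hf hg) (comm_fix h hm le_rfl hf hg (s := i - 1) (by omega) (by omega) (by omega))
      rw [sub_add_cancel] at h1
      exact commutatorElement_eq_one_iff_mul_comm.1 (UP_free1 h hm le_rfl h1 (comm_fix h hm le_rfl hf hg (s := i)
        (by omega) (by omega) (by omega) _ _ (R.of_σ (bp_succ h i) (Set.mem_singleton _))))
    c2 := fun i f hf g hg => dec (sq hf hg) (comm_fix h hm le_rfl hf hg (by omega) (by omega) (by omega))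
    ind := fun i f hf g hg k hk e => by
      have g1 := UP_fix h hm le_rfl hg (s := i + 1) (by omega) (by omega)
      have k1 := UP_fix h hm le_rfl hk (s := i + 1) (by omega) (by omega)
      have k2 := UP_fix h hm le_rfl hk (s := i + 1 + 1) (by omega) (by omega)
      obtain rfl := UP_free1 h hm le_rfl hf (by simpa [g1, k1] using congr($e (Δ.bp x z a b (i + 1))))
      obtain rfl := UP_free1 h hm le_rfl hg (by simpa [k2] using congr($e (Δ.bp x z a b (i + 1 + 1))))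
      simpa using e
    mu := fun i f hf h1 => UP_mu h hm le_rfl hM i hf h1
    ne := UP_ne h hm le_rfl hM }

omit hm h3 in
/-- the root groups of a Moufang quadrangle -/
noncomputable def oct (hm : orderOf (D.σ a * D.σ b) = 4) : Oct (Equiv.Perm C) :=
  have h3 : 3 ≤ 4 := by omega
  have dec : ∀ {g s}, g ∈ Δ.SQ z {a, b} → (∀ j y, Δ.R {j} (Δ.bp x z a b s) y → g y = y) →
      ∃ u ∈ Δ.UP x z a b (s + 1), ∃ v ∈ Δ.UP x z a b (s + 2), g = u * v := fun {g s} hg h1 => by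
    obtain ⟨u, hu, a1, a2, a3⟩ := dec_step h hm h3 hM hg (s := s) (t := s + 1) (by omega) (by omega) h1
      (h1 _ _ (R.of_σ (bp_succ h s) (Set.mem_singleton _)))
    obtain ⟨v, hv, b1, b2, b3⟩ := dec_step h hm h3 hM a1 (s := s) (t := s + 1 + 1) (by omega) (by omega) a2 a3
    have := one_of h hm h3 b1 b2 (by rw [show s + (4 : ℕ) - 1 = s + 1 + 1 + 1 by omega]; exact b3)
    exact ⟨u, hu, v, by rwa [add_assoc] at hv, by rw [inv_mul_eq_one.1 this]; simp⟩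
  have dec2 : ∀ {g s}, g ∈ Δ.SQ z {a, b} → (∀ j y, Δ.R {j} (Δ.bp x z a b (s - 1)) y → g y = y) →
      (∀ j y, Δ.R {j} (Δ.bp x z a b s) y → g y = y) → g ∈ Δ.UP x z a b (s + 1) := fun {g s} hg h1 h2 => by
    obtain ⟨u, hu, v, hv, rfl⟩ := dec hg h1
    rw [sub_add_cancel] at hu
    rw [show s - 1 + 2 = s + 1 by ring] at hv
    have v1 := UP_fix h hm h3 hv (s := s + 1) (by omega) (by omega)
    obtain rfl := UP_free1 h hm h3 hu (by simpa [v1] using h2 _ _ (R.of_σ (bp_succ h s) (Set.mem_singleton _)))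
    simpa using hv
  have sq : ∀ {f g s t}, f ∈ Δ.UP x z a b s → g ∈ Δ.UP x z a b t → ⁅f, g⁆ ∈ Δ.SQ z {a, b} := fun hf hg =>
    mul_mem (mul_mem (mul_mem (UP_SQ h hm h3 hf) (UP_SQ h hm h3 hg)) (inv_mem (UP_SQ h hm h3 hf)))
      (inv_mem (UP_SQ h hm h3 hg))
  { U := Δ.UP x z a b
    per := fun i => UP_per h hm i
    fin := fun _ => inferInstance
    c1 := fun i f hf g hg => by
      have h1 := dec2 (s := i - 1) (sq hf hg) (comm_fix h hm h3 hf hg (by omega) (by omega) (by omega))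
        (comm_fix h hm h3 hf hg (by omega) (by omega) (by omega))
      rw [sub_add_cancel] at h1
      exact commutatorElement_eq_one_iff_mul_comm.1 (UP_free1 h hm h3 h1 (comm_fix h hm h3 hf hg (s := i)
        (by omega) (by omega) (by omega) _ _ (R.of_σ (bp_succ h i) (Set.mem_singleton _))))
    c2 := fun i f hf g hg => dec2 (sq hf hg) (comm_fix h hm h3 hf hg (by omega) (by omega) (by omega))
      (comm_fix h hm h3 hf hg (by omega) (by omega) (by omega))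
    c3 := fun i f hf g hg => dec (sq hf hg) (comm_fix h hm h3 hf hg (by omega) (by omega) (by omega))
    ind := fun i f hf g hg k hk l hl e => by
      have g1 := UP_fix h hm h3 hg (s := i + 1) (by omega) (by omega)
      have k1 := UP_fix h hm h3 hk (s := i + 1) (by omega) (by omega)
      have k2 := UP_fix h hm h3 hk (s := i + 1 + 1) (by omega) (by omega)
      have l1 := UP_fix h hm h3 hl (s := i + 1) (by omega) (by omega)
      have l2 := UP_fix h hm h3 hl (s := i + 1 + 1) (by omega) (by omega)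
      have l3 := UP_fix h hm h3 hl (s := i + 2 + 1) (by omega) (by omega)
      obtain rfl := UP_free1 h hm h3 hf (by simpa [g1, k1, l1] using congr($e (Δ.bp x z a b (i + 1))))
      obtain rfl := UP_free1 h hm h3 hg (by simpa [k2, l2] using congr($e (Δ.bp x z a b (i + 1 + 1))))
      obtain rfl := UP_free1 h hm h3 hk (by simpa [l3] using congr($e (Δ.bp x z a b (i + 2 + 1))))
      simpa using e
    mu := fun i f hf h1 => UP_mu h hm h3 hM i hf h1
    ne := UP_ne h hm h3 hM }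

end

end Bld

end TB
end H20
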