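import Mathlib
import Cfsg.Agent.H20.TB8

/-!
# Isomorphisms of rank two residues from isomorphisms of root group systems
-/

set_option autoImplicit false
set_option linter.unusedSectionVars false
set_option linter.unusedVariables false

namespace H20
namespace TB

open H8 H8.GenSys CS
open scoped commutatorElement

namespace Bld

variable {I W : Type*} [Group W] [Finite W] {D : CS I W} {C C' : Type*} {Δ : Bld D C} {Δ' : Bld D C'}

variable (Δ Δ') in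
/-- `r` is an isomorphism of `J`-residues matching the apartments -/
structure RI (J : Set I) (x z : C) (x' z' : C') (r : C → C' → Prop) : Prop where
  tot : ∀ {y}, Δ.R J x y → ∃ y', r y y'
  tot' : ∀ {y'}, Δ'.R J x' y' → ∃ y, r y y'
  dom : ∀ {y y'}, r y y' → Δ.R J x y
  iso : ∀ {y v y' v'}, r y y' → r v v' → Δ.δ y v = Δ'.δ y' v'
  ap : ∀ w ∈ D.WJ J, r (Δ.ap x z w) (Δ'.ap x' z' w)

variable {x z : C} (h : Δ.δ x z = D.w0) {x' z' : C'} (h' : Δ'.δ x' z' = D.w0) {a b : I} {m : ℕ}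
  (hm : orderOf (D.σ a * D.σ b) = m) (h3 : 3 ≤ m)

include h hm h3

theorem exists_mul (hM : Δ.Mou) (Y : Subgroup (Equiv.Perm C)) (hY : Y ≤ Δ.Aut)
    (hU : ∀ t : ℤ, 0 ≤ t → t < m → Δ.UP x z a b t ≤ Y) {y : C} (hy : Δ.R {a, b} x y) :
    ∃ g ∈ Y, y = g (Δ.ap x z (Δ.δ x y)) := by
  have up : ∀ n : ℕ, n ≤ m → ∀ y, Δ.δ x y = D.zz a b n → ∃ g ∈ Y, y = g (Δ.bp x z a b n) := by
    intro n
    induction n with
    | zero => intro _ y hy; exact ⟨1, one_mem _, by simpa [bp_zero h, Δ.eq_one, eq_comm] using hy⟩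
    | succ n ih =>
      intro hn y hy
      rw [Nat.cast_succ, D.zz_succ] at hy
      obtain ⟨v, h1, h2⟩ := step_down hy
      obtain ⟨g, hg, rfl⟩ := ih (by omega) v h1
      obtain ⟨f, hf, e⟩ := UP_trans h hm h3 hM n (bp_succ h n) (y' := g⁻¹ y) (by rw [← hY hg]; simpa using h2)
      exact ⟨g * f, mul_mem hg (hU n (by omega) (by omega) hf), by simp [e]⟩
  have dn : ∀ n : ℕ, n ≤ m → ∀ y, Δ.δ x y = D.zz a b (-n) → ∃ g ∈ Y, y = g (Δ.bp x z a b (-n)) := by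
    intro n
    induction n with
    | zero => intro _ y hy; exact ⟨1, one_mem _, by simpa [bp_zero h, Δ.eq_one, eq_comm] using hy⟩
    | succ n ih =>
      intro hn y hy
      rw [Nat.cast_succ, neg_add, ← sub_eq_add_neg] at hy ⊢
      rw [D.zz_pred] at hy
      obtain ⟨v, h1, h2⟩ := step_down hy
      obtain ⟨g, hg, rfl⟩ := ih (by omega) v h1
      have e1 : (m - 1 - n : ℤ) - m + 1 = -n := by ring
      have e2 : (m - 1 - n : ℤ) - m = -n - 1 := by ring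
      obtain ⟨f, hf, e⟩ := UP_trans2 h hm h3 hM (m - 1 - n) (y := Δ.bp x z a b (-n - 1)) (y' := g⁻¹ y)
        (by rw [e1, e2]; exact bp_pred h _) (by rw [e1, e2, ← hY hg]; simpa using h2)
      exact ⟨g * f, mul_mem hg (hU _ (by omega) (by omega) hf), by simp [e]⟩
  obtain ⟨t, ht, e⟩ := D.exists_zz hy
  rw [hm] at ht
  rcases Int.natAbs_eq t with e' | e' <;> rw [e'] at e
  · rw [e]; exact up _ ht y e
  · rw [e]; exact dn _ ht y e

include h' in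
theorem riso (hM : Δ.Mou) (hM' : Δ'.Mou) (Γ : Subgroup (Equiv.Perm C × Equiv.Perm C'))
    (hl : ∀ t : ℤ, 0 ≤ t → t < m → ∀ f ∈ Δ.UP x z a b t, ∃ f', (f, f') ∈ Γ)
    (hr : ∀ t : ℤ, 0 ≤ t → t < m → ∀ f' ∈ Δ'.UP x' z' a b t, ∃ f, (f, f') ∈ Γ)
    (hA : ∀ γ ∈ Γ, γ.1 ∈ Δ.Aut ∧ γ.2 ∈ Δ'.Aut)
    (hf : ∀ γ ∈ Γ, ∀ w ∈ D.WJ {a, b}, γ.1 (Δ.ap x z w) = Δ.ap x z w ↔ γ.2 (Δ'.ap x' z' w) = Δ'.ap x' z' w)
    (hx : ∀ γ ∈ Γ, γ.1 x = x) :
    RI Δ Δ' {a, b} x z x' z' fun y y' => ∃ γ ∈ Γ, ∃ w ∈ D.WJ {a, b}, y = γ.1 (Δ.ap x z w) ∧ y' = γ.2 (Δ'.ap x' z' w) := by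
  have hx' : ∀ γ ∈ Γ, γ.2 x' = x' := fun γ hγ => by
    simpa [ap_one h, ap_one h', hx γ hγ] using hf γ hγ 1 (one_mem _)
  have d : ∀ γ ∈ Γ, ∀ w, Δ.δ x (γ.1 (Δ.ap x z w)) = w := fun γ hγ w => by
    nth_rw 1 [← hx γ hγ]; rw [(hA γ hγ).1, ap_left h]
  have d' : ∀ γ ∈ Γ, ∀ w, Δ'.δ x' (γ.2 (Δ'.ap x' z' w)) = w := fun γ hγ w => by
    nth_rw 1 [← hx' γ hγ]; rw [(hA γ hγ).2, ap_left h']
  have tot : ∀ {y}, Δ.R {a, b} x y → ∃ y', ∃ γ ∈ Γ, ∃ w ∈ D.WJ {a, b},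
      y = γ.1 (Δ.ap x z w) ∧ y' = γ.2 (Δ'.ap x' z' w) := fun {y} hy => by
    obtain ⟨_, ⟨γ, hγ, rfl⟩, e⟩ := exists_mul h hm h3 hM (Γ.map (MonoidHom.fst _ _))
      (by rintro _ ⟨γ, hγ, rfl⟩; exact (hA γ hγ).1)
      (fun t h1 h2 f hf => by obtain ⟨f', h4⟩ := hl t h1 h2 f hf; exact ⟨_, h4, rfl⟩) hy
    exact ⟨_, γ, hγ, _, hy, e, rfl⟩
  have dom : ∀ {y : C} {y' : C'}, (∃ γ ∈ Γ, ∃ w ∈ D.WJ {a, b}, y = γ.1 (Δ.ap x z w) ∧ y' = γ.2 (Δ'.ap x' z' w)) →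
      Δ.R {a, b} x y := by
    rintro _ _ ⟨γ, hγ, w, hw, rfl, -⟩
    rwa [R, d γ hγ]
  have eqv : ∀ γ ∈ Γ, ∀ β ∈ Γ, ∀ v, ∀ w ∈ D.WJ {a, b},
      γ.1 (Δ.ap x z v) = β.1 (Δ.ap x z w) ↔ γ.2 (Δ'.ap x' z' v) = β.2 (Δ'.ap x' z' w) := by
    intro γ hγ β hβ v w hw
    have := hf _ (mul_mem (inv_mem hβ) hγ) w hw
    simp only [Prod.fst_mul, Prod.fst_inv, Prod.snd_mul, Prod.snd_inv, Equiv.Perm.mul_apply,
      Equiv.Perm.inv_eq_iff_eq] at this
    constructor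
    · intro e
      obtain rfl : v = w := by rw [← d γ hγ v, e, d β hβ]
      exact this.1 e
    · intro e
      obtain rfl : v = w := by rw [← d' γ hγ v, e, d' β hβ]
      exact this.2 e
  refine ⟨tot, fun {y'} hy => ?_, dom, fun h1 h2 => δ_map (J := {a, b}) (x := x) _ (fun y hy => tot hy) ?_ ?_
    (dom h1) (dom h2) h1 h2, fun w hw => ⟨1, one_mem _, w, hw, rfl, rfl⟩⟩
  · obtain ⟨_, ⟨γ, hγ, rfl⟩, e⟩ := exists_mul h' hm h3 hM' (Γ.map (MonoidHom.snd _ _))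
      (by rintro _ ⟨γ, hγ, rfl⟩; exact (hA γ hγ).2)
      (fun t h1 h2 f hf => by obtain ⟨f', h4⟩ := hr t h1 h2 f hf; exact ⟨_, h4, rfl⟩) hy
    exact ⟨_, γ, hγ, _, hy, rfl, e⟩
  · rintro _ - _ _ ⟨γ, hγ, v, hv, rfl, rfl⟩ ⟨β, hβ, w, hw, e, rfl⟩
    exact (eqv γ hγ β hβ v w hw).1 e
  · rintro _ _ _ _ i - hi ⟨γ, hγ, v, hv, rfl, rfl⟩ ⟨β, hβ, w, hw, rfl, rfl⟩ e
    have hs := Set.mem_singleton i
    obtain ⟨u, hu, hmin⟩ := D.exists_minR {i} v
    have hu' : v * u ∈ D.WJ {a, b} := mul_mem hv (D.WJ_mono (Set.singleton_subset_iff.2 hi) hu)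
    have hvw : v⁻¹ * w ∈ D.WJ {i} := by
      obtain ⟨k, hk, e'⟩ := δ_mem x (R.of_σ e hs)
      rw [d β hβ, d γ hγ] at e'
      simpa [e'] using hk
    have r1 : Δ.R {i} (γ.1 (Δ.ap x z (v * u))) (β.1 (Δ.ap x z (v * u))) := by
      refine ((Aut.R (hA γ hγ).1).2 ?_).trans ((R.of_σ e hs).trans ((Aut.R (hA β hβ).1).2 ?_))
      · rw [R, ap_ap h]; simpa using hu
      · rw [R, ap_ap h]; simpa [mul_assoc] using mul_mem (inv_mem hvw) hu
    have e1 := (eqv γ hγ β hβ _ _ hu').1 (eq_of_gate (d γ hγ _) hmin r1 (d β hβ _))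
    have r2 : Δ'.R {i} (γ.2 (Δ'.ap x' z' v)) (β.2 (Δ'.ap x' z' w)) := by
      refine R.trans (y := γ.2 (Δ'.ap x' z' (v * u))) ((Aut.R (hA γ hγ).2).2 ?_) (e1 ▸ (Aut.R (hA β hβ).2).2 ?_)
      · rw [R, ap_ap h']; simpa using hu
      · rw [R, ap_ap h']; simpa [mul_assoc] using mul_mem (inv_mem hu) hvw
    exact (R_single.1 r2).resolve_left fun e2 => ne_of_σ e ((eqv γ hγ β hβ _ _ hw).2 e2)

omit h3 in
theorem fix_between {g : Equiv.Perm C} (hg : g ∈ Δ.Aut) (hx : g x = x) {s t : ℤ} (ht : t.natAbs ≤ m)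
    (hs : s.natAbs + (t - s).natAbs = t.natAbs) (e : g (Δ.bp x z a b t) = Δ.bp x z a b t) :
    g (Δ.bp x z a b s) = Δ.bp x z a b s := by
  have e1 := D.zz_add (a := a) (b := b) s (t - s)
  rw [add_sub_cancel] at e1
  have d : Δ.δ (Δ.bp x z a b s) (Δ.bp x z a b t) = D.zz (τ a b s) (τ a b (s + 1)) (t - s) := by
    rw [bp, bp, ap_ap h, e1]; simp
  refine mid_unique ?_ (by rw [← hx, hg, hx, bp, ap_left h]) (by rw [← e, hg, d]) (ap_left h _) d
  rw [← e1, D.len_zz (by omega), D.len_zz (by omega), D.len_zz (by rw [D.order_τ]; omega), hs]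

theorem peel {s : ℤ} {f k : Equiv.Perm C} (hf : f ∈ Δ.UP x z a b s) (hk : k (Δ.bp x z a b (s + 1)) = Δ.bp x z a b (s + 1))
    (e : (f * k) (Δ.bp x z a b (s + 1)) = Δ.bp x z a b (s + 1)) : f = 1 :=
  UP_free1 h hm h3 hf (by simpa [hk] using e)

theorem peel2 {s : ℤ} {f k : Equiv.Perm C} (hf : f ∈ Δ.UP x z a b s) (hk : k (Δ.bp x z a b (s - m)) = Δ.bp x z a b (s - m))
    (e : (k * f) (Δ.bp x z a b (s - m)) = Δ.bp x z a b (s - m)) : f = 1 :=
  UP_free2 h hm h3 hf (k.injective (by simpa [hk] using e))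

omit hm h3 in
theorem fix3 (hm : orderOf (D.σ a * D.σ b) = 3) {f g k : Equiv.Perm C} (hf : f ∈ Δ.UP x z a b 0)
    (hg : g ∈ Δ.UP x z a b 1) (hk : k ∈ Δ.UP x z a b 2) {t : ℤ} (ht : t.natAbs ≤ 3) :
    (f * g * k) (Δ.bp x z a b t) = Δ.bp x z a b t ↔
      ((0 < t ∨ t < -2) → f = 1) ∧ ((1 < t ∨ t < -1) → g = 1) ∧ ((2 < t ∨ t < 0) → k = 1) := by
  have F := fun s h1 h2 => UP_fix h hm le_rfl hf (s := s) h1 h2
  have G := fun s h1 h2 => UP_fix h hm le_rfl hg (s := s) h1 h2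
  have K := fun s h1 h2 => UP_fix h hm le_rfl hk (s := s) h1 h2
  constructor
  · intro e
    have B := fun s hs => fix_between h hm (mul_mem (mul_mem hf.1 hg.1) hk.1) (by
      simpa [bp_zero h] using show (f * g * k) (Δ.bp x z a b 0) = Δ.bp x z a b 0 by
        simp [F 0 (by omega) (by omega), G 0 (by omega) (by omega), K 0 (by omega) (by omega)]) ht (s := s) hs e
    have u1 : 0 < t → f = 1 := fun h1 => peel h hm le_rfl hf (k := g * k)
      (by simp [G 1 (by omega) (by omega), K 1 (by omega) (by omega)]) (by rw [← mul_assoc]; exact B _ (by omega))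
    have u2 : 1 < t → g = 1 := fun h1 => peel h hm le_rfl hg (k := k) (K _ (by omega) (by omega))
      (by simpa [u1 (by omega)] using B 2 (by omega))
    have u3 : 2 < t → k = 1 := fun h1 => UP_free1 h hm le_rfl hk
      (by simpa [u1 (by omega), u2 (by omega)] using B 3 (by omega))
    have v1 : t < 0 → k = 1 := fun h1 => peel2 h hm le_rfl hk (k := f * g)
      (by simp [F (-1) (by omega) (by omega), G (-1) (by omega) (by omega)]) (B _ (by omega))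
    have v2 : t < -1 → g = 1 := fun h1 => peel2 h hm le_rfl hg (k := f) (F _ (by omega) (by omega))
      (by simpa [v1 (by omega)] using B (-2) (by omega))
    have v3 : t < -2 → f = 1 := fun h1 => UP_free2 h hm le_rfl hf
      (by simpa [v1 (by omega), v2 (by omega)] using B (-3) (by omega))
    exact ⟨fun h => h.elim u1 v3, fun h => h.elim u2 v2, fun h => h.elim u3 v1⟩
  · rintro ⟨h1, h2, h4⟩
    have f1 : f (Δ.bp x z a b t) = Δ.bp x z a b t := by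
      by_cases c : 0 < t ∨ t < -2
      exacts [by simp [h1 c], F t (by omega) (by omega)]
    have g1 : g (Δ.bp x z a b t) = Δ.bp x z a b t := by
      by_cases c : 1 < t ∨ t < -1
      exacts [by simp [h2 c], G t (by omega) (by omega)]
    have k1 : k (Δ.bp x z a b t) = Δ.bp x z a b t := by
      by_cases c : 2 < t ∨ t < 0
      exacts [by simp [h4 c], K t (by omega) (by omega)]
    simp [f1, g1, k1]

omit hm h3 in
theorem fix4 (hm : orderOf (D.σ a * D.σ b) = 4) {f g k l : Equiv.Perm C} (hf : f ∈ Δ.UP x z a b 0)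
    (hg : g ∈ Δ.UP x z a b 1) (hk : k ∈ Δ.UP x z a b 2) (hl : l ∈ Δ.UP x z a b 3) {t : ℤ} (ht : t.natAbs ≤ 4) :
    (f * g * k * l) (Δ.bp x z a b t) = Δ.bp x z a b t ↔
      ((0 < t ∨ t < -3) → f = 1) ∧ ((1 < t ∨ t < -2) → g = 1) ∧ ((2 < t ∨ t < -1) → k = 1) ∧
        ((3 < t ∨ t < 0) → l = 1) := by
  have h3 : 3 ≤ 4 := by omega
  have F := fun s h1 h2 => UP_fix h hm h3 hf (s := s) h1 h2
  have G := fun s h1 h2 => UP_fix h hm h3 hg (s := s) h1 h2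
  have K := fun s h1 h2 => UP_fix h hm h3 hk (s := s) h1 h2
  have L := fun s h1 h2 => UP_fix h hm h3 hl (s := s) h1 h2
  constructor
  · intro e
    have B := fun s hs => fix_between h hm (mul_mem (mul_mem (mul_mem hf.1 hg.1) hk.1) hl.1) (by
      simpa [bp_zero h] using show (f * g * k * l) (Δ.bp x z a b 0) = Δ.bp x z a b 0 by
        simp [F 0 (by omega) (by omega), G 0 (by omega) (by omega), K 0 (by omega) (by omega),
          L 0 (by omega) (by omega)]) ht (s := s) hs e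
    have u1 : 0 < t → f = 1 := fun h1 => peel h hm h3 hf (k := g * k * l)
      (by simp [G 1 (by omega) (by omega), K 1 (by omega) (by omega), L 1 (by omega) (by omega)])
      (by simpa [mul_assoc] using B 1 (by omega))
    have u2 : 1 < t → g = 1 := fun h1 => peel h hm h3 hg (k := k * l)
      (by simp [K 2 (by omega) (by omega), L 2 (by omega) (by omega)])
      (by simpa [u1 (by omega)] using B 2 (by omega))
    have u3 : 2 < t → k = 1 := fun h1 => peel h hm h3 hk (k := l) (L _ (by omega) (by omega))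
      (by simpa [u1 (by omega), u2 (by omega)] using B 3 (by omega))
    have u4 : 3 < t → l = 1 := fun h1 => UP_free1 h hm h3 hl
      (by simpa [u1 (by omega), u2 (by omega), u3 (by omega)] using B 4 (by omega))
    have v1 : t < 0 → l = 1 := fun h1 => peel2 h hm h3 hl (k := f * g * k)
      (by simp [F (-1) (by omega) (by omega), G (-1) (by omega) (by omega), K (-1) (by omega) (by omega)])
      (B _ (by omega))
    have v2 : t < -1 → k = 1 := fun h1 => peel2 h hm h3 hk (k := f * g)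
      (by simp [F (-2) (by omega) (by omega), G (-2) (by omega) (by omega)])
      (by simpa [v1 (by omega)] using B (-2) (by omega))
    have v3 : t < -2 → g = 1 := fun h1 => peel2 h hm h3 hg (k := f) (F _ (by omega) (by omega))
      (by simpa [v1 (by omega), v2 (by omega)] using B (-3) (by omega))
    have v4 : t < -3 → f = 1 := fun h1 => UP_free2 h hm h3 hf
      (by simpa [v1 (by omega), v2 (by omega), v3 (by omega)] using B (-4) (by omega))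
    exact ⟨fun h => h.elim u1 v4, fun h => h.elim u2 v3, fun h => h.elim u3 v2, fun h => h.elim u4 v1⟩
  · rintro ⟨h1, h2, h4, h5⟩
    have f1 : f (Δ.bp x z a b t) = Δ.bp x z a b t := by
      by_cases c : 0 < t ∨ t < -3
      exacts [by simp [h1 c], F t (by omega) (by omega)]
    have g1 : g (Δ.bp x z a b t) = Δ.bp x z a b t := by
      by_cases c : 1 < t ∨ t < -2
      exacts [by simp [h2 c], G t (by omega) (by omega)]
    have k1 : k (Δ.bp x z a b t) = Δ.bp x z a b t := by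
      by_cases c : 2 < t ∨ t < -1
      exacts [by simp [h4 c], K t (by omega) (by omega)]
    have l1 : l (Δ.bp x z a b t) = Δ.bp x z a b t := by
      by_cases c : 3 < t ∨ t < 0
      exacts [by simp [h5 c], L t (by omega) (by omega)]
    simp [f1, g1, k1, l1]

include h'

omit hm h3 in
theorem riso3 (hm : orderOf (D.σ a * D.σ b) = 3) (hM : Δ.Mou) (hM' : Δ'.Mou)
    {Γ : Subgroup (Equiv.Perm C × Equiv.Perm C')} (hΓ : Gr3 (Δ.UP x z a b) (Δ'.UP x' z' a b) Γ) :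
    RI Δ Δ' {a, b} x z x' z' fun y y' => ∃ γ ∈ Γ, ∃ w ∈ D.WJ {a, b}, y = γ.1 (Δ.ap x z w) ∧ y' = γ.2 (Δ'.ap x' z' w) := by
  refine riso h h' hm le_rfl hM hM' Γ (fun t h1 h2 f hf => ?_) (fun t h1 h2 f hf => ?_) (fun γ hγ => ?_)
    (fun γ hγ w hw => ?_) fun γ hγ => ?_
  · obtain ⟨f', -, h4⟩ := hΓ.left t h1 h2 f hf; exact ⟨f', h4⟩
  · obtain ⟨f', -, h4⟩ := hΓ.right t h1 h2 f hf; exact ⟨f', h4⟩
  · obtain ⟨f, -, g, -, k, -, hf, hg, hk, rfl⟩ := hΓ.dec γ hγ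
    exact ⟨mul_mem (mul_mem hf.1.1 hg.1.1) hk.1.1, mul_mem (mul_mem hf.2.1 hg.2.1) hk.2.1⟩
  · obtain ⟨f, f0, g, g0, k, k0, hf, hg, hk, rfl⟩ := hΓ.dec γ hγ
    obtain ⟨t, ht, rfl⟩ := D.exists_zz hw
    rw [hm] at ht
    refine (fix3 h hm hf.1 hg.1 hk.1 ht).trans (Iff.trans ?_ (fix3 h' hm hf.2 hg.2 hk.2 ht).symm)
    rw [hΓ.faith f f0, hΓ.faith g g0, hΓ.faith k k0]
  · obtain ⟨f, f0, g, g0, k, k0, hf, hg, hk, rfl⟩ := hΓ.dec γ hγ
    simpa [bp_zero h] using (fix3 h hm hf.1 hg.1 hk.1 (t := 0) (by simp)).2 (by simp)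

omit hm h3 in
theorem riso4 (hm : orderOf (D.σ a * D.σ b) = 4) (hM : Δ.Mou) (hM' : Δ'.Mou)
    {Γ : Subgroup (Equiv.Perm C × Equiv.Perm C')} (hΓ : Gr4 (Δ.UP x z a b) (Δ'.UP x' z' a b) Γ) :
    RI Δ Δ' {a, b} x z x' z' fun y y' => ∃ γ ∈ Γ, ∃ w ∈ D.WJ {a, b}, y = γ.1 (Δ.ap x z w) ∧ y' = γ.2 (Δ'.ap x' z' w) := by
  refine riso h h' hm (by omega) hM hM' Γ (fun t h1 h2 f hf => ?_) (fun t h1 h2 f hf => ?_) (fun γ hγ => ?_)
    (fun γ hγ w hw => ?_) fun γ hγ => ?_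
  · obtain ⟨f', -, h4⟩ := hΓ.left t h1 h2 f hf; exact ⟨f', h4⟩
  · obtain ⟨f', -, h4⟩ := hΓ.right t h1 h2 f hf; exact ⟨f', h4⟩
  · obtain ⟨f, -, g, -, k, -, l, -, hf, hg, hk, hl, rfl⟩ := hΓ.dec γ hγ
    exact ⟨mul_mem (mul_mem (mul_mem hf.1.1 hg.1.1) hk.1.1) hl.1.1,
      mul_mem (mul_mem (mul_mem hf.2.1 hg.2.1) hk.2.1) hl.2.1⟩
  · obtain ⟨f, f0, g, g0, k, k0, l, l0, hf, hg, hk, hl, rfl⟩ := hΓ.dec γ hγ
    obtain ⟨t, ht, rfl⟩ := D.exists_zz hw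
    rw [hm] at ht
    refine (fix4 h hm hf.1 hg.1 hk.1 hl.1 ht).trans (Iff.trans ?_ (fix4 h' hm hf.2 hg.2 hk.2 hl.2 ht).symm)
    rw [hΓ.faith f f0, hΓ.faith g g0, hΓ.faith k k0, hΓ.faith l l0]
  · obtain ⟨f, f0, g, g0, k, k0, l, l0, hf, hg, hk, hl, rfl⟩ := hΓ.dec γ hγ
    simpa [bp_zero h] using (fix4 h hm hf.1 hg.1 hk.1 hl.1 (t := 0) (by simp)).2 (by simp)

end Bld

end TB
end H20
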