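import Mathlib
import Cfsg.Agent.H20.TB9
import Cfsg.Agent.H20.TB12
import Cfsg.Agent.H20.THex

/-!
# Gluing isomorphisms of rank two residues along a tree
-/

set_option autoImplicit false
set_option linter.unusedSectionVars false
set_option linter.unusedVariables false

namespace H20
namespace TB

open H8 H8.GenSys CS

namespace Bld

variable {I W : Type*} [Group W] [Finite W] {D : CS I W} {C C' : Type*} {Δ : Bld D C} {Δ' : Bld D C'}
  {x z : C} {x' z' : C'}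

theorem eq_of_R {j k : I} (hjk : j ≠ k) {y v : C} (h1 : Δ.R {j} y v) (h2 : Δ.R {k} y v) : y = v := by
  rcases R_single.1 h1 with e | e
  · exact e
  · rw [R, e] at h2; exact absurd (D.mem_of_σ_mem h2) hjk

theorem R_ap (h : Δ.δ x z = D.w0) {J : Set I} {w : W} (hw : w ∈ D.WJ J) : Δ.R J x (Δ.ap x z w) := by
  rwa [R, ap_left h]

namespace RI

variable {J : Set I} {r : C → C' → Prop} (H : RI Δ Δ' J x z x' z' r)
include H

theorem base (h : Δ.δ x z = D.w0) (h' : Δ'.δ x' z' = D.w0) : r x x' := by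
  simpa [ap_one h, ap_one h'] using H.ap 1 (one_mem _)

theorem func {y : C} {y' y'' : C'} (h1 : r y y') (h2 : r y y'') : y' = y'' := by
  rw [← Δ'.eq_one, ← H.iso h1 h2, δ_self]

theorem inj {y v : C} {y' : C'} (h1 : r y y') (h2 : r v y') : y = v := by
  rw [← Δ.eq_one, H.iso h1 h2, δ_self]

theorem R_iff {K : Set I} {y v : C} {y' v' : C'} (h1 : r y y') (h2 : r v v') : Δ.R K y v ↔ Δ'.R K y' v' := by
  rw [R, R, H.iso h1 h2]

theorem flip (h : Δ.δ x z = D.w0) (h' : Δ'.δ x' z' = D.w0) : RI Δ' Δ J x' z' x z fun y' y => r y y' :=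
  ⟨H.tot', H.tot, fun h1 => (H.R_iff (H.base h h') h1).1 (H.dom h1), fun h1 h2 => (H.iso h1 h2).symm, H.ap⟩

theorem shift (h : Δ.δ x z = D.w0) (h' : Δ'.δ x' z' = D.w0) {w : W} (hw : w ∈ D.WJ J) :
    RI Δ Δ' J (Δ.ap x z w) (Δ.ap x z (w * D.w0)) (Δ'.ap x' z' w) (Δ'.ap x' z' (w * D.w0)) r :=
  ⟨fun hy => H.tot ((R_ap h hw).trans hy), fun hy => H.tot' ((R_ap h' hw).trans hy),
    fun h1 => (R_ap h hw).symm.trans (H.dom h1), H.iso,
    fun v hv => by rw [ap_ap' h, ap_ap' h']; exact H.ap _ (mul_mem hw hv)⟩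

theorem res (h : Δ.δ x z = D.w0) (h' : Δ'.δ x' z' = D.w0) {K : Set I} (hK : K ⊆ J) :
    RI Δ Δ' K x z x' z' fun y y' => Δ.R K x y ∧ r y y' :=
  ⟨fun hy => (H.tot (hy.mono hK)).imp fun _ h1 => ⟨hy, h1⟩,
    fun hy => (H.tot' (hy.mono hK)).imp fun _ h1 => ⟨(H.R_iff (H.base h h') h1).2 hy, h1⟩,
    fun h1 => h1.1, fun h1 h2 => H.iso h1.2 h2.2, fun w hw => ⟨R_ap h hw, H.ap w (D.WJ_mono hK hw)⟩⟩

theorem toIso {K : Set I} (hK : K ⊆ J) : Iso Δ Δ' K x r := ⟨fun y hy => H.tot (hy.mono hK), fun _ _ => H.iso⟩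

theorem mid {u v y : C} {u' v' y' : C'} (hu : r u u') (hv : r v v') (hy : Δ.R J x y)
    (hl : D.len (Δ.δ u y * Δ.δ y v) = D.len (Δ.δ u y) + D.len (Δ.δ y v)) (h1 : Δ'.δ u' y' = Δ.δ u y)
    (h2 : Δ'.δ y' v' = Δ.δ y v) : r y y' := by
  obtain ⟨y'', h3⟩ := H.tot hy
  rwa [mid_unique hl h1 h2 (H.iso hu h3).symm (H.iso h3 hv).symm]

end RI

theorem RG_x [Nontrivial I] (h : Δ.δ x z = D.w0) {i : I} {g : Equiv.Perm C} (hg : g ∈ Δ.RG x z i) : g x = x := by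
  simpa [ap_one h] using RG_fix hg (D.pos_one i)

/-- root elations are matched by isomorphisms of rank two residues -/
theorem RI.matching (h : Δ.δ x z = D.w0) (h' : Δ'.δ x' z' = D.w0) {j c : I} (h3 : 3 ≤ orderOf (D.σ j * D.σ c))
    {s : C → C' → Prop} (H : RI Δ Δ' {j, c} x z x' z' s) {a : Equiv.Perm C} {a' : Equiv.Perm C'}
    (ha : a ∈ Δ.RG x z j) (ha' : a' ∈ Δ'.RG x' z' j) (e : s (a (Δ.ap x z (D.σ j))) (a' (Δ'.ap x' z' (D.σ j))))
    {y : C} {y' : C'} (hy : s y y') : s (a y) (a' y') := by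
  have := nontrivial_of h3
  have hjc : j ≠ c := fun e => by rw [e, D.sq, orderOf_one] at h3; omega
  have mj : D.σ j ∈ D.WJ {j, c} := D.σ_mem (by simp)
  have mc : D.σ c ∈ D.WJ {j, c} := D.σ_mem (by simp)
  have mw := D.wJ_mem {j, c}
  have p2 : D.Pos j (D.σ c) := by rw [CS.Pos, D.len_two hjc, D.lenσ]; omega
  have p3 : D.Pos j (D.σ c * D.σ j) := by
    rw [CS.Pos, ← mul_assoc, D.len_three h3, D.len_two hjc.symm]; omega
  have p4 : D.Pos j (D.σ j * D.wJ {j, c}) := by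
    have := D.len_mul_wJ mj
    rw [CS.Pos, D.σ_σ_mul]; rw [D.lenσ] at this; omega
  have st : ∀ {y}, Δ.R {j, c} x y → Δ.R {j, c} x (a y) := fun hy => by
    have := (Aut.R ha.1).2 hy
    rwa [RG_x h ha] at this
  have S := H.shift h h' mc
  refine rigid (J := {j, c}) (x := Δ.ap x z (D.σ c)) (r := s) (s := fun y y' => s (a y) (a' y')) (S.toIso le_rfl)
    ⟨fun y hy => ?_, fun _ _ h1 h2 => by rw [← ha.1, H.iso h1 h2, ha'.1]⟩ (fun l hl y y' hy h1 => ?_)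
    (fun y' h1 => ?_) (o := Δ.ap x z (D.σ c * D.wJ {j, c})) (o' := Δ'.ap x' z' (D.σ c * D.wJ {j, c}))
    (by rw [ap_ap h]; simp) (H.ap _ (mul_mem mc mw)) ?_ (S.dom hy) hy
  · obtain ⟨v, hv⟩ := H.tot (st ((R_ap h mc).trans hy))
    exact ⟨a'⁻¹ v, by simpa using hv⟩
  · have p : D.Pos j (D.σ c * D.σ l) := by
      rcases hl with rfl | rfl
      exacts [p3, by simpa [D.sq] using D.pos_one j]
    rw [ha.2 _ l p2 p y hy, ha'.2 _ l p2 p y' ((H.R_iff (H.ap _ mc) h1).1 hy)]; exact h1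
  · rw [H.func h1 (H.ap _ mc), RG_fix ha p2, RG_fix ha' p2]; exact H.ap _ mc
  · have e2 := H.ap _ (mul_mem mj mw)
    rw [← RG_fix ha p4, ← RG_fix ha' p4] at e2
    refine H.mid e e2 (st (R_ap h (mul_mem mc mw))) ?_ (by rw [ha.1, ha'.1, ap_ap h, ap_ap h'])
      (by rw [ha.1, ha'.1, ap_ap h, ap_ap h'])
    have a1 := D.len_mul_wJ (mul_mem mj mc)
    have a2 := D.len_conj_wJ (mul_mem mc mj)
    rw [D.len_two hjc] at a1
    rw [D.len_two hjc.symm] at a2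
    simp only [ha.1 _ _, ap_ap h, mul_inv_rev, D.σ_inv, D.wJ_inv, mul_assoc, D.wJ_wJ_mul, D.σ_σ_mul] at a1 a2 ⊢
    omega

theorem mu_act (h : Δ.δ x z = D.w0) {i : I} [Nontrivial I] {g κ l : Equiv.Perm C} (hg : g ∈ Δ.RG x z i)
    (hκ : κ ∈ Δ.RG (Δ.ap x z (D.σ i)) (Δ.ap x z (D.σ i * D.w0)) i)
    (hl : l ∈ Δ.RG (Δ.ap x z (D.σ i)) (Δ.ap x z (D.σ i * D.w0)) i) (m1 : (κ * g * l) x = Δ.ap x z (D.σ i))
    (m2 : (κ * g * l) (Δ.ap x z (D.σ i)) = x) (u : W) : (κ * g * l) (Δ.ap x z u) = Δ.ap x z (D.σ i * u) := by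
  set y := Δ.ap x z (D.σ i) with hy
  set v := Δ.ap x z (D.σ i * D.w0) with hv
  have p1 : D.Pos i (D.σ i * D.w0) := by rw [D.pos_mul_w0]; simpa using (D.pos_σ_mul i 1).not.2 (by simp [D.pos_one])
  have gz : ∀ {g}, g ∈ Δ.RG y v i → g z = z := fun hg => by
    have := RG_fix hg p1
    rwa [hy, hv, ap_ap' h, D.σ_σ_mul, ap_w0 h] at this
  have hm : κ * g * l ∈ Δ.Aut := mul_mem (mul_mem hκ.1 hg.1) hl.1
  have dz : Δ.δ v z = D.σ (D.bar i) := by
    rw [hv, ap_right h, D.σ_bar]; simp [D.σ_inv, D.wJ_inv]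
  have hb := Set.mem_singleton (D.bar i)
  have r : Δ.R {D.bar i} v ((κ * g * l) z) := by
    have r1 : Δ.R {D.bar i} v (g z) := by
      have := (Aut.R hg.1).2 (R.of_σ dz hb)
      rwa [hv, RG_fix hg p1] at this
    have r2 := (Aut.R hκ.1).2 ((R.of_σ dz hb).symm.trans r1)
    rw [gz hκ] at r2
    simpa [gz hl] using (R.of_σ dz hb).trans r2
  have e3 : D.σ i * D.w0 = D.op {D.bar i} := by rw [D.op_single, D.σ_w0]
  have m3 : (κ * g * l) z = v := by
    refine (op_uniqueR (p := x) (by rw [hv, ap_left h, e3]) ?_ r).symm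
    rw [← m2, hm, hy, ap_right h, D.σ_inv, e3]
  rw [Aut.ap hm h, m1, m3, hy, hv, ap_ap' h]

theorem Mu_zero (h : Δ.δ x z = D.w0) {a b : I} {m : ℕ} (hm : orderOf (D.σ a * D.σ b) = m) (h3 : 3 ≤ m)
    {g κ l : Equiv.Perm C} (hg : g ∈ Δ.Aut) (hκ : κ ∈ Δ.RG (Δ.ap x z (D.σ a)) (Δ.ap x z (D.σ a * D.w0)) a)
    (hl : l ∈ Δ.RG (Δ.ap x z (D.σ a)) (Δ.ap x z (D.σ a * D.w0)) a)
    (hn : ∀ u, (κ * g * l) (Δ.ap x z u) = Δ.ap x z (D.σ a * u)) : Mu m (Δ.UP x z a b) 0 g (κ * g * l) :=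
  Mu_of h hm h3 hg (by simpa [τ] using hκ) (by simpa [τ] using hl) (by simpa [τ] using hn)

/-- pairs of permutations intertwined by a relation -/
def Tw (β : C → C' → Prop) : Subgroup (Equiv.Perm C × Equiv.Perm C') where
  carrier := {γ | ∀ y y', β y y' ↔ β (γ.1 y) (γ.2 y')}
  mul_mem' := fun {g k} hg hk y y' => (hk y y').trans (hg _ _)
  one_mem' := fun _ _ => Iff.rfl
  inv_mem' := fun {g} hg y y' => by simpa using (hg (g.1⁻¹ y) (g.2⁻¹ y')).symm

theorem RI.exists_match (h : Δ.δ x z = D.w0) (h' : Δ'.δ x' z' = D.w0) (hM' : Δ'.Mou) {j c : I}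
    (h3 : 3 ≤ orderOf (D.σ j * D.σ c)) {s : C → C' → Prop} (H : RI Δ Δ' {j, c} x z x' z' s) {a : Equiv.Perm C}
    (ha : a ∈ Δ.RG x z j) : ∃ a' ∈ Δ'.RG x' z' j, ∀ y y', s y y' ↔ s (a y) (a' y') := by
  have := nontrivial_of h3
  have d : Δ.δ x (a (Δ.ap x z (D.σ j))) = D.σ j := by nth_rw 1 [← RG_x h ha]; rw [ha.1, ap_left h]
  obtain ⟨v, hv⟩ := H.tot (R.of_σ d (by simp))
  obtain ⟨a', ha', rfl⟩ := hM' x' z' h' j _ v (ap_left h' _) (by rw [← H.iso (H.base h h') hv, d])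
  refine ⟨a', ha', fun y y' => ⟨H.matching h h' h3 ha ha' hv, fun h1 => ?_⟩⟩
  have d2 : Δ.δ x (a⁻¹ (Δ.ap x z (D.σ j))) = D.σ j := by
    nth_rw 1 [← RG_x h (inv_mem ha)]; rw [(inv_mem ha).1, ap_left h]
  obtain ⟨u, hu⟩ := H.tot (R.of_σ d2 (by simp))
  have e : a' u = Δ'.ap x' z' (D.σ j) := H.func (by simpa using H.matching h h' h3 ha ha' hv hu) (H.ap _ (D.σ_mem (by simp)))
  simpa using H.matching h h' h3 (inv_mem ha) (inv_mem ha') (by rw [← e]; simpa using hu) h1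

/-- extension of an isomorphism along an edge with label `3` -/
theorem RI.step [Finite C] [Finite C'] (h : Δ.δ x z = D.w0) (h' : Δ'.δ x' z' = D.w0) (hM : Δ.Mou) (hM' : Δ'.Mou)
    {j c k : I} (h3 : 3 ≤ orderOf (D.σ j * D.σ c)) (hk : orderOf (D.σ j * D.σ k) = 3) {s : C → C' → Prop}
    (H : RI Δ Δ' {j, c} x z x' z' s) :
    ∃ t, RI Δ Δ' {j, k} x z x' z' t ∧ ∀ y y', Δ.R {j} x y → s y y' → t y y' := by
  have := nontrivial_of h3
  have mj : D.σ j ∈ D.WJ {j, c} := D.σ_mem (by simp)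
  have b := H.base h h'
  have b1 := H.ap _ mj
  have S := H.shift h h' mj
  obtain ⟨Γ, hΓ, e⟩ := Hex.ext (hex (m := 0) h hM hk) (hex (m := 0) h' hM' hk) (Tw s) (fun a ha => by
      simp only [hex, UP_zero h, UP_zero h'] at ha ⊢
      exact H.exists_match h h' hM' h3 ha)
    (fun a ha => by
      simp only [hex, UP_zero h, UP_zero h'] at ha ⊢
      exact ((H.flip h h').exists_match h' h hM h3 ha).imp fun _ e => ⟨e.1, fun y y' => e.2 y' y⟩)
    (fun a ha a' ha' e => by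
      simp only [hex, UP_zero h, UP_zero h'] at ha ha'
      have := (e _ _).1 b1
      exact ⟨fun h1 => RG_free h' h3 ha' (ap_left h' _) (H.func (by simpa [h1] using this) b1),
        fun h1 => RG_free h h3 ha (ap_left h _) (H.inj (by simpa [h1] using this) b1)⟩)
    (fun a ha a' ha' e h1 => by
      simp only [hex, UP_zero h, UP_zero h'] at ha ha'
      obtain ⟨κ, hκ, l, hl, hn⟩ := exists_mu hM h h3 ha h1
      obtain ⟨κ', hκ', e1⟩ := S.exists_match (ap_opp h _) (ap_opp h' _) hM' h3 hκ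
      obtain ⟨l', hl', e2⟩ := S.exists_match (ap_opp h _) (ap_opp h' _) hM' h3 hl
      have e3 : (κ * a * l, κ' * a' * l') ∈ Tw s :=
        mul_mem (mul_mem (show (κ, κ') ∈ Tw s from e1) e) (show (l, l') ∈ Tw s from e2)
      have n1 := hn 1
      have n2 := hn (D.σ j)
      rw [ap_one h, mul_one] at n1
      rw [D.sq, ap_one h] at n2
      refine ⟨_, _, Mu_zero h hk le_rfl ha.1 hκ hl hn, Mu_zero h' hk le_rfl ha'.1 hκ' hl'
        (mu_act h' ha' hκ' hl' (H.func ?_ b1) (H.func ?_ b)), e3⟩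
      · rw [← n1]; exact (e3 _ _).1 b
      · rw [← n2]; exact (e3 _ _).1 b1)
  have T := riso3 h h' hk hM hM' hΓ
  refine ⟨_, T, fun y y' hy h1 => ?_⟩
  rcases R_single.1 hy with rfl | hy
  · rw [H.func h1 b]; exact T.base h h'
  obtain ⟨a, ha, rfl⟩ := hM x z h j _ y (ap_left h _) hy
  obtain ⟨a', ha', e1⟩ := H.exists_match h h' hM' h3 ha
  exact ⟨(a, a'), e a (by simpa only [hex, UP_zero h] using ha) a' (by simpa only [hex, UP_zero h'] using ha') e1,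
    D.σ j, D.σ_mem (by simp), rfl, H.func h1 ((e1 _ _).1 b1)⟩

theorem digon {j k : I} (h2 : orderOf (D.σ j * D.σ k) = 2) {y v : C} (hy : Δ.R {j, k} y v) :
    ∃ p, Δ.R {j} y p ∧ Δ.R {k} p v := by
  have c : D.σ k * D.σ j = D.σ j * D.σ k := by
    have := D.alt_braid j k; rw [h2] at this; simpa [alt] using this.symm
  obtain ⟨n, hn, e⟩ := D.mem_pair hy
  rw [h2] at hn
  have key : ∀ u ∈ D.WJ {j}, ∀ w ∈ D.WJ {k}, Δ.δ y v = u * w → ∃ p, Δ.R {j} y p ∧ Δ.R {k} p v := by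
    intro u hu w hw e
    obtain ⟨p, h1, h3⟩ := exists_mid e
    exact ⟨p, by rwa [R, h1], by rwa [R, h3]⟩
  have mj : D.σ j ∈ D.WJ {j} := D.σ_mem rfl
  have mk : D.σ k ∈ D.WJ {k} := D.σ_mem rfl
  interval_cases n <;> rcases e with e | e
  exacts [key 1 (one_mem _) 1 (one_mem _) (by simpa [alt] using e), key 1 (one_mem _) 1 (one_mem _) (by simpa [alt] using e),
    key _ mj 1 (one_mem _) (by simpa [alt] using e), key 1 (one_mem _) _ mk (by simpa [alt] using e),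
    key _ mj _ mk (by simpa [alt] using e), key _ mj _ mk (by simpa [alt, c] using e)]

/-- the product of two panel bijections -/
theorem RI.prod (h : Δ.δ x z = D.w0) (h' : Δ'.δ x' z' = D.w0) {j k : I} (h2 : orderOf (D.σ j * D.σ k) = 2)
    {s t : C → C' → Prop} (S : RI Δ Δ' {j} x z x' z' s) (T : RI Δ Δ' {k} x z x' z' t) :
    ∃ r, RI Δ Δ' {j, k} x z x' z' r ∧ (∀ y y', s y y' → r y y') ∧ ∀ y y', t y y' → r y y' := by
  have hjk : j ≠ k := fun e => by rw [e, D.sq, orderOf_one] at h2; omega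
  have h2' : orderOf (D.σ k * D.σ j) = 2 := D.order_symm j k ▸ h2
  have sj : ({j} : Set I) ⊆ {j, k} := by simp
  have sk : ({k} : Set I) ⊆ {j, k} := by simp
  have S' := S.flip h h'
  have T' := T.flip h h'
  let r : C → C' → Prop := fun y y' => ∃ p p' q q', s p p' ∧ t q q' ∧ Δ.R {k} p y ∧ Δ'.R {k} p' y' ∧
    Δ.R {j} q y ∧ Δ'.R {j} q' y'
  have tot : ∀ {y}, Δ.R {j, k} x y → ∃ y', r y y' := fun {y} hy => by
    obtain ⟨p, p1, p2⟩ := digon h2 hy
    obtain ⟨q, q1, q2⟩ := digon h2' (Set.pair_comm j k ▸ hy)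
    obtain ⟨p', p3⟩ := S.tot p1
    obtain ⟨q', q3⟩ := T.tot q1
    obtain ⟨y', y1, y2⟩ := digon h2 (((T'.dom q3).mono sk).symm.trans ((S'.dom p3).mono sj))
    exact ⟨y', p, p', q, q', p3, q3, p2, y2.symm, q2, y1⟩
  have dom : ∀ {y y'}, r y y' → Δ.R {j, k} x y := by
    rintro _ _ ⟨p, p', q, q', a1, -, a3, -⟩
    exact ((S.dom a1).mono sj).trans (a3.mono sk)
  have c : D.σ k * D.σ j = D.σ j * D.σ k := by
    have := D.alt_braid j k; rw [h2] at this; simpa [alt] using this.symm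
  refine ⟨r, ⟨tot, fun {y'} hy => ?_, dom, fun h1 h3 => δ_map (J := {j, k}) (x := x) r (fun y hy => tot hy) ?_ ?_
    (dom h1) (dom h3) h1 h3, fun w hw => ?_⟩, fun y y' h1 => ⟨y, y', x, x', h1, T.base h h', R.refl _ _ _,
      R.refl _ _ _, S.dom h1, S'.dom h1⟩, fun y y' h1 => ⟨x, x', y, y', S.base h h', h1, T.dom h1, T'.dom h1,
      R.refl _ _ _, R.refl _ _ _⟩⟩
  · obtain ⟨p', p1, p2⟩ := digon h2 hy
    obtain ⟨q', q1, q2⟩ := digon h2' (Set.pair_comm j k ▸ hy)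
    obtain ⟨p, p3⟩ := S.tot' p1
    obtain ⟨q, q3⟩ := T.tot' q1
    obtain ⟨y, y1, y2⟩ := digon h2 (((T.dom q3).mono sk).symm.trans ((S.dom p3).mono sj))
    exact ⟨y, p, p', q, q', p3, q3, y2.symm, p2, y1, q2⟩
  · rintro y - y' y'' ⟨p, p', q, q', a1, a2, a3, a4, a5, a6⟩ ⟨u, u', v, v', b1, b2, b3, b4, b5, b6⟩
    obtain rfl := eq_of_R hjk ((S.dom a1).symm.trans (S.dom b1)) (a3.trans b3.symm)
    obtain rfl := eq_of_R hjk (a5.trans b5.symm) ((T.dom a2).symm.trans (T.dom b2))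
    obtain rfl := S.func a1 b1
    obtain rfl := T.func a2 b2
    exact eq_of_R hjk (a6.symm.trans b6) (a4.symm.trans b4)
  · rintro y w y' w' i - hi ⟨p, p', q, q', a1, a2, a3, a4, a5, a6⟩ ⟨u, u', v, v', b1, b2, b3, b4, b5, b6⟩ e
    have e1 := R.of_σ e (Set.mem_singleton i)
    rcases hi with rfl | rfl
    · obtain rfl := eq_of_R hjk (a5.trans (e1.trans b5.symm)) ((T.dom a2).symm.trans (T.dom b2))
      obtain rfl := T.func a2 b2
      refine (R_single.1 (a6.symm.trans b6)).resolve_left ?_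
      rintro rfl
      obtain rfl := eq_of_R hjk ((S'.dom a1).symm.trans (S'.dom b1)) (a4.trans b4.symm)
      obtain rfl := S.inj a1 b1
      exact ne_of_σ e (eq_of_R hjk e1 (a3.symm.trans b3))
    · obtain rfl := eq_of_R hjk ((S.dom a1).symm.trans (S.dom b1)) (a3.trans (e1.trans b3.symm))
      obtain rfl := S.func a1 b1
      refine (R_single.1 (a4.symm.trans b4)).resolve_left ?_
      rintro rfl
      obtain rfl := eq_of_R hjk (a6.trans b6.symm) ((T'.dom a2).symm.trans (T'.dom b2))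
      obtain rfl := T.inj a2 b2
      exact ne_of_σ e (eq_of_R hjk (a5.symm.trans b5) e1)
  · obtain ⟨p, p1, p2⟩ := digon h2 (R_ap h hw)
    have key : ∀ u ∈ D.WJ {j}, ∀ v ∈ D.WJ {k}, u * v = v * u → r (Δ.ap x z (u * v)) (Δ'.ap x' z' (u * v)) :=
      fun u hu v hv e => ⟨_, _, _, _, S.ap u hu, T.ap v hv, by rw [R, ap_ap h]; simpa, by rw [R, ap_ap h']; simpa,
        by rw [R, ap_ap h, e]; simpa, by rw [R, ap_ap h', e]; simpa⟩
    obtain ⟨v, hv, e⟩ := δ_mem x p2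
    rw [ap_left h] at e
    rw [e]
    refine key _ p1 v hv ?_
    rcases D.mem_single.1 p1 with e1 | e1 <;> rcases D.mem_single.1 hv with e2 | e2 <;> simp [e1, e2, c]

/-- compatible panel bijections extend to an isomorphism of buildings -/
theorem glue (hD : D.Le4) (h : Δ.δ x z = D.w0) (h' : Δ'.δ x' z' = D.w0) [Nonempty I] (β : I → C → C' → Prop)
    (hβ : ∀ j, RI Δ Δ' {j} x z x' z' (β j))
    (hr : ∀ j k, 3 ≤ orderOf (D.σ j * D.σ k) → ∃ r, RI Δ Δ' {j, k} x z x' z' r ∧ (∀ y y', β j y y' → r y y') ∧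
      ∀ y y', β k y y' → r y y') :
    ∃ φ : C ≃ C', (∀ y v, Δ'.δ (φ y) (φ v) = Δ.δ y v) ∧ φ x = x' ∧ φ z = z' := by
  have hr' : ∀ j k, ∃ r, RI Δ Δ' {j, k} x z x' z' r ∧ (∀ y y', β j y y' → r y y') ∧ ∀ y y', β k y y' → r y y' := by
    intro j k
    by_cases e : j = k
    · subst e; exact ⟨β j, by simpa using hβ j, fun _ _ => id, fun _ _ => id⟩
    rcases hD j k e with o | o
    exacts [RI.prod h h' o (hβ j) (hβ k), hr j k (by omega)]
  choose r h1 h2 h3 using hr'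
  have h4 : ∀ j k, ∀ c ∈ ({j, k} : Set I), ∀ y y', β c y y' → r j k y y' := by
    rintro j k c (rfl | rfl)
    exacts [h2 _ _, h3 _ _]
  have key : ∀ {a b j k y y'}, r a b y y' → Δ.R {j, k} x y → r j k y y' := fun {a b j k y y'} e hy =>
    rigid (J := {a, b} ∩ {j, k}) ((h1 a b).toIso Set.inter_subset_left) ((h1 j k).toIso Set.inter_subset_right)
      (fun c hc v v' hv e => by
        obtain ⟨v'', e'⟩ := (hβ c).tot hv
        rw [(h1 a b).func e (h4 a b c hc.1 _ _ e')]; exact h4 j k c hc.2 _ _ e')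
      (fun v' e => by rw [(h1 a b).func e ((h1 a b).base h h')]; exact (h1 j k).base h h')
      (ap_left h _) ((h1 a b).ap _ (D.WJ_mono Set.inter_subset_left (D.wJ_mem _)))
      ((h1 j k).ap _ (D.WJ_mono Set.inter_subset_right (D.wJ_mem _))) (((h1 a b).dom e).inter hy) e
  obtain ⟨i⟩ := ‹Nonempty I›
  have st : IsSt Δ Δ' x z x' z' fun y y' => ∃ j k, r j k y y' :=
    { opp := h
      base := ⟨i, i, (h1 i i).base h h'⟩
      dom := by rintro y y' ⟨j, k, e⟩; exact ⟨_, Sm.pair j k, (h1 j k).dom e⟩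
      tot := by rintro J ⟨j, k, hJ⟩ y hy; exact ((h1 j k).tot (hy.mono hJ)).imp fun _ e => ⟨j, k, e⟩
      tot' := by rintro J ⟨j, k, hJ⟩ y hy; exact ((h1 j k).tot' (hy.mono hJ)).imp fun _ e => ⟨j, k, e⟩
      iso := by
        rintro J ⟨j, k, hJ⟩ y v y' v' hy hv ⟨a, b, e⟩ ⟨c, d, e'⟩
        exact (h1 j k).iso (key e (hy.mono hJ)) (key e' (hv.mono hJ))
      dist := by
        rintro y y' ⟨j, k, e⟩
        have o := (h1 j k).ap _ (D.wJ_mem {j, k})
        have e1 : (D.wJ {j, k})⁻¹ * D.w0 = D.op (D.barS {j, k}) := by simp [D.op_eq, D.wJ_inv]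
        have r1 : Δ.R (D.barS (D.barS {j, k})) y (Δ.ap x z (D.wJ {j, k})) := by
          rw [D.barS_barS]; exact ((h1 j k).dom e).symm.trans ((h1 j k).dom o)
        rw [gateL ((ap_right h _).trans e1) r1, gateL ((ap_right h' _).trans e1) (((h1 j k).R_iff e o).1 r1),
          (h1 j k).iso e o] }
  obtain ⟨φ, a1, a2, a3⟩ := st.ext hD
  exact ⟨φ, a1, a2 _ _ st.base, a3⟩

end Bld

end TB
end H20
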