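import Mathlib
import Cfsg.Agent.H20.TB13
import Cfsg.Agent.H20.TOct

/-!
# The torus is solvable; the little projective group
-/

set_option autoImplicit false
set_option linter.unusedSectionVars false
set_option linter.unusedVariables false

namespace H20
namespace TB

open H8 H8.GenSys CS
open scoped commutatorElement

theorem ds_succ_le {G : Type*} [Group G] (T : Subgroup G) (n : ℕ) : ds T (n + 1) ≤ ds T n :=
  Subgroup.commutator_le.2 fun a ha b hb => mul_mem (mul_mem (mul_mem ha hb) (inv_mem ha)) (inv_mem hb)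

theorem ds_anti {G : Type*} [Group G] (T : Subgroup G) : Antitone (ds T) := antitone_nat_of_succ_le (ds_succ_le T)

theorem ds_ds {G : Type*} [Group G] (T : Subgroup G) (m n : ℕ) : ds (ds T m) n = ds T (m + n) := by
  induction n with
  | zero => rfl
  | succ n ih => rw [ds, ih]; rfl

theorem exists_conj_le {L : Type*} [Group L] [Finite L] (G T Q : Subgroup L) {p : ℕ} (hp : p.Prime)
    (hQ : IsPGroup p Q) (hT : ∀ t ∈ T, t ^ p = 1 → t = 1) (hGT : ∀ g, ∃ t ∈ T, t⁻¹ * g ∈ G) :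
    ∃ b, ∀ q ∈ Q, b⁻¹ * q * b ∈ G := by
  have := Fact.mk hp
  have h1 : MulAction.orbit T ((1 : L) : L ⧸ G) = Set.univ := Set.eq_univ_of_forall fun c => by
    obtain ⟨g, rfl⟩ := QuotientGroup.mk_surjective c
    obtain ⟨t, ht, e⟩ := hGT g
    exact ⟨⟨t, ht⟩, QuotientGroup.eq.2 (by simpa using e)⟩
  have h2 : Nat.card (L ⧸ G) ∣ Nat.card T := by
    rw [← Set.ncard_univ, ← h1, ← MulAction.index_stabilizer]; exact Subgroup.index_dvd_card _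
  obtain ⟨c, hc⟩ := hQ.nonempty_fixed_point_of_prime_not_dvd_card (L ⧸ G) fun h => by
    obtain ⟨t, ht⟩ := exists_prime_orderOf_dvd_card' p (h.trans h2)
    have := hT t t.2 (by rw [← ht]; exact_mod_cast congrArg Subtype.val (pow_orderOf_eq_one t))
    rw [show t = 1 from Subtype.ext this, orderOf_one] at ht
    exact hp.one_lt.ne ht
  obtain ⟨b, rfl⟩ := QuotientGroup.mk_surjective c
  refine ⟨b, fun q hq => ?_⟩
  simpa [mul_assoc] using QuotientGroup.eq.1 (hc ⟨q, hq⟩).symm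

theorem ai {C : Type*} (g : Equiv.Perm C) (y : C) : g (g⁻¹ y) = y := by simp

namespace Bld

universe u

variable {I W : Type*} [Group W] [Finite W] {D : CS I W} {C : Type u} {Δ : Bld D C} {x z : C}

theorem UP_neg (h : Δ.δ x z = D.w0) {a b : I} {m : ℕ} (hm : orderOf (D.σ a * D.σ b) = m) :
    Δ.UP x z a b (-1 + 2 * m) = Δ.RG (Δ.ap x z (D.σ b)) (Δ.ap x z (D.σ b * D.w0)) b := by
  have : D.zz a b (-1) = D.σ b := by simpa [alt] using D.zz_neg (a := a) (b := b) 1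
  rw [UP_per h hm, UP, this]; rfl

theorem RG_orth (h : Δ.δ x z = D.w0) {k l : I} (h2 : orderOf (D.σ k * D.σ l) = 2) :
    Δ.RG (Δ.ap x z (D.σ k)) (Δ.ap x z (D.σ k * D.w0)) l = Δ.RG x z l := by
  have hne : l ≠ k := fun e => by rw [e, D.sq, orderOf_one] at h2; omega
  refine RG_eq h (by rw [CS.Pos, D.len_two hne, D.lenσ]; omega) ?_
  have := D.alt_braid k l; rw [h2] at this; simpa [alt] using this.symm

theorem comm_orth (h : Δ.δ x z = D.w0) {k l : I} (h2 : orderOf (D.σ k * D.σ l) = 2) {f g : Equiv.Perm C}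
    (hf : f ∈ Δ.RG x z k ∨ f ∈ Δ.RG (Δ.ap x z (D.σ k)) (Δ.ap x z (D.σ k * D.w0)) k)
    (hg : g ∈ Δ.RG x z l ∨ g ∈ Δ.RG (Δ.ap x z (D.σ l)) (Δ.ap x z (D.σ l * D.w0)) l) : Commute f g := by
  have h2' : orderOf (D.σ l * D.σ k) = 2 := D.order_symm k l ▸ h2
  have c : D.σ l * D.σ k = D.σ k * D.σ l := by
    have := D.alt_braid k l; rw [h2] at this; simpa [alt] using this.symm
  rcases hf with hf | hf <;> rcases hg with hg | hg
  · exact RG_comm h h2 hf hg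
  · exact RG_comm (ap_opp h _) h2 (by rwa [RG_orth h h2']) hg
  · exact RG_comm (ap_opp h _) h2 hf (by rwa [RG_orth h h2])
  · rw [← RG_orth (ap_opp h _) h2', ap_ap' h, ap_ap' h, ← mul_assoc] at hf
    rw [← RG_orth (ap_opp h _) h2, ap_ap' h, ap_ap' h, ← mul_assoc, c] at hg
    exact RG_comm (ap_opp h _) h2 hf hg

variable (Δ) in
/-- the pointwise stabiliser of an apartment -/
def Tor (x z : C) : Subgroup (Equiv.Perm C) := Δ.Aut ⊓ (MulAction.stabilizer _ x ⊓ MulAction.stabilizer _ z)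

theorem Tor.UP (h : Δ.δ x z = D.w0) {t : Equiv.Perm C} (ht : t ∈ Δ.Tor x z) (a b : I) (j : ℤ) (g : Equiv.Perm C) :
    g ∈ Δ.UP x z a b j ↔ t * g * t⁻¹ ∈ Δ.UP x z a b j := by
  rw [Bld.UP, RG_conj_iff ht.1 (ap_opp h _), Aut.fix_ap ht.1 h ht.2.1 ht.2.2, Aut.fix_ap ht.1 h ht.2.1 ht.2.2]

theorem UP_mu' (h : Δ.δ x z = D.w0) {a b : I} {m : ℕ} (hm : orderOf (D.σ a * D.σ b) = m) (h3 : 3 ≤ m) (hM : Δ.Mou)
    (t : ℤ) {g : Equiv.Perm C} (hg : g ∈ Δ.UP x z a b t) (h1 : g ≠ 1) :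
    ∃ n ∈ Δ.Aut, Mu m (Δ.UP x z a b) t g n ∧
      ∀ u, n (Δ.ap x z u) = Δ.ap x z (D.zz a b t * D.σ (τ a b t) * (D.zz a b t)⁻¹ * u) := by
  obtain ⟨κ, hκ, l, hl, hn⟩ := exists_mu hM (ap_opp h _) (j := τ a b (t + 1)) (by rw [D.order_τ, hm]; exact h3) hg h1
  simp only [ap_ap' h, ← mul_assoc] at hκ hl hn
  have := fun u => hn ((D.zz a b t)⁻¹ * u)
  simp only [← mul_assoc, mul_inv_cancel, one_mul] at this
  exact ⟨_, mul_mem (mul_mem hκ.1 hg.1) hl.1, Mu_of h hm h3 hg.1 hκ hl this, this⟩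

variable [Finite C]

theorem hex_U2 (h : Δ.δ x z = D.w0) (hM : Δ.Mou) {j k : I} (hk : orderOf (D.σ j * D.σ k) = 3) :
    (hex (m := 0) h hM hk).U 2 = Δ.RG x z k := UP_top h hk le_rfl

theorem oct_U0 (h : Δ.δ x z = D.w0) (hM : Δ.Mou) {j k : I} (hk : orderOf (D.σ j * D.σ k) = 4) :
    (oct (m := 0) h hM hk).U 0 = Δ.RG x z j := UP_zero h

theorem oct_U3 (h : Δ.δ x z = D.w0) (hM : Δ.Mou) {j k : I} (hk : orderOf (D.σ j * D.σ k) = 4) :
    (oct (m := 0) h hM hk).U 3 = Δ.RG x z k := UP_top h hk (by omega)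

theorem oct_U7 (h : Δ.δ x z = D.w0) (hM : Δ.Mou) {j k : I} (hk : orderOf (D.σ j * D.σ k) = 4) :
    (oct (m := 0) h hM hk).U 7 = Δ.RG (Δ.ap x z (D.σ k)) (Δ.ap x z (D.σ k * D.w0)) k := UP_neg h hk

/-- the quadrangle of a residue of type `C₃` -/
noncomputable def c3 (h : Δ.δ x z = D.w0) (hM : Δ.Mou) {j k l : I} (hk : orderOf (D.σ j * D.σ k) = 3)
    (hl : orderOf (D.σ j * D.σ l) = 4) (hkl : orderOf (D.σ k * D.σ l) = 2) {K : Type*} [Field K]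
    (P : (hex (m := 0) h hM hk).Par K) : (oct (m := 0) h hM hl).C3 K where
  x := P.x0
  add := P.add0
  inj := P.inj0
  mem g := by rw [← P.mem0]; simp only [hex, oct, UP_zero h]
  tor s hs := by
    obtain ⟨a, ha, e, he, a1, e1, H⟩ := P.tor s hs
    obtain ⟨m, m0, m1, m2⟩ := UP_mu' h hk le_rfl hM 2 ha a1
    obtain ⟨n, n0, n1, n2⟩ := UP_mu' h hk le_rfl hM 2 he e1
    have f : ∀ u, (m * n⁻¹) (Δ.ap x z u) = Δ.ap x z u := fun u => by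
      obtain ⟨u, rfl⟩ := Group.mulLeft_bijective (D.zz j k 2 * D.σ (τ j k 2) * (D.zz j k 2)⁻¹) |>.2 u
      nth_rw 1 [← n2]; simp [m2]
    have c : ∀ {a m g}, a ∈ Δ.UP x z j k 2 → Mu (3 : ℕ) (Δ.UP x z j k) 2 a m →
        (g ∈ Δ.RG x z l ∨ g ∈ Δ.RG (Δ.ap x z (D.σ l)) (Δ.ap x z (D.σ l * D.w0)) l) → Commute m g := by
      rintro a m g ha ⟨⟨κ, hκ, l', hl', rfl⟩, -⟩ hg
      exact ((comm_orth h hkl (Or.inr (UP_neg h hk ▸ hκ)) hg).mul_left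
        (comm_orth h hkl (Or.inl (UP_top h hk le_rfl ▸ ha)) hg)).mul_left
        (comm_orth h hkl (Or.inr (UP_neg h hk ▸ hl')) hg)
    refine ⟨m * n⁻¹, Tor.UP h ⟨Δ.Aut.mul_mem m0 (inv_mem n0), by simpa [ap_one h] using f 1, by simpa [ap_w0 h] using f D.w0⟩
      j l, fun g hg => ?_, fun g hg => ?_, H m n m1 n1⟩
    · have := Or.inl (b := g ∈ Δ.RG (Δ.ap x z (D.σ l)) (Δ.ap x z (D.σ l * D.w0)) l) (oct_U3 h hM hl ▸ hg)
      exact (c ha m1 this).mul_left (c he n1 this).inv_left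
    · have := Or.inr (a := g ∈ Δ.RG x z l) (oct_U7 h hM hl ▸ hg)
      exact (c ha m1 this).mul_left (c he n1 this).inv_left
  hua s hs := by
    have key : ∀ s ≠ 0, ∃ m, Mu 3 (hex (m := 0) h hM hk).U 0 (P.x0 s) m ∧
        Mu 4 (oct (m := 0) h hM hl).U 0 (P.x0 s) m := fun s hs => by
      have hg : P.x0 s ∈ Δ.RG x z j := UP_zero h ▸ (P.mem0 _).2 ⟨s, rfl⟩
      obtain ⟨κ, hκ, l, hl', hn⟩ := exists_mu hM h hk.ge hg fun e => hs (P.inj0 (by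
        rw [e]; exact Eq.symm (by simpa using (P.add0 0 0))))
      exact ⟨_, Mu_zero h hk le_rfl hg.1 hκ hl' hn, Mu_zero h hl (by omega) hg.1 hκ hl' hn⟩
    obtain ⟨m, m1, m2⟩ := key s hs
    obtain ⟨n, n1, n2⟩ := key 1 one_ne_zero
    exact ⟨m, n, m2, n2, P.hua s hs m1 n1⟩

theorem exists_par (h : Δ.δ x z = D.w0) (hM : Δ.Mou) {j k : I} (hk : orderOf (D.σ j * D.σ k) = 3) :
    ∃ (K : Type u) (_ : Field K) (_ : Finite K), Nonempty ((hex (m := 0) h hM hk).Par K) ∧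
      Nat.card (Δ.RG x z j) = Nat.card K ∧ Nat.card (Δ.RG x z k) = Nat.card K := by
  obtain ⟨⟨e, he⟩, h1⟩ := Subgroup.ne_bot_iff_exists_ne_one.1 ((hex (m := 0) h hM hk).ne 0)
  obtain ⟨K, _, _, P, -⟩ := Hex.exists_par _ he (by simpa using h1)
  refine ⟨K, _, ‹_›, ⟨P⟩, ?_, ?_⟩
  · rw [← UP_zero h (b := k), ← Nat.card_range_of_injective P.inj0]
    exact Nat.card_congr (Equiv.setCongr (Set.ext P.mem0))
  · rw [← UP_top h hk le_rfl, ← Nat.card_range_of_injective P.inj2]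
    exact Nat.card_congr (Equiv.setCongr (Set.ext P.mem2))

theorem tor_sol (hD : D.Nice) (h : Δ.δ x z = D.w0) : ∃ n, ds (Δ.Tor x z) n = ⊥ := by
  have hM := Δ.mou hD
  have : Finite I := Finite.of_injective _ D.inj
  have h3 : ∀ {j k}, orderOf (D.σ j * D.σ k) = 3 → ∀ t ∈ ds (Δ.Tor x z) 2, ∀ g ∈ Δ.RG x z k, t * g = g * t :=
    fun {j k} hk t ht g hg => (Hex.sol (hex (m := 0) h hM hk) _ (fun t ht => Tor.UP h ht j k) t ht).2 g
      (by rwa [hex_U2])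
  have key : ∀ i, ∃ n, ∀ t ∈ ds (Δ.Tor x z) n, ∀ g ∈ Δ.RG x z i, t * g = g * t := fun i => by
    obtain ⟨j, hj⟩ := hD.nb i
    by_cases o : orderOf (D.σ j * D.σ i) = 3
    · exact ⟨2, h3 o⟩
    have o4 : orderOf (D.σ j * D.σ i) = 4 := by have := hD.le j i; omega
    obtain ⟨l, ⟨c1, c2⟩ | ⟨c1, c2⟩⟩ := hD.c3 j i o4
    · obtain ⟨K, _, _, ⟨P⟩, -⟩ := exists_par h hM (D.order_symm l j ▸ c1)
      obtain ⟨n, hn⟩ := (c3 h hM _ o4 c2 P).sol (ds (Δ.Tor x z) 2)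
        (fun t ht => Tor.UP h (ds_anti _ (Nat.zero_le 2) ht) j i) fun t ht g hg => h3 c1 t ht g (oct_U0 h hM o4 ▸ hg)
      exact ⟨2 + n, fun t ht g hg => hn t (by rwa [ds_ds]) g (by rwa [oct_U3])⟩
    · exact ⟨2, h3 c1⟩
  choose n hn using key
  obtain ⟨N, hN⟩ := (Set.finite_range n).bddAbove
  refine ⟨N, eq_bot_iff.2 fun t ht => ?_⟩
  have h0 : t ∈ Δ.Tor x z := ds_anti _ (Nat.zero_le N) ht
  refine Aut.eq_one h0.1 h h0.2.1 (fun j y hy => ?_) h0.2.2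
  rcases R_single.1 hy with rfl | hy
  · exact h0.2.1
  obtain ⟨g, hg, rfl⟩ := hM x z h j _ y (ap_left h _) hy
  rw [← Equiv.Perm.mul_apply, hn j t (ds_anti _ (hN ⟨j, rfl⟩) ht) g hg, Equiv.Perm.mul_apply,
    Aut.fix_ap h0.1 h h0.2.1 h0.2.2]

variable (Δ) in
/-- the little projective group -/
def L0 : Subgroup (Equiv.Perm C) := ⨆ (x : C) (z : C) (_ : Δ.δ x z = D.w0) (i : I), Δ.RG x z i

omit [Finite C]

theorem RG_le_L0 (h : Δ.δ x z = D.w0) (i : I) : Δ.RG x z i ≤ Δ.L0 :=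
  le_iSup_of_le x (le_iSup_of_le z (le_iSup_of_le h (le_iSup_of_le i le_rfl)))

theorem L0_le {G : Subgroup (Equiv.Perm C)} (h : ∀ x z, Δ.δ x z = D.w0 → ∀ i, Δ.RG x z i ≤ G) : Δ.L0 ≤ G :=
  iSup_le fun x => iSup_le fun z => iSup_le fun h' => iSup_le (h x z h')

theorem L0_le_Aut : Δ.L0 ≤ Δ.Aut := L0_le fun _ _ _ _ _ hg => hg.1

theorem L0_conj {g f : Equiv.Perm C} (hg : g ∈ Δ.Aut) (hf : f ∈ Δ.L0) : g * f * g⁻¹ ∈ Δ.L0 :=
  L0_le (G := Δ.L0.comap (MulAut.conj g).toMonoidHom)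
    (fun x z h i f hf => RG_le_L0 (by rw [hg, h]) i (RG_conj hg h hf)) hf

variable (Δ) in
/-- strong transitivity -/
def ST (G : Subgroup (Equiv.Perm C)) : Prop :=
  ∀ x z x' z', Δ.δ x z = D.w0 → Δ.δ x' z' = D.w0 → ∃ g ∈ G, g x = x' ∧ g z = z'

theorem L0_ST [Nontrivial I] (hM : Δ.Mou) : Δ.ST Δ.L0 := by
  have h1 : ∀ x y, ∃ g ∈ Δ.L0, g x = y := fun x y => by
    refine R.ind (Δ := Δ) (x := x) (J := Set.univ) (P := fun y => ∃ g ∈ Δ.L0, g x = y) ⟨1, one_mem _, rfl⟩ ?_ (D.mem_univ _)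
    rintro _ v i - - hv - ⟨g, hg, rfl⟩
    obtain ⟨c, c1, c2⟩ := Δ.third hv
    obtain ⟨o, ho⟩ := Δ.exists_opp c
    obtain ⟨f, hf, rfl⟩ := hM c o ho i _ _ (σ_symm c1) (σ_symm c2)
    exact ⟨f * g, mul_mem (RG_le_L0 ho i hf) hg, rfl⟩
  have h2 : ∀ x z, Δ.δ x z = D.w0 → ∀ y, ∃ g ∈ Δ.L0, g x = x ∧ g (Δ.ap x z (Δ.δ x y)) = y := fun x z h y => by
    refine R.ind (Δ := Δ) (x := x) (J := Set.univ) (P := fun y => ∃ g ∈ Δ.L0, g x = x ∧ g (Δ.ap x z (Δ.δ x y)) = y)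
      ⟨1, one_mem _, rfl, by simp [ap_one h]⟩ ?_ (D.mem_univ _)
    rintro y v i - - hv hl ⟨g, hg, g1, g2⟩
    obtain ⟨f, hf, e⟩ := hM _ _ (ap_opp h (Δ.δ x y)) i _ (g⁻¹ v) (ap_σ h _ i)
      (by rw [← L0_le_Aut hg, g2]; simpa using hv)
    have := RG_fix hf (u := (Δ.δ x y)⁻¹) (by rwa [CS.Pos, ← D.len_rev, D.len_inv])
    rw [ap_ap' h, mul_inv_cancel, ap_one h] at this
    exact ⟨g * f, mul_mem hg (RG_le_L0 (ap_opp h _) i hf), by simp [this, g1], by simp [Δ.wd2' x y v i hv hl, e]⟩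
  intro x z x' z' h h'
  obtain ⟨g, hg, rfl⟩ := h1 x x'
  obtain ⟨f, hf, f1, f2⟩ := h2 x z h (g⁻¹ z')
  rw [← L0_le_Aut hg, ai, h', ap_w0 h] at f2
  exact ⟨g * f, mul_mem hg hf, by simp [f1], by simp [f2]⟩

/-- a perfect strongly transitive group is the little projective group -/
theorem eq_L0 [Finite C] (hD : D.Nice) (h : Δ.δ x z = D.w0) {p : ℕ} (hp : p.Prime)
    (hq : ∀ i, IsPGroup p (Δ.RG x z i)) (ht : ∀ t ∈ Δ.L0, t x = x → t z = z → t ^ p = 1 → t = 1)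
    {G : Subgroup (Equiv.Perm C)} (hG : G ≤ Δ.Aut) (hs : Δ.ST G) (hc : G ≤ ⁅G, G⁆) [Nonempty I] : G = Δ.L0 := by
  obtain ⟨i⟩ := ‹Nonempty I›
  obtain ⟨j, hj⟩ := hD.nb i
  have := nontrivial_of hj
  let E : Subgroup (Equiv.Perm C × Equiv.Perm C) :=
    { carrier := {γ | γ.1 ∈ Δ.Aut ∧ γ.1 * γ.2⁻¹ ∈ Δ.L0}
      mul_mem' := fun {a b} ha hb => ⟨mul_mem ha.1 hb.1, by
        simpa [mul_assoc] using mul_mem (L0_conj ha.1 hb.2) ha.2⟩
      one_mem' := ⟨one_mem _, by simp⟩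
      inv_mem' := fun {a} ha => ⟨inv_mem ha.1, by
        simpa [mul_assoc] using L0_conj (inv_mem ha.1) (inv_mem ha.2)⟩ }
  have key : ∀ n, G ≤ (E ⊓ (⊤ : Subgroup _).prod (ds (Δ.Tor x z) n)).map (MonoidHom.fst _ _) := fun n => by
    induction n with
    | zero =>
      intro g hg
      obtain ⟨f, hf, f1, f2⟩ := L0_ST (Δ.mou hD) x z (g x) (g z) h (by rw [hG hg, h])
      exact ⟨(g, f⁻¹ * g), ⟨⟨hG hg, by simpa using hf⟩, trivial, Δ.Aut.mul_mem (inv_mem (L0_le_Aut hf)) (hG hg),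
        by simp [← f1], by simp [← f2]⟩, rfl⟩
    | succ n ih =>
      refine hc.trans (Subgroup.commutator_le.2 fun a ha b hb => ?_)
      obtain ⟨a, a1, rfl⟩ := ih ha
      obtain ⟨b, b1, rfl⟩ := ih hb
      exact ⟨⁅a, b⁆, ⟨E.mul_mem (E.mul_mem (E.mul_mem a1.1 b1.1) (E.inv_mem a1.1)) (E.inv_mem b1.1), trivial,
        Subgroup.commutator_mem_commutator a1.2.2 b1.2.2⟩, rfl⟩
  have h1 : G ≤ Δ.L0 := fun g hg => by
    obtain ⟨n, hn⟩ := tor_sol hD h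
    obtain ⟨⟨g, t⟩, ⟨a1, -, a2⟩, rfl⟩ := key n hg
    rw [hn] at a2
    simpa [show t = 1 from a2] using a1.2
  refine le_antisymm h1 (L0_le fun x' z' h' i => ?_)
  obtain ⟨b, hb⟩ := exists_conj_le (G.subgroupOf Δ.L0) ((Δ.Tor x z).subgroupOf Δ.L0) ((Δ.RG x z i).subgroupOf Δ.L0) hp
    ((hq i).comap_subtype) (fun t h1 h2 => Subtype.ext (ht t t.2 h1.2.1 h1.2.2 (congrArg Subtype.val h2)))
    fun g => by
      have a := L0_le_Aut g.2
      obtain ⟨f, hf, f1, f2⟩ := hs (g.1⁻¹ x) (g.1⁻¹ z) x z (by rw [inv_mem a, h]) h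
      exact ⟨g * ⟨f, h1 hf⟩⁻¹, ⟨Δ.Aut.mul_mem a (inv_mem (hG hf)), by
        change g.1 (f⁻¹ x) = x; nth_rw 1 [← f1]; simp, by change g.1 (f⁻¹ z) = z; nth_rw 1 [← f2]; simp⟩,
        by simpa [Subgroup.mem_subgroupOf] using hf⟩
  have a := L0_le_Aut b.2
  obtain ⟨f, hf, f1, f2⟩ := hs x' z' (b.1⁻¹ x) (b.1⁻¹ z) h' (by rw [inv_mem a, h])
  intro g hg
  have h2 := RG_conj a (by rw [hG hf, h']) (RG_conj (hG hf) h' hg)
  rw [f1, f2, ai, ai] at h2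
  have h3 := hb ⟨_, RG_le_L0 h i h2⟩ h2
  simpa [mul_assoc] using mul_mem (mul_mem (inv_mem hf) h3) hf

end Bld

end TB
end H20
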