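import Mathlib
import Cfsg.Agent.H20.TB14

/-!
# Isomorphisms of buildings; the building of a BN-pair
-/

set_option autoImplicit false
set_option linter.unusedSectionVars false
set_option linter.unusedVariables false

namespace H20
namespace TB

open H8 H8.GenSys CS

section Iso

variable {I W I' W' : Type*} [Group W] [Group W'] {D : CS I W} {D' : CS I' W'} {C C' : Type*}

/-- isomorphisms of Coxeter systems -/
structure CIso (D : CS I W) (D' : CS I' W') where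
  e : I ≃ I'
  ι : W ≃* W'
  hσ : ∀ i, ι (D.σ i) = D'.σ (e i)

namespace CIso

variable (c : CIso D D')

def symm : CIso D' D := ⟨c.e.symm, c.ι.symm, fun i => by rw [MulEquiv.symm_apply_eq, c.hσ]; simp⟩

theorem len_le (w : W) : D'.len (c.ι w) ≤ D.len w := by
  obtain ⟨l, rfl, hl⟩ := D.exists_reduced w
  have h1 : ∀ l, c.ι (D.π l) = D'.π (l.map c.e) := fun l => by induction l <;> simp [*, c.hσ]
  rw [← hl, h1, ← List.length_map c.e]; exact D'.len_le _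

theorem len (w : W) : D'.len (c.ι w) = D.len w :=
  le_antisymm (c.len_le w) (by simpa [symm] using c.symm.len_le (c.ι w))

theorem w0 [Finite W] [Finite W'] : c.ι D.w0 = D'.w0 :=
  D'.eq_wJ (D'.mem_univ _) (by
    rw [c.len, ← c.ι.apply_symm_apply (D'.wJ _), c.len]; exact D.len_le_wJ (D.mem_univ _))

theorem pos (i : I) (w : W) : D'.Pos (c.e i) (c.ι w) ↔ D.Pos i w := by
  rw [CS.Pos, CS.Pos, ← c.hσ, ← map_mul, c.len, c.len]

theorem zz (a b : I) (t : ℤ) : c.ι (D.zz a b t) = D'.zz (c.e a) (c.e b) t := by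
  simp only [CS.zz, map_mul, map_zpow, c.hσ]; split_ifs <;> simp [c.hσ]

theorem order (a b : I) : orderOf (D'.σ (c.e a) * D'.σ (c.e b)) = orderOf (D.σ a * D.σ b) := by
  rw [← c.hσ, ← c.hσ, ← map_mul, MulEquiv.orderOf_eq]

end CIso

theorem exists_cIso (e : I ≃ I') (h : ∀ i j, orderOf (D'.σ (e i) * D'.σ (e j)) = orderOf (D.σ i * D.σ j)) :
    ∃ c : CIso D D', c.e = e := by
  obtain ⟨ι, h1, h2, -, h3⟩ := D'.exists_emb e D h
  exact ⟨⟨e, MulEquiv.ofBijective ι ⟨h2, fun w => (h3 Set.univ w (by simpa using D'.mem_univ w)).imp fun _ h => h.2⟩,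
    h1⟩, rfl⟩

namespace Bld

/-- transport of a building along an isomorphism of Coxeter systems -/
def tr (Δ : Bld D' C) (c : CIso D D') : Bld D C where
  δ x y := c.ι.symm (Δ.δ x y)
  eq_one x y := by simp [Δ.eq_one]
  inv x y := by rw [Δ.inv, map_inv]
  wd2 x y z i h := by
    simp only [MulEquiv.symm_apply_eq, map_mul, c.hσ, MulEquiv.apply_symm_apply] at h ⊢
    exact Δ.wd2 x y z _ h
  wd2' x y z i h h' := by
    rw [← c.len, ← c.len] at h'
    simp only [MulEquiv.symm_apply_eq, map_mul, c.hσ, MulEquiv.apply_symm_apply] at h h' ⊢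
    exact Δ.wd2' x y z _ h h'
  wd3 x y i := by
    simp only [MulEquiv.symm_apply_eq, map_mul, c.hσ, MulEquiv.apply_symm_apply]
    exact Δ.wd3 x y _
  thick x i := by
    simp only [MulEquiv.symm_apply_eq, c.hσ]
    exact Δ.thick x _

/-- isomorphisms of buildings -/
structure BIso (Δ : Bld D C) (Δ' : Bld D' C') extends CIso D D' where
  φ : C ≃ C'
  hδ : ∀ y v, Δ'.δ (φ y) (φ v) = ι (Δ.δ y v)

namespace BIso

variable [Finite W] [Finite W'] {Δ : Bld D C} {Δ' : Bld D' C'} (f : BIso Δ Δ')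

def symm : BIso Δ' Δ := ⟨f.toCIso.symm, f.φ.symm, fun y v => by
  change _ = f.ι.symm _; rw [eq_comm, MulEquiv.symm_apply_eq, ← f.hδ]; simp⟩

theorem opp {x z : C} (h : Δ.δ x z = D.w0) : Δ'.δ (f.φ x) (f.φ z) = D'.w0 := by rw [f.hδ, h, f.w0]

theorem ap {x z : C} (h : Δ.δ x z = D.w0) (w : W) : f.φ (Δ.ap x z w) = Δ'.ap (f.φ x) (f.φ z) (f.ι w) :=
  eq_ap (f.opp h) (by rw [f.hδ, ap_left h]) (by rw [f.hδ, ap_right h, map_mul, map_inv, f.w0])

theorem aut {g : Equiv.Perm C} (hg : g ∈ Δ.Aut) : f.φ.permCongrHom g ∈ Δ'.Aut := fun y v => by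
  obtain ⟨y, rfl⟩ := f.φ.surjective y
  obtain ⟨v, rfl⟩ := f.φ.surjective v
  simp [f.hδ, hg y v]

theorem rg {x z : C} (h : Δ.δ x z = D.w0) {i : I} {g : Equiv.Perm C} (hg : g ∈ Δ.RG x z i) :
    f.φ.permCongrHom g ∈ Δ'.RG (f.φ x) (f.φ z) (f.e i) := by
  refine ⟨f.aut hg.1, fun u j h1 h2 y hy => ?_⟩
  obtain ⟨y, rfl⟩ := f.φ.surjective y
  obtain ⟨u, rfl⟩ := f.ι.surjective u
  obtain ⟨j, rfl⟩ := f.e.surjective j
  rw [← f.hσ, ← map_mul, f.pos] at h2
  rw [← f.ap h, R_single, f.hδ, ← f.hσ, f.ι.apply_eq_iff_eq, f.φ.apply_eq_iff_eq, ← R_single] at hy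
  simp [hg.2 u j ((f.pos _ _).1 h1) h2 y hy]

theorem RG_map {x z : C} (h : Δ.δ x z = D.w0) (i : I) :
    (Δ.RG x z i).map f.φ.permCongrHom.toMonoidHom = Δ'.RG (f.φ x) (f.φ z) (f.e i) := by
  refine le_antisymm (Subgroup.map_le_iff_le_comap.2 fun g hg => f.rg h hg) fun g hg => ?_
  exact ⟨_, by simpa [symm, CIso.symm] using f.symm.rg (f.opp h) hg, f.φ.permCongrHom.apply_symm_apply g⟩

theorem card_RG {x z : C} (h : Δ.δ x z = D.w0) (i : I) :
    Nat.card (Δ'.RG (f.φ x) (f.φ z) (f.e i)) = Nat.card (Δ.RG x z i) := by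
  rw [← f.RG_map h, Subgroup.card_map_of_injective f.φ.permCongrHom.injective]

theorem UP_map {x z : C} (h : Δ.δ x z = D.w0) (a b : I) (t : ℤ) :
    (Δ.UP x z a b t).map f.φ.permCongrHom.toMonoidHom = Δ'.UP (f.φ x) (f.φ z) (f.e a) (f.e b) t := by
  rw [UP, UP, f.RG_map (ap_opp h _), f.ap h, f.ap h, map_mul, f.zz, f.w0, τ, τ, apply_ite f.e]

theorem L0_map : Δ.L0.map f.φ.permCongrHom.toMonoidHom = Δ'.L0 := by
  refine le_antisymm (Subgroup.map_le_iff_le_comap.2 (L0_le fun x z h i g hg => RG_le_L0 (f.opp h) _ (f.rg h hg)))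
    (L0_le fun x z h i => ?_)
  have := f.RG_map (f.symm.opp h) (f.e.symm i)
  simp only [symm, Equiv.apply_symm_apply] at this
  exact this ▸ Subgroup.map_mono (RG_le_L0 (f.symm.opp h) _)

noncomputable def L0 : Δ.L0 ≃* Δ'.L0 := (f.φ.permCongrHom.subgroupMap _).trans (MulEquiv.subgroupCongr f.L0_map)

theorem ST {G : Subgroup (Equiv.Perm C)} (h : Δ.ST G) : Δ'.ST (G.map f.φ.permCongrHom.toMonoidHom) := by
  intro x z x' z' h1 h2
  obtain ⟨g, hg, e1, e2⟩ := h _ _ _ _ (f.symm.opp h1) (f.symm.opp h2)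
  exact ⟨_, ⟨g, hg, rfl⟩, by simpa [symm, ← Equiv.eq_symm_apply] using e1,
    by simpa [symm, ← Equiv.eq_symm_apply] using e2⟩

end BIso

variable [Finite W] (Δ : Bld D C)

/-- the root groups `0` and `2` of a quadrangle commute -/
def AB (x z : C) (a b : I) : Prop := ∀ f ∈ Δ.UP x z a b 0, ∀ g ∈ Δ.UP x z a b 2, f * g = g * f

variable {Δ}

theorem BIso.AB [Finite W'] {Δ' : Bld D' C'} (f : BIso Δ Δ') {x z : C} (h : Δ.δ x z = D.w0) (a b : I) :
    Δ'.AB (f.φ x) (f.φ z) (f.e a) (f.e b) ↔ Δ.AB x z a b := by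
  simp only [Bld.AB, ← f.UP_map h, Subgroup.mem_map, forall_exists_index, and_imp, forall_apply_eq_imp_iff₂,
    ← map_mul, MulEquiv.coe_toMonoidHom, EmbeddingLike.apply_eq_iff_eq]

theorem AB_flip [Finite C] {x z : C} (h : Δ.δ x z = D.w0) (hM : Δ.Mou) {a b : I} (hm : orderOf (D.σ a * D.σ b) = 4) :
    (oct (m := 0) h hM hm).ab 1 ↔ Δ.AB x z b a := by
  have e : Δ.UP x z a b 1 = Δ.UP x z b a 2 := by
    have e1 := D.zz_neg (a := a) (b := b) 2
    rw [← D.zz_nat] at e1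
    rw [UP_other h hm (by omega), UP, show (1 - (4 : ℕ) + 1 : ℤ) = -(2 : ℕ) by norm_num, e1]; rfl
  change (∀ f ∈ Δ.UP x z a b 1, ∀ g ∈ (oct (m := 0) h hM hm).U 3, _) ↔ _
  rw [e, oct_U3, AB, UP_zero h]
  exact ⟨fun H f hf g hg => (H g hg f hf).symm, fun H f hf g hg => (H g hg f hf).symm⟩

theorem card_RG {x z : C} (h : Δ.δ x z = D.w0) (hM : Δ.Mou) {i j : I} (hij : 3 ≤ orderOf (D.σ i * D.σ j)) :
    Nat.card (Δ.RG x z i) = {y | Δ.δ x y = D.σ i}.ncard := by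
  have := nontrivial_of hij
  have e : MulAction.stabilizer (Δ.RG x z i) (Δ.ap x z (D.σ i)) = ⊥ :=
    eq_bot_iff.2 fun g hg => Subtype.ext (RG_free h hij g.2 (ap_left h _) hg)
  rw [← Subgroup.index_bot, ← e, MulAction.index_stabilizer]
  congr 1
  ext y
  refine ⟨?_, fun hy => ?_⟩
  · rintro ⟨g, rfl⟩
    change Δ.δ x (g.1 _) = _
    nth_rw 1 [← RG_x h g.2]; rw [g.2.1, ap_left h]
  · obtain ⟨g, hg, e⟩ := hM x z h i _ y (ap_left h _) hy
    exact ⟨⟨g, hg⟩, e⟩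

end Bld

end Iso

section BN

open Bld

variable {G : Type*} [Group G] (P : Cfsg.BNPair G)

/-- the Coxeter system of a BN-pair -/
def bnC : CS P.S (BN.W P) := ⟨BN.gens P, BN.exchange P, BN.σ_injective P⟩

variable {P} in
theorem δ_out (g h : G) : BN.δ P ((g : G ⧸ P.B).out⁻¹ * (h : G ⧸ P.B).out) = BN.δ P (g⁻¹ * h) := by
  obtain ⟨a, e1⟩ := QuotientGroup.mk_out_eq_mul P.B g
  obtain ⟨b, e2⟩ := QuotientGroup.mk_out_eq_mul P.B h
  rw [e1, e2, mul_inv_rev, ← mul_assoc, BN.δ_mul_right _ b.2, mul_assoc, BN.δ_mul_left (inv_mem a.2)]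

/-- the building of a BN-pair -/
noncomputable def bnB : Bld (bnC P) (G ⧸ P.B) :=
  have key : ∀ (x y z : G ⧸ P.B) (i : P.S), BN.δ P (y.out⁻¹ * z.out) = (BN.gens P).σ i →
      ∃ g, BN.δ P g = BN.δ P (x.out⁻¹ * y.out) ∧ BN.δ P (x.out⁻¹ * z.out) = BN.δ P (g * i) := fun x y z i h => by
    obtain ⟨a, ha, b, hb, e⟩ := BN.δ_eq_δ_iff.1 (h.trans (BN.δ_simple i).symm)
    refine ⟨_, BN.δ_mul_right _ ha, ?_⟩
    rw [← BN.δ_mul_right (_ * (i : G)) hb, mul_assoc, mul_assoc _ a, ← mul_assoc a, ← e]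
    group
  { δ := fun x y => BN.δ P (x.out⁻¹ * y.out)
    eq_one := fun x y => by rw [BN.δ_eq_one_iff, ← QuotientGroup.eq]; simp
    inv := fun x y => by rw [← BN.δ_inv]; simp
    wd2 := fun x y z i h => by
      obtain ⟨g, h1, h2⟩ := key x y z i h
      rw [h2, ← h1]; exact BN.δ_mul_simple i g
    wd2' := fun x y z i h h' => by
      obtain ⟨g, h1, h2⟩ := key x y z i h
      rw [h2, ← h1]; exact BN.δ_mul_simple_of_lt (h1 ▸ h')
    wd3 := fun x y i => by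
      obtain ⟨a, ha, n, hn, b, hb, e, e'⟩ := BN.exists_decomp P (x.out⁻¹ * y.out)
      have h1 : ∀ u : G ⧸ P.B, ∀ g : G, BN.δ P (u.out⁻¹ * (g : G ⧸ P.B).out) = BN.δ P (u.out⁻¹ * g) := fun u g => by
        rw [← δ_out u.out g]; simp
      refine ⟨(y.out * b⁻¹ * i : G), ?_, ?_⟩
      · rw [h1, mul_assoc, inv_mul_cancel_left, BN.δ_mul_left (inv_mem hb)]; exact BN.δ_simple i
      · rw [h1, ← mul_assoc, ← mul_assoc, ← e', e, mul_inv_cancel_right, mul_assoc, BN.δ_mul_left ha,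
          BN.δ_mul_of_mem hn (P.subset i.2), BN.δ_simple]; rfl
    thick := fun x i => by
      obtain ⟨b, hb, h⟩ := BN.exists_conj_notMem P i.2
      have h1 : ∀ g : G, BN.δ P (x.out⁻¹ * (g : G ⧸ P.B).out) = BN.δ P (x.out⁻¹ * g) := fun g => by
        rw [← δ_out x.out g]; simp
      refine ⟨(x.out * i : G), (x.out * (b * i) : G), ?_, ?_, fun e => h ?_⟩
      · rw [h1, inv_mul_cancel_left]; exact BN.δ_simple i
      · rw [h1, inv_mul_cancel_left, BN.δ_mul_left hb]; exact BN.δ_simple i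
      · simpa [mul_assoc] using mul_mem (P.sq_mem i i.2) (QuotientGroup.eq.1 e) }

theorem bn_δ (g h : G) : (bnB P).δ g h = BN.δ P (g⁻¹ * h) := δ_out g h

/-- the action on the building -/
abbrev bnρ : G →* Equiv.Perm (G ⧸ P.B) := MulAction.toPermHom G (G ⧸ P.B)

theorem bnρ_mk (g h : G) : bnρ P g (h : G ⧸ P.B) = (g * h : G) := rfl

variable [Finite G]

theorem bnρ_aut (g : G) : bnρ P g ∈ (bnB P).Aut := fun x y => by
  obtain ⟨x, rfl⟩ := QuotientGroup.mk_surjective x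
  obtain ⟨y, rfl⟩ := QuotientGroup.mk_surjective y
  simp [bn_δ, mul_assoc]

/-- a representative of the longest element -/
noncomputable def bn0 : G := (BN.δ_surjective P (bnC P).w0).choose

theorem bn0_mem : bn0 P ∈ P.N := (BN.δ_surjective P (bnC P).w0).choose_spec.1

theorem bn0_δ : BN.δ P (bn0 P) = (bnC P).w0 := (BN.δ_surjective P (bnC P).w0).choose_spec.2

theorem bn_opp : (bnB P).δ (1 : G) (bn0 P : G) = (bnC P).w0 := by simp [bn_δ, bn0_δ]

theorem bn_ap {n : G} (hn : n ∈ P.N) : (bnB P).ap (1 : G) (bn0 P : G) (BN.δ P n) = n :=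
  (eq_ap (bn_opp P) (by simp [bn_δ]) (by rw [bn_δ, BN.δ_mul_of_mem (inv_mem hn) (bn0_mem P), BN.δ_inv, bn0_δ])).symm

theorem bn_pair {x z : G ⧸ P.B} (h : (bnB P).δ x z = (bnC P).w0) :
    ∃ g, bnρ P g (1 : G) = x ∧ bnρ P g (bn0 P : G) = z := by
  obtain ⟨x, rfl⟩ := QuotientGroup.mk_surjective x
  obtain ⟨z, rfl⟩ := QuotientGroup.mk_surjective z
  rw [bn_δ, ← bn0_δ] at h
  obtain ⟨a, ha, b, hb, e⟩ := BN.δ_eq_δ_iff.1 h
  refine ⟨x * a, QuotientGroup.eq.2 (by simpa using ha), QuotientGroup.eq.2 ?_⟩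
  change (x * a * bn0 P)⁻¹ * z ∈ _
  rwa [mul_assoc, mul_inv_rev, mul_assoc, e, inv_mul_cancel_left]

theorem bn_ST : (bnB P).ST (bnρ P).range := by
  intro x z x' z' h h'
  obtain ⟨g, rfl, rfl⟩ := bn_pair P h
  obtain ⟨g', rfl, rfl⟩ := bn_pair P h'
  exact ⟨_, ⟨g' * g⁻¹, rfl⟩, by simp, by simp⟩

theorem bn_panel (s : P.S) : {y | (bnB P).δ (1 : G) y = (bnC P).σ s}.ncard =
    (P.B.map (MulAut.conj (s : G)).toMonoidHom).relIndex P.B := by
  have e : (P.B.map (MulAut.conj (s : G)).toMonoidHom).subgroupOf P.B =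
      MulAction.stabilizer P.B ((s : G) : G ⧸ P.B) := by
    ext b
    rw [Subgroup.mem_subgroupOf, Subgroup.mem_map_equiv, MulAction.mem_stabilizer_iff, eq_comm]
    exact Iff.trans (by simp [mul_assoc]) QuotientGroup.eq.symm
  rw [Subgroup.relIndex, e, MulAction.index_stabilizer]
  congr 1
  ext y
  obtain ⟨y, rfl⟩ := QuotientGroup.mk_surjective y
  rw [Set.mem_ofPred_eq, bn_δ, inv_one, one_mul]
  refine ⟨fun h => ?_, ?_⟩
  · obtain ⟨a, ha, b, hb, rfl⟩ := BN.δ_eq_δ_iff.1 (h.trans (BN.δ_simple s).symm)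
    exact ⟨⟨a, ha⟩, QuotientGroup.eq.2 (by simpa [mul_assoc] using hb)⟩
  · rintro ⟨a, e⟩
    have : y = a * s * ((a * s : G)⁻¹ * y) := by group
    have e' : (a * s : G)⁻¹ * y ∈ P.B := QuotientGroup.eq.1 e
    rw [this, BN.δ_mul_right _ e', BN.δ_mul_left a.2]; exact BN.δ_simple s

theorem bn_order (s t : P.S) {m : ℕ} (h : ∀ k, ((s : G) * t) ^ k ∈ P.B ↔ m ∣ k) :
    orderOf ((bnC P).σ s * (bnC P).σ t) = m := by
  have key : ∀ k, orderOf ((bnC P).σ s * (bnC P).σ t) ∣ k ↔ m ∣ k := fun k => by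
    rw [orderOf_dvd_iff_pow_eq_one, ← h]
    exact BN.mk_eq_one_iff P ((BN.rep P s * BN.rep P t) ^ k)
  exact Nat.dvd_antisymm ((key _).2 dvd_rfl) ((key _).1 dvd_rfl)

end BN

end TB
end H20
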