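import Mathlib
import Cfsg.Agent.H20.TB15

/-!
# Buildings of type `T` are determined by their parameters
-/

set_option autoImplicit false
set_option linter.unusedSectionVars false
set_option linter.unusedVariables false

namespace H20
namespace TB

open H8 H8.GenSys CS

namespace Ty

variable {T : Ty} (hT : T.ok)
include hT

theorem three_le : 3 ≤ T.rk := by cases T <;> simp only [ok, rk] at * <;> omega

theorem par_lt {k : ℕ} (hk : 2 ≤ k) : T.par k < k := by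
  cases T <;> simp only [ok, par] at * <;> (try split_ifs) <;> omega

theorem par_two : T.par 2 = 1 := by cases T <;> simp only [ok, par] at * <;> (try split_ifs) <;> omega

omit hT in
theorem m0_eq (T : Ty) : T.m0 = 3 ∨ T.m0 = 4 := by cases T <;> simp [m0]

theorem cm_par {k : ℕ} (hk : 2 ≤ k) : T.cm (T.par k) k = 3 := by
  have := par_lt hT hk
  rw [cm, if_neg (by omega), if_neg (by omega), if_pos (Or.inr ⟨hk, rfl⟩)]

omit hT in
theorem cm_symm (i j : ℕ) : T.cm i j = T.cm j i := by simp only [cm]; split_ifs <;> omega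

omit hT in
theorem cm10 : T.cm 1 0 = T.m0 := by simp [cm]

theorem cm12 : T.cm 1 2 = 3 := by simpa [par_two hT] using cm_par hT le_rfl

theorem cm20 : T.cm 2 0 = 2 := by simp [cm, par_two hT]

omit hT in
theorem cm_cases (i j : ℕ) : (i = j ∧ T.cm i j = 1) ∨ (i + j = 1 ∧ T.cm i j = T.m0) ∨
    (2 ≤ i ∧ j = T.par i ∧ T.cm i j = 3) ∨ (2 ≤ j ∧ i = T.par j ∧ T.cm i j = 3) ∨ (i ≠ j ∧ T.cm i j = 2) := by
  simp only [cm]; split_ifs <;> omega

theorem exists_nb (j : ℕ) : ∃ c ≤ max 1 j, 3 ≤ T.cm j c ∧ (2 ≤ j → c < j) := by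
  have := T.m0_eq
  rcases j with _ | _ | j
  · exact ⟨1, by simp, by rw [cm_symm, cm10]; omega, by simp⟩
  · exact ⟨0, by simp, by rw [zero_add, cm10]; omega, by simp⟩
  · have := par_lt hT (k := j + 1 + 1) (by omega)
    exact ⟨_, by omega, by rw [cm_symm, cm_par hT (by omega)], fun _ => this⟩

end Ty

/-- a labelling of the nodes by the diagram `T` -/
structure Lab (T : Ty) {I W : Type*} [Group W] (D : CS I W) where
  ok : T.ok
  e : Fin T.rk ≃ I
  ord : ∀ i j, orderOf (D.σ (e i) * D.σ (e j)) = T.cm i j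

namespace Lab

variable {T : Ty} {I W I' W' : Type*} [Group W] [Finite W] [Group W'] [Finite W'] {D : CS I W} {D' : CS I' W'}
  (L : Lab T D)

/-- the node number `k` -/
def nd (k : ℕ) : I := L.e (if h : k < T.rk then ⟨k, h⟩ else ⟨0, by have := Ty.three_le L.ok; omega⟩)

theorem nd_val (i : Fin T.rk) : L.nd i = L.e i := by simp [nd]

theorem ord' {i j : ℕ} (hi : i < T.rk) (hj : j < T.rk) : orderOf (D.σ (L.nd i) * D.σ (L.nd j)) = T.cm i j := by
  simp [nd, hi, hj, L.ord]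

theorem nd_inj {i j : ℕ} (hi : i < T.rk) (hj : j < T.rk) (h : L.nd i = L.nd j) : i = j := by
  simpa [nd, hi, hj] using h

theorem exists_nd (a : I) : ∃ i < T.rk, L.nd i = a := ⟨_, (L.e.symm a).2, by simp [nd_val]⟩

theorem o10 : orderOf (D.σ (L.nd 1) * D.σ (L.nd 0)) = T.m0 := by
  have := Ty.three_le L.ok
  rw [L.ord' (by omega) (by omega), Ty.cm10]

theorem o12 : orderOf (D.σ (L.nd 1) * D.σ (L.nd 2)) = 3 := by
  have := Ty.three_le L.ok
  rw [L.ord' (by omega) (by omega), Ty.cm12 L.ok]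

theorem o20 : orderOf (D.σ (L.nd 2) * D.σ (L.nd 0)) = 2 := by
  have := Ty.three_le L.ok
  rw [L.ord' (by omega) (by omega), Ty.cm20 L.ok]

include L in
theorem nice : D.Nice := by
  have h3 := Ty.three_le L.ok
  have hm := T.m0_eq
  have hT := L.ok
  refine ⟨fun a b h => ?_, fun a => ?_, fun a b h => ?_, fun a b h => ?_⟩
  · obtain ⟨i, hi, rfl⟩ := L.exists_nd a
    obtain ⟨j, hj, rfl⟩ := L.exists_nd b
    have := T.cm_cases i j
    have : i ≠ j := fun e => h (e ▸ rfl)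
    rw [L.ord' hi hj]; omega
  · obtain ⟨i, hi, rfl⟩ := L.exists_nd a
    obtain ⟨c, h1, h2, -⟩ := Ty.exists_nb hT i
    exact ⟨L.nd c, by rwa [L.ord' (by omega) hi, Ty.cm_symm]⟩
  · obtain ⟨i, hi, rfl⟩ := L.exists_nd a
    obtain ⟨j, hj, rfl⟩ := L.exists_nd b
    rw [L.ord' hi hj] at h
    have key : ∀ l < T.rk, l ≠ i → l ≠ j → (3 ≤ T.cm l i ∨ 3 ≤ T.cm l j) → ∃ l, l ≠ L.nd i ∧ l ≠ L.nd j ∧
        (3 ≤ orderOf (D.σ l * D.σ (L.nd i)) ∨ 3 ≤ orderOf (D.σ l * D.σ (L.nd j))) := fun l hl h1 h2 h4 =>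
      ⟨L.nd l, mt (L.nd_inj hl hi) h1, mt (L.nd_inj hl hj) h2, by rwa [L.ord' hl hi, L.ord' hl hj]⟩
    have c12 := Ty.cm12 hT
    rw [Ty.cm_symm] at c12
    have nb : ∀ k, 2 ≤ k → ∃ c < k, c ≠ T.par k ∧ 3 ≤ T.cm c (T.par k) := fun k hk => by
      obtain ⟨c, h1, h2, h4⟩ := Ty.exists_nb hT (T.par k)
      have := Ty.par_lt hT hk
      have := T.cm_cases (T.par k) c
      exact ⟨c, by omega, by omega, by rwa [Ty.cm_symm]⟩
    rcases T.cm_cases i j with c | c | c | c | c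
    · omega
    · obtain ⟨rfl, rfl⟩ | ⟨rfl, rfl⟩ : (i = 0 ∧ j = 1) ∨ (i = 1 ∧ j = 0) := by omega
      exacts [key 2 (by omega) (by omega) (by omega) (by omega), key 2 (by omega) (by omega) (by omega) (by omega)]
    · obtain ⟨l, h1, h2, h4⟩ := nb i c.1
      exact key l (by omega) (by omega) (by omega) (Or.inr (c.2.1 ▸ h4))
    · obtain ⟨l, h1, h2, h4⟩ := nb j c.1
      exact key l (by omega) (by omega) (by omega) (Or.inl (c.2.1 ▸ h4))
    · omega
  · obtain ⟨i, hi, rfl⟩ := L.exists_nd a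
    obtain ⟨j, hj, rfl⟩ := L.exists_nd b
    rw [L.ord' hi hj] at h
    have := T.cm_cases i j
    have c := D.order_symm (L.nd 1) _ ▸ L.o12
    obtain ⟨rfl, rfl⟩ | ⟨rfl, rfl⟩ : (i = 0 ∧ j = 1) ∨ (i = 1 ∧ j = 0) := by omega
    exacts [⟨_, Or.inr ⟨c, L.o20⟩⟩, ⟨_, Or.inl ⟨c, L.o20⟩⟩]

open Bld

variable {C C' : Type*} [Finite C] [Finite C'] {Δ : Bld D C} {x z : C} (h : Δ.δ x z = D.w0)
include h

theorem iso_same {Δ' : Bld D C'} {x' z' : C'} (h' : Δ'.δ x' z' = D.w0)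
    (hq : ∀ i, Nat.card (Δ.RG x z i) = Nat.card (Δ'.RG x' z' i))
    (hab : T.m0 = 4 → (Δ.AB x z (L.nd 1) (L.nd 0) ↔ Δ'.AB x' z' (L.nd 1) (L.nd 0))) :
    ∃ φ : C ≃ C', ∀ y v, Δ'.δ (φ y) (φ v) = Δ.δ y v := by
  have hM := Δ.mou L.nice
  have hM' := Δ'.mou L.nice
  have hT := L.ok
  have h3 := Ty.three_le hT
  obtain ⟨r, hr⟩ : ∃ r, RI Δ Δ' {L.nd 1, L.nd 0} x z x' z' r := by
    rcases T.m0_eq with e | e
    · obtain ⟨Γ, hΓ⟩ := Hex.iso (hex (m := 0) h hM (L.o10.trans e)) (hex (m := 0) h' hM' (L.o10.trans e))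
        (by simp only [hex, UP_zero h, UP_zero h', hq])
      exact ⟨_, riso3 h h' (L.o10.trans e) hM hM' hΓ⟩
    · obtain ⟨K, _, _, ⟨P⟩, k1, -⟩ := exists_par h hM L.o12
      obtain ⟨K', _, _, ⟨P'⟩, k2, -⟩ := exists_par h' hM' L.o12
      obtain ⟨Γ, hΓ⟩ := (c3 h hM _ (L.o10.trans e) L.o20 P).iso (c3 h' hM' _ (L.o10.trans e) L.o20 P')
        (by rw [← k1, ← k2, hq]) (by rw [oct_U3, oct_U3, hq]) (hab e)
      exact ⟨_, riso4 h h' (L.o10.trans e) hM hM' hΓ⟩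
  let Ex : (ℕ → C → C' → Prop) → ℕ → ℕ → Prop := fun β i j => ∃ r, RI Δ Δ' {L.nd i, L.nd j} x z x' z' r ∧
    (∀ y y', β i y y' → r y y') ∧ ∀ y y', β j y y' → r y y'
  have key : ∀ n, 2 ≤ n → n ≤ T.rk → ∃ β : ℕ → C → C' → Prop, (∀ i < n, RI Δ Δ' {L.nd i} x z x' z' (β i)) ∧
      ∀ i < n, ∀ j < n, 3 ≤ T.cm i j → Ex β i j := by
    intro n hn
    induction n, hn using Nat.le_induction with
    | base =>
      refine fun _ => ⟨fun i y y' => Δ.R {L.nd i} x y ∧ r y y', fun i hi => hr.res h h' ?_, fun i hi j hj c => ?_⟩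
      · interval_cases i <;> simp
      · refine ⟨r, ?_, fun _ _ h => h.2, fun _ _ h => h.2⟩
        interval_cases i <;> interval_cases j <;> simp [Ty.cm] at c
        exacts [Set.pair_comm _ _ ▸ hr, hr]
    | succ n hn ih =>
      intro hn'
      obtain ⟨β, b1, b2⟩ := ih (by omega)
      have p := Ty.par_lt hT hn
      obtain ⟨c, c1, c2, c3⟩ := Ty.exists_nb hT (T.par n)
      obtain ⟨s, s1, s2, -⟩ := b2 _ p c (by omega) c2
      obtain ⟨t, t1, t2⟩ := s1.step h h' hM hM' (k := L.nd n) (by rwa [L.ord' (by omega) (by omega)])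
        (by rw [L.ord' (by omega) (by omega), Ty.cm_par hT hn])
      have e1 : Ex (Function.update β n fun y y' => Δ.R {L.nd n} x y ∧ t y y') (T.par n) n :=
        ⟨t, t1, fun y y' e => by
          rw [Function.update_of_ne p.ne] at e; exact t2 y y' ((b1 _ p).dom e) (s2 y y' e),
          fun y y' e => by rw [Function.update_self] at e; exact e.2⟩
      refine ⟨Function.update β n fun y y' => Δ.R {L.nd n} x y ∧ t y y', fun i hi => ?_, fun i hi j hj c => ?_⟩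
      · by_cases e : i = n
        · rw [e, Function.update_self]; exact t1.res h h' (by simp)
        · rw [Function.update_of_ne e]; exact b1 i (by omega)
      have := T.cm_cases i j
      have := Ty.par_lt hT (k := i)
      have := Ty.par_lt hT (k := j)
      by_cases e : i = n
      · obtain ⟨r, r1, r2, r3⟩ := e1
        rw [e, show j = T.par n by subst e; omega]
        exact ⟨r, Set.pair_comm _ _ ▸ r1, r3, r2⟩
      by_cases e' : j = n
      · rwa [e', show i = T.par n by subst e'; omega]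
      simpa only [Ex, Function.update_of_ne e, Function.update_of_ne e'] using b2 i (by omega) j (by omega) c
  obtain ⟨β, b1, b2⟩ := key _ (by omega) le_rfl
  have : Nonempty I := ⟨L.nd 0⟩
  obtain ⟨φ, e, -⟩ := glue L.nice.le4 h h' (fun a => β (L.e.symm a))
    (fun a => by simpa [nd_val] using b1 _ (L.e.symm a).2) fun a b c => by
      simpa [Ex, nd_val] using b2 _ (L.e.symm a).2 _ (L.e.symm b).2 (by rw [← L.ord]; simpa using c)
  exact ⟨φ, e⟩

theorem iso (L' : Lab T D') {Δ' : Bld D' C'} {x' z' : C'} (h' : Δ'.δ x' z' = D'.w0)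
    (hq : ∀ i : Fin T.rk, Nat.card (Δ.RG x z (L.e i)) = Nat.card (Δ'.RG x' z' (L'.e i)))
    (hab : T.m0 = 4 → (Δ.AB x z (L.nd 1) (L.nd 0) ↔ Δ'.AB x' z' (L'.nd 1) (L'.nd 0))) : Nonempty (BIso Δ Δ') := by
  obtain ⟨c, hc⟩ := exists_cIso (D := D) (D' := D') (L.e.symm.trans L'.e) fun i j => by
    simp only [Equiv.trans_apply, L'.ord, ← L.ord, Equiv.apply_symm_apply]
  let f : BIso (Δ'.tr c) Δ' := ⟨c, Equiv.refl _, fun _ _ => (c.ι.apply_symm_apply _).symm⟩
  have h'' : (Δ'.tr c).δ x' z' = D.w0 := f.symm.opp h'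
  obtain ⟨φ, e⟩ := L.iso_same h h'' (fun i => by
    obtain ⟨i, rfl⟩ := L.e.surjective i
    rw [hq, ← f.card_RG h'']; simp [f, hc]) fun e => by
      rw [hab e, ← f.AB h'']; simp [f, hc, nd]
  exact ⟨⟨c, φ, fun y v => by rw [← e]; exact (c.ι.apply_symm_apply _).symm⟩⟩

theorem q_par {k : ℕ} (hk : 2 ≤ k) (hk' : k < T.rk) :
    Nat.card (Δ.RG x z (L.nd k)) = Nat.card (Δ.RG x z (L.nd (T.par k))) := by
  have := Ty.par_lt L.ok hk
  obtain ⟨K, _, _, -, k1, k2⟩ := exists_par h (Δ.mou L.nice) (j := L.nd (T.par k)) (k := L.nd k)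
    (by rw [L.ord' (by omega) hk', Ty.cm_par L.ok hk])
  rw [k1, k2]

theorem exists_field : ∃ (F : Type) (_ : Field F) (_ : Fintype F), Fintype.card F = Nat.card (Δ.RG x z (L.nd 1)) := by
  obtain ⟨K, _, _, -, k1, -⟩ := exists_par h (Δ.mou L.nice) L.o12
  obtain ⟨p, hp⟩ := CharP.exists K
  have := Fintype.ofFinite K
  obtain ⟨n, h1, h2⟩ := FiniteField.card K p
  have := Fact.mk h1
  exact ⟨GaloisField p n, inferInstance, Fintype.ofFinite _, by
    rw [k1, ← @Nat.card_eq_fintype_card _ (Fintype.ofFinite _), GaloisField.card _ _ n.ne_zero, ← h2, Nat.card_eq_fintype_card]⟩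

omit L in
theorem card4 (hD : D.Nice) {j k l : I} (hk : orderOf (D.σ j * D.σ k) = 3) (hl : orderOf (D.σ j * D.σ l) = 4)
    (hkl : orderOf (D.σ k * D.σ l) = 2) {a b : ℕ} (ha : Nat.card (Δ.RG x z j) = a) (hb : Nat.card (Δ.RG x z l) = b) :
    2 ≤ a ∧ (Δ.AB x z j l → (b = a ∨ b = a ^ 2) ∧ (Odd a → ¬ Δ.AB x z l j)) ∧
      (¬ Δ.AB x z j l → (b = a ∧ Odd a ∧ Δ.AB x z l j) ∨ b ^ 2 = a ∨ b ^ 2 = a ^ 3) := by
  have hM := Δ.mou hD
  obtain ⟨K, _, _, ⟨P⟩, k1, -⟩ := exists_par h hM hk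
  have := (c3 h hM _ hl hkl P).card
  rw [oct_U3, AB_flip, hb, ← k1, ha] at this
  exact ⟨ha ▸ k1 ▸ Finite.one_lt_card, this⟩

end Lab

end TB
end H20
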