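import Mathlib
import Cfsg.Agent.H20.TB16
import Cfsg.Agent.H21.FeitHig3

/-!
# Feit–Higman for the rank two residues; models and their buildings
-/

set_option autoImplicit false
set_option linter.unusedSectionVars false
set_option linter.unusedVariables false

namespace H20
namespace TB

section FH

open Finset Cfsg H8 H8.BN H21.FH

theorem fh {G : Type*} [Group G] [Finite G] (P : BNPair G) {i j : P.S} (hij : i ≠ j) :
    orderOf ((gens P).σ i * (gens P).σ j) ∈ ({2, 3, 4, 6, 8} : Set ℕ) := by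
  classical
  let := Fintype.ofFinite G
  have hD := exchange P
  obtain ⟨m, hm⟩ : ∃ m, m = orderOf ((gens P).σ i * (gens P).σ j) := ⟨_, rfl⟩
  have hm2 : 2 ≤ m := by
    have h1 : 0 < m := hm ▸ orderOf_pos _
    have h3 : m ≠ 1 := fun h => hij (σ_injective P (by
      rw [hm, orderOf_eq_one_iff, mul_eq_one_iff_eq_inv, GenSys.σ_inv] at h
      exact h))
    omega
  have lx : ∀ k ≤ m, (gens P).len (zz (gens P) i j (k : ℕ)) = k := fun k hk =>
    (bnC P).len_zz (a := i) (b := j) (t := k) (hm ▸ hk :)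
  have ly : ∀ k ≤ m, (gens P).len (zz (gens P) i j (-(k : ℕ))) = k := fun k hk =>
    ((bnC P).len_zz (a := i) (b := j) (t := -k) (by rw [Int.natAbs_neg]; exact (hm ▸ hk :))).trans (by simp)
  have ex : ∀ k : ℕ, (gens P).σ i * zz (gens P) i j (-k) = zz (gens P) i j (k + 1 : ℕ) := fun k => by
    rw [zz_left]; congr 1; push_cast; ring
  have ey : ∀ k : ℕ, (gens P).σ j * zz (gens P) i j k = zz (gens P) i j (-(k + 1 : ℕ)) := fun k => by
    rw [zz_right]; congr 1; push_cast; ring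
  have up1 : ∀ k < m, TT P ((gens P).σ i) * TT P (zz (gens P) i j (-(k : ℕ))) =
      TT P (zz (gens P) i j (k + 1 : ℕ)) := fun k hk => by
    rw [TT_up (by rw [ex, lx _ hk, ly _ hk.le]), ex]
  have up2 : ∀ k < m, TT P ((gens P).σ j) * TT P (zz (gens P) i j (k : ℕ)) =
      TT P (zz (gens P) i j (-(k + 1 : ℕ))) := fun k hk => by
    rw [TT_up (by rw [ey, ly _ hk, lx _ hk.le]), ey]
  obtain ⟨a, ha⟩ : ∃ a : ℚ, a = cs P ((gens P).σ i) / Nat.card P.B := ⟨_, rfl⟩
  obtain ⟨b, hb⟩ : ∃ b : ℚ, b = cs P ((gens P).σ j) / Nat.card P.B := ⟨_, rfl⟩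
  have hB : (0 : ℚ) < Nat.card P.B := by exact_mod_cast Nat.card_pos
  have ha1 : 1 < a := by rw [ha, one_lt_div hB]; exact_mod_cast card_lt_cs i
  have hb1 : 1 < b := by rw [hb, one_lt_div hB]; exact_mod_cast card_lt_cs j
  have H : Hk m (a : ℂ) (b : ℂ) (TT P ((gens P).σ i)) (TT P ((gens P).σ j))
      (fun k => TT P (zz (gens P) i j k)) fun k => TT P (zz (gens P) i j (-k)) := by
    refine ⟨by simp, congrArg (TT P) ((zz_eq_iff hD i j).mpr ⟨-1, by rw [← hm]; ring⟩), up1, up2,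
      fun k hk => ?_, fun k hk => ?_, fun k _ => ?_, fun k _ => ?_⟩
    · rw [← up1 k hk, ← mul_assoc, TT_sq, ← ha, add_mul, smul_mul_assoc, smul_mul_assoc, TT_one_mul]
    · rw [← up2 k hk, ← mul_assoc, TT_sq, ← hb, add_mul, smul_mul_assoc, smul_mul_assoc, TT_one_mul]
    · simp only [Nat.cast_zero, zz_zero, TT_one_mul]
    · simp only [Nat.cast_zero, neg_zero, zz_zero, TT_one_mul]
  have mass : ∀ k ≤ m,
      (TT P (zz (gens P) i j (k : ℕ))).mulVec 1 =
        ((a ^ ((k + 1) / 2) * b ^ (k / 2) : ℚ) : ℂ) • (1 : G → ℂ) ∧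
      (TT P (zz (gens P) i j (-(k : ℕ)))).mulVec 1 =
        ((a ^ (k / 2) * b ^ ((k + 1) / 2) : ℚ) : ℂ) • (1 : G → ℂ) := by
    intro k
    induction k with
    | zero =>
      intro _
      have : cs P 1 = Nat.card P.B := by
        rw [← card_coset 1, cs]
        simp only [δ_eq_one_iff, inv_one, one_mul]
      simp only [Nat.cast_zero, neg_zero, zz_zero, TT_mulVec, this, div_self hB.ne']
      simp
    | succ k ih =>
      intro hk
      obtain ⟨i1, i2⟩ := ih (by omega)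
      rw [← up1 k hk, ← up2 k hk, ← Matrix.mulVec_mulVec, ← Matrix.mulVec_mulVec, i1, i2,
        Matrix.mulVec_smul, Matrix.mulVec_smul, TT_mulVec, TT_mulVec, ← ha, ← hb, smul_smul,
        smul_smul, show (k + 1 + 1) / 2 = k / 2 + 1 by omega]
      push_cast
      constructor <;> congr 1 <;> ring
  have key := H.mem hm2 (r := Nat.card G / Nat.card P.B)
    (div_ne_zero (by exact_mod_cast Nat.card_pos.ne') hB.ne')
    (by simp only [Nat.cast_zero, zz_zero, trace_TT, if_true])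
    (fun k hk => by
      rw [trace_TT, if_neg fun h => ?_]
      have := lx _ hk
      rw [h, GenSys.len_one] at this
      omega)
    (fun k hk => by
      rw [trace_TT, if_neg fun h => ?_]
      have := ly _ hk
      rw [h, GenSys.len_one] at this
      omega) (by linarith) (by linarith) ha1.ne' hb1.ne' (by
      rintro ⟨n, hn⟩
      obtain ⟨e1, e2⟩ := mass m le_rfl
      rw [show TT P (zz (gens P) i j (m : ℕ)) = _ from H.top, e2] at e1
      have e3 := congrFun e1 1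
      simp only [Pi.smul_apply, Pi.one_apply, smul_eq_mul, mul_one, Rat.cast_inj] at e3
      rw [show m / 2 = n by omega, show (m + 1) / 2 = n + 1 by omega] at e3
      have h3 : a ^ n * b ^ n ≠ 0 := by positivity
      apply mul_left_cancel₀ h3
      linear_combination e3)
  rw [← hm]; simpa using key

end FH

open H8 H8.GenSys CS Bld
open scoped commutatorElement

namespace Mod

variable {Γ : Type*} [Group Γ] [Finite Γ] {T : Ty} (M : Mod Γ T) (hT : T.ok)

/-- the labelling of a model -/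
noncomputable def lab : Lab T (bnC M.P) :=
  ⟨hT, Equiv.ofBijective (fun i => ⟨M.s i, M.hS ▸ ⟨i, rfl⟩⟩) ⟨fun i j h => by
      have e : M.s i = M.s j := congrArg Subtype.val h
      have h1 := (M.ord i j 1).1 (by rw [pow_one, e]; exact M.P.sq_mem _ (M.hS ▸ ⟨j, rfl⟩))
      have := T.cm_cases i j
      have := T.m0_eq
      rw [Nat.dvd_one] at h1
      exact Fin.ext (by omega), fun ⟨s, hs⟩ => by obtain ⟨i, rfl⟩ := M.hS ▸ hs; exact ⟨i, rfl⟩⟩,
    fun i j => bn_order _ _ _ (M.ord i j)⟩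

/-- the root groups of the building -/
noncomputable abbrev RG (i : M.P.S) := (bnB M.P).RG (1 : Γ) (bn0 M.P : Γ) i

theorem fx {x g : Γ} : Fx M.P.B x g ↔ bnρ M.P x (g : Γ ⧸ M.P.B) = g := by
  rw [bnρ_mk, eq_comm, QuotientGroup.eq, Fx, mul_assoc]

theorem card_RG (i : Fin T.rk) : Nat.card (M.RG ((M.lab hT).e i)) = M.q i := by
  obtain ⟨j, hj⟩ := (M.lab hT).nice.nb ((M.lab hT).e i)
  rw [Bld.card_RG (bn_opp M.P) (mou (M.lab hT).nice _) ((bnC M.P).order_symm _ _ ▸ hj), bn_panel]; rfl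

theorem map_X (i : Fin T.rk) : (M.X i).map (bnρ M.P) = M.RG ((M.lab hT).e i) := by
  obtain ⟨c, hc⟩ := (M.lab hT).nice.nb ((M.lab hT).e i)
  rw [(bnC M.P).order_symm] at hc
  have := nontrivial_of hc
  have h := bn_opp M.P
  have sN : ∀ j, M.s j ∈ M.P.N := fun j => M.P.subset (M.hS ▸ ⟨j, rfl⟩)
  have sδ : ∀ j, BN.δ M.P (M.s j) = (bnC M.P).σ ((M.lab hT).e j) := fun j => BN.δ_simple ((M.lab hT).e j)
  have pan : ∀ {n : Γ} {j} {y : Γ ⧸ M.P.B}, (bnB M.P).δ n y = (bnC M.P).σ ((M.lab hT).e j) →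
      ∃ b ∈ M.P.B, y = (n * b * M.s j : Γ) := fun {n j y} e => by
    obtain ⟨y, rfl⟩ := QuotientGroup.mk_surjective y
    rw [bn_δ, ← sδ] at e
    obtain ⟨a, ha, b, hb, e⟩ := BN.δ_eq_δ_iff.1 e
    refine ⟨a, ha, (QuotientGroup.eq.2 ?_).symm⟩
    rwa [mul_assoc, mul_inv_rev, mul_assoc, e, inv_mul_cancel_left]
  have d : (bnB M.P).δ (1 : Γ) (M.s i) = (bnC M.P).σ ((M.lab hT).e i) := by simp [bn_δ, sδ]
  have tr : ∀ y, (bnB M.P).δ (1 : Γ) y = (bnC M.P).σ ((M.lab hT).e i) → ∃ x ∈ M.X i, bnρ M.P x (M.s i) = y := by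
    intro y hy
    obtain ⟨b, hb, rfl⟩ := pan hy
    obtain ⟨x, hx, e⟩ := M.trans i b hb
    exact ⟨x, hx, QuotientGroup.eq.2 (by simpa [Fx, mul_assoc] using e)⟩
  have fix : ∀ n ∈ M.P.N, (bnC M.P).Pos ((M.lab hT).e i) (BN.δ M.P n) → ∀ x ∈ M.X i, Fx M.P.B x n := by
    intro n hn hp
    refine (M.dich i n hn).resolve_right fun H => ?_
    have f : ∀ x ∈ M.X i, bnρ M.P x (M.s i) = M.s i := fun x hx => by
      have a := bnρ_aut M.P x
      have x1 : bnρ M.P x (1 : Γ) = (1 : Γ) := QuotientGroup.eq.2 (by simpa using M.X_le i hx)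
      have x2 : bnρ M.P x ((M.s i)⁻¹ * n : Γ) = ((M.s i)⁻¹ * n : Γ) := M.fx.1 (by simpa [Fx, mul_assoc] using H x hx)
      have d2 : (bnB M.P).δ (M.s i) ((M.s i)⁻¹ * n : Γ) = BN.δ M.P n := by
        rw [bn_δ, ← mul_assoc, ← mul_inv_rev, BN.δ_mul_left (inv_mem (M.P.sq_mem _ (M.hS ▸ ⟨i, rfl⟩)))]
      refine mid_unique ?_ (by rw [← x1, a, d]) (by rw [← x2, a, d2]) d d2
      have := (bnC M.P).lenL ((M.lab hT).e i) (BN.δ M.P n)
      rw [CS.Pos] at hp
      rw [(bnC M.P).lenσ]; omega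
    obtain ⟨y, y', h1, h2, h3⟩ := (bnB M.P).thick (1 : Γ) ((M.lab hT).e i)
    obtain ⟨x, hx, rfl⟩ := tr y h1
    obtain ⟨x', hx', rfl⟩ := tr y' h2
    exact h3 (by rw [f x hx, f x' hx'])
  have le : (M.X i).map (bnρ M.P) ≤ M.RG ((M.lab hT).e i) := by
    rintro _ ⟨x, hx, rfl⟩
    refine ⟨bnρ_aut _ _, fun u j h1 h2 y hy => ?_⟩
    obtain ⟨n, hn, rfl⟩ := BN.δ_surjective M.P u
    obtain ⟨j, rfl⟩ := (M.lab hT).e.surjective j
    rw [← sδ, ← BN.δ_mul_of_mem hn (sN j)] at h2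
    rw [bn_ap _ hn] at hy
    rcases R_single.1 hy with rfl | hy
    · exact M.fx.1 (fix n hn h1 x hx)
    obtain ⟨b, hb, rfl⟩ := pan hy
    exact M.fx.1 (M.int i x hx n hn j (fix n hn h1 x hx) (fix _ (mul_mem hn (sN j)) h2 x hx) b hb)
  refine le_antisymm le fun g hg => ?_
  obtain ⟨x, hx, e⟩ := tr (g (M.s i)) (by nth_rw 1 [← RG_x h hg]; rw [hg.1, d])
  have := RG_free h hc (mul_mem (inv_mem (le ⟨x, hx, rfl⟩)) hg) d (by rw [Equiv.Perm.mul_apply, ← e]; simp)
  exact ⟨x, hx, inv_mul_eq_one.1 this⟩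

include hT

theorem map_E : M.E.map (bnρ M.P) = (bnB M.P).L0 := by
  refine le_antisymm (Subgroup.map_le_iff_le_comap.2 ?_) (L0_le fun x z h i g hg => ?_)
  · have : ((bnB M.P).L0.comap (bnρ M.P)).Normal := ⟨fun n hn g => by
      rw [Subgroup.mem_comap, map_mul, map_mul, map_inv]; exact L0_conj (bnρ_aut _ g) hn⟩
    refine Subgroup.normalClosure_le_normal (Set.iUnion_subset fun i x hx => ?_)
    exact RG_le_L0 (bn_opp _) _ ((M.map_X hT i).le ⟨x, hx, rfl⟩)
  · obtain ⟨a, rfl, rfl⟩ := bn_pair _ h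
    obtain ⟨i, rfl⟩ := (M.lab hT).e.surjective i
    have := (RG_conj_iff (bnρ_aut _ a) (bn_opp _) (g := (bnρ M.P a)⁻¹ * g * bnρ M.P a)).2
      (by simpa only [mul_assoc, mul_inv_cancel, mul_one, mul_inv_cancel_left] using hg)
    obtain ⟨x, hx, e⟩ := (M.map_X hT i).ge this
    exact ⟨a * x * a⁻¹, Subgroup.Normal.conj_mem inferInstance _
      (Subgroup.subset_normalClosure (Set.mem_iUnion.2 ⟨i, hx⟩)) _, by rw [map_mul, map_mul, map_inv, e]; group⟩

theorem L_iso : Nonempty (M.L ≃* (bnB M.P).L0) :=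
  ⟨(QuotientGroup.quotientMulEquivOfEq (by rw [MonoidHom.ker_domRestrict, Subgroup.normalCore_eq_ker])).trans
    ((QuotientGroup.quotientKerEquivRange ((bnρ M.P).domRestrict M.E)).trans
      (MulEquiv.subgroupCongr (by rw [MonoidHom.domRestrict_range, M.map_E hT])))⟩

theorem eq_L0 {G : Subgroup (Equiv.Perm (Γ ⧸ M.P.B))} (hG : G ≤ (bnB M.P).Aut) (hs : (bnB M.P).ST G)
    (hc : G ≤ ⁅G, G⁆) : G = (bnB M.P).L0 := by
  have : Nonempty M.P.S := ⟨(M.lab hT).nd 0⟩
  have := Fact.mk M.hp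
  refine Bld.eq_L0 (M.lab hT).nice (bn_opp _) M.hp (fun i => ?_) (fun t ht h1 h2 h3 => ?_) hG hs hc
  · obtain ⟨i, rfl⟩ := (M.lab hT).e.surjective i
    obtain ⟨k, hk⟩ := M.hq i
    exact IsPGroup.of_card ((M.card_RG hT i).trans hk)
  · have a := L0_le_Aut ht
    obtain ⟨g, hg, rfl⟩ := (M.map_E hT).ge ht
    have := M.tor g hg (fun n hn => M.fx.2 (by rw [← bn_ap _ hn]; exact Aut.fix_ap a (bn_opp _) h1 h2 _))
    rw [Subgroup.normalCore_eq_ker] at this
    exact this (by rwa [MonoidHom.mem_ker, map_pow])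

end Mod

theorem simple_iso {G Γ : Type*} [Group G] [Finite G] [IsSimpleGroup G] (P : Cfsg.BNPair G) [Nonempty P.S]
    [Group Γ] [Finite Γ] {T : Ty} (hT : T.ok) (M : Mod Γ T) (f : BIso (bnB P) (bnB M.P)) : Nonempty (G ≃* M.L) := by
  obtain ⟨s⟩ := ‹Nonempty P.S›
  have h1 : Function.Injective (bnρ P) := by
    rw [← MonoidHom.ker_eq_bot_iff, ← Subgroup.normalCore_eq_ker]
    exact (P.B.normalCore_normal.eq_bot_or_eq_top).resolve_right fun h =>
      BN.notMem_B_of_mem_S P s.2 (P.B.normalCore_le (h ▸ trivial))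
  have h2 : commutator G = ⊤ := (Subgroup.Normal.eq_bot_or_eq_top inferInstance).resolve_left fun h => by
    obtain ⟨b, hb, h3⟩ := BN.exists_conj_notMem P s.2
    have : ⁅(s : G), b⁆ = 1 := h.le (Subgroup.commutator_mem_commutator (Subgroup.mem_top _) (Subgroup.mem_top _))
    rw [commutatorElement_eq_one_iff_mul_comm.1 this, mul_assoc] at h3
    exact h3 (mul_mem hb (P.sq_mem _ s.2))
  have h3 := M.eq_L0 hT (G := (bnρ P).range.map f.φ.permCongrHom.toMonoidHom)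
    (by rintro _ ⟨_, ⟨g, rfl⟩, rfl⟩; exact f.aut (bnρ_aut P g)) (f.ST (bn_ST P))
    (by rw [← Subgroup.map_commutator, MonoidHom.range_eq_map, ← Subgroup.map_commutator, ← commutator_def, h2])
  obtain ⟨e⟩ := M.L_iso hT
  exact ⟨(MonoidHom.ofInjective h1).trans ((f.φ.permCongrHom.subgroupMap _).trans
    ((MulEquiv.subgroupCongr h3).trans e.symm))⟩

end TB
end H20
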