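import Mathlib
import Cfsg.Agent.H20.TB0
import Cfsg.Agent.H20.BT
import Cfsg.Agent.H20.PoinF4
import Cfsg.Agent.H20.PoinE6
import Cfsg.Agent.H20.PoinE7
import Cfsg.Agent.H20.PoinE8
import Cfsg.Agent.S1054
import Cfsg.Agent.S1070

/-!
# The exceptional models
-/

set_option autoImplicit false
set_option linter.unusedSectionVars false
set_option linter.unusedVariables false
set_option maxRecDepth 100000

namespace H20
namespace TB

theorem relIndex_eq_card {Γ : Type*} [Group Γ] {B X : Subgroup Γ} {s : Γ} (hle : X ≤ B)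
    (tr : ∀ b ∈ B, ∃ x ∈ X, Fx B (x⁻¹ * b) s) (free : ∀ x ∈ X, Fx B x s → x = 1) :
    (B.map (MulAut.conj s).toMonoidHom).relIndex B = Nat.card X := by
  have st : ∀ Y : Subgroup Γ, ∀ b : Y, b ∈ MulAction.stabilizer Y (s : Γ ⧸ B) ↔ Fx B b s := fun Y b => by
    rw [MulAction.mem_stabilizer_iff, eq_comm, Fx, mul_assoc]; exact QuotientGroup.eq
  have e : (B.map (MulAut.conj s).toMonoidHom).subgroupOf B = MulAction.stabilizer B (s : Γ ⧸ B) := by
    ext b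
    rw [Subgroup.mem_subgroupOf, Subgroup.mem_map_equiv, st]; simp [Fx]
  have e' : MulAction.stabilizer X (s : Γ ⧸ B) = ⊥ := eq_bot_iff.2 fun x hx => Subtype.ext (free x x.2 ((st _ _).1 hx))
  rw [Subgroup.relIndex, e, ← Subgroup.index_bot, ← e', MulAction.index_stabilizer, MulAction.index_stabilizer]
  congr 1
  refine Set.Subset.antisymm ?_ ?_
  · rintro _ ⟨b, rfl⟩
    obtain ⟨x, hx, h⟩ := tr b b.2
    refine ⟨⟨x, hx⟩, QuotientGroup.eq.2 ?_⟩
    change (x * s)⁻¹ * (b * s) ∈ B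
    simpa [Fx, mul_assoc] using h
  · rintro _ ⟨x, rfl⟩
    exact ⟨⟨x, hle x.2⟩, rfl⟩

theorem Mod.L_simple {Γ : Type*} [Group Γ] [IsSimpleGroup Γ] {T : Ty} (M : Mod Γ T) (i : Fin T.rk)
    (h : M.X i ≠ ⊥) : Nonempty (M.L ≃* Γ) := by
  have h1 : M.E = ⊤ := (Subgroup.Normal.eq_bot_or_eq_top inferInstance).resolve_left fun e =>
    h (eq_bot_iff.2 fun x hx => e ▸ Subgroup.subset_normalClosure (Set.mem_iUnion.2 ⟨i, hx⟩))
  have h2 : M.P.B.normalCore = ⊥ := (M.P.B.normalCore_normal.eq_bot_or_eq_top).resolve_right fun e =>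
    H8.BN.notMem_B_of_mem_S M.P (M.hS ▸ ⟨i, rfl⟩ : M.s i ∈ M.P.S) (M.P.B.normalCore_le (e ▸ trivial))
  exact ⟨(QuotientGroup.quotientMulEquivOfEq (by rw [h2, Subgroup.bot_subgroupOf])).trans
    (QuotientGroup.quotientBot.trans ((MulEquiv.subgroupCongr h1).trans Subgroup.topEquiv))⟩

section Tw

open WRG SRG

variable {ι Λ : Type} [LinearOrder ι] [Fintype Λ] [DecidableEq Λ] [Fintype ι] {R : RS ι Λ} {K : Type} [Field K]
  [Finite K] {G : Type} [Group G] [Finite G] {X : RG R K G} {Γ : Subgroup G} {I : Type} (T : Tw X Γ I)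

theorem tw_dich {n x : G} {w : Equiv.Perm ι} (hw : X.Acts n w) (h1 : w ∈ T.W1) {i : I}
    (hx : x ∈ X.XS {r | R.Pos r ∧ r ∈ R.Phi (T.J i)}) (h : n⁻¹ * x * n ∈ X.B) :
    x = 1 ∨ ∀ r, R.Pos r → r ∈ R.Phi (T.J i) → R.Pos (w⁻¹ r) := by
  refine (T.dich' (inv_mem h1) i).symm.imp (fun h2 => ?_) fun h2 r => RS.pos_of_simple_pos hw.inv.mem h2
  have := X.eq_one_of_mem_B_V h (hw.conj_mem' (fun r hr => RS.not_pos_of_simple_neg hw.inv.mem h2 hr.1 hr.2) hx)
  simpa [mul_assoc] using congr(n * $this * n⁻¹)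

theorem tw_real [IsSimpleGroup Γ] {Y : Ty} (h0 : 0 < Y.rk) (e : Fin Y.rk → I) (he : Function.Surjective e)
    (ho : ∀ i j, orderOf (R.w0 (T.J (e i)) * R.w0 (T.J (e j))) = Y.cm i j) {q : ℕ → ℕ}
    (hq : ∀ i, Nat.card ↥(X.XS {r | R.Pos r ∧ r ∈ R.Phi (T.J (e i))} ⊓ Γ) = q i) : Real Y q Γ := by
  obtain ⟨p, hp⟩ := CharP.exists K
  have hp' := Fact.mk (CharP.char_is_prime K p)
  let s : Fin Y.rk → Γ := fun i => ⟨T.nJ (e i), T.nJ_mem _⟩
  let Z : Fin Y.rk → Subgroup Γ := fun i => (X.XS {r | R.Pos r ∧ r ∈ R.Phi (T.J (e i))} ⊓ Γ).subgroupOf Γ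
  have fx : ∀ {x n : Γ}, Fx T.bn.B x n ↔ (n : G)⁻¹ * x * n ∈ X.B := Tw.mem_sub
  have le : ∀ i, Z i ≤ T.bn.B := fun i x hx => Tw.mem_sub.2 (X.U_le_B (X.XS_mono (fun r hr => hr.1) hx.1))
  have tr : ∀ i, ∀ b ∈ T.bn.B, ∃ x ∈ Z i, Fx T.bn.B (x⁻¹ * b) (s i) := fun i b hb => by
    obtain ⟨a, ha, n, hn, c, hc, h1, h2⟩ := T.exists_bruhat_of_cell (Γ.mul_mem (T.nJ_mem (e i)) b⁻¹.2)
      ((cell_of_mem_N (T.nJ_N _) (T.nJ_acts _)).mul_B (inv_mem hb).1)
    rw [RS.inv_w0] at hc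
    refine ⟨⟨c, hc.2⟩⁻¹, inv_mem (Tw.mem_sub.2 hc.1), fx.2 ?_⟩
    have h3 := X.mem_H_of_acts_one (mul_mem hn.1 (T.nJ_N (e i)))
      (by simpa [RS.w0_mul_w0] using h1.mul (T.nJ_acts (e i)))
    have h4 := X.mem_H_of_acts_one (mul_mem (T.nJ_N (e i)) (T.nJ_N (e i)))
      (by simpa [RS.w0_mul_w0] using (T.nJ_acts (e i)).mul (T.nJ_acts (e i)))
    have h5 : (b : G) = (a * n * c)⁻¹ * T.nJ (e i) := by rw [← h2]; simp
    simpa [s, h5, mul_assoc] using mul_mem (mul_mem (inv_mem (X.H_le_B h3)) (inv_mem (X.U_le_B ha.1))) (X.H_le_B h4)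
  have hc : ∀ i, (T.bn.B.map (MulAut.conj (s i)).toMonoidHom).relIndex T.bn.B = q i := fun i => by
    rw [relIndex_eq_card (le i) (tr i) fun x hx h => ?_, ← hq,
      Nat.card_congr (Subgroup.subgroupOfEquivOfLe inf_le_right).toEquiv]
    refine Subtype.ext ((tw_dich T (T.nJ_acts _) (T.w0J_mem _) hx.1 (fx.1 h)).resolve_right fun h2 => ?_)
    obtain ⟨j, hj⟩ := T.J_nonempty (e i)
    exact RS.w0_sim hj (by simpa [RS.w0_inv] using h2 _ (R.pos_sim j) (RS.sim_mem_Phi.2 hj))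
  have h2 : T.bn.B.normalCore = ⊥ := (T.bn.B.normalCore_normal.eq_bot_or_eq_top).resolve_right fun h =>
    H8.BN.notMem_B_of_mem_S T.bn (s := s ⟨0, h0⟩) ⟨_, rfl⟩ (T.bn.B.normalCore_le (h ▸ trivial))
  let M : Mod Γ Y :=
    { P := T.bn
      s := s
      hS := Set.ext fun g => ⟨fun ⟨i, h⟩ => by obtain ⟨i, rfl⟩ := he i; exact ⟨i, Subtype.ext h.symm⟩,
        by rintro ⟨i, rfl⟩; exact ⟨_, rfl⟩⟩
      ord := fun i j k => by
        have h1 : X.Acts ((T.nJ (e i) * T.nJ (e j)) ^ k) ((R.w0 (T.J (e i)) * R.w0 (T.J (e j))) ^ k) := by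
          induction k with
          | zero => simpa using acts_one
          | succ k ih => rw [pow_succ, pow_succ]; exact ih.mul ((T.nJ_acts _).mul (T.nJ_acts _))
        rw [← ho, orderOf_dvd_iff_pow_eq_one]
        exact ⟨fun h => X.eq_one_of_acts_of_mem_B h1 h.1, fun h => Tw.mem_sub.2
          (X.H_le_B (X.mem_H_of_acts_one (pow_mem (mul_mem (T.nJ_N _) (T.nJ_N _)) k) (h ▸ h1)))⟩
      X := Z
      X_le := le
      trans := tr
      dich := fun i n hn => by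
        obtain ⟨w, hw⟩ := X.exists_acts_of_mem_N hn.1
        refine (T.dich' (inv_mem ⟨n, n.2, hn.1, hw⟩) (e i)).imp (fun h x hx => fx.2 (X.U_le_B ?_))
          fun h x hx => fx.2 (X.U_le_B ?_)
        · exact hw.conj_mem' (fun r hr => RS.pos_of_simple_pos hw.inv.mem h hr.1 hr.2) hx.1
        · refine hw.conj_mem' (S := {r | R.Pos (R.neg r) ∧ r ∈ R.Phi (T.J (e i))}) (fun r hr => ?_)
            ((T.nJ_acts _).conj_mem (fun r hr => ?_) hx.1)
          · have := RS.not_pos_of_simple_neg hw.inv.mem h hr.1 (RS.neg_mem_Phi.2 hr.2)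
            rwa [RS.W_neg hw.inv.mem, RS.pos_neg_iff, not_not] at this
          · exact ⟨by rw [RS.pos_neg_iff, RS.pos_w0_iff hr.2]; exact not_not.2 hr.1,
              (RS.WJ_mem_Phi subset_rfl (R.w0_mem _)).2 hr.2⟩
      int := fun i x hx n hn j f1 f2 b hb => by
        obtain ⟨w, hw⟩ := X.exists_acts_of_mem_N hn.1
        have w1 : w ∈ T.W1 := ⟨n, n.2, hn.1, hw⟩
        rcases tw_dich T hw w1 hx.1 (fx.1 f1) with h | h1
        · exact fx.2 (by rw [show (x : G) = 1 from h, mul_one, inv_mul_cancel]; exact one_mem _)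
        rcases tw_dich T (hw.mul (T.nJ_acts (e j))) (mul_mem w1 (T.w0J_mem _)) hx.1 (fx.1 f2) with h | h2
        · exact fx.2 (by rw [show (x : G) = 1 from h, mul_one, inv_mul_cancel]; exact one_mem _)
        have a1 : (n : G)⁻¹ * x * n ∈ X.XS {r | R.Pos r ∧ r ∉ R.Phi (T.J (e j))} :=
          hw.conj_mem' (fun r hr => And.intro (h1 r hr.1 hr.2) fun h => (RS.pos_w0_iff h).1
            (by simpa [RS.w0_inv] using h2 r hr.1 hr.2) (h1 r hr.1 hr.2)) hx.1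
        obtain ⟨u, hu, a, ha, e'⟩ := X.mem_B_iff.1 (inv_mem hb).1
        have a2 := X.conj_mem_XS (S := {r | R.Pos r}) (fun r hr s hs => R.ne_neg_of_pos hr hs.1)
          (fun r hr s hs k hk => by
            by_cases c : r ∈ R.Phi (T.J (e j))
            exacts [hk.pos_not_Phi c hs.1 hs.2, RS.closed_pos_not_Phi _ r ⟨hr, c⟩ s hs k hk]) hu (X.H_conj_mem ha a1)
        have a3 := (T.nJ_acts (e j)).conj_mem' (T := {r | R.Pos r}) (fun r hr => by
          rw [RS.w0_inv]; exact (RS.WJ_pos_of_not_mem (R.w0_mem _) hr.2).2 hr.1) a2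
        have e2 : (b : G) = (u * a)⁻¹ := by rw [← e']; simp
        exact fx.2 (by simpa [s, e2, mul_assoc] using X.U_le_B a3)
      p := p
      hp := hp'.out
      hq := fun i => by
        rw [hc, ← hq]
        exact IsPGroup.iff_card.1 ((X.isPGroup_U (p := p)).to_le (inf_le_left.trans (X.XS_mono fun r hr => hr.1)))
      tor := fun g _ hg h => by
        rw [h2, Subgroup.mem_bot] at h ⊢
        obtain ⟨n, hnΓ, hn, hw⟩ := T.w0_mem_W1 T.sat_univ
        obtain ⟨u, hu, a, ha, e'⟩ := X.mem_B_iff.1 (fx.1 (hg ⟨n, hnΓ⟩ (Tw.mem_sub.2 hn)))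
        have h3 : (g : G) = (n * u * n⁻¹) * (n * a * n⁻¹) := by
          calc (g : G) = n * (n⁻¹ * g * n) * n⁻¹ := by group
            _ = _ := by rw [e']; group
        have h4 : (g : G) ∈ X.H := X.B_inf_V_sup_H ▸ ⟨by simpa using fx.1 (hg 1 (one_mem _)), h3 ▸
          mul_mem (Subgroup.mem_sup_left (Acts_w0_conj_U hw hu)) (Subgroup.mem_sup_right (X.N_conj_H hn ha))⟩
        rw [← orderOf_eq_one_iff]
        refine Nat.eq_one_of_dvd_coprimes (X.coprime_card_H (p := p)) ?_ (orderOf_dvd_of_pow_eq_one h)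
        rw [← Subgroup.orderOf_coe]; exact X.H.orderOf_dvd_natCard h4 }
  refine ⟨Γ, _, inferInstance, M, hc, M.L_simple ⟨0, h0⟩ fun h => ?_⟩
  obtain ⟨j, hj⟩ := T.J_nonempty (e ⟨0, h0⟩)
  obtain ⟨u, h1, h3, h4⟩ := T.coord _ j hj
  have : (⟨u, h1⟩ : Γ) = 1 := h.le (Tw.mem_sub.2 h3)
  exact h4 (by rw [show u = 1 from congrArg Subtype.val this]; exact one_mem _)

end Tw

open Cfsg.Lie

variable (F : Type) [Field F] [Fintype F]

theorem chev_real {D : ChevalleyDatum} {g : Good D} (M : MatRG g F) (hs : IsSimpleGroup (D.group F)) {Y : Ty}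
    (h0 : 0 < Y.rk) (e : Fin Y.rk → Fin D.rank) (he : Function.Surjective e)
    (key : ∀ i j : Fin Y.rk, (Y.cm i j != 0 && iterChk g.aux.CL [e i, e j] (List.replicate D.rank 1) (Y.cm i j - 1)
      (wordL g.aux.CL [e i, e j] (List.replicate D.rank 1))) = true) :
    Real Y (fun _ => Fintype.card F) (D.group F) := by
  rw [M.isMat.grp_eq] at hs ⊢
  refine tw_real M.X.tw h0 e he (fun i j => ?_) fun i => ?_
  · simp only [Bool.and_eq_true, bne_iff_ne] at key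
    have h := g.orderOf_wN (ω := [e i, e j]) (by simp) (key i j).2
    rw [Nat.sub_add_cancel (Nat.pos_of_ne_zero (key i j).1)] at h
    simpa [Good.wN, Good.sN_val, RG.tw, RS.w0_singleton] using h
  · rw [← RS.inv_w0, inf_eq_left.2 (M.X.XS_le_grp _), M.X.card_XS M.X.nd1 (RS.closed_inv (RS.w0_mem_W _ _))
      fun r hr => (RS.mem_inv.1 hr).1]
    simp [RG.tw, RS.w0_singleton, RS.inv_s]

theorem real_F4 : Real .F (fun _ => Fintype.card F) (chevF4.group F) :=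
  chev_real F (H19.matF4 F) (Cfsg.Agent.S1054.result _ (by simp)).1 (by decide) (![2, 1, 0, 3] : Fin 4 → Fin 4)
    (by decide : ∀ b : Fin 4, ∃ a : Fin 4, ![2, 1, 0, 3] a = b) (by decide +kernel)

theorem real_E6 : Real (.E 6) (fun _ => Fintype.card F) (chevE6.group F) :=
  chev_real F (H19.matE6 F) (Cfsg.Agent.S1054.result _ (by simp)).1 (by decide)
    (![0, 2, 3, 4, 5, 1] : Fin 6 → Fin 6)
    (by decide : ∀ b : Fin 6, ∃ a : Fin 6, ![0, 2, 3, 4, 5, 1] a = b) (by decide +kernel)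

theorem real_E7 : Real (.E 7) (fun _ => Fintype.card F) (chevE7.group F) :=
  chev_real F (H19.matE7 F) (Cfsg.Agent.S1054.result _ (by simp)).1 (by decide)
    (![0, 2, 3, 4, 5, 6, 1] : Fin 7 → Fin 7)
    (by decide : ∀ b : Fin 7, ∃ a : Fin 7, ![0, 2, 3, 4, 5, 6, 1] a = b) (by decide +kernel)

theorem real_E8 : Real (.E 8) (fun _ => Fintype.card F) (chevE8.group F) :=
  chev_real F (H19.matE8 F) (Cfsg.Agent.S1054.result _ (by simp)).1 (by decide)
    (![0, 2, 3, 4, 5, 6, 7, 1] : Fin 8 → Fin 8)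
    (by decide : ∀ b : Fin 8, ∃ a : Fin 8, ![0, 2, 3, 4, 5, 6, 7, 1] a = b) (by decide +kernel)

theorem real_2E6 {q : ℕ} (hq : IsPrimePow q) (hF : Fintype.card F = q ^ 2) :
    Real .F (fun i => if i = 0 ∨ i = 3 then q else q ^ 2) (twistedE6 F q) := by
  obtain ⟨T, hJ, h1, -⟩ := H20.E6.main hq hF
  have := (Cfsg.Agent.S1070.result hq hF).1
  refine tw_real (Y := .F) T (by decide) (![1, 2, 3, 0] : Fin 4 → Fin 4)
    (by decide : ∀ b : Fin 4, ∃ a : Fin 4, ![1, 2, 3, 0] a = b) (fun i j => ?_) fun i => ?_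
  · rw [torderE6 T hJ]; revert i j; decide
  · rw [h1, tlenE6 T hJ]; fin_cases i
    exacts [pow_one q, rfl, rfl, pow_one q]

end TB
end H20
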