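import Mathlib
import Cfsg.Agent.H20.TB0
import Cfsg.Agent.H17.TCox1

/-! Finite irreducible Coxeter systems of rank at least three with labels in `{2,3,4,6,8}`. -/

set_option autoImplicit false
set_option linter.unusedSectionVars false

namespace H20
namespace TB

open Subgroup
open scoped commutatorElement

universe u

namespace Cox17

open Finset Module Polynomial.Chebyshev

/-- `2 cos (π / m)` -/
noncomputable def β (m : ℕ) : ℝ :=
  if m = 3 then 1 else if m = 4 then √2 else if m = 6 then √3 else if m = 8 then √(2 + √2) else 0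

theorem β_nonneg (m : ℕ) : 0 ≤ β m := by
  unfold β; split_ifs <;> positivity

theorem one_le_sq2 : (1 : ℝ) ≤ √2 := Real.one_le_sqrt.mpr (by norm_num)

theorem one_le_β {m : ℕ} (h : m ∈ ({2, 3, 4, 6, 8} : Set ℕ)) (h2 : m ≠ 2) : 1 ≤ β m := by
  rcases h with rfl | rfl | rfl | rfl | rfl <;> simp [β] at h2 ⊢
  linarith [one_le_sq2]

theorem three_le_β {m : ℕ} (h : m = 6 ∨ m = 8) : 3 ≤ β m * β m := by
  rcases h with rfl | rfl
  · simp [β]
  · simp only [β]
    norm_num
    rw [Real.mul_self_sqrt (by positivity)]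
    linarith [one_le_sq2]

theorem refl_pow {V : Type*} [AddCommGroup V] [Module ℝ V] {x y : V} {f g : Dual ℝ V} (hf : f x = 2)
    (hg : g y = 2) {m : ℕ} (h : m ∈ ({2, 3, 4, 6, 8} : Set ℕ)) (h1 : f y = -β m) (h2 : g x = -β m) :
    (reflection hf * reflection hg) ^ m = 1 := by
  have s2 : ∀ t : ℝ, (S ℝ 2).eval t = t ^ 2 - 1 := fun t => by simp [S_two]
  have s3 : ∀ t : ℝ, (S ℝ 3).eval t = t ^ 3 - 2 * t := fun t => by
    rw [show (3 : ℤ) = 1 + 2 by norm_num, S_add_two]; simp [S_two]; ring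
  ext z
  rcases h with rfl | rfl | rfl | rfl | rfl
  · simp [sq, reflection_apply, h1, h2, β, hf, hg]
    module
  · rw [reflection_mul_reflection_pow_apply hf hg 3 z (-1) (by rw [h1, h2]; norm_num [β])]
    norm_num
  · rw [reflection_mul_reflection_pow_apply hf hg 4 z 0 (by rw [h1, h2]; norm_num [β])]
    norm_num
  · rw [reflection_mul_reflection_pow_apply hf hg 6 z 1 (by rw [h1, h2]; norm_num [β])]
    norm_num [s2]
  · rw [reflection_mul_reflection_pow_apply hf hg 8 z √2 (by
      rw [h1, h2]; norm_num [β]; rw [Real.mul_self_sqrt (by positivity)]; ring)]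
    have : √2 ^ 3 - 2 * √2 = 0 := by linear_combination √2 * sq2
    norm_num [s3, this]

variable {I W : Type*} [Group W] (D : H8.GenSys I W)

/-- the Coxeter matrix -/
noncomputable def m (i j : I) : ℕ := orderOf (D.σ i * D.σ j)

theorem m_symm (i j : I) : m D i j = m D j i := by
  rw [m, m, ← orderOf_inv, mul_inv_rev, D.σ_inv, D.σ_inv]

theorem m_self (i : I) : m D i i = 1 := by simp [m, D.sq]

open Classical in
/-- the Gram matrix -/
noncomputable def b (i j : I) : ℝ := if i = j then 2 else -β (m D i j)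

theorem b_self (i : I) : b D i i = 2 := by simp [b]

theorem b_ne {i j : I} (h : i ≠ j) : b D i j = -β (m D i j) := by simp [b, h]

theorem b_symm (i j : I) : b D i j = b D j i := by
  by_cases h : i = j
  · rw [h]
  · rw [b_ne D h, b_ne D (Ne.symm h), m_symm]

theorem ne_two {i j : I} (h : D.σ i * D.σ j ≠ D.σ j * D.σ i) : i ≠ j ∧ m D i j ≠ 2 := by
  refine ⟨fun e => h (by rw [e]), fun e => h ?_⟩
  have := pow_orderOf_eq_one (D.σ i * D.σ j)
  rw [show orderOf (D.σ i * D.σ j) = 2 from e, sq, mul_eq_one_iff_eq_inv] at this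
  rw [this, mul_inv_rev, D.σ_inv, D.σ_inv]

/-- positive definiteness -/
def Pos : Prop := ∀ (N : ℕ) (E : ℕ → I) (c : ℕ → ℝ), 0 < N →
  (∀ k, k < N → ∀ j, j < N → E k = E j → k = j) → c 0 ≠ 0 →
  0 < ∑ i ∈ range N, ∑ j ∈ range N, c i * c j * b D (E i) (E j)

theorem pos [Finite W] [Finite I] (hD : D.Exchange)
    (hirr : ∀ J : Set I, J.Nonempty → Jᶜ.Nonempty → ∃ i ∈ J, ∃ j ∉ J, D.σ i * D.σ j ≠ D.σ j * D.σ i)
    (hm : ∀ i j, i ≠ j → m D i j ∈ ({2, 3, 4, 6, 8} : Set ℕ)) : Pos D := by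
  classical
  haveI := Fintype.ofFinite I
  haveI := Fintype.ofFinite W
  let e : I → I → ℝ := fun i => Pi.single i 1
  let f : I → Dual ℝ (I → ℝ) := fun i => Fintype.linearCombination ℝ (b D i)
  have hf : ∀ i j, f i (e j) = b D i j := fun i j => by
    simp [f, e, Fintype.linearCombination_apply_single]
  have h2 : ∀ i, f i (e i) = 2 := fun i => by rw [hf, b_self]
  obtain ⟨φ, hφ⟩ := hD.exists_lift (fun i => reflection (h2 i))
    (fun i => LinearEquiv.ext (involutive_reflection (h2 i))) (fun i j n hn => by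
      by_cases h : i = j
      · subst h
        rw [show reflection (h2 i) * reflection (h2 i) = 1 from
          LinearEquiv.ext (involutive_reflection (h2 i)), one_pow]
      obtain ⟨k, rfl⟩ := orderOf_dvd_of_pow_eq_one hn
      rw [pow_mul, show orderOf (D.σ i * D.σ j) = m D i j from rfl, refl_pow (h2 i) (h2 j) (hm i j h) (by rw [hf, b_ne D h])
        (by rw [hf, b_symm, b_ne D h]), one_pow])
  let B : LinearMap.BilinForm ℝ (I → ℝ) :=
    ∑ w : W, (dotProductBilin ℝ ℝ).compl₁₂ (φ w).toLinearMap (φ w).toLinearMap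
  have hB : ∀ u v, B u v = ∑ w : W, φ w u ⬝ᵥ φ w v := fun u v => by
    simp [B, LinearMap.sum_apply]
  have hinv : ∀ s u v, B (φ s u) (φ s v) = B u v := fun s u v => by
    rw [hB, hB]
    exact Fintype.sum_equiv (Equiv.mulRight s) _ _ fun w => by simp
  have hpos : ∀ u, u ≠ 0 → 0 < B u u := fun u hu => by
    rw [hB]
    have nn : ∀ v : I → ℝ, 0 ≤ v ⬝ᵥ v := fun v => sum_nonneg fun i _ => mul_self_nonneg _
    refine sum_pos' (fun w _ => nn _) ⟨1, mem_univ _, ?_⟩
    simpa using lt_of_le_of_ne (nn u) fun h => hu (dotProduct_self_eq_zero.mp h.symm)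
  have hsym : ∀ u v, B u v = B v u := fun u v => by simp only [hB, dotProduct_comm]
  have key : ∀ i j, 2 * B (e j) (e i) = b D i j * B (e i) (e i) := fun i j => by
    have := hinv (D.σ i) (e j) (e i)
    rw [hφ, reflection_apply_self, reflection_apply, hf] at this
    simp only [map_sub, map_smul, map_neg, LinearMap.sub_apply, LinearMap.smul_apply,
      smul_eq_mul] at this
    linarith
  intro N E c hN hE hc
  have hc0 : ∀ i, B (e i) (e i) = B (e (E 0)) (e (E 0)) := by
    by_contra hne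
    push Not at hne
    obtain ⟨i, hi, j, hj, h⟩ := hirr {i | B (e i) (e i) = B (e (E 0)) (e (E 0))} ⟨E 0, rfl⟩ hne
    obtain ⟨h3, h4⟩ := ne_two D h
    have h5 := one_le_β (hm i j h3) h4
    have h6 := key i j
    rw [hsym, key j i, b_symm D j i, b_ne D h3] at h6
    exact hj ((mul_left_cancel₀ (by linarith) h6).trans hi)
  have h0 : 0 < B (e (E 0)) (e (E 0)) := hpos _ (by simp [e])
  have h1 := hpos (∑ k ∈ range N, c k • e (E k)) fun h => hc (by
    have := congrFun h (E 0)
    rw [Finset.sum_apply, sum_eq_single 0 (fun k hk h0 => by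
      simp [e, Pi.single_eq_of_ne' fun h => h0 (hE k (mem_range.mp hk) 0 hN h)])
      (fun h => absurd (mem_range.mpr hN) h)] at this
    simpa [e] using this)
  refine (mul_pos_iff_of_pos_right h0).mp ?_
  convert mul_pos two_pos h1 using 1
  simp only [map_sum, map_smul, LinearMap.sum_apply, LinearMap.smul_apply, smul_eq_mul, sum_mul, mul_sum]
  refine sum_congr rfl fun i _ => sum_congr rfl fun j _ => ?_
  have := key (E i) (E j)
  rw [hc0 (E i)] at this
  linear_combination (-(c i * c j)) * this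

variable {D}

theorem sum_succ (N : ℕ) (E : ℕ → I) (c : ℕ → ℝ) :
    ∑ i ∈ range (N + 1), ∑ j ∈ range (N + 1), c i * c j * b D (E i) (E j) =
      ∑ i ∈ range N, ∑ j ∈ range N, c i * c j * b D (E i) (E j) + 2 * c N ^ 2 +
        2 * ∑ j ∈ range N, c N * c j * b D (E N) (E j) := by
  simp only [sum_range_succ, sum_add_distrib, b_self]
  rw [sum_congr rfl fun i _ => show c i * c N * b D (E i) (E N) = c N * c i * b D (E N) (E i) by
    rw [b_symm]; ring]
  ring

theorem last_le (N : ℕ) (E : ℕ → I) (c : ℕ → ℝ) (hc : ∀ k, 0 ≤ c k) (hE : ∀ j, j < N → E N ≠ E j)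
    (s : Finset ℕ) (hs : s ⊆ range N) : ∑ j ∈ range N, c N * c j * b D (E N) (E j) ≤
      ∑ j ∈ s, -(c N * c j * β (m D (E N) (E j))) := by
  rw [sum_congr rfl fun j hj => by rw [b_ne D (hE j (mem_range.mp hj)), mul_neg], sum_neg_distrib,
    sum_neg_distrib, neg_le_neg_iff]
  exact sum_le_sum_of_subset_of_nonneg hs fun j _ _ =>
    mul_nonneg (mul_nonneg (hc _) (hc _)) (β_nonneg _)

theorem tree (E : ℕ → I) (p : ℕ → ℕ) (w c : ℕ → ℝ) (hc : ∀ k, 0 ≤ c k) : ∀ N : ℕ,
    (∀ k, k < N + 1 → ∀ j, j < N + 1 → E k = E j → k = j) → (∀ k, 1 ≤ k → k < N + 1 → p k < k) →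
    (∀ k, 1 ≤ k → k < N + 1 → w k ≤ β (m D (E k) (E (p k)))) →
    ∑ i ∈ range (N + 1), ∑ j ∈ range (N + 1), c i * c j * b D (E i) (E j) ≤
      2 * (c 0 ^ 2 + ∑ k ∈ Ico 1 (N + 1), (c k ^ 2 - w k * c k * c (p k)))
  | 0, _, _, _ => by simp [b_self]; linarith
  | N + 1, h1, h2, h3 => by
    have ih := tree E p w c hc N (fun k hk j hj => h1 k (by omega) j (by omega))
      (fun k h hk => h2 k h (by omega)) (fun k h hk => h3 k h (by omega))
    have h4 := last_le (D := D) (N + 1) E c hc (fun j hj e => by have := h1 _ (by omega) j (by omega) e; omega)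
      {p (N + 1)} (by simpa using h2 (N + 1) (by omega) (by omega))
    rw [sum_singleton] at h4
    have h5 := mul_le_mul_of_nonneg_left (h3 (N + 1) (by omega) (by omega))
      (mul_nonneg (hc (N + 1)) (hc (p (N + 1))))
    rw [sum_succ, sum_Ico_succ_top (by omega)]
    linarith

theorem Pos.not_bad (hP : Pos D) {M : ℕ → ℕ → ℕ} {n : ℕ} {E : ℕ → I}
    (hE : ∀ k, k ≤ n → ∀ j, j ≤ n → E k = E j → k = j)
    (hM : ∀ k, k ≤ n → ∀ j, j ≤ n → m D (E k) (E j) = M k j) : ¬ Bad M n := by
  rintro ⟨N, p, s, π, ⟨hN, hp, c, hc, hc0, h⟩, h1, h2, h3⟩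
  obtain ⟨N, rfl⟩ : ∃ k, N = k + 1 := ⟨N - 1, by omega⟩
  have hi : ∀ k, k < N + 1 → ∀ j, j < N + 1 → E (π k) = E (π j) → k = j := fun k hk j hj e =>
    h1 k hk j hj (hE _ (h2 k hk) _ (h2 j hj) e)
  have h4 := hP _ (fun k => E (π k)) c hN hi hc0
  have h5 := tree (D := D) (fun k => E (π k)) p (fun k => if k ∈ s then √2 else 1) c hc N hi hp
    fun k hk hk' => by
      rw [hM _ (h2 k hk') _ (h2 _ (by have := hp k hk hk'; omega))]
      rcases h3 k hk hk' with e | ⟨e', e⟩ <;> rw [e]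
      · split_ifs <;> simp [β]
      · simp [β, e']
  linarith

theorem Pos.no_G (hP : Pos D) (hm : ∀ i j, i ≠ j → m D i j ∈ ({2, 3, 4, 6, 8} : Set ℕ)) {x y z : I}
    (h1 : x ≠ y) (h2 : y ≠ z) (h3 : x ≠ z) (h4 : m D y x = 6 ∨ m D y x = 8) (h5 : m D z y ≠ 2) :
    False := by
  let E : ℕ → I := fun k => if k = 0 then x else if k = 1 then y else z
  let c : ℕ → ℝ := fun k => if k = 0 then β (m D y x) else if k = 1 then 2 else 1
  have hi : ∀ k, k < 2 + 1 → ∀ j, j < 2 + 1 → E k = E j → k = j := fun k hk j hj => by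
    simp only [E]; grind
  have h6 := three_le_β h4
  have h7 := hP _ E c (by omega) hi fun h => by
    have : β (m D y x) = 0 := h
    rw [this] at h6; norm_num at h6
  have h8 := tree (D := D) E (· - 1) (fun k => if k = 1 then β (m D y x) else 1) c
    (fun k => by simp only [c]; split_ifs <;> simp [β_nonneg]) 2 hi (fun k _ _ => by omega)
    fun k hk hk' => by
      obtain rfl | rfl : k = 1 ∨ k = 2 := by omega
      · simp [E]
      · simpa [E] using one_le_β (hm z y h2.symm) h5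
  simp only [sum_Ico_eq_sum_range, sum_range_succ, c] at h8
  simp only [sum_range_succ, c] at h7
  norm_num at h7 h8
  nlinarith

/-- the nodes `e 0, e 1, …` form a subdiagram of type `T` -/
def Emb (D : H8.GenSys I W) (T : Ty) (e : ℕ → I) : Prop :=
  ∀ k, k < T.rk → ∀ j, j < T.rk → m D (e k) (e j) = T.cm k j

theorem cm_one (T : Ty) {k j : ℕ} (h : T.cm k j = 1) : k = j := by
  rcases T with n | n | n | n | _ <;> simp only [Ty.cm, Ty.m0] at h <;> grind

theorem Emb.inj {T : Ty} {e : ℕ → I} (h : Emb D T e) (k : ℕ) (hk : k < T.rk) (j : ℕ) (hj : j < T.rk)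
    (he : e k = e j) : k = j := cm_one T (by rw [← h k hk j hj, he, m_self])

theorem cm_par (T : Ty) (hT : T.ok') (k : ℕ) (h1 : 1 ≤ k) (h2 : k < T.rk) :
    (if k = 1 then 0 else T.par k) < k ∧ (T.cm k (if k = 1 then 0 else T.par k) = 3 ∨
      T.cm k (if k = 1 then 0 else T.par k) = 4) := by
  rcases T with n | n | n | n | _ <;> simp only [Ty.cm, Ty.m0, Ty.par, Ty.ok', Ty.rk] at * <;>
    grind (splits := 30)

theorem Pos.no_cycle (hP : Pos D) (hm : ∀ i j, i ≠ j → m D i j ∈ ({2, 3, 4, 6, 8} : Set ℕ))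
    {T : Ty} (hT : T.ok') {e : ℕ → I} (h : Emb D T e) {v : I} (hv : ∀ k, k < T.rk → v ≠ e k)
    {a a' : ℕ} (ha : a < T.rk) (ha' : a' < T.rk) (h1 : m D v (e a) ≠ 2) (h2 : m D v (e a') ≠ 2) :
    a = a' := by
  by_contra hne
  obtain ⟨N, hN⟩ : ∃ N, T.rk = N + 1 := ⟨T.rk - 1, by omega⟩
  let E : ℕ → I := fun k => if k = N + 1 then v else e k
  have E1 : ∀ k, k < N + 1 → E k = e k := fun k hk => if_neg (by omega)
  have E2 : E (N + 1) = v := if_pos rfl
  have hi : ∀ k, k < N + 1 → ∀ j, j < N + 1 → E k = E j → k = j := fun k hk j hj e => by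
    rw [E1 k hk, E1 j hj] at e
    exact h.inj k (by omega) j (by omega) e
  have h3 := hP (N + 1 + 1) E (fun _ => 1) (by omega) (fun k hk j hj e => by
    by_cases c1 : k = N + 1 <;> by_cases c2 : j = N + 1
    · omega
    · exact absurd (by rw [← E1 j (by omega), ← e, c1, E2]) (hv j (by omega))
    · exact absurd (by rw [← E1 k (by omega), e, c2, E2]) (hv k (by omega))
    · exact hi k (by omega) j (by omega) e) one_ne_zero
  have h4 := tree (D := D) E (fun k => if k = 1 then 0 else T.par k) (fun _ => 1) (fun _ => 1)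
    (fun _ => zero_le_one) N hi (fun k hk hk' => (cm_par T hT k hk (by omega)).1) fun k hk hk' => by
      obtain ⟨h5, h6⟩ := cm_par T hT k hk (by omega)
      rw [E1 k hk', E1 _ (by omega), h k (by omega) _ (by omega)]
      rcases h6 with e | e <;> rw [e] <;> simp [β]
  have h5 := last_le (D := D) (N + 1) E (fun _ => 1) (fun _ => zero_le_one)
    (fun j hj => by rw [E2, E1 j hj]; exact hv j (by omega)) {a, a'} (by
      intro x hx; simp at hx ⊢; omega)
  rw [sum_pair hne, E2, E1 a (by omega), E1 a' (by omega)] at h5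
  have h6 := one_le_β (hm _ _ (hv a ha)) h1
  have h7 := one_le_β (hm _ _ (hv a' ha')) h2
  rw [sum_succ, E2] at h3
  simp only [mul_one, one_pow, sub_self, sum_const_zero] at h3 h4 h5
  linarith

end Cox17

open Cox17 in
/-- COX: finite irreducible Coxeter systems of rank `≥ 3` with labels in `{2,3,4,6,8}`. -/
theorem cox {I W : Type*} [Group W] [Finite W] [Finite I] (D : H8.GenSys I W) (hD : D.Exchange)
    (hinj : Function.Injective D.σ) (h3 : 3 ≤ Nat.card I)
    (hirr : ∀ J : Set I, J.Nonempty → Jᶜ.Nonempty → ∃ i ∈ J, ∃ j ∉ J, D.σ i * D.σ j ≠ D.σ j * D.σ i)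
    (hm : ∀ i j, i ≠ j → orderOf (D.σ i * D.σ j) ∈ ({2, 3, 4, 6, 8} : Set ℕ)) :
    ∃ T : Ty, T.ok ∧ ∃ e : Fin T.rk ≃ I, ∀ i j, orderOf (D.σ (e i) * D.σ (e j)) = T.cm i j := by
  classical
  have hP := pos D hD hirr hm
  have h34 : ∀ x y, x ≠ y → m D x y ≠ 2 → m D x y = 3 ∨ m D x y = 4 := fun x y hxy h2 => by
    by_contra h
    have h6 : m D x y = 6 ∨ m D x y = 8 := by
      have : m D x y ∈ ({2, 3, 4, 6, 8} : Set ℕ) := hm x y hxy
      simp only [Set.mem_insert_iff, Set.mem_singleton_iff] at this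
      omega
    obtain ⟨i, hi, j, hj, hij⟩ := hirr {x, y} ⟨x, by simp⟩ (Set.nonempty_compl.mpr fun e => by
      have := Set.ncard_pair hxy
      rw [e, Set.ncard_univ] at this
      omega)
    have h4 := (ne_two D hij).2
    rw [m_symm] at h4
    simp only [Set.mem_insert_iff, Set.mem_singleton_iff, not_or] at hi hj
    rcases hi with rfl | rfl
    · exact hP.no_G hm hxy.symm (Ne.symm hj.1) (Ne.symm hj.2) h6 h4
    · exact hP.no_G hm hxy (Ne.symm hj.2) (Ne.symm hj.1) (by rwa [m_symm]) h4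
  have grow : ∀ (T : Ty) (e : ℕ → I), T.ok' → Emb D T e → (¬ ∀ v, ∃ k, k < T.rk ∧ e k = v) →
      ∃ (T' : Ty) (e' : ℕ → I), T'.ok' ∧ Emb D T' e' ∧ T'.rk = T.rk + 1 := fun T e hT he hs => by
    have h0 : 0 < T.rk := by rcases T with n | n | n | n | _ <;> simp only [Ty.ok', Ty.rk] at * <;> omega
    obtain ⟨_, ⟨a, ha, rfl⟩, v, hv, hav⟩ := hirr {v | ∃ k, k < T.rk ∧ e k = v} ⟨e 0, 0, h0, rfl⟩
      (by push Not at hs; obtain ⟨v, hv⟩ := hs; exact ⟨v, fun ⟨k, h1, h2⟩ => hv k h1 h2⟩)
    have hv' : ∀ k, k < T.rk → v ≠ e k := fun k hk h => hv ⟨k, hk, h.symm⟩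
    have h2 : m D v (e a) ≠ 2 := by rw [m_symm]; exact (ne_two D hav).2
    let E : ℕ → I := fun k => if k = T.rk then v else e k
    have h4 : ∀ j, j < T.rk → m D v (e j) = if j = a then m D v (e a) else 2 := fun j hj => by
      split_ifs with h
      · rw [h]
      · by_contra h5
        exact h (hP.no_cycle hm hT he hv' hj ha h5 h2)
    have hM : ∀ k, k ≤ T.rk → ∀ j, j ≤ T.rk → m D (E k) (E j) = aug T a (m D v (e a)) k j :=
      fun k hk j hj => by
        simp only [E, aug]
        by_cases c1 : k = T.rk <;> by_cases c2 : j = T.rk <;> simp only [c1, c2, if_true, if_false]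
        · exact m_self D v
        · exact h4 j (by omega)
        · rw [m_symm]; exact h4 k (by omega)
        · exact he k (by omega) j (by omega)
    rcases step T hT a _ ha (h34 _ _ (hv' a ha) h2) with ⟨T', h5, h6, π, h7, h8⟩ | h5
    · exact ⟨T', fun k => E (π k), h5, fun k hk j hj => by
        rw [hM _ (h7 k hk) _ (h7 j hj), h8 k hk j hj], h6⟩
    · refine (hP.not_bad (E := E) (fun k hk j hj e => ?_) hM h5).elim
      simp only [E] at e
      by_cases c1 : k = T.rk <;> by_cases c2 : j = T.rk <;> simp only [c1, c2, if_true, if_false] at e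
      · omega
      · exact absurd e (hv' j (by omega))
      · exact absurd e.symm (hv' k (by omega))
      · exact he.inj k (by omega) j (by omega) e
  have inj : ∀ (T : Ty) (e : ℕ → I), Emb D T e → Function.Injective fun k : Fin T.rk => e k :=
    fun T e he k j h => Fin.ext (he.inj k k.2 j j.2 h)
  obtain ⟨x⟩ : Nonempty I := (Nat.card_pos_iff.mp (by omega)).1
  have all : ∀ n, 1 ≤ n → n ≤ Nat.card I → ∃ (T : Ty) (e : ℕ → I), T.ok' ∧ Emb D T e ∧ T.rk = n := by
    intro n h1
    induction n, h1 using Nat.le_induction with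
    | base => exact fun _ => ⟨Ty.A 1, fun _ => x, le_rfl, fun k hk j hj => by
        simp only [Ty.rk] at hk hj
        rw [m_self, Ty.cm, if_pos (by omega)], rfl⟩
    | succ n h1 ih =>
      intro h2
      obtain ⟨T, e, hT, he, rfl⟩ := ih (by omega)
      refine grow T e hT he fun hs => ?_
      have := Nat.card_le_card_of_surjective (fun k : Fin T.rk => e k) fun v => by
        obtain ⟨k, hk, h⟩ := hs v
        exact ⟨⟨k, hk⟩, h⟩
      simp at this
      omega
  obtain ⟨T, e, hT, he, hn⟩ := all _ (by omega) le_rfl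
  refine ⟨T, ?_, Equiv.ofBijective (fun k : Fin T.rk => e k)
    ((Nat.bijective_iff_injective_and_card _).mpr ⟨inj T e he, by simp [hn]⟩),
    fun i j => he i i.2 j j.2⟩
  rcases T with n | n | n | n | _ <;> simp only [Ty.ok', Ty.ok, Ty.rk] at * <;> omega

end TB
end H20
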