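import Mathlib
import Cfsg.Agent.H20.TB0
import Cfsg.Prelude.Def_Classical
import Cfsg.Agent.H8.TM4
set_option autoImplicit false

namespace H20
namespace TB

open Subgroup
open scoped commutatorElement

universe u

variable (F : Type) [Field F] [Fintype F]

theorem real_A (n : ℕ) (hn : 3 ≤ n) :
    Real (.A n) (fun _ => Fintype.card F) (Matrix.ProjectiveSpecialLinearGroup (Fin (n + 1)) F) := by
  haveI : Finite (H16.zf F (Fin (n + 1) → F)).Isom :=
    Finite.of_injective (fun g v => g.1 v) fun _ _ h => H15.Form.Isom.ext (congrFun h)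
  exact H8.TM.Real.congr (H8.TM.realA (by omega)) (H7.quotCenterCongr (H16.slEG _ F)).symm

end TB
end H20
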