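import Mathlib
import Cfsg.Agent.H20.TB0
import Cfsg.Prelude.Def_Classical
import Cfsg.Agent.H8.TM8
set_option autoImplicit false

namespace H20
namespace TB

open Subgroup
open scoped commutatorElement

universe u

variable (F : Type) [Field F] [Fintype F]

theorem real_Sp (n : ℕ) (hn : 3 ≤ n) : Real (.B n) (fun _ => Fintype.card F) (Cfsg.PSp n F) := by
  have hΦ := H16.sp_good (F := F) (m := n) (by omega)
  have h1 := H15.finrank_sum_fun (F := F) n
  obtain ⟨k, P, h4, -, h5⟩ := H8.TM.exists_PF_good hΦ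
  have := h5 (H16.sp_tr n)
  obtain rfl : k = n := by omega
  haveI := H8.TM.finite_isom (H15.spForm k F)
  haveI := H7.psp_simple (F := F) k (by omega) (by omega)
  refine H8.TM.Real.congr (P.real_B hΦ (by omega) (fun _ _ _ _ _ _ _ _ _ _ _ _ => rfl)
    (H8.TM.qs_of (H7.commutator_eq_top_of_equiv ((H15.spEquiv k F).trans (topEquiv.symm.trans
      (MulEquiv.subgroupCongr (H16.alt_EG hΦ.nd (H15.spForm_isAlt k)).symm))).symm
      (H7.sp_perfect k (Or.inl hn))) (H16.pspEquiv k).symm.isSimpleGroup) (N := Fintype.card F)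
    (fun w => by simp [H15.spForm, H15.sympB_isAlt k F w]) _
    (by rw [show Module.finrank F P.V0 = 0 by omega, pow_zero, one_mul]) Fintype.one_lt_card
    fun _ _ => rfl) (H16.pspEquiv k).symm

theorem real_Oodd (n : ℕ) (hn : 3 ≤ n) (hodd : Odd (Fintype.card F)) :
    Real (.B n) (fun _ => Fintype.card F) (Cfsg.POmega F (Cfsg.quadFormOdd n F)) := by
  have h2 : (2 : F) ≠ 0 := fun h => Nat.not_even_iff_odd.2 hodd (H7.even_card_of_two_eq_zero h)
  have h := H15.qOdd_nondeg (m := n) h2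
  have h1 := H7.finrank_odd (F := F) (m := n)
  obtain ⟨k, P, h4, h5, -⟩ := H8.TM.exists_PF_good (H16.quad_good h (by omega))
  obtain rfl : k = n := by omega
  have := H8.TM.quad_B h hn P (d := 1) (by omega) one_ne_zero (by omega)
  simp only [pow_one, ite_self] at this
  exact this

theorem real_Ominus (n : ℕ) (hn : 3 ≤ n) (a b : F)
    (hab : ∀ z₁ z₂ : F, z₁ ^ 2 + a * z₁ * z₂ + b * z₂ ^ 2 = 0 → z₁ = 0 ∧ z₂ = 0) :
    Real (.B n) (fun i => if i = 0 then Fintype.card F ^ 2 else Fintype.card F)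
      (Cfsg.POmega F (Cfsg.quadFormMinus n F a b)) := by
  have h := H15.qMinus_nondeg (m := n) hab
  have h1 := H7.finrank_minus (F := F) (m := n)
  obtain ⟨P, h4⟩ := H8.TM.exists_PF_dim h (H15.qMinus_hyp n F a b) fun x k1 k2 k3 => by
    have e1 : ∀ i, x (.inl (.inr i)) = 0 := fun i => by
      simpa [Pi.single_apply] using (H15.pol_qMinus a b _ _).symm.trans (k1 i)
    have e2 : ∀ i, x (.inl (.inl i)) = 0 := fun i => by
      simpa [Pi.single_apply] using (H15.pol_qMinus a b _ _).symm.trans (k2 i)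
    have e3 := hab (x (.inr 0)) (x (.inr 1)) (by simpa [H15.qMinus_apply, e1] using k3.2)
    ext (((i | i)) | i)
    exacts [e2 i, e1 i, by fin_cases i; exacts [e3.1, e3.2]]
  exact H8.TM.quad_B h hn P (d := 2) (by omega) two_ne_zero (by omega)

theorem real_Ueven (n : ℕ) (hn : 3 ≤ n) (r : ℕ) (hF : Fintype.card F = r ^ 2) :
    Real (.B n) (fun i => if i = 0 then r else r ^ 2) (Cfsg.PSU (2 * n) F r) := by
  simpa using H8.TM.herm_B hF hn (d := 0) (by omega) rfl

theorem real_Uodd (n : ℕ) (hn : 3 ≤ n) (r : ℕ) (hF : Fintype.card F = r ^ 2) :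
    Real (.B n) (fun i => if i = 0 then r ^ 3 else r ^ 2) (Cfsg.PSU (2 * n + 1) F r) := by
  exact H8.TM.herm_B hF hn (d := 1) le_rfl rfl

theorem real_Oplus (n : ℕ) (hn : 4 ≤ n) :
    Real (.D n) (fun _ => Fintype.card F) (Cfsg.POmega F (Cfsg.quadFormPlus n F)) := by
  have h := H15.qPlus_nondeg (F := F) (m := n)
  have h1 := H7.finrank_plus (F := F) (m := n)
  have h5 : 5 ≤ Module.finrank F (Fin n ⊕ Fin n → F) := by omega
  obtain ⟨P, h4⟩ := H8.TM.exists_PF_dim h (H15.qPlus_hyp n F) fun x k1 k2 _ => by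
    ext (i | i)
    · simpa [Pi.single_apply] using (H15.pol_qPlus _ _).symm.trans (k2 i)
    · simpa [Pi.single_apply] using (H15.pol_qPlus _ _).symm.trans (k1 i)
  haveI := H8.TM.finite_isom (H15.ofQuad (H15.qPlus n F))
  exact H8.TM.Real.congr (P.real_D (H16.quad_good h h5) hn (P.tq_quad h h5 (H16.quad_EG h h5).le)
    (H8.TM.qs_congr (H16.quad_EG h h5) (H7.omega_normal_le_center_or_top h h5)) (H8.TM.quad_N _)
    (by omega)) (H7.quotCenterCongr ((H7.omegaEquiv _).trans
      (MulEquiv.subgroupCongr (H16.quad_EG h h5).symm))).symm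

end TB
end H20
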