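import Mathlib
import Cfsg.Prelude.Def_Classification2
import Cfsg.Agent.H20.TB17
import Cfsg.Agent.H20.TB18
import Cfsg.Agent.H20.TCox
import Cfsg.Agent.H20.TModA
import Cfsg.Agent.H20.TModC
import Cfsg.Agent.H16.AutSp

/-!
# Tits' theorem: finite simple groups with an irreducible BN-pair of rank at least three
-/

set_option autoImplicit false
set_option linter.unusedSectionVars false
set_option linter.unusedVariables false

namespace H20
namespace TB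

open H8 H8.GenSys CS Bld Cfsg

theorem exists_aniso (F : Type*) [Field F] [Finite F] :
    ∃ a b : F, ∀ z₁ z₂ : F, z₁ ^ 2 + a * z₁ * z₂ + b * z₂ ^ 2 = 0 → z₁ = 0 ∧ z₂ = 0 := by
  obtain ⟨c, hc⟩ : ∃ c : F, ∀ t : F, t ^ 2 + t ≠ c := by
    by_contra h
    push Not at h
    have := Finite.injective_iff_surjective.2 h (a₁ := 0) (a₂ := -1) (by ring)
    simp at this
  refine ⟨1, -c, fun y z h => ?_⟩
  by_cases e : z = 0
  · simpa [e] using h
  · exact absurd (by field_simp; linear_combination h) (hc (y / z))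

/-- the symmetry of the diagram `F₄` -/
def Lab.flip {I W : Type*} [Group W] {D : CS I W} (L : Lab .F D) : Lab .F D :=
  ⟨L.ok, (Equiv.swap (0 : Fin 4) 1 * Equiv.swap 2 3).trans L.e, fun i j =>
    (L.ord _ _).trans (by revert i j; decide)⟩

section

variable {G : Type*} [Group G] [Finite G] {P : BNPair G} {T : Ty} (L : Lab T (bnC P))

/-- the parameters -/
noncomputable def Lab.q (i : ℕ) : ℕ := Nat.card ((bnB P).RG (1 : G) (bn0 P : G) (L.nd i))

/-- the orientation -/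
def Lab.ab (i j : ℕ) : Prop := (bnB P).AB (1 : G) (bn0 P : G) (L.nd i) (L.nd j)

theorem Lab.c10 (h : T.m0 = 4) : 2 ≤ L.q 1 ∧
    (L.ab 1 0 → (L.q 0 = L.q 1 ∨ L.q 0 = L.q 1 ^ 2) ∧ (Odd (L.q 1) → ¬ L.ab 0 1)) ∧
    (¬ L.ab 1 0 → (L.q 0 = L.q 1 ∧ Odd (L.q 1) ∧ L.ab 0 1) ∨ L.q 0 ^ 2 = L.q 1 ∨ L.q 0 ^ 2 = L.q 1 ^ 3) :=
  Lab.card4 (bn_opp P) L.nice L.o12 (L.o10.trans h) L.o20 rfl rfl

theorem Lab.ab_iff (h : T.m0 = 4) (h1 : ¬ (L.q 0 = L.q 1 ∧ Odd (L.q 1))) :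
    L.ab 1 0 ↔ (L.q 0 = L.q 1 ∨ L.q 0 = L.q 1 ^ 2) := by
  obtain ⟨h2, h3, h4⟩ := L.c10 h
  refine ⟨fun h => (h3 h).1, fun h => by_contra fun h5 => ?_⟩
  generalize L.q 0 = b at *
  generalize L.q 1 = a at *
  have i := fun m n => Nat.pow_right_inj (m := m) (n := n) h2
  rcases h4 h5 with h6 | h6 | h6
  · exact h1 ⟨h6.1, h6.2.1⟩
  · rcases h with rfl | rfl
    exacts [absurd ((i 2 1).1 (by simpa using h6)) (by decide), absurd ((i 4 1).1 (by simpa [← pow_mul] using h6)) (by decide)]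
  · rcases h with rfl | rfl <;> simp [← pow_mul, i] at h6

theorem Lab.q_eq (h : T ≠ .F) {i : ℕ} (h1 : 1 ≤ i ∨ T.m0 = 3) (hi : i < T.rk) : L.q i = L.q 1 := by
  have e : T.m0 = 3 → L.q 0 = L.q 1 := fun h => by
    obtain ⟨K, _, _, -, k1, k2⟩ := exists_par (bn_opp P) (mou L.nice _) (L.o10.trans h)
    rw [Lab.q, Lab.q, k1, k2]
  induction i using Nat.strong_induction_on with
  | _ i ih =>
    rcases i with _ | _ | i
    · exact e (by omega)
    · rfl
    have := Ty.par_lt L.ok (k := i + 1 + 1) (by omega)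
    refine (L.q_par (bn_opp P) (by omega) hi).trans (ih _ this ?_ (by omega))
    cases T <;> simp_all [Ty.par, Ty.m0]

variable {Γ : Type*} [Group Γ] [Finite Γ] (M : Mod Γ T)

theorem Mod.lab_q (hT : T.ok) (i : Fin T.rk) : (M.lab hT).q i = M.q i := by
  rw [Lab.q, Lab.nd_val]; exact M.card_RG hT i

theorem Lab.biso (hq : ∀ i : Fin T.rk, L.q i = M.q i) (hab : T.m0 = 4 → (L.ab 1 0 ↔ (M.lab L.ok).ab 1 0)) :
    Nonempty (BIso (bnB P) (bnB M.P)) :=
  L.iso (bn_opp P) (M.lab L.ok) (bn_opp M.P) (fun i => by rw [← L.nd_val, M.card_RG]; exact hq i) hab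

variable [IsSimpleGroup G]

theorem Lab.of_mod {q : ℕ → ℕ} (hq : ∀ i < T.rk, L.q i = q i) (hM : ∀ i, M.q i = q i) {X : Type*} [Group X]
    (e : Nonempty (M.L ≃* X)) (hab : T.m0 = 4 → (L.ab 1 0 ↔ (M.lab L.ok).ab 1 0)) : Nonempty (G ≃* X) := by
  obtain ⟨f⟩ := L.biso M (fun i => by rw [hq _ i.2, hM]) hab
  have : Nonempty P.S := ⟨L.nd 0⟩
  obtain ⟨e'⟩ := simple_iso P L.ok M f
  exact ⟨e'.trans e.some⟩

theorem Lab.of_real {q : ℕ → ℕ} (hq : ∀ i < T.rk, L.q i = q i) {X : Type*} [Group X] (h : Real T q X)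
    (h1 : T.m0 = 4 → ¬ (L.q 0 = L.q 1 ∧ Odd (L.q 1))) : Nonempty (G ≃* X) := by
  obtain ⟨Γ, _, _, M, hM, e⟩ := h
  have := Ty.three_le L.ok
  have e0 : (M.lab L.ok).q 0 = L.q 0 := (M.lab_q L.ok ⟨0, by omega⟩).trans (by rw [hM, hq _ (by omega)])
  have e1 : (M.lab L.ok).q 1 = L.q 1 := (M.lab_q L.ok ⟨1, by omega⟩).trans (by rw [hM, hq _ (by omega)])
  exact L.of_mod M hq hM e fun h => by rw [L.ab_iff h (h1 h), Lab.ab_iff _ h (by rw [e0, e1]; exact h1 h), e0, e1]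

theorem caseB {n : ℕ} (L : Lab (.B n) (bnC P)) : IsPSp G ∨ IsPSU G ∨ IsPOmegaOdd G ∨ IsPOmegaMinus G := by
  have hn : 3 ≤ n := L.ok
  obtain ⟨F, _, _, hF⟩ := L.exists_field (bn_opp P)
  change _ = L.q 1 at hF
  have key : ∀ a b, L.q 0 = a → L.q 1 = b → ∀ i < n, L.q i = if i = 0 then a else b := fun a b h1 h2 i hi => by
    split_ifs with h
    exacts [h ▸ h1, h2 ▸ L.q_eq nofun (by omega) hi]
  obtain ⟨h2, h3, h4⟩ := L.c10 rfl
  by_cases c : L.q 0 = L.q 1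
  · have hq : ∀ i < n, L.q i = Fintype.card F := fun i hi => by simpa using key _ _ (c.trans hF.symm) hF.symm i hi
    by_cases o : Odd (L.q 1)
    · obtain ⟨Γ, _, _, M, hM, e⟩ := real_Sp F n hn
      obtain ⟨Γ', _, _, M', hM', e'⟩ := real_Oodd F n hn (hF ▸ o)
      by_cases c1 : L.ab 1 0 ↔ (M.lab L.ok).ab 1 0
      · exact Or.inl ⟨F, inferInstance, inferInstance, n, by omega, by omega, L.of_mod M hq hM e fun _ => c1⟩
      by_cases c2 : L.ab 1 0 ↔ (M'.lab L.ok).ab 1 0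
      · exact Or.inr (Or.inr (Or.inl ⟨F, inferInstance, inferInstance, n, hn, hF ▸ o, L.of_mod M' hq hM' e' fun _ => c2⟩))
      obtain ⟨f⟩ := (M.lab L.ok).biso M' (fun i => by rw [M.lab_q, hM, hM']) fun _ => by tauto
      exact (H16.psp_not_equiv_pOmega (hF ▸ o) n hn).elim (e.some.symm.trans ((M.L_iso L.ok).some.trans
        (f.L0.trans ((M'.L_iso L.ok).some.symm.trans e'.some))))
    · exact Or.inl ⟨F, inferInstance, inferInstance, n, by omega, by omega, L.of_real hq (real_Sp F n hn) (by tauto)⟩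
  have h5 : (Ty.B n).m0 = 4 → ¬ (L.q 0 = L.q 1 ∧ Odd (L.q 1)) := by tauto
  obtain c1 | c1 | c1 : L.q 0 = L.q 1 ^ 2 ∨ L.q 0 ^ 2 = L.q 1 ∨ L.q 0 ^ 2 = L.q 1 ^ 3 := by tauto
  · obtain ⟨a, b, hab⟩ := exists_aniso F
    exact Or.inr (Or.inr (Or.inr ⟨F, inferInstance, inferInstance, n + 1, a, b, by omega, hab,
      L.of_real (key _ _ (hF ▸ c1) hF.symm) (real_Ominus F n hn a b hab) h5⟩))
  · exact Or.inr (Or.inl ⟨F, inferInstance, inferInstance, 2 * n, L.q 0, hF.trans c1.symm, by omega, by omega,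
      L.of_real (key _ _ rfl c1.symm) (real_Ueven F n hn _ (hF.trans c1.symm)) h5⟩)
  · obtain ⟨r, hr⟩ : L.q 1 ∣ L.q 0 := (Nat.pow_dvd_pow_iff two_ne_zero).1 ⟨L.q 1, by rw [c1]; ring⟩
    have e : L.q 1 = r ^ 2 := Nat.eq_of_mul_eq_mul_left (show 0 < L.q 1 ^ 2 by positivity) (by
      rw [hr] at c1; linear_combination -c1)
    exact Or.inr (Or.inl ⟨F, inferInstance, inferInstance, 2 * n + 1, r, hF.trans e, by omega, by omega,
      L.of_real (key _ _ (by rw [hr, e]; ring) e) (real_Uodd F n hn _ (hF.trans e)) h5⟩)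

theorem caseF (L : Lab .F (bnC P)) : Lie.IsoF4 G ∨ Lie.Iso2E6 G := by
  have key : ∀ L : Lab .F (bnC P), ∀ a b, L.q 0 = a → L.q 1 = b → ∀ i < 4, L.q i = if i = 0 ∨ i = 3 then a else b := by
    intro L a b h1 h2 i hi
    have e2 : L.q 2 = L.q 1 := L.q_par (bn_opp P) (k := 2) le_rfl (by decide)
    have e3 : L.q 3 = L.q 0 := L.q_par (bn_opp P) (k := 3) (by omega) (by decide)
    interval_cases i <;> simp [*]
  have sq : ∀ L : Lab .F (bnC P), L.q 0 ^ 2 = L.q 1 → Lie.Iso2E6 G := fun L c => by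
    obtain ⟨F, _, _, hF⟩ := L.exists_field (bn_opp P)
    change _ = L.q 1 at hF
    have h2 := (L.c10 rfl).1
    have h3 : L.q 0 ≠ 1 := fun e => by rw [e] at c; omega
    have hp : IsPrimePow (L.q 0) := (Fintype.isPrimePow_card_of_field (α := F)).dvd ⟨L.q 0, by rw [hF, ← c, pow_two]⟩ h3
    refine ⟨F, inferInstance, inferInstance, L.q 0, hp, hF.trans c.symm, L.of_real (key L _ _ rfl c.symm)
      (real_2E6 F hp (hF.trans c.symm)) fun _ h => ?_⟩
    rw [h.1] at c; nlinarith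
  have f0 : L.flip.q 0 = L.q 1 := rfl
  have f1 : L.flip.q 1 = L.q 0 := rfl
  have f2 : L.flip.ab 1 0 = L.ab 0 1 := rfl
  obtain ⟨h2, h3, h4⟩ := L.c10 rfl
  by_cases c : L.q 0 = L.q 1
  · obtain ⟨F, _, _, hF⟩ := L.exists_field (bn_opp P)
    change _ = L.q 1 at hF
    have hq : ∀ i < 4, L.q i = Fintype.card F := fun i hi => by simpa using key L _ _ (c.trans hF.symm) hF.symm i hi
    have hq' : ∀ i < 4, L.flip.q i = Fintype.card F := fun i hi => by
      simpa using key L.flip _ _ hF.symm (c.trans hF.symm) i hi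
    refine Or.inl ⟨F, inferInstance, inferInstance, ?_⟩
    by_cases o : Odd (L.q 1)
    · obtain ⟨Γ, _, _, M, hM, e⟩ := real_F4 F
      by_cases c1 : L.ab 1 0 ↔ (M.lab L.ok).ab 1 0
      · exact L.of_mod M hq hM e fun _ => c1
      refine L.flip.of_mod M hq' hM e fun _ => ?_
      have a1 : L.q 0 ^ 2 ≠ L.q 1 := by rw [c]; nlinarith
      have a2 : L.q 0 ^ 2 ≠ L.q 1 ^ 3 := by rw [c]; nlinarith
      rw [f2]; tauto
    · exact L.of_real hq (real_F4 F) (by tauto)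
  obtain c1 | c1 | c1 : L.q 0 = L.q 1 ^ 2 ∨ L.q 0 ^ 2 = L.q 1 ∨ L.q 0 ^ 2 = L.q 1 ^ 3 := by tauto
  · exact Or.inr (sq L.flip c1.symm)
  · exact Or.inr (sq L c1)
  · obtain ⟨g2, g3, g4⟩ := L.flip.c10 rfl
    rw [f0, f1] at g3 g4
    rw [f1] at g2
    generalize L.q 0 = b at *
    generalize L.q 1 = a at *
    have i := fun m n => Nat.pow_right_inj (m := m) (n := n) h2
    have i' := fun m n => Nat.pow_right_inj (m := m) (n := n) g2
    obtain rfl | rfl | c2 : a = b ^ 2 ∨ a ^ 2 = b ∨ a ^ 2 = b ^ 3 := by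
      by_cases c3 : L.flip.ab 1 0
      exacts [Or.inl ((g3 c3).1.resolve_left (Ne.symm c)), Or.inr ((g4 c3).resolve_left fun h => c h.1.symm)]
    · simp [← pow_mul, i'] at c1
    · simp [← pow_mul, i] at c1
    · have : b ^ 4 = b ^ 9 := by
        calc b ^ 4 = (a ^ 2) ^ 3 := by rw [show 4 = 2 * 2 from rfl, pow_mul, c1]; ring
          _ = _ := by rw [c2]; ring
      simp [i'] at this

end

theorem s1143 {G : Type*} [Group G] [Finite G] [IsSimpleGroup G] (P : BNPair G) (h3 : 3 ≤ P.rank)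
    (hirr : P.Irreducible) : IsPSL G ∨ IsPSp G ∨ IsPSU G ∨ IsPOmegaOdd G ∨ IsPOmegaPlus G ∨ IsPOmegaMinus G ∨
      IsExceptionalLieType G := by
  obtain ⟨T, hT, e, he⟩ := cox (BN.gens P) (BN.exchange P) (BN.σ_injective P) h3 (fun J ⟨s, hs⟩ ⟨t, ht⟩ => by
    obtain ⟨_, ⟨s, hs, rfl⟩, t, ht, h⟩ := hirr (Subtype.val '' J) (by simp) ⟨_, s, hs, rfl⟩ ⟨t, t.2, by simpa using ht⟩
    refine ⟨s, hs, ⟨t, ht.1⟩, fun h1 => ht.2 ⟨_, h1, rfl⟩, fun h1 => h ?_⟩
    exact (BN.mk_eq_one_iff P (BN.rep P s * BN.rep P ⟨t, ht.1⟩ * (BN.rep P s)⁻¹ * (BN.rep P ⟨t, ht.1⟩)⁻¹)).1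
      (commutatorElement_eq_one_iff_mul_comm.2 h1)) fun i j => fh P
  let L : Lab T (bnC P) := ⟨hT, e, he⟩
  obtain ⟨F, _, _, hF⟩ := L.exists_field (bn_opp P)
  have key : T ≠ .F → T.m0 = 3 → ∀ {X : Type} [Group X], Real T (fun _ => Fintype.card F) X → Nonempty (G ≃* X) :=
    fun h1 h2 X _ h => L.of_real (fun i hi => (L.q_eq h1 (Or.inr h2) hi).trans hF.symm) h (by omega)
  rcases T with n | n | n | n | _
  · exact Or.inl ⟨F, inferInstance, inferInstance, n + 1, by have : 3 ≤ n := hT; omega, by have : 3 ≤ n := hT; omega,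
      key nofun rfl (real_A F n hT)⟩
  · have := caseB L; tauto
  · exact Or.inr (Or.inr (Or.inr (Or.inr (Or.inl ⟨F, inferInstance, inferInstance, n, hT, key nofun rfl (real_Oplus F n hT)⟩))))
  · obtain ⟨h1, h2⟩ := hT
    have : Lie.IsoChevE6 G ∨ Lie.IsoE7 G ∨ Lie.IsoE8 G := by
      interval_cases n
      exacts [Or.inl ⟨F, inferInstance, inferInstance, key nofun rfl (real_E6 F)⟩, Or.inr (Or.inl ⟨F, inferInstance, inferInstance, key nofun rfl (real_E7 F)⟩),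
        Or.inr (Or.inr ⟨F, inferInstance, inferInstance, key nofun rfl (real_E8 F)⟩)]
    unfold IsExceptionalLieType; tauto
  · have := caseF L
    unfold IsExceptionalLieType; tauto

end TB
end H20
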