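import Mathlib
import Cfsg.Agent.H13.K3L0

/-!
# An equivariant additive map from the natural `GL(3,2)`-module
-/

set_option autoImplicit false
set_option linter.unusedSectionVars false
set_option linter.unusedVariables false

open Cfsg H24 Subgroup H13.K3

namespace H20.K3L

universe u

namespace PX2x

/-- the matrix with the given columns -/
def col (a b c : W) : En := Matrix.of fun i j => ![a, b, c] j i

def dt (a b c : W) : ZMod 2 :=
  a 0 * b 1 * c 2 - a 0 * c 1 * b 2 - b 0 * a 1 * c 2 + b 0 * c 1 * a 2 + c 0 * a 1 * b 2 -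
    c 0 * b 1 * a 2

theorem col_inv {a b c : W} (h : dt a b c = 1) : col a b c * (col a b c).adjugate = 1 := by
  rw [Matrix.mul_adjugate, Matrix.det_fin_three]
  have : dt a b c • (1 : En) = 1 := by rw [h, one_smul]
  exact this

def e1 : W := ![0, 1, 0]

def e2 : W := ![0, 0, 1]

theorem col0 (a b c : W) : (col a b c).mulVec e0 = a := by
  ext i
  simp [col, e0, Matrix.mulVec, dotProduct, Fin.sum_univ_three]

theorem col1 (a b c : W) : (col a b c).mulVec e1 = b := by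
  ext i
  simp [col, e1, Matrix.mulVec, dotProduct, Fin.sum_univ_three]

theorem col2 (a b c : W) : (col a b c).mulVec e2 = c := by
  ext i
  simp [col, e2, Matrix.mulVec, dotProduct, Fin.sum_univ_three]

theorem ex1 : ∀ a : W, a ≠ 0 → ∃ b c : W, dt a b c = 1 := by decide

theorem ex2 : ∀ b c : W, b ≠ 0 → c ≠ 0 → b ≠ c → ∃ a : W, dt a b c = 1 := by decide

def S : En := !![1, 0, 0; 1, 1, 0; 0, 0, 1]

theorem SS : S * S = 1 := by decide

theorem fixv : ∀ v : W, Y3.mulVec v = v → S.mulVec v = v → v = 0 := by decide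

theorem addself : ∀ a : W, a + a = 0 := by decide

end PX2x

open PX2x in
theorem px2 {H K : Type u} [Group H] [Group K] [Finite K] (θ : H →* K) (ψ : H →* En)
    (X : Subgroup K) (sur : ∀ A B : En, A * B = 1 → ∃ m, ψ m = A)
    (nX : ∀ m, ∀ x ∈ X, θ m * x * (θ m)⁻¹ ∈ X)
    (ker : ∀ m, ψ m = 1 → ∀ x ∈ X, θ m * x * (θ m)⁻¹ = x) (two : ∀ x ∈ X, x * x = 1)
    (π : K → W) (hπ : ∀ m, ∀ x ∈ X, π (θ m * x * (θ m)⁻¹) = (ψ m).mulVec (π x)) {y : H}
    (hy : ψ y = Y3) (nz : ∀ x ∈ X, x ∈ C{θ y} → x ≠ 1 → π x ≠ 0) {b : K} (hb : b ∈ X)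
    (b1 : b ≠ 1) (fix : ∀ m, (ψ m).mulVec e0 = e0 → θ m * b * (θ m)⁻¹ = b) :
    ∃ β : W → K, (∀ a, β a ∈ X) ∧ (∀ a a', β (a + a') = β a * β a') ∧
      (∀ m a, β ((ψ m).mulVec a) = θ m * β a * (θ m)⁻¹) ∧ β e0 ≠ 1 := by
  classical
  have inv : ∀ m (a : W), (ψ m⁻¹).mulVec ((ψ m).mulVec a) = a := fun m a => by
    rw [Matrix.mulVec_mulVec, ← map_mul, inv_mul_cancel, map_one, Matrix.one_mulVec]
  have wd : ∀ m m', (ψ m).mulVec e0 = (ψ m').mulVec e0 →
      θ m * b * (θ m)⁻¹ = θ m' * b * (θ m')⁻¹ := by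
    intro m m' e
    have h1 := fix (m'⁻¹ * m) (by rw [map_mul, ← Matrix.mulVec_mulVec, e, inv])
    rw [map_mul, map_inv] at h1
    calc θ m * b * (θ m)⁻¹ = θ m' * ((θ m')⁻¹ * θ m * b * ((θ m')⁻¹ * θ m)⁻¹) * (θ m')⁻¹ := by group
      _ = _ := by rw [h1]
  have ex : ∀ a : W, a ≠ 0 → ∃ m, (ψ m).mulVec e0 = a := by
    intro a ha
    obtain ⟨c, d, h⟩ := ex1 a ha
    obtain ⟨m, hm⟩ := sur _ _ (col_inv h)
    exact ⟨m, by rw [hm, col0]⟩
  choose μ hμ using ex
  let β : W → K := fun a => if h : a = 0 then 1 else θ (μ a h) * b * (θ (μ a h))⁻¹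
  have β0 : β 0 = 1 := by simp [β]
  have βm : ∀ m, β ((ψ m).mulVec e0) = θ m * b * (θ m)⁻¹ := by
    intro m
    have h : (ψ m).mulVec e0 ≠ 0 := fun e => by
      have := inv m e0
      rw [e, Matrix.mulVec_zero] at this
      exact absurd this (by decide)
    simp only [β, dif_neg h]
    exact wd _ _ (hμ _ h)
  have βX : ∀ a, β a ∈ X := by
    intro a
    by_cases h : a = 0
    · rw [h, β0]; exact one_mem _
    · simp only [β, dif_neg h]
      exact nX _ _ hb
  have eqv : ∀ m a, β ((ψ m).mulVec a) = θ m * β a * (θ m)⁻¹ := by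
    intro m a
    by_cases h : a = 0
    · rw [h, Matrix.mulVec_zero, β0]; simp
    · rw [← hμ a h, Matrix.mulVec_mulVec, ← map_mul, βm, βm, map_mul]
      group
  have comm : ∀ u ∈ X, ∀ v ∈ X, u * v = v * u := by
    intro u hu v hv
    rw [← inv_eq_of_mul_eq_one_right (two _ (mul_mem hu hv)), mul_inv_rev,
      inv_eq_of_mul_eq_one_right (two u hu), inv_eq_of_mul_eq_one_right (two v hv)]
  have base : β (e1 + e2) = β e1 * β e2 := by
    have lX : β e1 * β e2 * β (e1 + e2) ∈ X := mul_mem (mul_mem (βX _) (βX _)) (βX _)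
    have cj : ∀ m, θ m * (β e1 * β e2 * β (e1 + e2)) * (θ m)⁻¹ =
        β ((ψ m).mulVec e1) * β ((ψ m).mulVec e2) * β ((ψ m).mulVec (e1 + e2)) := by
      intro m
      rw [eqv, eqv, eqv]
      group
    have h1 : θ y * (β e1 * β e2 * β (e1 + e2)) * (θ y)⁻¹ = β e1 * β e2 * β (e1 + e2) := by
      rw [cj, hy, show Y3.mulVec e1 = e2 by decide, show Y3.mulVec e2 = e1 + e2 by decide,
        show Y3.mulVec (e1 + e2) = e1 by decide, comm _ (mul_mem (βX _) (βX _)) _ (βX e1),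
        mul_assoc]
    obtain ⟨s, hs⟩ := sur _ _ SS
    have h2 : θ s * (β e1 * β e2 * β (e1 + e2)) * (θ s)⁻¹ = β e1 * β e2 * β (e1 + e2) := by
      rw [cj, hs, show S.mulVec e1 = e1 by decide, show S.mulVec e2 = e2 by decide,
        show S.mulVec (e1 + e2) = e1 + e2 by decide]
    have h3 := hπ y _ lX
    have h4 := hπ s _ lX
    rw [h1, hy] at h3
    rw [h2, hs] at h4
    have h5 : β e1 * β e2 * β (e1 + e2) = 1 := by
      by_contra hn
      exact nz _ lX (mem_C1_comm.1 (mem_C1_iff_conj.2 h1)) hn (fixv _ h3.symm h4.symm)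
    rw [eq_inv_of_mul_eq_one_right h5]
    exact inv_eq_of_mul_eq_one_right (two _ (mul_mem (βX _) (βX _)))
  refine ⟨β, βX, fun a a' => ?_, eqv, ?_⟩
  · by_cases h : a = 0
    · rw [h, zero_add, β0, one_mul]
    by_cases h' : a' = 0
    · rw [h', add_zero, β0, mul_one]
    by_cases e : a = a'
    · rw [← e, addself, β0, two _ (βX a)]
    obtain ⟨c, hc⟩ := ex2 a a' h h' e
    obtain ⟨m, hm⟩ := sur _ _ (col_inv hc)
    have h1 : (ψ m).mulVec e1 = a := by rw [hm, col1]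
    have h2 : (ψ m).mulVec e2 = a' := by rw [hm, col2]
    rw [← h1, ← h2, ← Matrix.mulVec_add, eqv, eqv, eqv, base]
    group
  · have := βm 1
    rw [map_one, Matrix.one_mulVec, map_one] at this
    rw [this]
    simpa using b1

end H20.K3L
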