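import Mathlib
import Cfsg.Agent.H24.Base5
import Cfsg.Agent.H26.Coprime
import Cfsg.Agent.H25.Pump
import Cfsg.Agent.H5.LyA
import Cfsg.Agent.H27.PF14

/-!
# Solomon's theorem on intrinsic `2A_n` components: vocabulary
-/

set_option autoImplicit false

namespace H20.So

open Subgroup Equiv Equiv.Perm Cfsg H24 H23 H25.LB H5.Ly
open scoped commutatorElement

universe u

variable {G : Type*} [Group G]

/-- `A / O(A)` is the double cover `2A_n` (the even part `Mn n n` of the pin group `PP n`). -/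
def TyG (n : ℕ) (A : Type*) [Group A] : Prop :=
  ∃ π : A →* PP n, π.range = Mn n n ∧ Odd (Nat.card π.ker)

/-- `K / O(K) ≅ 2A_n`. -/
abbrev Ty (n : ℕ) (K : Subgroup G) : Prop := TyG n K

/-- elements normalising `K` and centralising `K / O(K)` -/
def cz (K : Subgroup G) : Subgroup G := N[K] ⊓ cmod K (opp 2 K)

/-- the 2-generated part of `K ⊓ W` -/
abbrev Kx (K W : Subgroup G) : Subgroup G := pGen 2 (K ⊓ W)

/-- Coordinates for `K` with `K / O(K) ≅ 2A_n`: `π : K → 2A_n` and `φ : N(K) → S_n`. -/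
structure Act (n : ℕ) (K : Subgroup G) where
  π : G → PP n
  φ : G → Perm (Fin n)
  π_mul : ∀ {a b : G}, a ∈ K → b ∈ K → π (a * b) = π a * π b
  φ_mul : ∀ {a b : G}, a ∈ N[K] → b ∈ N[K] → φ (a * b) = φ a * φ b
  φ_π : ∀ {a : G}, a ∈ K → φ a = pr (π a)
  even : ∀ {a : G}, a ∈ K → sign (φ a) = 1
  surj : ∀ x : PP n, sign (pr x) = 1 → ∃ a ∈ K, π a = x
  π_one : ∀ {a : G}, a ∈ K → (π a = 1 ↔ a ∈ opp 2 K)
  φ_one : ∀ {a : G}, a ∈ N[K] → (φ a = 1 ↔ a ∈ cz K)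
  conj : ∀ {g a : G} {x : PP n}, g ∈ N[K] → a ∈ K → pr x = φ g →
    π (g * a * g⁻¹) = x * π a * x⁻¹

/-- `K` is a 2-component of `H ≤ C(t)` of type `2A_n` containing the involution `t`. -/
structure Pc (n : ℕ) (H : Subgroup G) (t : G) (K : Subgroup G) : Prop where
  iv : orderOf t = 2
  mem : t ∈ K
  comp : IsPCompOf 2 K H
  cent : H ≤ C{t}
  ty : Ty n K

/-- the hypothesis of the theorem -/
abbrev Pr (n : ℕ) (t : G) (K : Subgroup G) : Prop := Pc n C{t} t K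

/-- the non-solvable part of `D` has order at least `n!/2` -/
def Big (n : ℕ) (D : Subgroup G) : Prop :=
  ∀ R : Subgroup G, R ≤ D → D ≤ N[R] → Sol R → n.factorial ≤ 2 * R.relIndex D

/-- the conclusion of the theorem: the pump-up `J` of `K` in `W` -/
structure Cn (W : Subgroup G) (t : G) (K J : Subgroup G) : Prop where
  comp : IsPCompOf 2 J W
  le : K ≤ J
  cent : J ⊓ C{t} ≤ K ⊔ opp 2 J
  core : opp 2 K ≤ opp 2 J
  ty : J ≤ K ⊔ opp 2 J ∨ IsSimpleGroup (J ⧸ pPrimeCore 2 J)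

/-- the theorem for the group `X` -/
def Main (n : ℕ) (X : Type*) [Group X] : Prop :=
  ∀ (t : X) (K : Subgroup X), Pr n t K → ∃ J, Cn ⊤ t K J

/-- the theorem for all proper subgroups -/
def IH (n : ℕ) (X : Type*) [Group X] : Prop :=
  ∀ W : Subgroup X, W ≠ ⊤ → ∀ (t : X) (K : Subgroup X), Pc n (W ⊓ C{t}) t K → ∃ J, Cn W t K J

/-- pair of type I -/
def TI (n : ℕ) (t s : G) : Prop := ∀ K, Pr n t K → s ∈ cz K

/-- pair of type II -/
def TII (n : ℕ) (t s : G) : Prop := n ≤ 11 ∧ ∀ K, Pr n t K → s ∈ K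

/-- an involution with four transpositions -/
def T8 {n : ℕ} (σ : Perm (Fin n)) : Prop := σ * σ = 1 ∧ σ.support.card = 8

/-- neighbours: commuting involutions of type `2^4` whose product has type `2^4` -/
def Nb {n : ℕ} (σ τ : Perm (Fin n)) : Prop := T8 σ ∧ T8 τ ∧ T8 (σ * τ) ∧ σ * τ = τ * σ

/-- the product of two of the transpositions of an involution -/
def ee {n : ℕ} (σ : Perm (Fin n)) (a c : Fin n) : Perm (Fin n) := swap a (σ a) * swap c (σ c)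

/-- `a`, `c` lie in different 2-cycles of `σ` -/
def Bl {n : ℕ} (σ : Perm (Fin n)) (a c : Fin n) : Prop := σ a ≠ a ∧ σ c ≠ c ∧ c ≠ a ∧ c ≠ σ a

/-- `μ` fixes the support of `σ` pointwise -/
def Fx {n : ℕ} (σ μ : Perm (Fin n)) : Prop := ∀ i, σ i ≠ i → μ i = i

/-- The situation in which pairs of type II exist. -/
structure Ctx (n : ℕ) (X : Type*) [Group X] where
  t0 : X
  K : X → Subgroup X
  h8 : 8 ≤ n
  h11 : n ≤ 11
  ih : IH n X
  pc : ∀ {t : X}, IsConj t0 t → Pr n t (K t)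
  uniq : ∀ {t : X} {L : Subgroup X}, IsConj t0 t → Pr n t L → L = K t
  inv : ∀ {t u : X}, IsConj t0 t → u ∈ K t → orderOf u = 2 → IsConj t0 u
  dich : ∀ {t s : X}, IsConj t0 t → IsConj t0 s → s * t = t * s → s ∈ cz (K t) ∨ s ∈ K t
  symI : ∀ {t s : X}, IsConj t0 t → IsConj t0 s → s * t = t * s → s ∈ cz (K t) → t ∈ cz (K s)
  symII : ∀ {t s : X}, IsConj t0 t → IsConj t0 s → s ∈ K t → t ∈ K s

namespace Ctx
variable {n : ℕ} (c : Ctx n G)

/-- the class of involutions -/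
abbrev T (t : G) : Prop := IsConj c.t0 t

/-- edges of type II (loops allowed) -/
def Adj (t s : G) : Prop := c.T t ∧ c.T s ∧ s ∈ c.K t

/-- the graph of type II pairs is connected -/
def Conn : Prop := ∀ s, c.T s → Relation.ReflTransGen c.Adj c.t0 s

end Ctx

/-! ### small tools -/

theorem iv_mul {t : G} (h : orderOf t = 2) : t * t = 1 := by rw [← sq, ← h, pow_orderOf_eq_one]

theorem iv_ne {t : G} (h : orderOf t = 2) : t ≠ 1 := by rintro rfl; simp at h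

theorem iv_inv {t : G} (h : t * t = 1) : t⁻¹ = t := inv_eq_of_mul_eq_one_right h

theorem iv_of {t : G} (h : t * t = 1) (h1 : t ≠ 1) : orderOf t = 2 :=
  orderOf_eq_prime (by rw [sq]; exact h) h1

theorem iv_conj {t : G} (h : orderOf t = 2) (g : G) : orderOf (g * t * g⁻¹) = 2 := by
  rw [← h]; exact (MulAut.conj g).orderOf_eq t

theorem mem_C1 {x t : G} : x ∈ C{t} ↔ x * t = t * x := mem_centralizer_singleton_iff

theorem mem_cz [Finite G] {K : Subgroup G} {x : G} :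
    x ∈ cz K ↔ x ∈ N[K] ∧ ∀ k ∈ K, ⁅k, x⁆ ∈ opp 2 K :=
  ⟨fun h => ⟨h.1, (mem_cmod.1 h.2).2⟩,
    fun h => ⟨h.1, mem_cmod.2 ⟨normalizer_le_normalizer_opp 2 K h.1, h.2⟩⟩⟩

theorem cz_le (K : Subgroup G) : cz K ≤ N[K] := inf_le_left

theorem odd_opp [Finite G] (H : Subgroup G) : Odd (Nat.card (opp 2 H)) :=
  cop_two_iff_odd.1 (opp_cop 2 H)

theorem sol_of_odd [Finite G] {H : Subgroup G} (h : Odd (Nat.card H)) : Sol H :=
  H27.Feit_Thompson H h

theorem odd_orderOf_of_mem [Finite G] {H : Subgroup G} (h : Odd (Nat.card H)) {x : G}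
    (hx : x ∈ H) : Odd (orderOf x) :=
  h.of_dvd_nat (by simpa using orderOf_dvd_natCard (⟨x, hx⟩ : H))

namespace Act
variable {n : ℕ} {K : Subgroup G} (A : Act n K)

/-- `φ` as a homomorphism on a subgroup of `N(K)` -/
def hom {D : Subgroup G} (h : D ≤ N[K]) : D →* Perm (Fin n) :=
  MonoidHom.mk' (fun d => A.φ d) fun a b => A.φ_mul (h a.2) (h b.2)

/-- `π` as a homomorphism on a subgroup of `K` -/
noncomputable def homπ {D : Subgroup G} (h : D ≤ K) : D →* PP n :=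
  MonoidHom.mk' (fun d => A.π d) fun a b => A.π_mul (h a.2) (h b.2)

theorem φ1 : A.φ 1 = 1 := map_one (A.hom le_rfl)
theorem π1 : A.π 1 = 1 := map_one (A.homπ le_rfl)
theorem φ_inv {a : G} (h : a ∈ N[K]) : A.φ a⁻¹ = (A.φ a)⁻¹ := map_inv (A.hom le_rfl) ⟨a, h⟩
theorem π_inv {a : G} (h : a ∈ K) : A.π a⁻¹ = (A.π a)⁻¹ := map_inv (A.homπ le_rfl) ⟨a, h⟩
theorem φ_pow {a : G} (h : a ∈ N[K]) (k : ℕ) : A.φ (a ^ k) = A.φ a ^ k :=
  map_pow (A.hom le_rfl) ⟨a, h⟩ k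
theorem π_pow {a : G} (h : a ∈ K) (k : ℕ) : A.π (a ^ k) = A.π a ^ k :=
  map_pow (A.homπ le_rfl) ⟨a, h⟩ k
theorem φ_conj {g a : G} (hg : g ∈ N[K]) (h : a ∈ N[K]) :
    A.φ (g * a * g⁻¹) = A.φ g * A.φ a * (A.φ g)⁻¹ := by
  rw [A.φ_mul (mul_mem hg h) (inv_mem hg), A.φ_mul hg h, A.φ_inv hg]
theorem φ_comm {g a : G} (hg : g ∈ N[K]) (h : a ∈ N[K]) : A.φ ⁅g, a⁆ = ⁅A.φ g, A.φ a⁆ := by
  rw [commutatorElement_def, A.φ_mul (mul_mem (mul_mem hg h) (inv_mem hg)) (inv_mem h),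
    A.φ_conj hg h, A.φ_inv h, commutatorElement_def]
theorem π_comm {g a : G} (hg : g ∈ K) (h : a ∈ K) : A.π ⁅g, a⁆ = ⁅A.π g, A.π a⁆ := by
  rw [commutatorElement_def, A.π_mul (mul_mem (mul_mem hg h) (inv_mem hg)) (inv_mem h),
    A.π_mul (mul_mem hg h) (inv_mem hg), A.π_mul hg h, A.π_inv hg, A.π_inv h,
    commutatorElement_def]
theorem φ_commute {g a : G} (hg : g ∈ N[K]) (h : a ∈ N[K]) (e : g * a = a * g) :
    A.φ g * A.φ a = A.φ a * A.φ g := by rw [← A.φ_mul hg h, e, A.φ_mul h hg]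
theorem φ_sq {b : G} (h : b ∈ N[K]) (e : b * b = 1) : A.φ b * A.φ b = 1 := by
  rw [← A.φ_mul h h, e, A.φ1]
theorem sign_π {a : G} (h : a ∈ K) : sign (pr (A.π a)) = 1 := by rw [← A.φ_π h, A.even h]
theorem φ_surj {ρ : Perm (Fin n)} (h : sign ρ = 1) : ∃ a ∈ K, A.φ a = ρ := by
  obtain ⟨x, rfl⟩ := pr_surj ρ
  obtain ⟨a, ha, rfl⟩ := A.surj x h
  exact ⟨a, ha, A.φ_π ha⟩
theorem odd_φ [Finite G] {a : G} (h : a ∈ N[K]) (ho : Odd (orderOf a)) : Odd (orderOf (A.φ a)) :=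
  ho.of_dvd_nat ((orderOf_map_dvd (A.hom le_rfl) ⟨a, h⟩).trans (by simp))

end Act

end H20.So
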