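import Mathlib
import Cfsg.Agent.H20.So0
import Cfsg.Agent.H4.SoV

set_option autoImplicit false
set_option linter.all false

namespace H20.So

open Subgroup Equiv Equiv.Perm Cfsg H24 H23 H25.LB H5.Ly H4.So
open scoped commutatorElement

variable {n : ℕ}

theorem p1_ai (ρ : Perm (Fin n)) (i : Fin n) : ρ (ρ⁻¹ i) = i := by simp

theorem Fx.mul {σ μ ν : Perm (Fin n)} (h : Fx σ μ) (h' : Fx σ ν) : Fx σ (μ * ν) := fun i hi => by
  rw [mul_apply, h' i hi, h i hi]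
theorem Fx.of_mem_zpowers {σ μ ν : Perm (Fin n)} (h : Fx σ μ) (h' : ν ∈ zpowers μ) : Fx σ ν := by
  obtain ⟨k, rfl⟩ := h'
  exact fun i hi => zpow_apply_eq_self_of_apply_eq_self (h i hi) k
theorem Fx.eq_one {σ : Perm (Fin n)} (h : Fx σ σ) : σ = 1 :=
  Equiv.ext fun i => by_contra fun hi => hi (h i hi)
theorem Fx.comm {σ μ : Perm (Fin n)} (h : Fx σ μ) : σ * μ = μ * σ :=
  (show Perm.Disjoint σ μ from fun i => (em _).imp_right (h i)).commute
theorem Fx.comm' {σ μ ρ : Perm (Fin n)} (h : Fx σ μ) (hρ : ∀ i, σ i = i → ρ i = i) :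
    μ * ρ = ρ * μ :=
  (show Perm.Disjoint μ ρ from fun i => (em (σ i = i)).symm.imp (h i) (hρ i)).commute
theorem Fx.conj {σ μ ρ : Perm (Fin n)} (h : Fx σ μ) (hρ : σ * ρ = ρ * σ) : Fx σ (ρ * μ * ρ⁻¹) := fun i hi => by
  rw [mul_apply, mul_apply, h _ fun e => hi (by
    have := congrArg ρ e
    rwa [← mul_apply, ← hρ, mul_apply, p1_ai ρ] at this), p1_ai ρ]
theorem Fx.inv {σ μ : Perm (Fin n)} (h : Fx σ μ) : Fx σ μ⁻¹ := h.of_mem_zpowers (inv_mem (mem_zpowers μ))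

theorem p_l1 (hn : 8 ≤ n) {x : PP n} (h2 : pr x * pr x = 1) (h1 : pr x ≠ 1) :
    ∃ y : PP n, sign (pr y) = 1 ∧ y * x * y⁻¹ = zz * x := by
  have hq := sq_ap h2
  have k : ∀ y : PP n, x * y = zz * y * x → y * x * y⁻¹ = zz * x := fun y h => by
    rw [mul_inv_eq_iff_eq_mul, mul_assoc, h, ← mul_assoc, ← mul_assoc, zz_mul_zz, one_mul]
  obtain ⟨a, ha⟩ : ∃ a, pr x a ≠ a := by_contra fun h => h1 (Equiv.ext fun i => by_contra fun hi => h ⟨i, hi⟩)
  by_cases h : ∃ c, pr x c ≠ c ∧ c ≠ a ∧ c ≠ pr x a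
  · obtain ⟨c, hc, h3, h4⟩ := h
    have h5 := (pr x).injective.ne h3.symm
    refine ⟨vv h3.symm * vv h5, by simp [h3.symm, h5], k _ ?_⟩
    rw [two_vv, vv_congr ((pr x).injective.ne h5) h3.symm (hq a) (hq c),
      vv_anti h3.symm h5 ha.symm (fun e => h4 (by rw [e, hq])) h4 hc.symm]
  · obtain ⟨p, q, -, -, hp, hq', -, -, hpq, -⟩ := pick4 {a, pr x a}
      (le_trans (Nat.add_le_add_right Finset.card_le_two 4) (by omega))
    simp only [Finset.mem_insert, Finset.mem_singleton, not_or] at hp hq'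
    refine ⟨vv ha.symm * vv hpq, by simp [ha.symm, hpq], k _ ?_⟩
    rw [two_vv, vv_flip hq, vv_congr ((pr x).injective.ne hpq) hpq (by_contra fun e => h ⟨p, e, hp⟩)
      (by_contra fun e => h ⟨q, e, hq'⟩), mul_assoc zz]

theorem exists_bl {σ : Perm (Fin n)} (h2 : σ * σ = 1) (h4 : 3 ≤ σ.support.card) :
    ∃ a c, Bl σ a c := by
  obtain ⟨a, ha, -⟩ := pick (σ := σ) ∅ (by simp only [Finset.card_empty]; omega)
  obtain ⟨c, hc, h⟩ := pick (σ := σ) {a, σ a} (lt_of_le_of_lt Finset.card_le_two h4)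
  simp only [Finset.mem_insert, Finset.mem_singleton, not_or] at h
  exact ⟨a, c, ha, hc, h⟩

theorem ee_sq {σ : Perm (Fin n)} (h2 : σ * σ = 1) {a c : Fin n} (h : Bl σ a c) {y : PP n}
    (hy : pr y = ee σ a c) : y * y = zz :=
  sq_double h.1.symm h.2.1.symm h.2.2.1.symm (fun e => h.2.2.2 (by rw [e, sq_ap h2])) h.2.2.2.symm
    (σ.injective.ne h.2.2.1.symm) hy

theorem ee_mul_self {σ : Perm (Fin n)} (h2 : σ * σ = 1) {a c : Fin n} (h : Bl σ a c) :
    ee σ a c * ee σ a c = 1 ∧ ee σ a c ≠ 1 := by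
  refine ⟨sub_sq (sq_ap h2) (sub_sw (sq_ap h2) h.2.2.1 h.2.2.2), fun e => h.1 ?_⟩
  have := congrArg (fun f : Perm (Fin n) => f a) e
  rwa [ee, mul_apply, swap_apply_of_ne_of_ne h.2.2.1.symm (fun e => h.2.2.2 (by rw [e, sq_ap h2])),
    swap_apply_left] at this

theorem p_q2 (hn : 8 ≤ n) {x : PP n} (h2 : pr x * pr x = 1) :
    ∃ y1 y2 : PP n, sign (pr y1) = 1 ∧ sign (pr y2) = 1 ∧ x * y1 = y1 * x ∧ x * y2 = y2 * x ∧
      pr y1 * pr y1 = 1 ∧ pr y2 * pr y2 = 1 ∧ ⁅y1, y2⁆ = zz := by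
  have hq := sq_ap h2
  have k : ∀ {y : PP n}, y * y = zz → pr y * pr y = 1 := fun {y} h => by rw [← map_mul, h, pr_zz]
  by_cases h : 5 ≤ (pr x).support.card
  · obtain ⟨a, c, hb⟩ := exists_bl h2 (by omega)
    obtain ⟨d, hd, d1, d2, d3, d4⟩ := third h a c
    have s1 := ee_sq h2 hb (y := vv hb.1.symm * vv hb.2.1.symm) rfl
    have s2 := ee_sq h2 (a := c) (c := d) ⟨hb.2.1, hd, d3, d4⟩ (y := vv hb.2.1.symm * vv hd.symm) rfl
    refine ⟨_, _, by simp [hb.1.symm, hb.2.1.symm], by simp [hb.2.1.symm, hd.symm], blk_comm hq _ _,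
      blk_comm hq _ _, k s1, k s2, q8 s1 s2 (ee_sq h2 (a := a) (c := d) ⟨hb.1, hd, d1, d2⟩ ?_)⟩
    simp [ee, mul_assoc]
  · obtain ⟨a, b, c, d, ha, hb, hc, hd, hab, hac, had, hbc, hbd, hcd⟩ := pick4 (pr x).support (by omega)
    rw [notMem_support] at ha hb hc hd
    have s1 := sq_double hab hcd hac had hbc hbd (x := vv hab * vv hcd) rfl
    have s2 := sq_double hac hbd hab had hbc.symm hcd (x := vv hac * vv hbd) rfl
    refine ⟨_, _, by simp [hab, hcd], by simp [hac, hbd], fix_comm _ _ ha hb hc hd, fix_comm _ _ ha hc hb hd,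
      k s1, k s2, q8 s1 s2 (sq_double had hbc hab hac hbd.symm hcd.symm (Equiv.ext fun i => ?_))⟩
    simp only [map_mul, pr_vv, mul_apply, swap_apply_def]
    grind

theorem p_g1a {σ : Perm (Fin n)} (hf : σ.support.card + 4 ≤ n) :
    ∃ μ1 μ2 : Perm (Fin n), μ1 ^ 3 = 1 ∧ μ2 ^ 3 = 1 ∧ Fx σ μ1 ∧ Fx σ μ2 ∧
      ∀ y : PP n, pr y = μ1 * μ2 → y * y = zz := by
  obtain ⟨a, b, c, d, ha, hb, hc, hd, hab, hac, had, hbc, hbd, hcd⟩ := pick4 σ.support hf
  rw [notMem_support] at ha hb hc hd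
  have ne : ∀ {x u : Fin n}, σ x ≠ x → σ u = u → x ≠ u := fun h1 h2 h3 => h1 (h3 ▸ h2)
  exact ⟨_, _, c3_cube hab hac hbc, c3_cube hbc hbd hcd,
    fun i hi => sw2_fix (ne hi ha) (ne hi hb) (ne hi hb) (ne hi hc),
    fun i hi => sw2_fix (ne hi hb) (ne hi hc) (ne hi hc) (ne hi hd),
    fun y hy => sq_double hab hcd hac had hbc hbd (by rw [hy]; simp [mul_assoc])⟩

theorem p_g1b {σ : Perm (Fin n)} (h2 : σ * σ = 1) (h6 : 5 ≤ σ.support.card) {a c : Fin n}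
    (h : Bl σ a c) : ∃ μ1 μ2 : Perm (Fin n), μ1 ^ 3 = 1 ∧ μ2 ^ 3 = 1 ∧ σ * μ1 = μ1 * σ ∧
      σ * μ2 = μ2 * σ ∧ μ1 * μ2 = ee σ a c := by
  obtain ⟨d, hd, d1, d2, d3, d4⟩ := third h6 a c
  obtain ⟨ha, hc, c1, c2⟩ := h
  have q1 := sq_ap h2 a
  have q2 := sq_ap h2 c
  have q3 := sq_ap h2 d
  let f : Fin 6 ↪ Fin n := ⟨![a, σ a, c, σ c, d, σ d], List.nodup_ofFn.1 (by simp; grind)⟩
  have k : ∀ i, σ (f i) = f ((swap 0 1 * swap 2 3 * swap 4 5 : Perm (Fin 6)) i) := fun i => by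
    fin_cases i
    exacts [rfl, q1, rfl, q2, rfl, q3]
  refine ⟨via f (swap 0 2 * swap 2 4 * (swap 1 3 * swap 3 5)),
    via f ((swap 0 2 * swap 2 4 * (swap 1 3 * swap 3 5))⁻¹ * (swap 0 1 * swap 2 3)), ?_, ?_,
    via_comm f k (by decide +kernel), via_comm f k (by decide +kernel), ?_⟩
  · rw [← map_pow, map_eq_one_iff _ (via_inj f)]; decide +kernel
  · rw [← map_pow, map_eq_one_iff _ (via_inj f)]; decide +kernel
  · rw [← map_mul, mul_inv_cancel_left, map_mul, via_swap, via_swap]; rfl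

theorem ee_lift {x : PP n} (h2 : pr x * pr x = 1) {a c : Fin n} (h : Bl (pr x) a c) :
    ∃ y : PP n, pr y = ee (pr x) a c ∧ sign (pr y) = 1 ∧ x * y = y * x :=
  ⟨vv h.1.symm * vv h.2.1.symm, rfl, by simp [h.1.symm, h.2.1.symm], blk_comm (sq_ap h2) _ _⟩

theorem ee_base {σ ρ : Perm (Fin n)} (h2 : σ * σ = 1) {a c : Fin n} (h : Bl σ a c)
    (hρ : σ * ρ = ρ * σ) : ⁅ee σ a c, ρ⁆ * ⁅ee σ a c, ρ⁆ = 1 := by
  have hq := sq_ap h2
  have s1 : ∀ x, ee σ a c x = x ∨ ee σ a c x = σ x := sub_sw hq h.2.2.1 h.2.2.2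
  refine sub_sq hq fun x => ?_
  rw [commutatorElement_def, inv_eq_of_mul_eq_one_left (ee_mul_self h2 h).1]
  simp only [mul_apply]
  rcases s1 (ρ⁻¹ x) with e | e <;> rw [e]
  · rw [p1_ai ρ]; exact s1 x
  · rw [← mul_apply ρ σ, ← hρ, mul_apply, p1_ai ρ]
    exact (s1 (σ x)).symm.imp_left fun e => e.trans (hq x)

theorem p_ot {τ η : Perm (Fin n)} (h2 : τ * τ = 1) (hc : τ * η = η * τ) (ho : Odd (orderOf η))
    {a : Fin n} (ha : τ a ≠ a) (hη : η a ≠ a) :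
    Bl τ a (η a) ∧ Bl τ a (η (η a)) ∧ 5 ≤ τ.support.card ∧
      ⁅ee τ a (η a), η⁆ = ee τ a (η (η a)) := by
  have hq := sq_ap h2
  have c : ∀ x, τ (η x) = η (τ x) := fun x => by rw [← mul_apply, hc, mul_apply]
  have m : ∀ {x}, τ x ≠ x → τ (η x) ≠ η x := fun {x} h => by rw [c]; exact η.injective.ne h
  have e1 : η (η a) ≠ a := fun e => hη (odd_fix ho e)
  have e2 : η a ≠ τ a := fun e => e1 (by rw [e, ← c, e, hq])
  have e3 : η (η a) ≠ τ a := fun e => e1 (odd_fix (η := η * η) (ho.of_dvd_nat (pow_two η ▸ orderOf_pow_dvd 2)) (by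
    rw [mul_apply, mul_apply, e, ← c, ← c, e, hq]))
  have e4 : η (η a) ≠ η a := η.injective.ne hη
  have e5 : η (η a) ≠ τ (η a) := by rw [c]; exact η.injective.ne e2
  refine ⟨⟨ha, m ha, hη, e2⟩, ⟨ha, m (m ha), e1, e3⟩, ?_, ?_⟩
  · have q1 := hq a
    have q2 := hq (η a)
    have m1 := m ha
    have m2 := m m1
    refine le_trans ?_ (Finset.card_le_card (s := [a, τ a, η a, τ (η a), η (η a)].toFinset) fun x hx => ?_)
    · rw [List.toFinset_card_of_nodup (by simp; grind)]; rfl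
    · simp at hx
      rw [mem_support]
      grind
  · have e6 : η a ≠ τ (η (η a)) := fun e => e5 (by rw [← hq (η (η a)), ← e])
    rw [commutatorElement_def, ee, ee, ← sw_cancel (c := η a) (d := τ (η a)) e4.symm e6 e5.symm
      (τ.injective.ne e4.symm), c (η a), swap_apply_apply η (η a)]
    conv_rhs => arg 2; arg 2; rw [c a, swap_apply_apply η a]
    simp only [mul_inv_rev, swap_inv]
    group

theorem p_rho {τ η : Perm (Fin n)} (h2 : τ * τ = 1) (hη : η * η = τ) (h8 : 8 < τ.support.card) :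
    ∃ ρ : Perm (Fin n), ρ ^ 3 = 1 ∧ τ * ρ = ρ * τ ∧ ¬ Fx τ (⁅η, ρ⁆ ^ 4) := by
  have hq := sq_ap h2
  have hη' : ∀ x, η (η x) = τ x := fun x => by rw [← mul_apply, hη]
  let O : Fin n → Finset (Fin n) := fun x => {x, η x, τ x, η (τ x)}
  have hO : ∀ x, (O x).card ≤ 4 := fun x => Finset.card_le_four
  obtain ⟨x1, m1, -⟩ := pick (σ := τ) ∅ (by simp only [Finset.card_empty]; omega)
  obtain ⟨x2, m2, n2⟩ := pick (σ := τ) (O x1) (by have := hO x1; omega)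
  obtain ⟨x3, m3, n3⟩ := pick (σ := τ) (O x1 ∪ O x2)
    (by have := hO x1; have := hO x2; have := Finset.card_union_le (O x1) (O x2); omega)
  simp only [O, Finset.mem_union, Finset.mem_insert, Finset.mem_singleton, not_or] at n2 n3
  obtain ⟨ρ, -, r2, r3, r4, r5⟩ := exists_rho hq hη' m1 m2 m3 n2 n3
  refine ⟨ρ, r2, r4.symm, fun h => r5 (Equiv.ext fun x => ?_)⟩
  by_cases hx : τ x = x
  · refine pow_apply_eq_self_of_apply_eq_self ?_ 4
    have h3 : τ (η⁻¹ x) = η⁻¹ x := by rw [← hη', p1_ai η, Perm.eq_inv_iff_eq, hη', hx]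
    rw [mul_apply, mul_apply, mul_apply, Perm.inv_eq_iff_eq.2 (r3 x hx).symm, r3 _ h3, p1_ai η]
  · exact h x hx

theorem T8.ne_one {σ : Perm (Fin n)} (h : T8 σ) : σ ≠ 1 := fun e => by simpa [e] using h.2
theorem T8.sign {σ : Perm (Fin n)} (h : T8 σ) : sign σ = 1 := by
  obtain ⟨f, rfl⟩ := t8_std h
  rw [via_sign]; decide +kernel
theorem T8.conj {σ : Perm (Fin n)} (h : T8 σ) (ρ : Perm (Fin n)) : T8 (ρ * σ * ρ⁻¹) :=
  ⟨by rw [conj_mul, h.1]; simp, by rw [card_support_conj, h.2]⟩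
theorem t8_sq {x : PP n} (h : T8 (pr x)) : x * x = 1 := by
  obtain ⟨f, hf⟩ := t8_std h
  have ne : ∀ {i j}, i ≠ j → f i ≠ f j := fun h => f.injective.ne h
  obtain ⟨y1, h1⟩ := pr_surj (via f (swap 0 1 * swap 2 3))
  obtain ⟨y2, h2⟩ := pr_surj (via f (swap 4 5 * swap 6 7))
  have s1 := sq_double (x := y1) (ne (i := 0) (j := 1) (by decide)) (ne (i := 2) (j := 3) (by decide))
    (ne (by decide)) (ne (by decide)) (ne (by decide)) (ne (by decide)) (by rw [h1, map_mul, via_swap, via_swap])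
  have s2 := sq_double (x := y2) (ne (i := 4) (j := 5) (by decide)) (ne (i := 6) (j := 7) (by decide))
    (ne (by decide)) (ne (by decide)) (ne (by decide)) (ne (by decide)) (by rw [h2, map_mul, via_swap, via_swap])
  have c : y1 * y2 = y2 * y1 := comm_of_disjoint (by rw [h1, via_sign]; decide +kernel) fun x hx => by
    rw [h1]; rw [h2] at hx
    obtain ⟨i, rfl⟩ : ∃ i, f i = x := by_contra fun k => hx (via_out f _ fun i hi => k ⟨i, hi⟩)
    rw [via_ap, f.injective.ne_iff] at hx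
    rw [via_ap, f.injective.eq_iff]
    revert i; decide +kernel
  have s3 : y1 * y2 * (y1 * y2) = 1 := by
    rw [mul_assoc, ← mul_assoc y2, ← c, mul_assoc, s2, ← mul_assoc, s1, zz_mul_zz]
  rcases pr_eq (x := x) (y := y1 * y2) (by rw [hf, map_mul, h1, h2, ← map_mul]; rfl) with e | e <;> rw [e]
  · exact s3
  · rw [mul_assoc, ← mul_assoc (y1 * y2), ← zz_comm, mul_assoc, s3, mul_one, zz_mul_zz]
theorem t8_of (hn : n ≤ 11) {x : PP n} (hs : sign (pr x) = 1) (h2 : x * x = 1) (h1 : pr x ≠ 1) :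
    T8 (pr x) := by
  have h3 : pr x * pr x = 1 := by rw [← map_mul, h2, map_one]
  refine ⟨h3, card_supp_eq hs h2 h1 ?_⟩
  obtain ⟨k, -, k1, k2⟩ := inv_ct h3
  have : (pr x).support.card ≤ n := by simpa using (pr x).support.card_le_univ
  have : k ≠ 5 := fun e => by rw [hs, e] at k2; exact absurd k2 (by decide)
  omega
theorem t8_conj {σ τ : Perm (Fin n)} (hσ : T8 σ) (hτ : T8 τ) :
    ∃ ρ : Perm (Fin n), sign ρ = 1 ∧ ρ * σ * ρ⁻¹ = τ := by
  obtain ⟨ρ, rfl⟩ := t8_isConj hσ hτ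
  rcases Int.units_eq_one_or (sign ρ) with e | e
  · exact ⟨ρ, e, rfl⟩
  · obtain ⟨a, ha, -⟩ := pick (σ := σ) ∅ (by simp [hσ.2])
    refine ⟨ρ * swap a (σ a), by simp [e, ha.symm], ?_⟩
    have : swap a (σ a) * σ = σ * swap a (σ a) := by rw [mul_swap_eq_swap_mul, sq_ap hσ.1, swap_comm]
    rw [mul_assoc ρ, this]; group
theorem ex_t8 (hn : 8 ≤ n) : ∃ σ : Perm (Fin n), T8 σ := ⟨_, t8_via (Fin.castLEEmb hn) t8_t0⟩
theorem nb_comm {x y : PP n} (h : Nb (pr x) (pr y)) : x * y = y * x := by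
  rw [← mul_inv_eq_one, mul_inv_rev, iv_inv (t8_sq h.1), iv_inv (t8_sq h.2.1)]
  exact t8_sq (by rw [map_mul]; exact h.2.2.1)

theorem p_d8 (hn : 8 ≤ n) : ∃ x y : PP n, sign (pr x) = 1 ∧ sign (pr y) = 1 ∧ x * x = 1 ∧
    y * y = 1 ∧ (x * y) ^ 2 = zz := by
  let f := Fin.castLEEmb hn
  have ne : ∀ {i j}, i ≠ j → f i ≠ f j := fun h => f.injective.ne h
  obtain ⟨x, hx⟩ := pr_surj (via f t0)
  obtain ⟨y, hy⟩ := pr_surj (via f (t0 * (swap 0 2 * swap 1 3)))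
  have h1 : T8 (pr x) := hx ▸ t8_via f t8_t0
  have h2 : T8 (pr y) := hy ▸ t8_via f (by decide +kernel)
  refine ⟨x, y, h1.sign, h2.sign, t8_sq h1, t8_sq h2, (pow_two _).trans <|
    sq_double (ne (i := 0) (j := 2) (by decide)) (ne (i := 1) (j := 3) (by decide))
    (ne (by decide)) (ne (by decide)) (ne (by decide)) (ne (by decide)) ?_⟩
  rw [map_mul, hx, hy, ← map_mul, ← mul_assoc, t8_t0.1, one_mul, map_mul, via_swap, via_swap]

theorem p_tr (hn : 8 ≤ n) : ∃ (ξ : Perm (Fin n)) (y : PP n), sign ξ = -1 ∧ ξ * ξ = 1 ∧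
    sign (pr y) = 1 ∧ y * y = zz ∧ ∀ x : PP n, pr x = ξ → x * y = y * x := by
  let f := Fin.castLEEmb hn
  have ne : ∀ {i j}, i ≠ j → f i ≠ f j := fun h => f.injective.ne h
  have h1 := ne (i := 2) (j := 3) (by decide)
  have h2 := ne (i := 4) (j := 5) (by decide)
  refine ⟨swap (f 0) (f 1), vv h1 * vv h2, sign_swap (ne (by decide)), swap_mul_self _ _, by simp [h1, h2],
    sq_double h1 h2 (ne (by decide)) (ne (by decide)) (ne (by decide)) (ne (by decide)) rfl, fun x hx =>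
    fix_comm _ _ ?_ ?_ ?_ ?_⟩ <;> exact hx ▸ swap_apply_of_ne_of_ne (ne (by decide)) (ne (by decide))

theorem cent_alt (hn : 8 ≤ n) {ρ : Perm (Fin n)} (h : ∀ μ, sign μ = 1 → μ * ρ = ρ * μ) :
    ρ = 1 := Equiv.ext fun a => by_contra fun ha => by
  obtain ⟨c, d, -, -, hc, hd, -, -, hcd, -⟩ := pick4 {a, ρ a}
    (le_trans (Nat.add_le_add_right Finset.card_le_two 4) (by omega))
  simp only [Finset.mem_insert, Finset.mem_singleton, not_or] at hc hd
  have := congrArg (fun f : Perm (Fin n) => f a) (h (swap (ρ a) c * swap c d) (by simp [hcd, Ne.symm hc.2]))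
  simp only [mul_apply] at this
  rw [swap_apply_of_ne_of_ne (Ne.symm hc.2) (Ne.symm hd.2), swap_apply_left,
    swap_apply_of_ne_of_ne (Ne.symm hc.1) (Ne.symm hd.1), swap_apply_of_ne_of_ne (show a ≠ ρ a from Ne.symm ha) (Ne.symm hc.1)] at this
  exact hc.2 this

theorem sol_nml (hn : 8 ≤ n) {R : Subgroup (Perm (Fin n))} (hR : Sol R)
    (h : alternatingGroup (Fin n) ≤ N[R]) : R = ⊥ := by
  have hs := alternatingGroup.isSimpleGroup (α := Fin n) (by simp; omega)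
  have hN : (R.subgroupOf (alternatingGroup (Fin n))).Normal :=
    ⟨fun r hr g => (mem_normalizer_iff.1 (h g.2) r).1 hr⟩
  rcases hN.eq_bot_or_eq_top with e | e
  · refine eq_bot_iff.2 fun r hr => cent_alt hn fun μ hμ => ?_
    have h1 : (⟨μ * r * μ⁻¹ * r⁻¹, by simp [mem_alternatingGroup, hμ]⟩ : alternatingGroup (Fin n)) ∈
        R.subgroupOf (alternatingGroup (Fin n)) :=
      mul_mem ((mem_normalizer_iff.1 (h (mem_alternatingGroup.2 hμ)) r).1 hr) (inv_mem hr)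
    rw [e] at h1
    exact commutatorElement_eq_one_iff_mul_comm.1 (congrArg Subtype.val (mem_bot.1 h1))
  · have := Group.isSolvable_of_isSolvable_injective (inclusion_injective (subgroupOf_eq_top.1 e))
    have h1 := IsSimpleGroup.comm_iff_isSolvable.2 this
    obtain ⟨σ, hσ⟩ := ex_t8 hn
    exact absurd (cent_alt hn fun μ hμ => congrArg Subtype.val (h1 ⟨μ, hμ⟩ ⟨σ, hσ.sign⟩)) hσ.ne_one

end H20.So
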