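import Mathlib
import Cfsg.Agent.H20.SoP1
import Cfsg.Agent.H16.SAlt

set_option autoImplicit false
set_option linter.all false

namespace H20.So

open Subgroup Equiv Equiv.Perm Cfsg H24 H23 H25.LB H5.Ly
open scoped commutatorElement

variable {G G' A B : Type*} [Group G] [Finite G] [Group G'] [Finite G'] [Group A] [Finite A]
  [Group B] [Finite B] {n : ℕ}

theorem sb_odd {H : Subgroup G} : Odd (Nat.card H) ↔ ∀ x ∈ H, x * x = 1 → x = 1 := by
  refine ⟨fun h x hx h2 => by_contra fun h1 => ?_, fun h => Nat.not_even_iff_odd.1 fun h1 => ?_⟩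
  · exact absurd (iv_of h2 h1 ▸ odd_orderOf_of_mem h hx) (by decide)
  · obtain ⟨x, hx⟩ := exists_prime_orderOf_dvd_card' (G := H) 2 h1.two_dvd
    exact iv_ne hx (Subtype.ext (h x x.2 (congrArg Subtype.val (iv_mul hx))))

theorem sb_mem {x : PP n} : x ∈ Mn n n ↔ sign (pr x) = 1 :=
  ⟨fun h => h.1, fun h => ⟨h, fun i hi => absurd i.2 (by omega)⟩⟩

theorem sb_le_ker (hn : 8 ≤ n) {π : A →* PP n} (h : π.range = Mn n n) {N : Subgroup A} [hN : N.Normal]
    (ho : Odd (Nat.card N)) : N ≤ π.ker := fun x hx => by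
  have h1 : N.map (pr.comp π) = ⊥ := sol_nml hn (sol_of_odd (ho.of_dvd_nat (card_map_dvd _ _))) fun μ hμ => by
    obtain ⟨y, rfl⟩ := pr_surj μ
    obtain ⟨a, rfl⟩ : y ∈ π.range := h ▸ sb_mem.2 hμ
    exact le_normalizer_map (pr.comp π) ⟨a, normalizer_eq_top N ▸ mem_top a, rfl⟩
  have h2 := pr_eq_one (x := π x) (mem_bot.1 (h1 ▸ mem_map_of_mem (pr.comp π) hx))
  refine sb_odd.1 (ho.of_dvd_nat (card_map_dvd N π)) _ (mem_map_of_mem π hx) ?_
  rcases h2 with e | e <;> rw [e]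
  exacts [mul_one _, zz_mul_zz]

theorem sb_ker (hn : 8 ≤ n) {π : A →* PP n} (h : π.range = Mn n n) (ho : Odd (Nat.card π.ker)) :
    π.ker = pPrimeCore 2 A :=
  le_antisymm (H2.le_pPrimeCore inferInstance (cop_two_iff_odd.2 ho))
    (sb_le_ker hn h (cop_two_iff_odd.1 (H2.pPrimeCore_coprime 2 A)))

/-- the map onto the alternating group -/
noncomputable def sb_psi {π : A →* PP n} (h : π.range = Mn n n) : A →* alternatingGroup (Fin n) :=
  (pr.comp π).codRestrict _ fun a => sb_mem.1 (h ▸ ⟨a, rfl⟩)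

theorem sb_lift {π : A →* PP n} (h : π.range = Mn n n) {y : PP n} (hy : sign (pr y) = 1) : ∃ a, π a = y :=
  show y ∈ π.range from h ▸ sb_mem.2 hy

theorem sb_surj {π : A →* PP n} (h : π.range = Mn n n) : Function.Surjective (sb_psi h) := fun μ => by
  obtain ⟨y, hy⟩ := pr_surj μ.1
  obtain ⟨a, rfl⟩ := sb_lift h (y := y) (hy ▸ μ.2)
  exact ⟨a, Subtype.ext hy⟩

theorem sb_cen {x : PP n} (h : pr x = 1) (y : PP n) : y * x = x * y := by
  rcases pr_eq_one h with rfl | rfl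
  exacts [by simp, (zz_comm y).symm]

theorem sb_one (hn : 8 ≤ n) {π : A →* PP n} (h : π.range = Mn n n) {a : A} :
    pr (π a) = 1 ↔ ∀ k, π k * π a = π a * π k :=
  ⟨fun e k => sb_cen e _, fun e => cent_alt hn fun μ hμ => by
    obtain ⟨k, hk⟩ := sb_surj h ⟨μ, hμ⟩
    rw [← show pr (π k) = μ from congrArg Subtype.val hk, ← map_mul, e, map_mul]⟩

theorem sb_zz (hn : 8 ≤ n) {π : A →* PP n} (h : π.range = Mn n n) : ∃ a b : A, π ⁅a, b⁆ = zz := by
  obtain ⟨y1, y2, h1, h2, -, -, -, -, h3⟩ := p_q2 hn (x := 1) (by simp)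
  obtain ⟨a, rfl⟩ := sb_lift h h1
  obtain ⟨b, rfl⟩ := sb_lift h h2
  exact ⟨a, b, by rw [map_commutatorElement, h3]⟩

theorem sb_aut (hn : 8 ≤ n) {π : A →* PP n} (h : π.range = Mn n n) (ho : Odd (Nat.card π.ker)) (α : A ≃* A)
    {a : A} (ha : π a = 1) : π (α a) = 1 := by
  have h1 : a ∈ pPrimeCore 2 A := sb_ker hn h ho ▸ ha
  rw [← characteristic_iff_comap_eq.1 (H2.pPrimeCore_characteristic 2 A) α] at h1
  exact show α a ∈ π.ker from sb_ker hn h ho ▸ h1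

theorem sb_sigma (hn : 8 ≤ n) {π : A →* PP n} (h : π.range = Mn n n) (ho : Odd (Nat.card π.ker)) (α : A ≃* A) :
    ∃ σ, ∀ a, pr (π (α a)) = σ * pr (π a) * σ⁻¹ := by
  have h1 : (sb_psi h).ker ≤ ((sb_psi h).comp α.toMonoidHom).ker := fun a ha =>
    Subtype.ext ((sb_one hn h).2 fun k => by
      obtain ⟨k, rfl⟩ := α.surjective k
      have := sb_aut hn h ho α (a := ⁅k, a⁆) (by
        rw [map_commutatorElement, commutatorElement_eq_one_iff_mul_comm,
          (sb_one hn h).1 (congrArg Subtype.val ha)])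
      rwa [map_commutatorElement, map_commutatorElement, commutatorElement_eq_one_iff_mul_comm] at this)
  let β := (sb_psi h).liftOfSurjective (sb_surj h) ⟨_, h1⟩
  have h2 : ∀ a, β (sb_psi h a) = sb_psi h (α a) := fun a => MonoidHom.liftOfRightInverse_comp_apply ..
  obtain ⟨σ, hσ⟩ := H16.AutAlt.conjNormal_surjective (α := Fin n) (by simp; omega)
    (MulEquiv.ofBijective β (Finite.surjective_iff_bijective.1 fun μ => by
      obtain ⟨a, rfl⟩ := sb_surj h μ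
      exact ⟨sb_psi h (α.symm a), by rw [h2, α.apply_symm_apply]⟩))
  refine ⟨σ, fun a => ?_⟩
  have := congrArg (fun f : MulAut _ => (f (sb_psi h a)).1) hσ
  exact (congrArg Subtype.val (h2 a)).symm.trans this.symm

theorem sb_conj (hn : 8 ≤ n) {π : A →* PP n} (h : π.range = Mn n n) (ho : Odd (Nat.card π.ker)) (α : A ≃* A)
    {x : PP n} (hx : ∀ a, pr (π (α a)) = pr x * pr (π a) * (pr x)⁻¹) (a : A) : π (α a) = x * π a * x⁻¹ := by
  let E := (π.comp α.toMonoidHom).eqLocus ((MulAut.conj x).toMonoidHom.comp π)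
  have e0 : ∀ a, a ∈ E ↔ π (α a) = MulAut.conj x (π a) := fun a => Iff.rfl
  have e1 : commutator A ≤ E := commutator_le.2 fun a _ b _ => by
    rw [e0]
    simp only [map_commutatorElement]
    have k : ∀ a, ∃ c, pr c = 1 ∧ π (α a) = MulAut.conj x (π a) * c := fun a =>
      ⟨(MulAut.conj x (π a))⁻¹ * π (α a), by simp [hx, mul_assoc], (mul_inv_cancel_left _ _).symm⟩
    obtain ⟨c, c1, c2⟩ := k a
    obtain ⟨d, d1, d2⟩ := k b
    rw [c2, d2]
    generalize MulAut.conj x (π a) = u, MulAut.conj x (π b) = v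
    calc ⁅u * c, v * d⁆ = u * (c * (v * d)) * c⁻¹ * u⁻¹ * d⁻¹ * v⁻¹ := by rw [commutatorElement_def]; group
      _ = u * v * (d * u⁻¹) * d⁻¹ * v⁻¹ := by rw [← sb_cen c1]; group
      _ = _ := by rw [← sb_cen d1, commutatorElement_def]; group
  have e2 : π.ker ≤ E := fun a ha => by rw [e0, sb_aut hn h ho α ha, show π a = 1 from ha, map_one]
  obtain ⟨c, hc, e⟩ : sb_psi h a ∈ (commutator A).map (sb_psi h) := by
    rw [map_commutator_eq, MonoidHom.range_eq_top.2 (sb_surj h), ← _root_.commutator_def,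
      commutator_alternatingGroup_eq_top (by simp; omega)]
    trivial
  have e3 : c⁻¹ * a ∈ E := by
    rcases pr_eq_one (x := π (c⁻¹ * a)) (congrArg Subtype.val (show sb_psi h (c⁻¹ * a) = 1 by simp [e])) with k | k
    · exact e2 k
    · obtain ⟨u, v, huv⟩ := sb_zz hn h
      exact (mul_mem_cancel_left (e1 (commutator_mem_commutator (mem_top u) (mem_top v)))).1
        (e2 (show π _ = 1 by rw [map_mul, huv, k, zz_mul_zz]))
  exact (mul_mem_cancel_left (inv_mem (e1 hc))).1 e3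

theorem exists_act (hn : 8 ≤ n) {K : Subgroup G} (h : Ty n K) : Nonempty (Act n K) := by
  classical
  obtain ⟨π0, h, ho⟩ := h
  choose σ hσ using sb_sigma hn h ho
  let π : G → PP n := fun a => if ha : a ∈ K then π0 ⟨a, ha⟩ else 1
  let φ : G → Perm (Fin n) := fun g => if hg : g ∈ N[K] then σ (K.normalizerMonoidHom ⟨g, hg⟩) else 1
  have p0 : ∀ {a} (ha : a ∈ K), π a = π0 ⟨a, ha⟩ := fun ha => dif_pos ha
  have cm : ∀ {g a}, g ∈ N[K] → a ∈ K → g * a * g⁻¹ ∈ K := fun hg ha => (mem_normalizer_iff.1 hg _).1 ha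
  have S : ∀ {g a}, g ∈ N[K] → a ∈ K → pr (π (g * a * g⁻¹)) = φ g * pr (π a) * (φ g)⁻¹ := fun {g a} hg ha => by
    rw [p0 (cm hg ha), p0 ha, show φ g = _ from dif_pos hg, ← hσ]; rfl
  have pm : ∀ {a b}, a ∈ K → b ∈ K → π (a * b) = π a * π b := fun ha hb => by
    rw [p0 (mul_mem ha hb), p0 ha, p0 hb, ← map_mul]; rfl
  have pi : ∀ {a}, a ∈ K → π a⁻¹ = (π a)⁻¹ := fun ha => by rw [p0 (inv_mem ha), p0 ha, ← map_inv]; rfl
  have su : ∀ x : PP n, sign (pr x) = 1 → ∃ a ∈ K, π a = x := fun x hx =>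
    let ⟨a, ha⟩ := sb_lift h hx
    ⟨a, a.2, (p0 a.2).trans ha⟩
  have U : ∀ {g τ}, g ∈ N[K] → (∀ a ∈ K, pr (π (g * a * g⁻¹)) = τ * pr (π a) * τ⁻¹) → φ g = τ :=
    fun {g τ} hg e => (inv_mul_eq_one.1 (cent_alt hn fun μ hμ => by
      obtain ⟨y, rfl⟩ := pr_surj μ
      obtain ⟨a, ha, rfl⟩ := su y hμ
      have := (S hg ha).symm.trans (e a ha)
      calc _ = τ⁻¹ * (τ * pr (π a) * τ⁻¹) * φ g := by group
        _ = _ := by rw [← this]; group)).symm
  have fp : ∀ {a}, a ∈ K → φ a = pr (π a) := fun {a} ha => U (le_normalizer ha) fun b hb => by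
    rw [pm (mul_mem ha hb) (inv_mem ha), pm ha hb, pi ha]; simp
  have po : ∀ {a}, a ∈ K → (π a = 1 ↔ a ∈ opp 2 K) := fun {a} ha => by
    rw [p0 ha, ← MonoidHom.mem_ker, sb_ker hn h ho]
    exact (mem_map_iff_mem K.subtype_injective).symm
  have cj : ∀ {g a : G} {x : PP n}, g ∈ N[K] → a ∈ K → pr x = φ g → π (g * a * g⁻¹) = x * π a * x⁻¹ :=
    fun {g a x} hg ha hx => by
      rw [p0 (cm hg ha), p0 ha]
      exact sb_conj hn h ho (K.normalizerMonoidHom ⟨g, hg⟩)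
        (fun b => by rw [hσ, hx, show φ g = _ from dif_pos hg]) ⟨a, ha⟩
  refine ⟨⟨π, φ, pm, fun {a b} ha hb => U (mul_mem ha hb) fun k hk => ?_, fp, fun {a} ha => ?_, su, po,
    fun {a} ha => ?_, cj⟩⟩
  · rw [show a * b * k * (a * b)⁻¹ = a * (b * k * b⁻¹) * a⁻¹ by group, S ha (cm hb hk), S hb hk]; group
  · rw [fp ha, p0 ha]; exact sb_mem.1 (h ▸ ⟨_, rfl⟩)
  · have k0 : ∀ k, ⁅k, a⁆ = k * (a * k⁻¹ * a⁻¹) := fun k => by rw [commutatorElement_def]; group
    rw [mem_cz]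
    refine ⟨fun e => ⟨ha, fun k hk => ?_⟩, fun e => U ha fun k hk => ?_⟩
    · rw [k0, ← po (mul_mem hk (cm ha (inv_mem hk))), pm hk (cm ha (inv_mem hk)),
        cj (x := 1) ha (inv_mem hk) (by rw [e, map_one]), pi hk]
      simp
    · have := e.2 _ (inv_mem hk)
      rw [k0, inv_inv, ← po (mul_mem (inv_mem hk) (cm ha hk)), pm (inv_mem hk) (cm ha hk), pi hk,
        inv_mul_eq_one] at this
      rw [← this]; simp

theorem TyG.of_surj (hn : 8 ≤ n) (h : TyG n A) (f : A →* B) (hf : Function.Surjective f)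
    (hk : Odd (Nat.card f.ker)) : TyG n B := by
  obtain ⟨π, h, ho⟩ := h
  let β := f.liftOfSurjective hf ⟨_, sb_le_ker hn h hk⟩
  have h2 : ∀ a, β (f a) = π a := fun a => MonoidHom.liftOfRightInverse_comp_apply ..
  refine ⟨β, h ▸ le_antisymm ?_ ?_, ho.of_dvd_nat ((card_dvd_of_le fun b hb => ?_).trans (card_map_dvd _ f))⟩
  · rintro _ ⟨b, rfl⟩
    obtain ⟨a, rfl⟩ := hf b
    exact ⟨a, (h2 a).symm⟩
  · rintro _ ⟨a, rfl⟩
    exact ⟨f a, h2 a⟩
  · obtain ⟨a, rfl⟩ := hf b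
    exact ⟨a, (h2 a).symm.trans hb, rfl⟩

theorem TyG.comap (h : TyG n B) (f : A →* B) (hf : Function.Surjective f)
    (hk : Odd (Nat.card f.ker)) : TyG n A := by
  obtain ⟨π, h, ho⟩ := h
  refine ⟨π.comp f, by rw [MonoidHom.range_comp, MonoidHom.range_eq_top.2 hf, ← MonoidHom.range_eq_map, h],
    sb_odd.2 fun x hx h2 => sb_odd.1 hk x (sb_odd.1 ho (f x) hx (by rw [← map_mul, h2, map_one])) h2⟩

theorem sb_map {K : Subgroup G} (f : G →* G') (hk : Odd (Nat.card ↥(K ⊓ f.ker))) :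
    Odd (Nat.card (f.subgroupMap K).ker) :=
  sb_odd.2 fun x hx h2 => Subtype.ext (sb_odd.1 hk x ⟨x.2, congrArg Subtype.val hx⟩ (congrArg Subtype.val h2))

theorem ty_map (hn : 8 ≤ n) {K : Subgroup G} (h : Ty n K) (f : G →* G')
    (hk : Odd (Nat.card ↥(K ⊓ f.ker))) : Ty n (K.map f) :=
  h.of_surj hn _ (f.subgroupMap_surjective K) (sb_map f hk)

theorem ty_of_map {K : Subgroup G} (f : G →* G') (h : Ty n (K.map f))
    (hk : Odd (Nat.card ↥(K ⊓ f.ker))) : Ty n K :=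
  h.comap _ (f.subgroupMap_surjective K) (sb_map f hk)

theorem sb_dec {K L : Subgroup G} (hc : K ≤ L ⊔ opp 2 K) (hle : L ≤ K) (k : K) :
    ∃ l : L, ∃ o ∈ pPrimeCore 2 K, inclusion hle l * o = k := by
  have : k ∈ L.subgroupOf K ⊔ pPrimeCore 2 K := by
    rw [← mem_map_iff_mem K.subtype_injective, Subgroup.map_sup, map_subgroupOf_eq_of_le hle]
    exact hc k.2
  rw [← SetLike.mem_coe, mul_normal] at this
  obtain ⟨l, hl, o, ho, e⟩ := this
  exact ⟨⟨l, hl⟩, o, ho, e⟩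

theorem ty_of_le (hn : 8 ≤ n) {K L : Subgroup G} (h : Ty n K) (hle : L ≤ K)
    (hc : K ≤ L ⊔ opp 2 K) : Ty n L := by
  obtain ⟨π, h, ho⟩ := h
  refine ⟨π.comp (inclusion hle), h ▸ le_antisymm ?_ ?_, sb_odd.2 fun x hx h2 => inclusion_injective hle
    ((sb_odd.1 ho _ hx (by rw [← map_mul, h2, map_one])).trans (map_one _).symm)⟩
  · rintro _ ⟨a, rfl⟩
    exact ⟨_, rfl⟩
  · rintro _ ⟨a, rfl⟩
    obtain ⟨l, o, h1, rfl⟩ := sb_dec hc hle a
    exact ⟨l, by rw [map_mul, show π o = 1 from (sb_ker hn h ho ▸ h1 : o ∈ π.ker), mul_one]; rfl⟩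

theorem sb_mk : Odd (Nat.card (QuotientGroup.mk' (pPrimeCore 2 A)).ker) := by
  rw [QuotientGroup.ker_mk']; exact cop_two_iff_odd.1 (H2.pPrimeCore_coprime 2 A)

theorem ty_of_ge (hn : 8 ≤ n) {K J : Subgroup G} (h : Ty n K) (hle : K ≤ J)
    (hc : J ≤ K ⊔ opp 2 J) : Ty n J := by
  refine (h.of_surj hn ((QuotientGroup.mk' (pPrimeCore 2 J)).comp (inclusion hle)) (fun x => ?_)
    (sb_odd.2 fun x hx h2 => inclusion_injective hle ((sb_odd.1 sb_mk _ hx (by
      rw [← map_mul, h2, map_one])).trans (map_one _).symm))).comap _ (QuotientGroup.mk'_surjective _) sb_mk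
  obtain ⟨a, rfl⟩ := QuotientGroup.mk'_surjective _ x
  obtain ⟨l, o, h1, rfl⟩ := sb_dec hc hle a
  exact ⟨l, by rw [map_mul, show QuotientGroup.mk' _ o = 1 from (QuotientGroup.eq_one_iff o).2 h1, mul_one]; rfl⟩

theorem ty_cj {K : Subgroup G} (h : Ty n K) (g : G) : Ty n (cj g K) :=
  h.comap (cjEquiv g K).symm.toMonoidHom (cjEquiv g K).symm.surjective
    (sb_odd.2 fun x hx _ => (map_eq_one_iff _ (cjEquiv g K).symm.injective).1 hx)

theorem tyG_of_dc (hn : 8 ≤ n)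
    (h : IsNonsplitDoubleCover (A ⧸ oddCore A) (alternatingGroup (Fin n))) : TyG n A := by
  obtain ⟨z, hz, h1⟩ := ((center (A ⧸ oddCore A)).bot_or_exists_ne_one).resolve_left fun e => by
    simpa [e] using h.1
  obtain ⟨θ, -⟩ := exists_theta hn le_rfl h h1 hz
  refine TyG.comap ⟨(Mn n n).subtype.comp θ.symm.toMonoidHom, ?_, sb_odd.2 fun x hx _ =>
    (map_eq_one_iff _ θ.symm.injective).1 (Subtype.ext hx)⟩ _ (QuotientGroup.mk'_surjective _) sb_mk
  rw [MonoidHom.range_comp, MonoidHom.range_eq_top.2 θ.symm.surjective, ← MonoidHom.range_eq_map, range_subtype]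

theorem dc_of_tyG (hn : 8 ≤ n) (h : TyG n A) (hO : pPrimeCore 2 A = ⊥) :
    IsNonsplitDoubleCover A (alternatingGroup (Fin n)) := by
  obtain ⟨π, h, ho⟩ := h
  have inj : Function.Injective π := π.ker_eq_bot_iff.1 ((sb_ker hn h ho).trans hO)
  have hk : center A = (sb_psi h).ker := by
    ext a
    rw [mem_center_iff, MonoidHom.mem_ker, Subtype.ext_iff]
    refine Iff.trans ?_ (sb_one hn h).symm
    simp only [← map_mul, inj.eq_iff]
  obtain ⟨u, v, huv⟩ := sb_zz hn h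
  have z1 : ⁅u, v⁆ ≠ 1 := fun e => zz_ne (by rw [← huv, e, map_one])
  have z2 : ⁅u, v⁆ ∈ center A := hk ▸ Subtype.ext (show pr (π _) = 1 by rw [huv, pr_zz])
  refine ⟨?_, ⟨(QuotientGroup.quotientMulEquivOfEq hk).trans
    (QuotientGroup.quotientKerEquivOfSurjective _ (sb_surj h))⟩, fun L hL => z1 ?_⟩
  · have : center A = zpowers ⁅u, v⁆ := le_antisymm (fun a ha => ?_) (zpowers_le.2 z2)
    · rw [this, Nat.card_zpowers, iv_of (inj (by rw [map_mul, huv, zz_mul_zz, map_one])) z1]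
    · rcases pr_eq_one (x := π a) (congrArg Subtype.val (hk ▸ ha : a ∈ (sb_psi h).ker)) with e | e
      · rw [inj (e.trans (map_one π).symm)]; exact one_mem _
      · rw [inj (e.trans huv.symm)]; exact mem_zpowers _
  · obtain ⟨⟨⟨c, hc⟩, ⟨a, ha⟩⟩, rfl, -⟩ := hL.existsUnique u
    obtain ⟨⟨⟨d, hd⟩, ⟨b, hb⟩⟩, rfl, -⟩ := hL.existsUnique v
    refine disjoint_def.1 hL.disjoint z2 ?_
    have c1 := mem_center_iff.1 hc
    have d1 := mem_center_iff.1 hd
    have : ⁅c * a, d * b⁆ = a * b * a⁻¹ * b⁻¹ :=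
      calc _ = c * (a * d * b * a⁻¹) * c⁻¹ * (b⁻¹ * d⁻¹) := by rw [commutatorElement_def]; group
        _ = d * (a * b * a⁻¹ * b⁻¹) * d⁻¹ := by rw [← c1, d1 a]; group
        _ = _ := by rw [← d1]; group
    exact this ▸ mul_mem (mul_mem (mul_mem ha hb) (inv_mem ha)) (inv_mem hb)

theorem TyG.card_dvd (hn : 8 ≤ n) (h : TyG n A) : n.factorial ∣ Nat.card A := by
  obtain ⟨π, h, -⟩ := h
  obtain ⟨u, v, huv⟩ := sb_zz hn h
  have h1 : ¬ Odd (Nat.card (sb_psi h).ker) := fun e => zz_ne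
    (sb_odd.1 (e.of_dvd_nat (card_map_dvd _ π)) zz
      ⟨⁅u, v⁆, Subtype.ext (show pr (π _) = 1 by rw [huv, pr_zz]), huv⟩ zz_mul_zz)
  have : Nontrivial (Fin n) := Fin.nontrivial_iff_two_le.2 (by omega)
  have h2 := two_mul_nat_card_alternatingGroup (α := Fin n)
  rw [Nat.card_perm, Nat.card_fin] at h2
  rw [card_eq_card_quotient_mul_card_subgroup (sb_psi h).ker,
    Nat.card_congr (QuotientGroup.quotientKerEquivOfSurjective _ (sb_surj h)).toEquiv, ← h2, mul_comm]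
  exact Nat.mul_dvd_mul_left _ (Nat.not_odd_iff_even.1 h1).two_dvd

end H20.So
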