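import Mathlib
import Cfsg.Agent.H20.SoP1

set_option autoImplicit false
set_option linter.all false

namespace H20.So

open Subgroup Equiv Equiv.Perm Cfsg H24 H23 H25.LB H5.Ly H4.So
open scoped commutatorElement

variable {n : ℕ}

theorem p2_ct {s : Perm (Fin 8)} (h0 : Commute t0 s) (h : ∀ α, Nb t0 α → Commute α s) : s = 1 ∨ s = t0 := by
  have a1 := h (swap 0 2 * swap 1 3 * (swap 4 6 * swap 5 7)) (by decide +kernel)
  have a2 := h (swap 0 2 * swap 1 3 * (swap 4 7 * swap 5 6)) (by decide +kernel)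
  have b1 := h (swap 0 4 * swap 1 5 * (swap 2 6 * swap 3 7)) (by decide +kernel)
  have b2 := h (swap 0 4 * swap 1 5 * (swap 2 7 * swap 3 6)) (by decide +kernel)
  have c : ∀ {γ}, Commute γ s → ∀ i, s (γ i) = γ (s i) := fun {γ} h i => by rw [← mul_apply, ← h.eq, mul_apply]
  have k : ∀ i, ∃ γ, Commute γ s ∧ γ 0 = i ∧ γ 1 = t0 i := fun i => by
    fin_cases i
    exacts [⟨1, Commute.one_left _, by decide +kernel⟩, ⟨_, h0, by decide +kernel⟩, ⟨_, a1, by decide +kernel⟩,
      ⟨_, a1.mul_left h0, by decide +kernel⟩, ⟨_, b1, by decide +kernel⟩, ⟨_, b1.mul_left h0, by decide +kernel⟩,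
      ⟨_, b1.mul_left a1, by decide +kernel⟩, ⟨_, b1.mul_left (a1.mul_left h0), by decide +kernel⟩]
  have e1 := c (a1.mul_left a2) 0
  have e2 := c (b1.mul_left b2) 0
  have e : s 0 = 0 ∨ s 0 = 1 := by
    revert e1 e2
    rw [show (swap 0 2 * swap 1 3 * (swap 4 6 * swap 5 7) * (swap 0 2 * swap 1 3 * (swap 4 7 * swap 5 6)) :
      Perm (Fin 8)) 0 = 0 by decide +kernel, show (swap 0 4 * swap 1 5 * (swap 2 6 * swap 3 7) *
      (swap 0 4 * swap 1 5 * (swap 2 7 * swap 3 6)) : Perm (Fin 8)) 0 = 0 by decide +kernel]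
    generalize s 0 = j
    revert j; decide +kernel
  refine e.imp (fun e => Equiv.ext fun i => ?_) fun e => Equiv.ext fun i => ?_ <;> obtain ⟨γ, h1, h2, h3⟩ := k i
  · rw [← h2, c h1, e]; rfl
  · rw [← h3, ← h2, c h1, e]

theorem p_ct {τ ξ : Perm (Fin n)} (hτ : T8 τ) (hc : τ * ξ = ξ * τ)
    (h : ∀ τ', Nb τ τ' → Fx τ ⁅τ', ξ⁆) : Fx τ ξ ∨ Fx τ (ξ * τ) := by
  obtain ⟨f, rfl⟩ := t8_std hτ
  have h1 : ∀ i, ∃ j, f j = ξ (f i) := fun i => (mv_iff f _).1 (by
    rw [← mul_apply, hc, mul_apply]; exact ξ.injective.ne ((mv_iff f _).2 ⟨i, rfl⟩))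
  choose s0 hs using h1
  let s : Perm (Fin 8) := Equiv.ofBijective s0 (Finite.injective_iff_bijective.1 fun i j e =>
    f.injective (ξ.injective (by rw [← hs, ← hs, e])))
  have h2 : ∀ i, ξ (f i) = f (s i) := fun i => (hs i).symm
  generalize s = s at h2
  have h3 := p2_ct (s := s) (Equiv.ext fun i => f.injective (by
      rw [mul_apply, mul_apply, ← via_ap, ← h2, ← h2, ← via_ap, ← mul_apply, hc, mul_apply])) fun α hα =>
    Equiv.ext fun i => f.injective (by
      have := h _ (nb_via f hα) (f (s (α i))) ((mv_iff f _).2 ⟨_, rfl⟩)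
      rw [commutatorElement_def, mul_apply, mul_apply, mul_apply, ← h2, Perm.inv_eq_iff_eq.2 rfl, ← via_ap,
        Perm.inv_eq_iff_eq.2 rfl, h2, via_ap, via_ap, h2] at this
      exact this)
  refine h3.imp (fun e x hx => ?_) fun e x hx => ?_ <;> obtain ⟨i, rfl⟩ := (mv_iff f _).1 hx
  · rw [h2, e, one_apply]
  · rw [mul_apply, via_ap, h2, e, sq_ap t8_t0.1]

theorem p_pz {τ : Perm (Fin n)} (hτ : T8 τ) :
    ∃ ρ : Perm (Fin n), ρ ^ 3 = 1 ∧ (∀ i, τ i = i → ρ i = i) ∧ Nb τ (ρ * τ * ρ⁻¹) := by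
  obtain ⟨f, rfl⟩ := t8_std hτ
  refine ⟨via f (swap 1 2 * swap 2 3 * (swap 5 6 * swap 6 7)), ?_,
    fun i hi => via_out f _ fun j hj => (mv_iff f _).2 ⟨j, hj⟩ hi, ?_⟩
  · rw [← map_pow, map_eq_one_iff _ (via_inj f)]; decide +kernel
  · rw [← map_inv, ← map_mul, ← map_mul]; exact nb_via f (by decide +kernel)

theorem p_e8 {σ : Perm (Fin n)} (hσ : T8 σ) :
    ∃ σ1 σ2 : Perm (Fin n), Nb σ σ1 ∧ Nb σ σ2 ∧ Nb σ1 σ2 ∧ Nb (σ * σ1) σ2 := by
  obtain ⟨f, rfl⟩ := t8_std hσ
  exact ⟨via f (swap 0 2 * swap 1 3 * (swap 4 6 * swap 5 7)), via f (swap 0 4 * swap 1 5 * (swap 2 6 * swap 3 7)),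
    nb_via f (by decide +kernel), nb_via f (by decide +kernel), nb_via f (by decide +kernel),
    by rw [← map_mul]; exact nb_via f (by decide +kernel)⟩

theorem p2_gen {σ0 : Perm (Fin n)} (z : Fin n) (h0 : T8 σ0) (h : ∀ R : Submonoid (Perm (Fin n)),
    (∀ γ ρ, (γ = σ0 ∨ Nb σ0 γ) ∧ ρ * γ = γ * ρ → ρ ∈ R) → ∀ i, swap z i ∈ R) {σ τ : Perm (Fin n)} (hσ : T8 σ)
    (hτ : T8 τ) : Relation.ReflTransGen Nb σ τ := by
  have sy : ∀ {a b : Perm (Fin n)}, Relation.ReflTransGen Nb a b → Relation.ReflTransGen Nb b a :=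
    fun h => by
      induction h with
      | refl => exact .refl
      | tail _ h ih => exact .head ⟨h.2.1, h.1, h.2.2.2 ▸ h.2.2.1, h.2.2.2.symm⟩ ih
  have cj : ∀ ρ {a b : Perm (Fin n)}, Relation.ReflTransGen Nb a b →
      Relation.ReflTransGen Nb (ρ * a * ρ⁻¹) (ρ * b * ρ⁻¹) := fun ρ a b h =>
    h.lift (fun a => ρ * a * ρ⁻¹) fun a b h => ⟨h.1.conj ρ, h.2.1.conj ρ, by
      rw [conj_mul]; exact h.2.2.1.conj ρ, by rw [conj_mul, conj_mul, h.2.2.2]⟩
  let R : Submonoid (Perm (Fin n)) :=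
    { carrier := {ρ | Relation.ReflTransGen Nb σ0 (ρ * σ0 * ρ⁻¹)}
      one_mem' := by simpa using Relation.ReflTransGen.refl
      mul_mem' := fun {a b} ha hb => ha.trans (by simpa [mul_assoc] using cj a hb) }
  have h1 := h R fun γ ρ ⟨h1, h2⟩ => by
    have h3 : Relation.ReflTransGen Nb σ0 γ := h1.elim (fun e => e ▸ .refl) .single
    have h4 := cj ρ h3
    rw [h2, mul_inv_cancel_right] at h4
    exact h3.trans (sy h4)
  have h3 : ⊤ ≤ R := by
    rw [← mclosure_isSwap, Submonoid.closure_le]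
    rintro _ ⟨i, j, -, rfl⟩
    exact SubmonoidClass.swap_mem_trans R (swap_comm z i ▸ h1 i) (h1 j)
  have h2 : ∀ ρ, ρ ∈ R := fun ρ => h3 trivial
  obtain ⟨a, rfl⟩ := t8_isConj h0 hσ
  obtain ⟨b, rfl⟩ := t8_isConj h0 hτ
  exact (sy (h2 a)).trans (h2 b)

/-- the standard involution of degree eleven -/
def p2_t1 : Perm (Fin 11) := swap 0 1 * swap 2 3 * (swap 4 5 * swap 6 7)

theorem p_t9 (hn : n = 8 ∨ n = 11) {S : Set (Perm (Fin n))}
    (h : ∀ σ ∈ S, ∀ τ, Nb σ τ → τ ∈ S) {σ τ : Perm (Fin n)} (hσ : σ ∈ S) (h8 : T8 σ) (hτ : T8 τ) :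
    τ ∈ S := by
  have k : Relation.ReflTransGen Nb σ τ := by
    rcases hn with rfl | rfl
    · refine p2_gen 0 t8_t0 (fun R H i => ?_) h8 hτ
      have tr := fun a b c => SubmonoidClass.swap_mem_trans (a := a) (b := b) (c := c) R
      have a2 := H (swap 0 2 * swap 1 3 * (swap 4 6 * swap 5 7)) (swap 0 2) (by decide +kernel)
      have a4 := H (swap 0 4 * swap 1 5 * (swap 2 6 * swap 3 7)) (swap 0 4) (by decide +kernel)
      have a6 := tr _ _ _ a4 (H (swap 0 2 * swap 1 3 * (swap 4 6 * swap 5 7)) (swap 4 6) (by decide +kernel))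
      fin_cases i
      exacts [H t0 _ (by decide +kernel), H t0 _ (by decide +kernel), a2,
        tr _ _ _ a2 (H t0 _ (by decide +kernel)), a4, tr _ _ _ a4 (H t0 _ (by decide +kernel)), a6,
        tr _ _ _ a6 (H t0 _ (by decide +kernel))]
    · refine p2_gen (σ0 := p2_t1) 0 (by decide +kernel) (fun R H i => ?_) h8 hτ
      have tr := fun a b c => SubmonoidClass.swap_mem_trans (a := a) (b := b) (c := c) R
      have a2 := H (swap 0 2 * swap 1 3 * (swap 4 6 * swap 5 7)) (swap 0 2) (by decide +kernel)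
      have a4 := H (swap 0 4 * swap 1 5 * (swap 2 6 * swap 3 7)) (swap 0 4) (by decide +kernel)
      have a6 := tr _ _ _ a4 (H (swap 0 2 * swap 1 3 * (swap 4 6 * swap 5 7)) (swap 4 6) (by decide +kernel))
      have a10 := tr _ _ _ a6 (H (swap 0 1 * swap 2 4 * (swap 3 5 * swap 8 9)) (swap 6 10) (by decide +kernel))
      fin_cases i
      exacts [H p2_t1 _ (by decide +kernel), H p2_t1 _ (by decide +kernel), a2,
        tr _ _ _ a2 (H p2_t1 _ (by decide +kernel)), a4, tr _ _ _ a4 (H p2_t1 _ (by decide +kernel)), a6,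
        tr _ _ _ a6 (H p2_t1 _ (by decide +kernel)), tr _ _ _ a10 (H p2_t1 _ (by decide +kernel)),
        tr _ _ _ a10 (H p2_t1 _ (by decide +kernel)), a10]
  induction k with
  | refl => exact hσ
  | tail _ h2 ih => exact h _ (ih h2.1) _ h2

theorem p2_three (hn : n = 11) {τ : Perm (Fin n)} (hτ : T8 τ) :
    ∃ p q r, p ≠ q ∧ p ≠ r ∧ q ≠ r ∧ ∀ x, τ x = x ↔ x = p ∨ x = q ∨ x = r := by
  obtain ⟨p, q, r, h1, h2, h3, h4⟩ := Finset.card_eq_three.1
    (show τ.supportᶜ.card = 3 by rw [Finset.card_compl, hτ.2, Fintype.card_fin, hn])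
  exact ⟨p, q, r, h1, h2, h3, fun x => by simpa using Finset.ext_iff.1 h4 x⟩

theorem p_fx (hn : n = 11) {B : Subgroup (Perm (Fin n))} (h8 : 8 ≤ Nat.card B)
    (hB : ∀ b ∈ B, b ≠ 1 → T8 b) {a b : Perm (Fin n)} (ha : a ∈ B) (hb : b ∈ B) (a1 : a ≠ 1)
    (b1 : b ≠ 1) : a.support = b.support := by
  classical
  have sq : ∀ x ∈ B, x * x = 1 := fun x hx => by
    by_cases h : x = 1
    · simp [h]
    · exact (hB x hx h).1
  have cm : ∀ x ∈ B, ∀ y ∈ B, ∀ i, x (y i) = y (x i) := fun x hx y hy i => by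
    have : x * y = y * x := by
      rw [← mul_inv_eq_one, mul_inv_rev, iv_inv (sq x hx), iv_inv (sq y hy)]; exact sq _ (mul_mem hx hy)
    rw [← mul_apply, this, mul_apply]
  let P : Perm (Fin n) → Perm (Fin n) → Prop := fun a x => ∀ i, a i = i → x i = i
  have k : ∀ a ∈ B, a ≠ 1 → ∀ x ∈ B, ∀ y ∈ B, x * y ≠ 1 → P a x = P a y → (x * y).support = a.support :=
    fun a ha a1 x hx y hy h1 h2 => by
      refine Finset.eq_of_subset_of_card_le (fun i hi => ?_) (by rw [(hB a ha a1).2, (hB _ (mul_mem hx hy) h1).2])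
      rw [mem_support] at hi ⊢
      refine fun e => hi ?_
      rw [mul_apply]
      by_cases h3 : P a x
      · rw [(h2 ▸ h3 : P a y) i e, h3 i e]
      · have h4 : ¬ P a y := h2 ▸ h3
        obtain ⟨p, q, r, d1, d2, d3, hF⟩ := p2_three hn (hB a ha a1)
        have f : ∀ x ∈ B, ∀ i, a i = i → x i = p ∨ x i = q ∨ x i = r := fun x hx i hi =>
          (hF _).1 (by rw [cm a ha x hx, hi])
        have g : ∀ x, ¬ P a x → x p ≠ p ∨ x q ≠ q ∨ x r ≠ r := fun x h => by_contra fun h5 => h fun i hi => by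
          have := (hF i).1 hi
          grind
        have x1 := f x hx p ((hF _).2 (by simp))
        have x2 := f x hx q ((hF _).2 (by simp))
        have x3 := f x hx r ((hF _).2 (by simp))
        have y1 := f y hy p ((hF _).2 (by simp))
        have y2 := f y hy q ((hF _).2 (by simp))
        have y3 := f y hy r ((hF _).2 (by simp))
        have x4 := g x h3
        have y4 := g y h4
        have e1 := (hF i).1 e
        have s1 := sq_ap (sq x hx) p
        have s2 := sq_ap (sq x hx) q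
        have s3 := sq_ap (sq x hx) r
        have s4 := sq_ap (sq y hy) p
        have s5 := sq_ap (sq y hy) q
        have s6 := sq_ap (sq y hy) r
        have c1 := cm x hx y hy p
        have c2 := cm x hx y hy q
        have c3 := cm x hx y hy r
        clear * - x1 x2 x3 y1 y2 y3 x4 y4 e1 s1 s2 s3 s4 s5 s6 c1 c2 c3 d1 d2 d3
        grind
  have := Fintype.ofFinite B
  obtain ⟨x, y, h1, h2⟩ := Fintype.exists_ne_map_eq_of_card_lt (fun x : B => (P a x, P b x))
    (by rw [Fintype.card_prod, Fintype.card_prop, ← Nat.card_eq_fintype_card]; omega)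
  have h3 : (x : Perm (Fin n)) * y ≠ 1 := fun e => h1 (Subtype.ext (by
    rw [eq_inv_of_mul_eq_one_left e, iv_inv (sq _ y.2)]))
  exact (k a ha a1 x x.2 y y.2 h3 (congrArg Prod.fst h2)).symm.trans (k b hb b1 x x.2 y y.2 h3 (congrArg Prod.snd h2))

theorem p_fix2 (hn : n ≤ 10) {τ η : Perm (Fin n)} (hτ : T8 τ) (ho : Odd (orderOf η))
    (h : Fx τ η) : η = 1 := by
  have h1 : η.support.card ≤ 2 := by
    refine le_trans (Finset.card_le_card (t := τ.supportᶜ) fun i hi => ?_) ?_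
    · rw [Finset.mem_compl, mem_support]; exact fun e => mem_support.1 hi (h i e)
    · rw [Finset.card_compl, hτ.2, Fintype.card_fin]; omega
  rcases Nat.lt_or_eq_of_le h1 with h2 | h2
  · exact card_support_le_one.1 (by omega)
  · obtain ⟨x, y, -, rfl⟩ := card_support_eq_two.1 h2
    exact Equiv.ext fun a => odd_fix ho (swap_apply_self _ _ _)

theorem p2_fix3 {τ η : Perm (Fin n)} {p q r : Fin n} (d1 : p ≠ q) (d2 : p ≠ r) (d3 : q ≠ r)
    (hF : ∀ x, τ x = x ↔ x = p ∨ x = q ∨ x = r) (ho : Odd (orderOf η)) (h : Fx τ η) :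
    η = 1 ∨ η = swap p q * swap q r ∨ η = swap p q * swap q r * (swap p q * swap q r) := by
  have f : ∀ i, η i = i ∨ η i = p ∨ η i = q ∨ η i = r := fun i =>
    (em _).symm.imp (fun e => η.injective (h _ e)) (hF _).1
  have x1 := f p
  have x2 := f q
  have x3 := f r
  have o1 := odd_fix ho (a := p)
  have o2 := odd_fix ho (a := q)
  have o3 := odd_fix ho (a := r)
  have i1 := η.injective.ne d1
  have i2 := η.injective.ne d2
  have i3 := η.injective.ne d3
  have g : ∀ x, (x = p ∨ x = q ∨ x = r) ∨ η x = x := fun x => (em _).imp (hF x).1 (h x)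
  rcases (x1.elim Or.inl id : η p = p ∨ η p = q ∨ η p = r) with e | e | e
  · refine Or.inl (Equiv.ext fun x => ?_)
    have := g x
    rw [one_apply]
    clear f g hF h ho
    grind
  · refine Or.inr (Or.inl (Equiv.ext fun x => ?_))
    have := g x
    simp only [mul_apply, swap_apply_def]
    clear f g hF h ho
    have : η q = r ∧ η r = p := by grind
    have := η.injective.eq_iff (a := x) (b := p)
    have := η.injective.eq_iff (a := x) (b := q)
    have := η.injective.eq_iff (a := x) (b := r)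
    grind
  · refine Or.inr (Or.inr (Equiv.ext fun x => ?_))
    have := g x
    simp only [mul_apply, swap_apply_def]
    clear f g hF h ho
    have : η r = q ∧ η q = p := by grind
    have := η.injective.eq_iff (a := x) (b := p)
    have := η.injective.eq_iff (a := x) (b := q)
    have := η.injective.eq_iff (a := x) (b := r)
    grind

theorem p_fix3 (hn : n = 11) {τ : Perm (Fin n)} (hτ : T8 τ) :
    ∃ μ : Perm (Fin n), μ ^ 3 = 1 ∧ Fx τ μ ∧
      ∀ η : Perm (Fin n), Odd (orderOf η) → Fx τ η → η ∈ zpowers μ := by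
  obtain ⟨p, q, r, d1, d2, d3, hF⟩ := p2_three hn hτ
  refine ⟨_, c3_cube d1 d2 d3, fun i hi => ?_, fun η ho h => ?_⟩
  · rw [Ne, hF] at hi
    simp only [not_or] at hi
    exact sw2_fix hi.1 hi.2.1 hi.2.1 hi.2.2
  · rcases p2_fix3 d1 d2 d3 hF ho h with rfl | rfl | rfl
    exacts [one_mem _, mem_zpowers _, mul_mem (mem_zpowers _) (mem_zpowers _)]

theorem p_two3 (hn : n = 11) {τ η : Perm (Fin n)} (hτ : T8 τ) (ho : Odd (orderOf η))
    (h : Fx τ η) (h1 : η ≠ 1) : ∃ ρ : Perm (Fin n), sign ρ = 1 ∧ Nb τ (ρ * τ * ρ⁻¹) ∧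
      ∀ Y : Subgroup (Perm (Fin n)), η ∈ Y → ρ * η * ρ⁻¹ ∈ Y → ¬ Odd (Nat.card Y) := by
  subst hn
  obtain ⟨f, rfl⟩ : ∃ f : Fin 11 ↪ Fin 11, τ = via f p2_t1 := by
    obtain ⟨π, rfl⟩ := t8_isConj (σ := p2_t1) (by decide +kernel) hτ
    have e : via (Function.Embedding.refl _) p2_t1 = p2_t1 :=
      Equiv.ext fun i => via_ap (Function.Embedding.refl _) _ i
    exact ⟨_, by rw [← via_conj (Function.Embedding.refl _) _ π, e]⟩
  obtain ⟨η, rfl⟩ := Finite.injective_iff_surjective.1 (via_inj f) η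
  rw [orderOf_injective _ (via_inj f)] at ho
  have k := p2_fix3 (τ := p2_t1) (p := 8) (q := 9) (r := 10) (by decide) (by decide) (by decide)
    (by decide +kernel) ho fun i hi => f.injective (by
      rw [← via_ap]; exact h _ (by rw [via_ap]; exact f.injective.ne hi))
  let ρ : Perm (Fin 11) := swap 0 1 * swap 3 4 * (swap 6 8 * swap 7 9)
  refine ⟨via f ρ, by rw [via_sign]; decide +kernel, ?_, fun Y y1 y2 hY => ?_⟩
  · rw [← map_inv, ← map_mul, ← map_mul]; exact nb_via f (by decide +kernel)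
  · have h2 := odd_orderOf_of_mem hY (mul_mem y1 (mul_mem (mul_mem y2 y1) (inv_mem y2)))
    simp only [← map_inv, ← map_mul] at h2
    rw [orderOf_injective _ (via_inj f)] at h2
    rcases k with rfl | rfl | rfl
    · exact h1 (map_one _)
    all_goals
      rw [iv_of (by decide +kernel) (by decide +kernel)] at h2
      exact absurd h2 (by decide)

end H20.So
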