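import Mathlib
import Cfsg.Agent.H20.So0
import Cfsg.Agent.H26.B71C
import Cfsg.Agent.H6.DoubleCover
import Cfsg.Agent.H17.ZStar

/-! # Solomon's theorem: dihedral groups, Sylow subgroups, `Z*`, strongly embedded subgroups -/

set_option autoImplicit false

namespace H20.So

open Subgroup Equiv Equiv.Perm Cfsg H24 H23 H25.LB H5.Ly
open scoped commutatorElement

variable {G : Type*} [Group G] [Finite G]

omit [Finite G] in
theorem t1_inv {a x w : G} (h : a * x * a⁻¹ = x⁻¹) (hw : w ∈ zpowers x) : a * w * a⁻¹ = w⁻¹ := by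
  obtain ⟨k, rfl⟩ := mem_zpowers_iff.1 hw
  rw [← conj_zpow, h, inv_zpow]

theorem dh {a b : G} (ha : a * a = 1) (hb : b * b = 1) {e : ℕ}
    (h : Odd (orderOf ((a * b) ^ 2 ^ e))) :
    ∃ c ∈ zpowers ((a * b) ^ 2 ^ e), (c * a * c⁻¹ * b) ^ 2 ^ e = 1 := by
  obtain ⟨i, hi⟩ := exists_pow_eq_self_of_coprime (x := (a * b) ^ 2 ^ e) (n := 2 ^ (e + 1))
    (Nat.Coprime.pow_left _ (Nat.coprime_two_left.2 h))
  have h1 : a * (a * b) * a⁻¹ = (a * b)⁻¹ := by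
    rw [← mul_assoc, ha, one_mul, mul_inv_rev, iv_inv hb]
  refine ⟨(((a * b) ^ 2 ^ e) ^ i)⁻¹, inv_mem (pow_mem (mem_zpowers _) _), ?_⟩
  have h2 := t1_inv h1 (pow_mem (pow_mem (mem_zpowers _) (2 ^ e)) i)
  have h3 : Commute (((a * b) ^ 2 ^ e) ^ i)⁻¹ (a * b) := (((Commute.refl _).pow_left _).pow_left _).inv_left
  rw [← pow_mul, mul_comm _ i, pow_mul, pow_succ', pow_mul, sq] at hi
  generalize ((a * b) ^ 2 ^ e) ^ i = c at h2 h3 hi
  rw [show c⁻¹ * a * c⁻¹⁻¹ * b = c⁻¹ * (a * c * a⁻¹) * (a * b) by group, h2, (h3.mul_left h3).mul_pow, ← hi,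
    ← mul_inv_rev, inv_pow, inv_mul_cancel]

theorem dh0 {Y : Subgroup G} (hY : Odd (Nat.card Y)) {a b : G} (ha : a * a = 1) (hb : b * b = 1)
    (h : a * b ∈ Y) : ∃ c ∈ Y, c * a * c⁻¹ = b := by
  have m : (a * b) ^ 2 ^ 0 ∈ Y := pow_mem h _
  obtain ⟨c, hc, e⟩ := dh ha hb (odd_orderOf_of_mem hY m)
  rw [pow_zero, pow_one, mul_eq_one_iff_eq_inv, iv_inv hb] at e
  exact ⟨c, zpowers_le.2 m hc, e⟩

theorem dh1 {Y : Subgroup G} (hY : Odd (Nat.card Y)) {a b : G} (ha : a * a = 1) (hb : b * b = 1)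
    (h : ⁅a, b⁆ ∈ Y) : ∃ c ∈ Y, c * a * c⁻¹ * b = b * (c * a * c⁻¹) := by
  have m : (a * b) ^ 2 ^ 1 ∈ Y := by
    rwa [commutatorElement_def, iv_inv ha, iv_inv hb, mul_assoc (a * b), ← sq] at h
  obtain ⟨c, hc, e⟩ := dh ha hb (odd_orderOf_of_mem hY m)
  rw [pow_one, sq, mul_eq_one_iff_eq_inv, mul_inv_rev, iv_inv hb,
    iv_inv (t := c * a * c⁻¹) (by rw [conj_mul, ha, mul_one, mul_inv_cancel])] at e
  exact ⟨c, zpowers_le.2 m hc, e⟩

theorem dh2 {Y : Subgroup G} (hY : Odd (Nat.card Y)) {a b : G} (ha : a * a = 1) (hb : b * b = 1)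
    (h : (a * b) ^ 4 ∈ Y) : ∃ c ∈ Y, (c * a * c⁻¹ * b) ^ 4 = 1 := by
  obtain ⟨c, hc, e⟩ := dh ha hb (e := 2) (odd_orderOf_of_mem hY h)
  exact ⟨c, zpowers_le.2 h hc, e⟩

theorem two_part (x : G) : ∃ m k : ℕ, Odd m ∧ (x ^ m) ^ 2 ^ k = 1 := by
  obtain ⟨k, m, hm, e⟩ := Nat.exists_eq_two_pow_mul_odd (orderOf_pos x).ne'
  exact ⟨m, k, hm, by rw [← pow_mul, mul_comm, ← e, pow_orderOf_eq_one]⟩

theorem two_odd (x : G) : ∃ a b : G, x = a * b ∧ a ∈ zpowers x ∧ b ∈ zpowers x ∧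
    (∃ k : ℕ, a ^ 2 ^ k = 1) ∧ Odd (orderOf b) := by
  obtain ⟨a, b, h1, h2, h3, h4, e⟩ := exists_piElt_decomp {2} x
  obtain ⟨k, hk⟩ := h1.exists_pow Nat.prime_two
  exact ⟨a, b, e, h3, h4, ⟨k, hk ▸ pow_orderOf_eq_one a⟩,
    Nat.coprime_two_left.1 ((piNat_compl_iff_coprime Nat.prime_two).1 h2)⟩

theorem eq_one_of_two_odd {x : G} {k : ℕ} (h : x ^ 2 ^ k = 1) (ho : Odd (orderOf x)) : x = 1 :=
  orderOf_eq_one_iff.1 (Nat.Coprime.eq_one_of_dvd (Nat.Coprime.pow_right k (Nat.coprime_two_right.2 ho))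
    (orderOf_dvd_of_pow_eq_one h))

theorem mem_of_sq_mem {H : Subgroup G} {x : G} (ho : Odd (orderOf x)) (h : x * x ∈ H) : x ∈ H :=
  mem_of_pow_mem_of_coprime (n := 2) (Nat.coprime_two_right.2 ho) (by rwa [sq])

theorem pg_zpowers {x : G} {k : ℕ} (h : x ^ 2 ^ k = 1) : IsPGroup 2 (zpowers x) := by
  obtain ⟨j, -, e⟩ := (Nat.dvd_prime_pow Nat.prime_two).1 (orderOf_dvd_of_pow_eq_one h)
  exact IsPGroup.of_card ((Nat.card_zpowers x).trans e)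

theorem mem_of_two {E Y : Subgroup G} (hn : Y ≤ N[E]) (hY : Odd (Nat.card Y)) {x : G} {k : ℕ}
    (hx : x ^ 2 ^ k = 1) (h : x ∈ E ⊔ Y) : x ∈ E :=
  le_of_isPGroup_of_le_sup_cop hn (cop_two_iff_odd.2 hY) (pg_zpowers hx) (zpowers_le.2 h) (mem_zpowers x)

theorem mem_pGen {H : Subgroup G} {x : G} {k : ℕ} (hx : x ∈ H) (h : x ^ 2 ^ k = 1) :
    x ∈ pGen 2 H := le_pGen (zpowers_le.2 hx) (pg_zpowers h) (mem_zpowers x)

/-- the four-group generated by two commuting involutions -/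
def t1_four {a b : G} (ha : a * a = 1) (hb : b * b = 1) (hab : a * b = b * a) : Subgroup G where
  carrier := {x | x = 1 ∨ x = a ∨ x = b ∨ x = a * b}
  one_mem' := Or.inl rfl
  mul_mem' := by
    have h1 : a * (a * b) = b := by rw [← mul_assoc, ha, one_mul]
    have h2 : b * (a * b) = a := by rw [← mul_assoc, ← hab, mul_assoc, hb, mul_one]
    have h3 : a * b * a = b := by rw [mul_assoc, ← hab, h1]
    have h4 : a * b * b = a := by rw [mul_assoc, hb, mul_one]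
    have h5 : a * b * (a * b) = 1 := by rw [mul_assoc, h2, ha]
    rintro x y (rfl | rfl | rfl | rfl) (rfl | rfl | rfl | rfl) <;> simp [ha, hb, ← hab, h1, h2, h3, h4, h5]
  inv_mem' := by
    rintro x (rfl | rfl | rfl | rfl)
    · simp
    · simp [iv_inv ha]
    · simp [iv_inv hb]
    · simp [iv_inv ha, iv_inv hb, hab]

theorem gen4 {Y M : Subgroup G} (hY : Odd (Nat.card Y)) {a b : G} (ha : orderOf a = 2)
    (hb : orderOf b = 2) (hab : a * b = b * a) (hne : a ≠ b) (haY : a ∈ N[Y]) (hbY : b ∈ N[Y])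
    (h1 : Y ⊓ C{a} ≤ M) (h2 : Y ⊓ C{b} ≤ M) (h3 : Y ⊓ C{a * b} ≤ M) : Y ≤ M := by
  have c : Commute a b := hab
  have s : ∀ x ∈ t1_four (iv_mul ha) (iv_mul hb) hab, x * x = 1 := by
    rintro x (rfl | rfl | rfl | rfl)
    · exact mul_one 1
    · exact iv_mul ha
    · exact iv_mul hb
    · rw [c.symm.mul_mul_mul_comm, iv_mul ha, iv_mul hb, mul_one]
  refine H26.coprime_abelian_gen_cent1 (A := t1_four (iv_mul ha) (iv_mul hb) hab) ?_ (fun h => ?_) ?_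
    (cop_card_of_isPGroup (p := 2) (fun x => ⟨1, Subtype.ext (by rw [pow_one, sq]; exact s x x.2)⟩)
      (cop_two_iff_odd.2 hY)).symm ?_
  · refine abl_iff.2 (le_C_iff.2 fun x hx y hy => ?_)
    rw [← iv_inv (s _ (mul_mem hx hy)), mul_inv_rev, iv_inv (s x hx), iv_inv (s y hy)]
  · obtain ⟨g, hg, e⟩ := Cyc.exists_gen h
    have k : ∀ x ∈ zpowers g, x ≠ 1 → x = g := fun x hx h1 => by
      obtain ⟨k, rfl⟩ := mem_powers_iff_mem_zpowers.2 hx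
      obtain ⟨j, rfl | rfl⟩ := Nat.even_or_odd' k
      · exact absurd (by change g ^ (2 * j) = 1; rw [pow_mul, sq, s g hg, one_pow]) h1
      · change g ^ (2 * j + 1) = g
        rw [pow_succ, pow_mul, sq, s g hg, one_pow, one_mul]
    exact hne ((k a (e.ge (Or.inr (Or.inl rfl))) (iv_ne ha)).trans
      (k b (e.ge (Or.inr (Or.inr (Or.inl rfl)))) (iv_ne hb)).symm)
  · rintro x (rfl | rfl | rfl | rfl)
    exacts [one_mem _, haY, hbY, mul_mem haY hbY]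
  · rintro x (rfl | rfl | rfl | rfl) h
    exacts [absurd rfl h, h1, h2, h3]

theorem lift_cent {Y S : Subgroup G} (hY : Odd (Nat.card Y)) (hS : IsPGroup 2 S) (hn : S ≤ N[Y])
    {g : G} (h : ∀ s ∈ S, ⁅s, g⁆ ∈ Y) : ∃ y ∈ Y, y * g ∈ C[S] :=
  H26.coprime_lift_cent hn (cop_card_of_isPGroup hS (cop_two_iff_odd.2 hY)).symm (Or.inr (solv_of_isPGroup hS)) h

theorem lift_cent1 {Y : Subgroup G} (hY : Odd (Nat.card Y)) {b g : G} {k : ℕ} (hb : b ^ 2 ^ k = 1)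
    (hn : b ∈ N[Y]) (h : ⁅b, g⁆ ∈ Y) : ∃ y ∈ Y, y * g ∈ C{b} := by
  rw [← C_zpowers]
  refine lift_cent hY (pg_zpowers hb) (zpowers_le.2 hn) fun s hs => ?_
  obtain ⟨j, rfl⟩ := mem_powers_iff_mem_zpowers.2 hs
  induction j with
  | zero => simp
  | succ j ih =>
    have := mul_mem (conj_mem hn (ih (pow_mem (mem_zpowers b) j))) h
    convert this using 1
    simp only [commutatorElement_def, pow_succ']
    group

theorem opp_inf_le' (H W : Subgroup G) : opp 2 H ⊓ W ≤ opp 2 (H ⊓ W) :=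
  le_opp_of_le_opp inf_le_left (inf_le_inf_right W (opp_le 2 H)) inf_le_left

theorem opp_cj (g : G) (H : Subgroup G) : opp 2 (cj g H) = cj g (opp 2 H) := (map_conj_opp 2 H g).symm

theorem cent_ne_top [IsSimpleGroup G] {K : Subgroup G} (hK : ¬ Sol K) {z : G} (hz : z ≠ 1) :
    C{z} ≠ ⊤ := fun h => by
  have m : z ∈ center G := mem_center_iff.2 fun g => mem_C1.1 (h.ge (mem_top g))
  have e := (IsSimpleGroup.eq_bot_or_eq_top_of_normal (center G) inferInstance).resolve_left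
    fun e => hz (mem_bot.1 (e ▸ m))
  exact hK (Abl.sol (abl_iff.2 (le_C_iff.2 fun a _ b _ => mem_center_iff.1 (e.ge (mem_top b)) a)))

theorem one_class {H : Subgroup G} {z : G} (hz : z ∈ H) (h2 : z * z = 1)
    (hc : ∀ w ∈ H, w * w = 1 → w ≠ 1 → w * z = z * w → ∃ h ∈ H, h * z * h⁻¹ = w)
    {u : G} (hu : u ∈ H) (hu2 : u * u = 1) (hu1 : u ≠ 1) : ∃ h ∈ H, h * z * h⁻¹ = u := by
  rcases Nat.even_or_odd (orderOf (z * u)) with h | h
  · obtain ⟨a1, a2, a3⟩ := H6.central_involution h2 hu2 h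
    have hw : (z * u) ^ (orderOf (z * u) / 2) ∈ H := pow_mem (mul_mem hz hu) _
    generalize (z * u) ^ (orderOf (z * u) / 2) = w at a1 a2 a3 hw
    obtain ⟨h, hh, rfl⟩ := hc w hw (by rw [← sq, ← a1, pow_orderOf_eq_one])
      (by rintro rfl; simp at a1) a2
    obtain ⟨k, hk, e⟩ := hc (h⁻¹ * u * h) (mul_mem (mul_mem (inv_mem hh) hu) hh)
      (by calc _ = h⁻¹ * (u * u) * h := by group
          _ = 1 := by rw [hu2]; group)
      (fun e => hu1 (by calc u = h * (h⁻¹ * u * h) * h⁻¹ := by group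
          _ = 1 := by rw [e]; group))
      (by calc _ = h⁻¹ * (u * (h * z * h⁻¹)) * h := by group
          _ = _ := by rw [← a3.eq]; group)
    exact ⟨h * k, mul_mem hh hk, by
      calc _ = h * (k * z * k⁻¹) * h⁻¹ := by group
        _ = _ := by rw [e]; group⟩
  · obtain ⟨d, hd, e⟩ := H6.exists_conj_of_odd h2 hu2 h
    refine ⟨d, (closure_le H).2 ?_ hd, e⟩
    rintro x (rfl | rfl)
    exacts [hz, hu]

theorem t1_se_top {H : Subgroup G} {z u v : G} (hz : z ∈ H)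
    (h2 : z * z = 1) (hC : ∀ g, g * z = z * g → g ∈ H)
    (hc : ∀ w ∈ H, w * w = 1 → w ≠ 1 → w * z = z * w → ∃ h ∈ H, h * z * h⁻¹ = w)
    (hu : u ∈ H) (hv : v ∈ H) (hu2 : u * u = 1) (hv2 : v * v = 1) (h3 : (u * v) ^ 2 ≠ 1)
    (h4 : (u * v) ^ 4 = 1) : H = ⊤ := by
  by_contra hH
  have key : ∀ g t : G, t ∈ H → t * t = 1 → t ≠ 1 → g * t * g⁻¹ ∈ H → g ∈ H := by
    intro g t ht t2 t1 hg
    obtain ⟨h, hh, rfl⟩ := one_class hz h2 hc ht t2 t1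
    obtain ⟨k, hk, e⟩ := one_class hz h2 hc hg (by rw [conj_mul, t2]; group)
      (fun e => t1 (conj_eq_one_iff.1 e))
    have := hC (k⁻¹ * g * h) (by
      calc _ = k⁻¹ * (g * (h * z * h⁻¹) * g⁻¹) * g * h := by group
        _ = _ := by rw [← e]; group)
    have h5 := mul_mem (mul_mem hk this) (inv_mem hh)
    simpa [mul_assoc] using h5
  have u1 : u ≠ 1 := by rintro rfl; exact h3 (by rw [one_mul, sq, hv2])
  have v1 : v ≠ 1 := by rintro rfl; exact h3 (by rw [mul_one, sq, hu2])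
  have ui := inv_eq_of_mul_eq_one_right hu2
  have vi := inv_eq_of_mul_eq_one_right hv2
  have w2 : (u * v) ^ 2 * (u * v) ^ 2 = 1 := by rw [← pow_add]; exact h4
  have hse : Cfsg.IsStronglyEmbedded H := by
    refine H6.isStronglyEmbedded_iff.2 ⟨hH, ?_, fun g t ht h => key g t ht
      (by rw [← sq, ← h, pow_orderOf_eq_one]) (by rintro rfl; simp at h)⟩
    have : Fact (Nat.Prime 2) := ⟨Nat.prime_two⟩
    have h5 := orderOf_dvd_natCard (⟨u, hu⟩ : H)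
    rw [← Subgroup.orderOf_coe, orderOf_eq_prime (by rw [sq]; exact hu2) u1] at h5
    exact even_iff_two_dvd.2 h5
  have hr : H8.Suz.Rank2 G := by
    refine ⟨u, (u * v) ^ 2, u1, h3, fun e => u1 ?_, hu2, w2, ?_⟩
    · have : v * u * v = 1 := mul_left_cancel (a := u) (by rw [mul_one]; nth_rewrite 3 [e]; rw [sq]; group)
      calc u = v⁻¹ * (v * u * v) * v⁻¹ := by group
        _ = 1 := by rw [this, vi, mul_one, hv2]
    · have h5 : (u * v) ^ 2 = ((u * v) ^ 2)⁻¹ := eq_inv_of_mul_eq_one_left w2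
      calc u * (u * v) ^ 2 = (u * u) * (v * u * v) := by rw [sq]; group
        _ = (v * u * v * u) * u := by rw [hu2, mul_assoc _ u u, hu2, one_mul, mul_one]
        _ = _ := by rw [h5, sq, mul_inv_rev, mul_inv_rev, ui, vi]; group
  obtain ⟨Q, hQ⟩ := H26.BR.ls_top hse hr
  have h5 := hQ.comm u trivial ⟨u1, hu2⟩ (H26.BR.fix_one.2 hu) v
    (hQ.inv_mem v trivial ⟨v1, hv2⟩ (H26.BR.fix_one.2 hv))
  rw [ui, vi, show u * v * u * v = (u * v) ^ 2 by rw [sq]; group] at h5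
  refine hH (eq_top_iff.2 fun y _ => ?_)
  have h6 := h5.2 y⁻¹ trivial
  rw [← mul_smul, ← inv_smul_eq_iff, inv_inv, ← mul_smul] at h6
  refine key y _ (pow_mem (mul_mem hu hv) 2) w2 h3 ?_
  rw [mul_assoc]
  exact H26.BR.fix_one.1 h6

theorem se_le {H Y : Subgroup G} (hY : H ≤ Y) {z u v : G}
    (hz : z ∈ H) (h2 : z * z = 1) (hC : ∀ g ∈ Y, g * z = z * g → g ∈ H)
    (hc : ∀ w ∈ H, w * w = 1 → w ≠ 1 → w * z = z * w → ∃ h ∈ H, h * z * h⁻¹ = w)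
    (hu : u ∈ H) (hv : v ∈ H) (hu2 : u * u = 1) (hv2 : v * v = 1) (h3 : (u * v) ^ 2 ≠ 1)
    (h4 : (u * v) ^ 4 = 1) : Y ≤ H := by
  have := t1_se_top (G := Y) (H := H.subgroupOf Y) (z := ⟨z, hY hz⟩) (u := ⟨u, hY hu⟩)
    (v := ⟨v, hY hv⟩) hz (Subtype.ext h2) (fun g hg => hC g g.2 (congrArg Subtype.val hg))
    (fun w hw a1 a2 a3 => by
      obtain ⟨h, hh, e⟩ := hc w hw (congrArg Subtype.val a1) (fun e => a2 (Subtype.ext e))
        (congrArg Subtype.val a3)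
      exact ⟨⟨h, hY hh⟩, hh, Subtype.ext e⟩) hu hv (Subtype.ext hu2) (Subtype.ext hv2)
    (fun e => h3 (congrArg Subtype.val e)) (Subtype.ext h4)
  exact subgroupOf_eq_top.1 this

theorem nse {u v : G} (hu2 : u * u = 1) (hv2 : v * v = 1) (h3 : (u * v) ^ 2 ≠ 1)
    (h4 : (u * v) ^ 4 = 1) (H : Subgroup G) : ¬ IsStronglyEmbedded H := fun hH => by
  obtain ⟨h0, h1, h⟩ := H6.isStronglyEmbedded_iff.1 hH
  have aux : ∀ {u v : G}, u * u = 1 → v * v = 1 → (u * v) ^ 2 ≠ 1 → (u * v) ^ 4 = 1 → u ∈ H → False := by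
    intro u v hu2 hv2 h3 h4 hu
    have u1 : u ≠ 1 := by rintro rfl; exact h3 (by rw [one_mul, sq, hv2])
    have w2 : (u * v) ^ 2 * (u * v) ^ 2 = 1 := by rw [← pow_add]; exact h4
    have i1 : u * (u * v) * u⁻¹ = (u * v)⁻¹ := by rw [← mul_assoc, hu2, one_mul, mul_inv_rev, iv_inv hv2]
    have i2 : v * (u * v) * v⁻¹ = (u * v)⁻¹ := by
      rw [mul_inv_rev, iv_inv hu2, iv_inv hv2, mul_assoc, mul_assoc, hv2, mul_one]
    have c1 := t1_inv i1 (pow_mem (mem_zpowers _) 2)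
    have c2 := t1_inv i2 (pow_mem (mem_zpowers _) 2)
    rw [iv_inv w2] at c1 c2
    have hw : (u * v) ^ 2 ∈ H := h _ u hu (iv_of hu2 u1) (by
      rwa [← mul_inv_eq_iff_eq_mul.1 c1, mul_inv_cancel_right])
    refine h0 (t1_se_top hu hu2 (fun g e => h g u hu (iv_of hu2 u1) (by rwa [e, mul_inv_cancel_right]))
      (fun w hw a1 a2 _ => ?_) hu (h v _ hw (iv_of w2 h3) (c2.symm ▸ hw)) hu2 hv2 h3 h4)
    obtain ⟨g, e⟩ := H26.BR.conj_of_se hH (iv_of hu2 u1) (iv_of a1 a2)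
    exact ⟨g, h g u hu (iv_of hu2 u1) (e ▸ hw), e⟩
  obtain ⟨t, ht, o⟩ := exists_orderOf_eq Nat.prime_two (even_iff_two_dvd.1 h1)
  obtain ⟨g, e⟩ := H26.BR.conj_of_se hH (iv_of hu2 (by rintro rfl; exact h3 (by rw [one_mul, sq, hv2]))) o
  refine aux (u := g * u * g⁻¹) (v := g * v * g⁻¹) ?_ ?_ ?_ ?_ (e ▸ ht)
  · rw [conj_mul, hu2, mul_one, mul_inv_cancel]
  · rw [conj_mul, hv2, mul_one, mul_inv_cancel]
  · rw [conj_mul, conj_pow, Ne, conj_eq_one_iff]; exact h3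
  · rw [conj_mul, conj_pow, h4, mul_one, mul_inv_cancel]

theorem zstar_mod {J : Subgroup G} {t : G} (ht : orderOf t = 2) (htJ : t ∈ J)
    (h : ∀ g ∈ J, g * t * g⁻¹ * t = t * (g * t * g⁻¹) → g * t * g⁻¹ = t) :
    ∀ g ∈ J, ⁅g, t⁆ ∈ opp 2 J := fun g hg => by
  have := H17.zstar (G := J) (z := ⟨t, htJ⟩) ⟨by rw [orderOf_mk, ht], fun k hk =>
    Subtype.ext (h k k.2 (congrArg Subtype.val hk.symm))⟩ ⟨g, hg⟩
  rw [← commutatorElement_inv]
  exact inv_mem ⟨_, this, rfl⟩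

theorem cent_inv {J : Subgroup G} {u t : G} (hu : u ∈ N[J]) (hu2 : u * u = 1) (htJ : t ∈ J)
    (ht : orderOf t = 2) : ∃ v ∈ J, orderOf v = 2 ∧ u * v = v * u := by
  obtain ⟨P, hP, hu'⟩ := Sylow_superset (M := N[J]) Nat.prime_two
    (isPi_of_isPGroup Nat.prime_two (pg_zpowers (k := 1) (by rw [pow_one, sq, hu2]))) (zpowers_le.2 hu)
  have h1 := hP.inf_nml (nml_N J)
  have h2 := (hP.pi.nil Nat.prime_two).inf_C_ne_bot (nml_inf_of_norm hP.le)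
    (h1.ne_bot Nat.prime_two rfl (ht ▸ orderOf_dvd_card' htJ))
  obtain ⟨v, hv, o⟩ := exists_orderOf_eq Nat.prime_two (((hP.pi.inf_left J).inf_left _).dvd_card h2)
  exact ⟨v, hv.1.2, o, mem_C.1 hv.2 u (hu' (mem_zpowers u))⟩

theorem odd_index {t : G} (ht : orderOf t = 2)
    (h : ∀ z : G, orderOf z = 2 → z * t = t * z → z ≠ t → ∃ k ∈ C{t}, k * z * k⁻¹ = z * t) :
    Odd (C{t} : Subgroup G).index := by
  obtain ⟨P, hP, htP⟩ := Sylow_superset (M := C{t}) Nat.prime_two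
    (isPi_of_card_prime Nat.prime_two ((card_zpowers' t).trans ht)) (zpowers_le_C1 t)
  obtain ⟨S, hS, hPS⟩ := Sylow_superset Nat.prime_two hP.pi (le_top (a := P))
  rcases hPS.eq_or_lt with rfl | hlt
  · rw [← relIndex_top_right]
    exact Nat.coprime_two_left.1 ((piNat_compl_iff_coprime Nat.prime_two).1 (hS.idx_of_ge hP.le))
  exfalso
  obtain ⟨g, hg, hgP⟩ := SetLike.exists_of_lt ((hS.pi.nil Nat.prime_two).proper_norm hlt)
  have hz : P ≤ C{g * t * g⁻¹} := by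
    rw [← cj_C1, ← cj_of_mem_N hg.2]
    exact cj_mono g hP.le
  obtain ⟨k, hk, e⟩ := h _ (iv_conj ht g) (mem_C1.1 (hz (htP (mem_zpowers t)))).symm fun e =>
    hgP ((hP.eq_of_le (hS.pi.inf_left C{t}) (le_inf hPS hP.le) inf_le_right).le ⟨hg.1, mem_C1_iff_conj.2 e⟩)
  generalize g * t * g⁻¹ = z at hz e
  have hk' := mem_C1_iff_conj.1 hk
  have n : k ∈ N[C{t} ⊓ C{z}] := mem_N_of_cj_le (by
    rw [cj_inf, cj_C1, cj_C1, hk', e]
    refine fun x hx => ⟨hx.1, mem_C1.2 (mul_right_cancel (b := t) ?_)⟩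
    rw [mul_assoc, mem_C1.1 hx.2, mul_assoc, mul_assoc, mem_C1.1 hx.1])
  have s : k * k ∈ C{t} ⊓ C{z} := ⟨mul_mem hk hk, mem_C1_iff_conj.2 (by
    rw [show k * k * z * (k * k)⁻¹ = k * (k * z * k⁻¹) * k⁻¹ by group, e, ← conj_mul, e, hk', mul_assoc, iv_mul ht,
      mul_one])⟩
  obtain ⟨a, b, e', ha, hb, ⟨j, hj⟩, ob⟩ := two_odd k
  have m : zpowers k ≤ C{t} ⊓ N[C{t} ⊓ C{z}] := zpowers_le.2 ⟨hk, n⟩
  have l : C{t} ⊓ C{z} ≤ C{t} ⊓ N[C{t} ⊓ C{z}] := le_inf inf_le_left (norm_self _)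
  have h1 : a ∈ C{t} ⊓ C{z} := le_of_idx_compl ⟨l, inf_le_right⟩
    ((hP.of_le ((le_inf hP.le hz).trans l) inf_le_left).idx_of_ge (le_inf hP.le hz))
    (isPi_of_isPGroup Nat.prime_two (pg_zpowers hj)) (zpowers_le.2 (m ha)) (mem_zpowers a)
  have h2 : b ∈ C{t} ⊓ C{z} := mem_of_sq_mem ob (by
    obtain ⟨i, rfl⟩ := mem_zpowers_iff.1 hb
    rw [← (Commute.refl k).mul_zpow]
    exact zpow_mem s i)
  rw [mem_C1_iff_conj.1 (e' ▸ mul_mem h1 h2).2, left_eq_mul] at e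
  exact iv_ne ht e

theorem d8_of {a b : G} (ha : a * a = 1) (hb : b * b = 1) {k : ℕ} (h : (a * b) ^ 2 ^ k = 1)
    (hne : a * b ≠ b * a) :
    ∃ a' : G, (IsConj a a' ∨ IsConj b a') ∧ (a' * b) ^ 4 = 1 ∧ (a' * b) ^ 2 ≠ 1 := by
  obtain ⟨m, -, o⟩ := (Nat.dvd_prime_pow Nat.prime_two).1 (orderOf_dvd_of_pow_eq_one h)
  have h2 : (a * b) ^ 2 ≠ 1 := fun e => hne (by
    rw [sq] at e
    rw [← iv_inv e, mul_inv_rev, iv_inv ha, iv_inv hb])
  by_cases h4 : (a * b) ^ 4 = 1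
  · exact ⟨a, Or.inl (IsConj.refl a), h4, h2⟩
  obtain ⟨j, rfl⟩ : ∃ j, m = j + 3 := Nat.exists_eq_add_of_le' (by
    by_contra hm
    exact h4 (orderOf_dvd_iff_pow_eq_one.1 (o ▸ Nat.pow_dvd_pow 2 (show m ≤ 2 by omega))))
  have i2 : b * (a * b) * b⁻¹ = (a * b)⁻¹ := by
    rw [mul_inv_rev, iv_inv ha, iv_inv hb, mul_assoc, mul_assoc, hb, mul_one]
  have c := t1_inv i2 (inv_mem (pow_mem (mem_zpowers _) (2 ^ j)))
  have e : (a * b) ^ 2 ^ j * b * ((a * b) ^ 2 ^ j)⁻¹ * b = (a * b) ^ 2 ^ (j + 1) := by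
    rw [pow_succ, pow_mul, sq]
    nth_rewrite 4 [← inv_inv ((a * b) ^ 2 ^ j)]
    rw [← c, iv_inv hb]; group
  refine ⟨_, Or.inr (isConj_iff.2 ⟨(a * b) ^ 2 ^ j, rfl⟩), ?_, ?_⟩
  · rw [e, ← pow_mul, ← orderOf_dvd_iff_pow_eq_one, o]
    exact Dvd.intro 1 (by ring)
  · rw [e, ← pow_mul, ← pow_succ, Ne, ← orderOf_dvd_iff_pow_eq_one, o, Nat.pow_dvd_pow_iff_le_right (by decide)]
    omega

end H20.So
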