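import Mathlib
import Cfsg.Agent.H20.SoT1

/-! # Solomon's theorem: `2`-components, `Big`, the diagonal component -/

set_option autoImplicit false
set_option linter.unusedSectionVars false

namespace H20.So

open Subgroup Equiv Equiv.Perm Cfsg H24 H23 H25.LB H5.Ly
open scoped commutatorElement

variable {G : Type*} [Group G] [Finite G] {n : ℕ} {K L H W J D : Subgroup G}

theorem pc_cj (hK : IsPCompOf 2 K H) (g : G) : IsPCompOf 2 (cj g K) (cj g H) := hK.conj g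
theorem pc_cj_mem (hK : IsPCompOf 2 K H) {g : G} (hg : g ∈ H) : IsPCompOf 2 (cj g K) H :=
  cj_of_mem hg ▸ pc_cj hK g
theorem cz_cj (g : G) (K : Subgroup G) : cz (cj g K) = cj g (cz K) := by
  ext x
  rw [mem_cj, mem_cz, mem_cz, ← cj_N, mem_cj, opp_cj]
  refine and_congr_right fun _ => ⟨fun h k hk => ?_, fun h k hk => ?_⟩
  · have := mem_cj.1 (h _ (conj_mem_cj g hk))
    convert this using 1
    simp only [commutatorElement_def]; group
  · have := h _ (mem_cj.1 hk)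
    rw [mem_cj]
    convert this using 1
    simp only [commutatorElement_def]; group
theorem N_le_N_cz (K : Subgroup G) : N[K] ≤ N[cz K] := fun g hg =>
  mem_N_iff_cj.2 (by rw [← cz_cj, cj_of_mem_N hg])

theorem t2_comm {x k : G} (hx : x ∈ N[K]) (hk : k ∈ K) : ⁅k, x⁆ ∈ K := by
  rw [commutatorElement_def, mul_assoc, mul_assoc, ← mul_assoc x]
  exact mul_mem hk (H24.conj_mem hx (inv_mem hk))

theorem t2_mem (hK : IsPCompOf 2 K H) {x : G} (hx : x ∈ N[K]) (h : ∀ k ∈ K, ⁅k, x⁆ ∈ opp 2 H) :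
    x ∈ cz K := mem_cz.2 ⟨hx, fun k hk => pcomp_opp_eq hK ▸ ⟨h k hk, t2_comm hx hk⟩⟩

theorem le_cz (hK : IsPCompOf 2 K H) {A : Subgroup G} (hA : A ≤ N[K]) (h : ⁅K, A⁆ ≤ opp 2 H) :
    A ≤ cz K := fun _ hx => t2_mem hK (hA hx) fun _ hk => h (commutator_mem_commutator hk hx)
theorem mem_cz_of (hK : IsPCompOf 2 K H) {x : G} (hx : x ∈ N[K]) (h : ∀ k ∈ K, ⁅k, x⁆ ∈ opp 2 H) :
    x ∈ cz K := t2_mem hK hx h
theorem ne_le_cz (hK : IsPCompOf 2 K H) (hL : IsPCompOf 2 L H) (hne : K ≠ L) : L ≤ cz K :=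
  le_cz hK (hL.le_play.trans (play_le_normalizer_pcomp hK)) ((pcomp_eq_or_comm_le hK hL).resolve_left hne)
theorem opp_le_cz (hK : IsPCompOf 2 K H) : opp 2 H ≤ cz K :=
  le_cz hK (opp_le_normalizer_pcomp hK) (comm_le_right (hK.1.trans (le_normalizer_opp 2 (norm_self H))))
theorem opp_le_cz' (K : Subgroup G) : opp 2 K ≤ cz K := fun _ hx =>
  mem_cz.2 ⟨norm_self K (opp_le 2 K hx), fun _ hk =>
    comm_le_right (le_normalizer_opp 2 (norm_self K)) (commutator_mem_commutator hk hx)⟩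
theorem opp_le_opp (hK : IsPCompOf 2 K H) : opp 2 K ≤ opp 2 H := (pcomp_opp_eq hK).le.trans inf_le_left
theorem pc_le_N (hK : IsPCompOf 2 K H) (hL : IsPCompOf 2 L H) : L ≤ N[K] :=
  hL.le_play.trans (play_le_normalizer_pcomp hK)
theorem cz_sub (hle : L ≤ K) {x : G} (hx : x ∈ cz K) (hn : x ∈ N[L]) : x ∈ cz L :=
  mem_cz.2 ⟨hn, fun k hk => opp_inf_le hle ⟨(mem_cz.1 hx).2 k (hle hk), t2_comm hn hk⟩⟩
theorem pc_nml (hK : IsPCompOf 2 K H) {R : Subgroup G} (hR : R ≤ K) (hn : K ≤ N[R]) :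
    R = K ∨ R ≤ cz K :=
  (pcomp_le_or_comm_le (hK.of_le le_rfl hK.1) hR (isSubnormal_subgroupOf_of_le_normalizer hn)).imp
    (le_antisymm hR) (le_cz (hK.of_le le_rfl hK.1) (norm_of_le hR))
theorem t2_comm_le (K : Subgroup G) : ⁅K, cz K⁆ ≤ opp 2 K := comm_le_of_le_cmod inf_le_right
theorem sol_inf_cz (K : Subgroup G) : Sol (K ⊓ cz K) :=
  sol_of_der1 ((sol_of_odd (odd_opp K)).of_le ((commutator_mono inf_le_left inf_le_right).trans (t2_comm_le K)))
theorem not_sol (hK : IsPCompOf 2 K H) : ¬ Sol K := fun h =>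
  pcomp_not_le_cop hK (Y := ⊥) (by simp) (eq_bot_of_perfect_of_solvable hK.perfect h).le
theorem not_le_cz (hK : IsPCompOf 2 K H) : ¬ K ≤ cz K := fun h =>
  not_sol hK ((sol_inf_cz K).of_le (le_inf le_rfl h))
theorem pc_eq_of_not_sol (hK : IsPCompOf 2 K H) (hL : IsPCompOf 2 L H) {R : Subgroup G}
    (h1 : R ≤ K) (h2 : R ≤ L) (hR : ¬ Sol R) : K = L := by
  by_contra hne
  exact hR ((sol_inf_cz K).of_le (le_inf h1 (h2.trans (ne_le_cz hK hL hne))))
theorem simple_cz (hJ : IsPCompOf 2 J W) (hs : IsSimpleGroup (J ⧸ pPrimeCore 2 J)) :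
    J ⊓ cz J ≤ opp 2 J := by
  have hn : ((cz J).subgroupOf J).Normal :=
    (normal_subgroupOf_iff_le_normalizer_inf).2 (norm_inf ((norm_self J).trans (N_le_N_cz J)) (norm_self J))
  rcases hs.eq_bot_or_eq_top_of_normal _ (hn.map (piO 2 J) (piO_surj 2 J)) with h | h
  · rw [Subgroup.map_eq_bot_iff, ker_piO] at h
    exact fun x hx => ⟨⟨x, hx.1⟩, h hx.2, rfl⟩
  · refine (not_le_cz hJ fun x hx => ?_).elim
    have : (⊤ : Subgroup J) ≤ (cz J).subgroupOf J := by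
      rw [← comap_top (piO 2 J), ← h, comap_map_piO]
      exact sup_le le_rfl fun y hy => opp_le_cz' J ⟨y, hy, rfl⟩
    exact this (mem_top (⟨x, hx⟩ : J))
theorem play_le_sup_cz (hJ : IsPCompOf 2 J W) {x : G} (hx : x ∈ play 2 W) :
    ∃ a ∈ J, ∃ c ∈ cz J, x = a * c := by
  refine (mem_sup_of_norm (cz_le J)).1 (play_le_of (fun K hK => ?_) hx)
  by_cases e : J = K
  · exact e ▸ le_sup_left
  · exact (ne_le_cz hJ hK e).trans le_sup_right

theorem cover_of_cz {S : Subgroup G} (hS : IsPGroup 2 S) (h : S ≤ cz K) :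
    K ≤ (K ⊓ C[S]) ⊔ opp 2 K := fun k hk => by
  obtain ⟨y, hy, e⟩ := lift_cent (odd_opp K) hS (le_normalizer_opp 2 (h.trans (cz_le K))) (g := k) fun s hs => by
    rw [← commutatorElement_inv]
    exact inv_mem ((mem_cz.1 (h hs)).2 k hk)
  rw [← inv_mul_cancel_left y k]
  exact mul_mem (mem_sup_right (inv_mem hy)) (mem_sup_left ⟨mul_mem (opp_le 2 K hy) hk, e⟩)
theorem cover1 {x : G} {k : ℕ} (hx : x ^ 2 ^ k = 1) (h : x ∈ cz K) :
    K ≤ (K ⊓ C{x}) ⊔ opp 2 K := C_zpowers x ▸ cover_of_cz (pg_zpowers hx) (zpowers_le.2 h)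

theorem t2_self (hK : IsPCompOf 2 K H) (hle : L ≤ K) (hc : K ≤ L ⊔ opp 2 K) (hL : pGen 2 L = L) :
    IsPCompOf 2 L L := by
  have e : (L.subgroupOf K).map K.subtype = L := map_subgroupOf_eq_of_le hle
  have h1 : (L.subgroupOf K).map (piO 2 K) = ⊤ := by
    rw [← map_comap_eq_self_of_surjective (piO_surj 2 K) ((L.subgroupOf K).map (piO 2 K)), comap_map_piO,
      show L.subgroupOf K ⊔ pPrimeCore 2 K = ⊤ from map_injective K.subtype_injective (by
        rw [Subgroup.map_sup, e, H24.map_subtype_top]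
        exact le_antisymm (sup_le hle (opp_le 2 K)) hc)]
    exact map_top_of_surjective _ (piO_surj 2 K)
  have h2 : IsPCompOf 2 (L.subgroupOf K) (L.subgroupOf K) := isPCompOf_iff.2
    ⟨le_rfl, isSubnormal_subgroupOf_of_le_normalizer (norm_self _), map_injective K.subtype_injective (by
      rw [map_pGen_of_injective 2 _ K.subtype_injective, e, hL]),
      isQuasisimple_quot_of_map (h1 ▸ isComponent_top_iff.2 (isPCompOf_iff.1 hK).2.2.2)⟩
  exact e ▸ h2.map_of_injective K.subtype_injective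

theorem kx_comp (hK : IsPCompOf 2 K H) (hW : K ≤ (K ⊓ W) ⊔ opp 2 K) :
    IsPCompOf 2 (Kx K W) (H ⊓ W) ∧ K ≤ Kx K W ⊔ opp 2 K := by
  have hO : K ≤ N[opp 2 K] := le_normalizer_opp 2 (norm_self K)
  have h1 : K ⊓ W ≤ N[Kx K W] := (norm_self _).trans (normalizer_le_normalizer_pGen 2 _)
  have h0 : Kx K W ≤ K := (pGen_le 2 _).trans inf_le_left
  have h2 : Kx K W ⊔ opp 2 K ⊴ K := ⟨sup_le h0 (opp_le 2 K),
    hW.trans (sup_le (norm_sup h1 (inf_le_left.trans hO)) (norm_of_le le_sup_right))⟩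
  have h3 : IsProd (Kx K W ⊔ opp 2 K) (K ⊓ W) K := by
    have := isProd_sup' (inf_le_left.trans hO : K ⊓ W ≤ _)
    rw [show K ⊓ W ⊔ opp 2 K = K from le_antisymm (sup_le inf_le_left (opp_le 2 K)) hW] at this
    exact this.symm.mono_left le_sup_right h2.le
  have h4 : K ≤ Kx K W ⊔ opp 2 K := (pcomp_pGen_eq hK).ge.trans (pGen_le_iff.2 fun P hP hP' =>
    le_of_idx_compl h2 (by
      rw [h3.relIndex_eq]
      exact ((piNat_compl_iff_coprime Nat.prime_two).2 (relIndex_pGen_cop 2 (K ⊓ W)).symm).dvd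
        (relIndex_dvd_of_le_left _ le_sup_left)) (isPi_of_isPGroup Nat.prime_two hP') hP)
  have h5 : K ⊓ W ≤ H ⊓ W := inf_le_inf_right W hK.1
  refine ⟨(t2_self hK h0 h4 (pGen_pGen 2 _)).trans ((pGen_le 2 _).trans h5)
    (isSubnormal_subgroupOf_trans (pGen_le 2 _) h5 (isSubnormal_subgroupOf_of_le_normalizer h1) ?_), h4⟩
  have := isSubnormal_subgroupOf_of_le (pcomp_subnormal hK) (inf_le_left : H ⊓ W ≤ H)
  convert this using 1
  ext x
  exact ⟨fun h => h.1, fun h => ⟨h, x.2.2⟩⟩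

theorem opp_le_of_cover (hle : L ≤ K) (hc : K ≤ L ⊔ opp 2 K) : opp 2 L ≤ opp 2 K := by
  have hO : K ≤ N[opp 2 K] := le_normalizer_opp 2 (norm_self K)
  exact le_sup_left.trans (le_opp (K := opp 2 L ⊔ opp 2 K) (sup_le ((opp_le 2 L).trans hle) (opp_le 2 K))
    (hc.trans (sup_le (norm_sup (le_normalizer_opp 2 (norm_self L)) (hle.trans hO)) (norm_of_le le_sup_right)))
    (cop_sup (opp_cop 2 L) (opp_cop 2 K) (((opp_le 2 L).trans hle).trans hO)))
theorem cz_of_cover (hle : L ≤ K) (hc : K ≤ L ⊔ opp 2 K) {x : G} (hn : x ∈ N[K]) (hx : x ∈ cz L) :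
    x ∈ cz K := by
  have hO : K ≤ N[opp 2 K] := le_normalizer_opp 2 (norm_self K)
  have : ⁅zpowers x, L ⊔ opp 2 K⁆ ≤ opp 2 K := comm_sup_le
    (by
      rw [commC]
      exact ((commutator_mono le_rfl (zpowers_le.2 hx)).trans (t2_comm_le L)).trans (opp_le_of_cover hle hc))
    (comm_le_right (le_normalizer_opp 2 (zpowers_le.2 hn))) (hle.trans hO) (norm_self _)
  refine mem_cz.2 ⟨hn, fun k hk => ?_⟩
  rw [← commutatorElement_inv]
  exact inv_mem (this (commutator_mem_commutator (mem_zpowers x) (hc hk)))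

theorem lbal {S : Subgroup G} (hS : IsPGroup 2 S) (hSW : S ≤ W) (hL : IsPCompOf 2 L (W ⊓ C[S]))
    (hJ : IsPCompOf 2 J W) : L ≤ N[J] :=
  (hL.le_play.trans (l_balance_rel hSW hS)).trans (play_le_normalizer_pcomp hJ)
theorem t2_pg {e : G} (he : e * e = 1) : IsPGroup 2 (zpowers e) := pg_zpowers (k := 1) (by rw [pow_one, sq, he])
theorem lbal1 {e : G} (he : e * e = 1) (heW : e ∈ W) (hL : IsPCompOf 2 L (W ⊓ C{e}))
    (hJ : IsPCompOf 2 J W) : L ≤ N[J] :=
  lbal (t2_pg he) (zpowers_le.2 heW) (by rwa [C_zpowers]) hJ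
theorem lbal1' {e : G} (he : e * e = 1) (heW : e ∈ W) : play 2 (W ⊓ C{e}) ≤ play 2 W :=
  C_zpowers e ▸ l_balance_rel (zpowers_le.2 heW) (t2_pg he)
theorem pump {e : G} (he : e * e = 1) (heW : e ∈ W) (hL : IsPCompOf 2 L (W ⊓ C{e}))
    (hJ : IsPCompOf 2 J W) (hn : e ∈ N[J]) : L ≤ J ∨ L ≤ cz J :=
  (pump_rel heW (by rw [sq, he]) hL hJ hn).imp_right fun h => le_cz hJ (lbal1 he heW hL hJ) (commC L J ▸ h)

theorem t2_ded {E : Subgroup G} {z x : G} (hE : E ≤ W ⊓ C{z}) (hx : x ∈ E ⊔ opp 2 W) (hz : x ∈ C{z}) :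
    x ∈ E ⊔ opp 2 (W ⊓ C{z}) := by
  obtain ⟨a, ha, o, ho, rfl⟩ :=
    (mem_sup_of_norm' ((hE.trans inf_le_left).trans (le_normalizer_opp 2 (norm_self W)))).1 hx
  exact mul_mem (mem_sup_left ha)
    (mem_sup_right (opp_inf_le' W _ ⟨ho, (mul_mem_cancel_left (H := C{z}) (hE ha).2).1 hz⟩))

/-- an involution lying in a product of 2-components of `W` all centralised modulo core by the
involution `z`, and commuting with `z`, lies in the 2-layer of `C_W(z)` -/
theorem syf {z b : G} (hz : z * z = 1) (hzW : z ∈ W) (hb : b * b = 1) (hbz : b ∈ C{z})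
    (h : b ∈ sSup {J : Subgroup G | IsPCompOf 2 J W ∧ z ∈ cz J}) : b ∈ play 2 (W ⊓ C{z}) := by
  have : sSup {J : Subgroup G | IsPCompOf 2 J W ∧ z ∈ cz J} ≤ play 2 (W ⊓ C{z}) ⊔ opp 2 W := sSup_le fun J hJ => by
    obtain ⟨h1, h2⟩ := kx_comp hJ.1 (cover1 (k := 1) (by rw [pow_one, sq, hz]) hJ.2)
    exact h2.trans (sup_le_sup h1.le_play (opp_le_opp hJ.1))
  exact mem_of_two (((opp_le 2 _).trans (norm_self _)).trans (normalizer_le_normalizer_play _)) (odd_opp _)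
    (k := 1) (by rw [pow_one, sq, hb]) (t2_ded (play_le 2 _) (this h) hbz)

theorem big_mono (hle : K ≤ J) (h : Big n K) : Big n J := fun R h1 h2 h3 => by
  have := h (R ⊓ K) inf_le_right (norm_inf (hle.trans h2) (norm_self K)) (h3.of_le inf_le_left)
  rw [inf_relIndex_right] at this
  exact this.trans (Nat.mul_le_mul_left 2 (relIndex_le_of_le_right hle (relIndex_ne_zero' _ _)))
theorem big_range (hD : IsPCompOf 2 D H) (hB : Big n D) (f : D →* Perm (Fin n))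
    (hf : ∃ d, f d ≠ 1) : f.range = alternatingGroup (Fin n) := by
  obtain ⟨d, hd⟩ := hf
  have hn := nml_map_subtype f.ker
  have h1 : f.ker.map D.subtype ≤ cz D := (pc_nml hD hn.le hn.norm).resolve_left fun e => by
    obtain ⟨x, hx, e⟩ := e.ge d.2
    exact hd (Subtype.ext e ▸ hx)
  have h2 := hB _ hn.le hn.norm ((sol_inf_cz D).of_le (le_inf hn.le h1))
  rw [relIndex, subgroupOf_map_subtype', index_ker] at h2
  have : Nontrivial (Fin n) := by
    by_contra h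
    rw [not_nontrivial_iff_subsingleton] at h
    exact hd (Subsingleton.elim _ _)
  have h3 : f.range ≤ alternatingGroup (Fin n) := by
    have e : (⊤ : Subgroup D) = ⁅(⊤ : Subgroup D), ⊤⁆ := map_injective D.subtype_injective (by
      rw [map_commutator, H24.map_subtype_top, hD.perfect])
    rw [MonoidHom.range_eq_map, e, map_commutator]
    exact commutator_le.2 fun a _ b _ => by
      rw [mem_alternatingGroup, map_commutatorElement, commutatorElement_eq_one_iff_mul_comm, mul_comm]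
  refine eq_of_card_ge h3 (Nat.le_of_mul_le_mul_left ?_ two_pos)
  rwa [Nat.card_eq_fintype_card, two_mul_card_alternatingGroup, Fintype.card_perm, Fintype.card_fin]

theorem t2_lift {G' : Type*} [Group G'] [Finite G'] {φ : G →* G'}
    (hk : (Nat.card φ.ker).Coprime 2) {K' : Subgroup G'} (h : IsPCompOf 2 K' (H.map φ)) :
    ∃ K, IsPCompOf 2 K H ∧ K.map φ = K' := by
  by_contra hh
  push Not at hh
  have h1 : play 2 H ≤ (cmod K' (opp 2 (H.map φ))).comap φ := by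
    refine play_le_of fun K hK => ?_
    have hK' := pcomp_map_of_cop_ker hk hK
    rw [← map_le_iff_le_comap]
    exact le_cmod ((pcomp_eq_or_comm_le h hK').resolve_left (hh K hK).symm)
      (hK'.1.trans (le_normalizer_opp 2 le_normalizer))
  rw [← map_le_iff_le_comap, map_play_of_cop_ker H hk] at h1
  have h2 := comm_le_of_le_cmod (h.le_play.trans h1)
  rw [h.perfect] at h2
  exact pcomp_not_le_cop h (opp_cop 2 _) h2

theorem t2_top {s : G} (hL : IsPComponent 2 L) (s2 : s * s = 1) (hs : s ∉ N[L]) :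
    ∃ D, IsPCompOf 2 D C{s} ∧ D ≤ (L ⊔ cj s L) ⊔ pPrimeCore 2 G ∧
      ∀ q ∈ L, q * (s * q * s⁻¹) ∈ D ⊔ pPrimeCore 2 G := by
  set φ := piO 2 G with hφ
  have h1 := (isPComponent_iff'.1 hL).2.2
  have hso : φ s ≠ 1 := fun e =>
    hs (IsPComponent.pPrimeCore_le_normalizer hL (by rw [← ker_piO]; exact e))
  have ho : orderOf (φ s) = 2 := iv_of (by rw [← map_mul, s2, map_one]) hso
  have h2 := IsComponent.conj h1 (φ s)
  have hne : L.map φ ≠ (L.map φ).map (MulAut.conj (φ s)).toMonoidHom := fun e => by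
    refine hs (mem_N_iff_cj.2 (IsPComponent.eq_of_map_eq (IsPComponent.conj hL s) hL ?_))
    exact (map_cj φ s L).trans e.symm
  obtain ⟨π, p1, p2', -⟩ := exists_diag ho h1.2 ((IsComponent.eq_or_comm h1 h2).resolve_left hne)
  have h3 : IsCompOf π.range C{φ s} := by
    refine p2'.trans inf_le_right ?_
    rw [inf_subgroupOf_right]
    refine IsSubnormal.subgroupOf (IsSubnormal.trans (sup_le (le_layer h1)
      (le_layer h2)) (isSubnormal_subgroupOf_of_le_normalizer (le_normalizer_sup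
      (layer_le_normalizer_of_isSubnormal h1.1) (layer_le_normalizer_of_isSubnormal h2.1)))
      (Normal.isSubnormal inferInstance))
  rw [← map_centralizer_singleton_of_cop_ker (piO_surj 2 G) (cop_ker_piO 2 G) (t2_pg s2)] at h3
  obtain ⟨D, hD, e⟩ := t2_lift (cop_ker_piO 2 G) (h3.isPCompOf (two_dvd_card_of_quasisimple h3.quasisimple))
  refine ⟨D, hD, ?_, fun q hq => ?_⟩
  · rw [← comap_map_piO, ← map_le_iff_le_comap, e, Subgroup.map_sup, map_cj]
    exact p2'.1.trans inf_le_left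
  · rw [← comap_map_piO, mem_comap, e]
    exact ⟨⟨φ q, mem_map_of_mem φ hq⟩, by rw [p1]; simp [hφ]⟩

theorem t2_rel (hJ : IsPCompOf 2 J W) {b : G} (hbW : b ∈ W) (hb : b * b = 1) (hne : b ∉ N[J]) :
    ∃ D, IsPCompOf 2 D (W ⊓ C{b}) ∧ D ≤ (J ⊔ cj b J) ⊔ opp 2 W ∧ ∀ q ∈ J, q * (b * q * b⁻¹) ∈ D ⊔ opp 2 W := by
  have e : (J.subgroupOf W).map W.subtype = J := map_subgroupOf_eq_of_le hJ.1
  obtain ⟨D, hD, h1, h2⟩ := t2_top (s := (⟨b, hbW⟩ : W)) hJ.2 (Subtype.ext hb) fun h =>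
    hne (e ▸ norm_map (zpowers_le.2 h) W.subtype ⟨_, mem_zpowers _, rfl⟩)
  have h3 := hD.map_of_injective W.subtype_injective
  rw [map_subtype_centralizer_singleton] at h3
  refine ⟨_, h3, ?_, fun q hq => ?_⟩
  · have := map_mono (f := W.subtype) h1
    rwa [Subgroup.map_sup, Subgroup.map_sup, map_cj, e] at this
  · have := mem_map_of_mem W.subtype (h2 ⟨q, hJ.1 hq⟩ hq)
    rwa [Subgroup.map_sup] at this

theorem t2_big (hJ : IsPCompOf 2 J W) (h1 : D ≤ J ⊔ cz J) (h2 : J ≤ D ⊔ cz J) (h : Big n J) : Big n D :=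
  fun R r1 r2 r3 => by
  have nJ : J ⊔ cz J ≤ N[J] := sup_le (norm_self J) (cz_le J)
  have nC : J ⊔ cz J ≤ N[cz J] := nJ.trans (N_le_N_cz J)
  have rC : R ≤ N[cz J] := (r1.trans h1).trans nC
  have hR : R ≤ cz J := by
    have hn : J ≤ N[R ⊔ cz J] := h2.trans (sup_le (norm_sup r2 (h1.trans nC)) (norm_of_le le_sup_right))
    rcases pc_nml hJ inf_le_left (norm_inf (norm_self J) hn) with e | e
    · refine (not_sol hJ (sol_of_img (f := coset (cz J)) (le_sup_left.trans nC) ?_ ?_)).elim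
      · have : pre (coset (cz J)) ⊥ = cz J := coq_bot _
        rw [this, inf_comm]
        exact sol_inf_cz J
      · have : quo J (cz J) ≤ quo R (cz J) := quo_sup_right rC ▸ quo_mono _ (e.ge.trans inf_le_right)
        exact (r3.quo _).of_le this
    · have := group_modr (A := J) (B := cz J) (L := R ⊔ cz J) (cz_le J) le_sup_right
      exact (le_inf (r1.trans h1) le_sup_left).trans (this.ge.trans (sup_le e le_rfl))
  have a := h (J ⊓ cz J) inf_le_left (norm_inf (norm_self J) (le_sup_left.trans nC)) (sol_inf_cz J)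
  rw [inf_relIndex_left, ← relIndex_sup_of_norm (le_sup_left.trans nC), show cz J ⊔ J = cz J ⊔ D from
    le_antisymm (sup_le le_sup_left (sup_comm D _ ▸ h2)) (sup_le le_sup_left (sup_comm J _ ▸ h1)),
    relIndex_sup_of_norm (h1.trans nC)] at a
  exact a.trans (Nat.mul_le_mul_left 2 (relIndex_le_of_le_left hR (relIndex_ne_zero' _ _)))

/-- the diagonal 2-component -/
theorem dg (hJ : IsPCompOf 2 J W) {b : G} (hbW : b ∈ W) (hb : b * b = 1) (hne : b ∉ N[J]) :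
    ∃ D, IsPCompOf 2 D (W ⊓ C{b}) ∧ D ≤ J ⊔ cj b J ∧
      (∀ x ∈ J, ∀ k : ℕ, (x * (b * x * b⁻¹)) ^ 2 ^ k = 1 → x * (b * x * b⁻¹) ∈ C{b} →
        x * (b * x * b⁻¹) ∈ D) ∧
      (∀ m ∈ W, m ∈ C{b} → m ∈ N[D] → m * m ∈ N[J]) ∧ ∀ n, Big n J → Big n D := by
  obtain ⟨D, hD, h1, h2⟩ := t2_rel hJ hbW hb hne
  have hJ' := pc_cj_mem hJ hbW
  have h3 : D ≤ J ⊔ cj b J := le_of_pGen_of_le_sup_cop
    (norm_sup (opp_le_normalizer_pcomp hJ) (opp_le_normalizer_pcomp hJ')) (opp_cop 2 W) (pcomp_pGen_eq hD) h1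
  have h4 : cj b J ≤ cz J := ne_le_cz hJ hJ' fun e => hne (mem_N_iff_cj.2 e.symm)
  refine ⟨D, hD, h3, fun x hx k hk hc => mem_of_two (opp_le_normalizer_pcomp hD) (odd_opp _) hk
    (t2_ded hD.1 (h2 x hx) hc), fun m hm hc hn => ?_, fun n => t2_big hJ (h3.trans (sup_le_sup_left h4 J))
      fun x hx => (mul_mem_cancel_right (mem_sup_right (h4 (conj_mem_cj b hx)))).1
        (sup_le_sup_left (opp_le_cz hJ) D (h2 x hx))⟩
  have bb : ∀ X : Subgroup G, cj b (cj b X) = X := fun X => by rw [← cj_mul, hb, cj_one]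
  have mb : ∀ X : Subgroup G, cj m (cj b X) = cj b (cj m X) := fun X => by rw [← cj_mul, ← cj_mul, mem_C1.1 hc]
  by_cases e1 : J = cj m J
  · exact mul_mem (mem_N_iff_cj.2 e1.symm) (mem_N_iff_cj.2 e1.symm)
  by_cases e2 : cj b J = cj m J
  · exact mem_N_iff_cj.2 (by rw [cj_mul, ← e2, mb, ← e2, bb])
  exfalso
  have k : ∀ {A B : Subgroup G}, IsPCompOf 2 A W → IsPCompOf 2 B W → A ≠ B → ⁅A, B⁆ ≤ opp 2 W :=
    fun hA hB h => (pcomp_eq_or_comm_le hA hB).resolve_left h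
  have nO : ∀ {A : Subgroup G}, IsPCompOf 2 A W → A ≤ N[opp 2 W] :=
    fun hA => hA.1.trans (le_normalizer_opp 2 (norm_self W))
  have hM := pc_cj_mem hJ hm
  have hM' := pc_cj_mem hJ' hm
  have a1 : ⁅J ⊔ cj b J, cj m J⁆ ≤ opp 2 W :=
    (commC _ _).le.trans <| comm_sup_le (k hM hJ (Ne.symm e1)) (k hM hJ' (Ne.symm e2)) (nO hJ) (nO hJ')
  have a2 : ⁅J ⊔ cj b J, cj m (cj b J)⁆ ≤ opp 2 W :=
    (commC _ _).le.trans <| comm_sup_le (k hM' hJ fun e => e2 (by rw [← bb (cj m J), ← mb, e]))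
      (k hM' hJ' fun e => e1 (by rw [← bb (cj m J), ← mb, e, bb])) (nO hJ) (nO hJ')
  refine pcomp_not_le_cop hD (opp_cop 2 W) (hD.perfect.ge.trans
    ((commutator_mono h3 ?_).trans (comm_sup_le a1 a2 (nO hM) (nO hM'))))
  rw [← cj_sup, ← cj_of_mem_N hn]
  exact cj_mono m h3

end H20.So
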