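import Mathlib
import Cfsg.Agent.H20.SoB
import Cfsg.Agent.H20.SoT2
import Cfsg.Agent.H20.SoP2

/-!
# Components of type `2A_n` in coordinates
-/

set_option autoImplicit false
set_option linter.unusedSectionVars false

namespace H20.So

open Subgroup Equiv Equiv.Perm Cfsg H24 H23 H25.LB H5.Ly
open scoped commutatorElement

variable {G : Type*} [Group G] [Finite G] {n : ℕ} {H K W D H' : Subgroup G} {t b : G}

theorem a_sq {x : G} (h : x * x = 1) : x ^ 2 ^ 1 = 1 := by rw [pow_one, sq, h]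

theorem a_zp {x s : G} (hs : s * s = 1) (hc : x * s = s * x) (ho : Odd (orderOf (x * s))) :
    s ∈ zpowers x := by
  obtain ⟨k, hk⟩ := ho
  have h1 := pow_orderOf_eq_one (x * s)
  rw [hk, (show Commute x s from hc).mul_pow, pow_succ s, pow_mul s, sq, hs, one_pow, one_mul] at h1
  rw [eq_inv_of_mul_eq_one_right h1]
  exact inv_mem (npow_mem_zpowers _ _)

theorem a_odd_pow {Q : Type*} [Group Q] {y : Q} (h : y * y = 1) {m : ℕ} (hm : Odd m) : y ^ m = y := by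
  obtain ⟨k, rfl⟩ := hm
  rw [pow_succ, pow_mul, sq, h, one_pow, one_mul]

/-- an element whose square lies in an odd subgroup has an involutory odd power -/
theorem a_inv {Y : Subgroup G} (hY : Odd (Nat.card Y)) {x : G} (h : x * x ∈ Y) :
    ∃ m, Odd m ∧ x ^ m * x ^ m = 1 :=
  ⟨_, odd_orderOf_of_mem hY h, by
    rw [← (Commute.refl x).mul_pow, pow_orderOf_eq_one]⟩

theorem Pc.le_C (h : Pc n H t K) : K ≤ C{t} := h.comp.1.trans h.cent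
theorem Pc.mem_cz (h : Pc n H t K) : t ∈ cz K :=
  So.mem_cz.2 ⟨norm_self _ h.mem, fun k hk => by
    rw [commutatorElement_eq_one_iff_mul_comm.2 (mem_C1.1 (h.le_C hk))]; exact one_mem _⟩
theorem Pc.cj (h : Pc n H t K) (g : G) : Pc n (cj g H) (g * t * g⁻¹) (cj g K) :=
  ⟨iv_conj h.iv g, conj_mem_cj g h.mem, pc_cj h.comp g, by rw [← cj_C1]; exact cj_mono g h.cent,
    ty_cj h.ty g⟩
theorem Pr.cj (h : Pr n t K) (g : G) : Pr n (g * t * g⁻¹) (H24.cj g K) := by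
  have := Pc.cj h g
  rwa [cj_C1] at this
theorem Pr.cj_mem (h : Pr n t K) {g : G} (hg : g ∈ C{t}) : Pr n t (H24.cj g K) := by
  have := Pr.cj h g
  rwa [mem_C1_iff_conj.1 hg] at this
theorem Pc.of_le (h : Pc n H t K) (h1 : K ≤ H') (h2 : H' ≤ H) : Pc n H' t K :=
  ⟨h.iv, h.mem, h.comp.of_le h1 h2, h2.trans h.cent, h.ty⟩
theorem Pc.kx (hn : 8 ≤ n) (h : Pc n H t K) (hW : K ≤ (K ⊓ W) ⊔ opp 2 K) (ht : t ∈ W) :
    Pc n (H ⊓ W) t (Kx K W) :=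
  ⟨h.iv, mem_pGen ⟨h.mem, ht⟩ (a_sq (iv_mul h.iv)), (kx_comp h.comp hW).1,
    inf_le_left.trans h.cent,
    ty_of_le hn h.ty ((pGen_le _ _).trans inf_le_left) (kx_comp h.comp hW).2⟩

theorem Act.a_one (A : Act n K) {x : G} {k : ℕ} (hx : x ∈ K) (h2 : x ^ 2 ^ k = 1)
    (e : A.π x = 1) : x = 1 :=
  eq_one_of_two_odd h2 (odd_orderOf_of_mem (odd_opp K) ((A.π_one hx).1 e))

theorem pi_t (hn : 8 ≤ n) (h : Pc n H t K) (A : Act n K) : A.π t = zz :=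
  have _ := hn
  (pr_eq_one (by rw [← A.φ_π h.mem, (A.φ_one (norm_self _ h.mem)).2 h.mem_cz])).resolve_left
    fun e => iv_ne h.iv (A.a_one h.mem (a_sq (iv_mul h.iv)) e)

theorem a_mul_t (hn : 8 ≤ n) (h : Pc n H t K) (A : Act n K) {x : G} (hx : x ∈ K)
    (e : A.π x = zz) : x * t ∈ opp 2 K :=
  (A.π_one (mul_mem hx h.mem)).1 (by rw [A.π_mul hx h.mem, e, pi_t hn h A, zz_mul_zz])

theorem t1 (hn : 8 ≤ n) (h : Pc n H t K) {x : G} {k : ℕ} (hx : x ∈ K) (hc : x ∈ cz K)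
    (h2 : x ^ 2 ^ k = 1) : x = 1 ∨ x = t := by
  obtain ⟨A⟩ := exists_act hn h.ty
  refine (pr_eq_one (by rw [← A.φ_π hx, (A.φ_one (norm_self _ hx)).2 hc])).imp (A.a_one hx h2)
    fun e => ?_
  have c : Commute x t := mem_C1.1 (h.le_C hx)
  have := eq_one_of_two_odd (x := x * t) (k := k + 1) (by
    rw [c.mul_pow, pow_succ, pow_mul, h2, one_pow, one_mul, mul_comm, pow_mul, sq, iv_mul h.iv,
      one_pow]) (odd_orderOf_of_mem (odd_opp K) (a_mul_t hn h A hx e))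
  rw [eq_inv_of_mul_eq_one_left this, iv_inv (iv_mul h.iv)]

theorem mem_zp (hn : 8 ≤ n) (h : Pc n H t K) (A : Act n K) {x : G} (hx : x ∈ K)
    (e : A.π x = zz) : t ∈ zpowers x :=
  a_zp (iv_mul h.iv) (mem_C1.1 (h.le_C hx)) (odd_orderOf_of_mem (odd_opp K) (a_mul_t hn h A hx e))

theorem mem_zp2 (hn : 8 ≤ n) (h : Pc n H t K) (A : Act n K) {x : G} (hx : x ∈ K)
    (e : A.π x * A.π x = zz) : t ∈ zpowers x :=
  zpowers_le.2 (mul_mem (mem_zpowers x) (mem_zpowers x))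
    (mem_zp hn h A (mul_mem hx hx) (by rw [A.π_mul hx hx, e]))

theorem l1 (hn : 8 ≤ n) (h : Pc n H t K) (hb : b * b = 1) (hbN : b ∈ N[K]) (hbt : b ∈ C{t})
    (hc : b ∉ cz K) : ∃ k ∈ K, k * b * k⁻¹ = b * t := by
  obtain ⟨A⟩ := exists_act hn h.ty
  obtain ⟨x, hx⟩ := pr_surj (A.φ b)
  obtain ⟨y, hy, e⟩ := p_l1 hn (x := x) (by rw [hx, A.φ_sq hbN hb])
    (fun e => hc ((A.φ_one hbN).1 (hx ▸ e)))
  obtain ⟨k, hk, rfl⟩ := A.surj y hy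
  have m := conj_mem hbN (inv_mem hk)
  have e1 : A.π (k * (b * k⁻¹ * b⁻¹)) = zz := by
    rw [A.π_mul hk m, A.conj hbN (inv_mem hk) hx, A.π_inv hk, ← mul_assoc, ← mul_assoc, e,
      mul_inv_cancel_right]
  have c := mem_C1.1 hbt
  obtain ⟨d, hd, e2⟩ := dh0 (odd_opp K) (a := k * b * k⁻¹) (b := b * t)
    (by rw [conj_mul, hb]; group)
    (by rw [mul_assoc, ← mul_assoc t, ← c, mul_assoc, iv_mul h.iv, mul_one, hb])
    (by
      have := a_mul_t hn h A (mul_mem hk m) e1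
      rw [iv_inv hb] at this
      simpa only [mul_assoc] using this)
  exact ⟨d * k, mul_mem (opp_le _ _ hd) hk, by rw [← e2]; group⟩

theorem liftS (A : Act n K) {S : Subgroup G} (hS : IsPGroup 2 S) (hSN : S ≤ N[K]) {y : PP n}
    (hy : sign (pr y) = 1) (hc : ∀ s ∈ S, ∀ x : PP n, pr x = A.φ s → x * y = y * x) :
    ∃ k ∈ K, k ∈ C[S] ∧ A.π k = y := by
  obtain ⟨k, hk, rfl⟩ := A.surj y hy
  obtain ⟨o, ho, e⟩ := lift_cent (odd_opp K) hS (le_normalizer_opp 2 hSN) (g := k) fun s hs => by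
    obtain ⟨x, hx⟩ := pr_surj (A.φ s)
    have m := conj_mem (hSN hs) hk
    refine (A.π_one (mul_mem m (inv_mem hk))).1 ?_
    rw [A.π_mul m (inv_mem hk), A.conj (hSN hs) hk hx, hc s hs x hx, A.π_inv hk]
    group
  exact ⟨o * k, mul_mem (opp_le _ _ ho) hk, e, by
    rw [A.π_mul (opp_le _ _ ho) hk, (A.π_one (opp_le _ _ ho)).2 ho, one_mul]⟩

theorem lift1 (A : Act n K) {e : ℕ} (hb : b ^ 2 ^ e = 1) (hbN : b ∈ N[K]) {x y : PP n}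
    (hx : pr x = A.φ b) (hy : sign (pr y) = 1) (hc : x * y = y * x) :
    ∃ k ∈ K, k ∈ C{b} ∧ A.π k = y := by
  rw [← C_zpowers]
  refine liftS A (pg_zpowers hb) (zpowers_le.2 hbN) hy fun s hs x' hx' => ?_
  obtain ⟨k, rfl⟩ := mem_powers_iff_mem_zpowers.2 hs
  have c : Commute (x ^ k) y := (show Commute x y from hc).pow_left k
  rw [A.φ_pow hbN, ← hx, ← map_pow] at hx'
  rcases pr_eq hx' with rfl | rfl
  · exact c
  · rw [mul_assoc, c.eq, ← mul_assoc, zz_comm, mul_assoc]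

theorem a_sign3 {μ : Perm (Fin n)} (h3 : μ ^ 3 = 1) : sign μ = 1 := by
  have := congrArg sign h3
  rw [map_pow, map_one] at this
  rcases Int.units_eq_one_or (sign μ) with e | e
  · exact e
  · rw [e] at this; exact absurd this (by decide)

theorem lfS (A : Act n K) {S : Subgroup G} (hS : IsPGroup 2 S) (hSN : S ≤ N[K])
    {μ : Perm (Fin n)} (h3 : μ ^ 3 = 1) (hc : ∀ s ∈ S, A.φ s * μ = μ * A.φ s) :
    ∃ m ∈ K, m ∈ C[S] ∧ Odd (orderOf m) ∧ A.φ m = μ := by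
  obtain ⟨y, rfl, y3⟩ := exists_cube h3
  obtain ⟨m, hm, hC, rfl⟩ := liftS A hS hSN (a_sign3 h3) fun s hs x hx =>
    (comm_of_cube y3 (by rw [hx, hc s hs])).symm
  refine ⟨m, hm, hC, ?_, A.φ_π hm⟩
  have h1 := odd_orderOf_of_mem (odd_opp K) ((A.π_one (pow_mem hm 3)).1 (by rw [A.π_pow hm, y3]))
  refine (h1.mul (by decide : Odd 3)).of_dvd_nat (orderOf_dvd_of_pow_eq_one ?_)
  rw [mul_comm, pow_mul, pow_orderOf_eq_one]

theorem lf1 (A : Act n K) {e : ℕ} (hb : b ^ 2 ^ e = 1) (hbN : b ∈ N[K])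
    {μ : Perm (Fin n)} (h3 : μ ^ 3 = 1) (hc : A.φ b * μ = μ * A.φ b) :
    ∃ m ∈ K, m ∈ C{b} ∧ Odd (orderOf m) ∧ A.φ m = μ := by
  rw [← C_zpowers]
  refine lfS A (pg_zpowers hb) (zpowers_le.2 hbN) h3 fun s hs => ?_
  obtain ⟨k, rfl⟩ := mem_powers_iff_mem_zpowers.2 hs
  rw [A.φ_pow hbN]
  exact (show Commute (A.φ b) μ from hc).pow_left k

theorem g1a (hn : 8 ≤ n) (h : Pc n H t K) (A : Act n K) (hb : b * b = 1) (hbN : b ∈ N[K])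
    (hf : (A.φ b).support.card + 4 ≤ n) :
    ∃ m1 ∈ K ⊓ C{b}, ∃ m2 ∈ K ⊓ C{b}, Odd (orderOf m1) ∧ Odd (orderOf m2) ∧
      Fx (A.φ b) (A.φ m1) ∧ Fx (A.φ b) (A.φ m2) ∧ t ∈ zpowers (m1 * m2) := by
  obtain ⟨μ1, μ2, c1, c2, f1, f2, e⟩ := p_g1a hf
  obtain ⟨m1, h1, h1', o1, rfl⟩ := lf1 A (a_sq hb) hbN c1 f1.comm
  obtain ⟨m2, h2, h2', o2, rfl⟩ := lf1 A (a_sq hb) hbN c2 f2.comm
  exact ⟨m1, ⟨h1, h1'⟩, m2, ⟨h2, h2'⟩, o1, o2, f1, f2, mem_zp2 hn h A (mul_mem h1 h2) (e _ (by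
    rw [← A.φ_π (mul_mem h1 h2), A.φ_mul (norm_self _ h1) (norm_self _ h2)]))⟩

theorem g1b (A : Act n K) (hb : b * b = 1) (hbN : b ∈ N[K]) (h5 : 5 ≤ (A.φ b).support.card)
    {a c : Fin n} (hB : Bl (A.φ b) a c) :
    ∃ m1 ∈ K ⊓ C{b}, ∃ m2 ∈ K ⊓ C{b}, Odd (orderOf m1) ∧ Odd (orderOf m2) ∧
      A.φ (m1 * m2) = ee (A.φ b) a c := by
  obtain ⟨μ1, μ2, c1, c2, f1, f2, e⟩ := p_g1b (A.φ_sq hbN hb) h5 hB
  obtain ⟨m1, h1, h1', o1, rfl⟩ := lf1 A (a_sq hb) hbN c1 f1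
  obtain ⟨m2, h2, h2', o2, rfl⟩ := lf1 A (a_sq hb) hbN c2 f2
  exact ⟨m1, ⟨h1, h1'⟩, m2, ⟨h2, h2'⟩, o1, o2, by
    rw [A.φ_mul (norm_self _ h1) (norm_self _ h2), e]⟩

theorem g1 (hn : 8 ≤ n) (h : Pc n H t K) (hb : b * b = 1) (hbN : b ∈ N[K]) :
    ∃ m1 ∈ K ⊓ C{b}, ∃ m2 ∈ K ⊓ C{b}, Odd (orderOf m1) ∧ Odd (orderOf m2) ∧
      t ∈ zpowers (m1 * m2) := by
  obtain ⟨A⟩ := exists_act hn h.ty
  by_cases hf : (A.φ b).support.card + 4 ≤ n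
  · obtain ⟨m1, h1, m2, h2, o1, o2, -, -, e⟩ := g1a hn h A hb hbN hf
    exact ⟨m1, h1, m2, h2, o1, o2, e⟩
  · obtain ⟨a, c, hB⟩ := exists_bl (A.φ_sq hbN hb) (by omega)
    obtain ⟨m1, h1, m2, h2, o1, o2, e⟩ := g1b A hb hbN (by omega) hB
    exact ⟨m1, h1, m2, h2, o1, o2, mem_zp2 hn h A (mul_mem h1.1 h2.1)
      (ee_sq (A.φ_sq hbN hb) hB (by rw [← A.φ_π (mul_mem h1.1 h2.1), e]))⟩

theorem q2 (hn : 8 ≤ n) (A : Act n K) (hb : b * b = 1) (hbN : b ∈ N[K]) :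
    ∃ q1 ∈ K ⊓ C{b}, ∃ q2 ∈ K ⊓ C{b}, A.φ q1 * A.φ q1 = 1 ∧ A.φ q2 * A.φ q2 = 1 ∧
      A.π ⁅q1, q2⁆ = zz := by
  obtain ⟨x, hx⟩ := pr_surj (A.φ b)
  obtain ⟨y1, y2, s1, s2, c1, c2, e1, e2, e⟩ := p_q2 hn (x := x) (by rw [hx, A.φ_sq hbN hb])
  obtain ⟨q1, h1, h1', rfl⟩ := lift1 A (a_sq hb) hbN hx s1 c1
  obtain ⟨q2, h2, h2', rfl⟩ := lift1 A (a_sq hb) hbN hx s2 c2
  exact ⟨q1, ⟨h1, h1'⟩, q2, ⟨h2, h2'⟩, by rwa [A.φ_π h1], by rwa [A.φ_π h2], by rwa [A.π_comm h1 h2]⟩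

theorem a_ee (A : Act n K) (hb : b * b = 1) (hbN : b ∈ N[K]) {a c : Fin n} (hB : Bl (A.φ b) a c) :
    ∃ x ∈ K ⊓ C{b}, A.φ x = ee (A.φ b) a c := by
  obtain ⟨x, hx⟩ := pr_surj (A.φ b)
  obtain ⟨y, e, s, c⟩ := ee_lift (x := x) (by rw [hx, A.φ_sq hbN hb]) (hx ▸ hB)
  obtain ⟨q, h1, h1', rfl⟩ := lift1 A (a_sq hb) hbN hx s c
  exact ⟨q, ⟨h1, h1'⟩, by rw [A.φ_π h1, e, hx]⟩

theorem h2 (hn : 8 ≤ n) (h : Pc n H t K) (A : Act n K) (hb : b * b = 1) (hbN : b ∈ N[K])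
    {a c : Fin n} (hB : Bl (A.φ b) a c) :
    ∃ x ∈ K ⊓ C{b}, x * x = t ∧ A.φ x = ee (A.φ b) a c := by
  obtain ⟨q, hq, e⟩ := a_ee A hb hbN hB
  obtain ⟨m, k, hm, e1⟩ := two_part q
  have e2 := (ee_mul_self (A.φ_sq hbN hb) hB).1
  have hx := pow_mem hq m
  have e3 : A.φ (q ^ m) = ee (A.φ b) a c := by
    rw [A.φ_pow (norm_self _ hq.1), e, a_odd_pow e2 hm]
  generalize q ^ m = x at *
  have xN := norm_self _ hx.1
  refine ⟨x, hx, (t1 hn h (k := k) (mul_mem hx.1 hx.1) ((A.φ_one (mul_mem xN xN)).1 (by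
    rw [A.φ_mul xN xN, e3, e2])) (by rw [(Commute.refl x).mul_pow, e1, mul_one])).resolve_left
    fun e4 => zz_ne (N := n) ?_, e3⟩
  rw [← ee_sq (A.φ_sq hbN hb) hB ((A.φ_π hx.1).symm.trans e3), ← A.π_mul hx.1 hx.1, e4, A.π1]

theorem ot (A : Act n K) (hb : b * b = 1) (hbN : b ∈ N[K]) {Y : Subgroup G}
    (hY : Odd (Nat.card Y)) (hYN : Y ≤ N[K] ⊓ C{b}) (hKY : K ⊓ C{b} ≤ N[Y]) {y : G} (hy : y ∈ Y) :
    Fx (A.φ b) (A.φ y) := fun a ha => by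
  by_contra hη
  have τ2 := A.φ_sq hbN hb
  have yN := (hYN hy).1
  obtain ⟨b1, b2, -, e⟩ := p_ot τ2 (A.φ_commute hbN yN (mem_C1.1 (hYN hy).2).symm)
    (A.odd_φ yN (odd_orderOf_of_mem hY hy)) ha hη
  obtain ⟨q, hq, e1⟩ := a_ee A hb hbN b1
  have m : ⁅q, y⁆ ∈ Y := mul_mem (conj_mem (hKY hq) hy) (inv_mem hy)
  have := A.odd_φ (hYN m).1 (odd_orderOf_of_mem hY m)
  rw [A.φ_comm (norm_self _ hq.1) yN, e1, e] at this
  exact (ee_mul_self τ2 b2).2 (eq_one_of_two_odd (a_sq (ee_mul_self τ2 b2).1) this)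

theorem a_card_alt (hn : 8 ≤ n) : n.factorial = 2 * Nat.card (alternatingGroup (Fin n)) := by
  have : Nontrivial (Fin n) := Fin.nontrivial_iff_two_le.2 (by omega)
  rw [Nat.card_eq_fintype_card, two_mul_card_alternatingGroup, Fintype.card_perm, Fintype.card_fin]

theorem ty_big (hn : 8 ≤ n) (h : Ty n K) : Big n K := fun R hR hN hS => by
  obtain ⟨A⟩ := exists_act hn h
  let f := A.hom (norm_self K)
  have ha : ∀ {x}, x ∈ K → ap f x = A.φ x := fun hx => ap_of_mem f hx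
  have hr : alternatingGroup (Fin n) ≤ img f K := fun ρ hρ => by
    obtain ⟨a, h1, rfl⟩ := A.φ_surj (mem_alternatingGroup.1 hρ)
    rw [← ha h1]; exact ap_mem_img f h1 h1
  have h1 : img f R = ⊥ := sol_nml hn (hS.img f) (hr.trans (img_norm f hN))
  have h2 := relIndex_img_dvd f hR le_rfl
  rw [h1, relIndex_bot_left] at h2
  rw [a_card_alt hn]
  exact Nat.mul_le_mul_left 2 ((card_le_of_le hr).trans (Nat.le_of_dvd
    (Nat.pos_of_ne_zero (relIndex_ne_zero' _ _)) h2))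

theorem act_range (A : Act n K) (hD : IsPCompOf 2 D H') (hB : Big n D) (hN : D ≤ N[K])
    (hc : ¬ D ≤ cz K) {ρ : Perm (Fin n)} (hρ : sign ρ = 1) : ∃ d ∈ D, A.φ d = ρ := by
  obtain ⟨d, hd, h1⟩ := SetLike.not_le_iff_exists.1 hc
  have := big_range hD hB (A.hom hN) ⟨⟨d, hd⟩, fun e => h1 ((A.φ_one (hN hd)).1 e)⟩
  obtain ⟨x, hx⟩ := this.ge (mem_alternatingGroup.2 hρ)
  exact ⟨x, x.2, hx⟩

theorem big_cz (hn : 8 ≤ n) (h : Ty n K) (hD : IsPCompOf 2 D H') (hB : Big n D) (hN : D ≤ N[K])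
    {z : G} (hz : z ∈ N[K]) (hDz : D ≤ C{z}) : D ≤ cz K ∨ z ∈ cz K := by
  obtain ⟨A⟩ := exists_act hn h
  refine or_iff_not_imp_left.2 fun hc => (A.φ_one hz).1 (cent_alt hn fun μ hμ => ?_)
  obtain ⟨d, hd, rfl⟩ := act_range A hD hB hN hc hμ
  exact A.φ_commute (hN hd) hz (mem_C1.1 (hDz hd))

theorem big_mem (hn : 8 ≤ n) (h : Pc n H t K) (hD : IsPCompOf 2 D H') (hB : Big n D)
    (hle : D ≤ K) : t ∈ D := by
  obtain ⟨A⟩ := exists_act hn h.ty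
  obtain ⟨-, y, -, -, s, e, -⟩ := p_tr hn
  obtain ⟨d, hd, e1⟩ := act_range A hD hB (hle.trans (norm_self K))
    (fun e => not_sol hD ((sol_inf_cz K).of_le (le_inf hle e))) s
  refine zpowers_le.2 hd (mem_zp2 hn h A (hle hd) ?_)
  rcases pr_eq ((A.φ_π (hle hd)).symm.trans e1) with e2 | e2 <;> rw [e2]
  · exact e
  · rw [mul_assoc, ← mul_assoc y, ← zz_comm, mul_assoc, ← mul_assoc, zz_mul_zz, one_mul, e]

/-- an involution over an involution of the pin group -/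
theorem a_lift (A : Act n K) {k : G} (hk : k ∈ K) (e : A.π k * A.π k = 1) :
    ∃ m, k ^ m * k ^ m = 1 ∧ A.π (k ^ m) = A.π k := by
  obtain ⟨m, hm, e1⟩ := a_inv (odd_opp K) ((A.π_one (mul_mem hk hk)).1 (by rw [A.π_mul hk hk, e]))
  exact ⟨m, e1, by rw [A.π_pow hk, a_odd_pow e hm]⟩

theorem a_liftS (A : Act n K) {S : Subgroup G} (hS : IsPGroup 2 S) (hSN : S ≤ N[K])
    {τ : Perm (Fin n)} (hτ : T8 τ) (hc : ∀ s ∈ S, A.φ s = 1 ∨ Nb (A.φ s) τ) :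
    ∃ k ∈ K, k ∈ C[S] ∧ orderOf k = 2 ∧ A.φ k = τ := by
  obtain ⟨y, rfl⟩ := pr_surj τ
  obtain ⟨k, hk, hC, rfl⟩ := liftS A hS hSN hτ.sign fun s hs x hx => by
    rcases hc s hs with e | e
    · rcases pr_eq_one (hx.trans e) with rfl | rfl
      · simp
      · exact zz_comm _
    · exact nb_comm (hx ▸ e)
  obtain ⟨m, e1, e2⟩ := a_lift A hk (t8_sq hτ)
  have e3 : A.φ (k ^ m) = pr (A.π k) := by rw [A.φ_π (pow_mem hk m), e2]
  exact ⟨k ^ m, pow_mem hk m, pow_mem hC m,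
    iv_of e1 fun e => hτ.ne_one (by rw [← e3, e, A.φ1]), e3⟩

theorem inv8 (A : Act n K) {τ : Perm (Fin n)} (hτ : T8 τ) :
    ∃ k ∈ K, orderOf k = 2 ∧ A.φ k = τ := by
  obtain ⟨k, hk, -, h⟩ := a_liftS A (S := ⊥) IsPGroup.of_bot bot_le hτ fun s hs => by
    rw [mem_bot.1 hs]; exact Or.inl A.φ1
  exact ⟨k, hk, h⟩

theorem a_mem_zp {s x : G} (h : s * s = 1) (hx : x ∈ zpowers s) : x = 1 ∨ x = s := by
  obtain ⟨k, rfl⟩ := mem_powers_iff_mem_zpowers.2 hx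
  rcases Nat.even_or_odd k with ⟨j, rfl⟩ | hk
  · left; simp only [← two_mul, pow_mul, sq, h, one_pow]
  · exact Or.inr (a_odd_pow h hk)

theorem inv_nb (A : Act n K) {s : G} (hs : s ∈ K) (hs2 : s * s = 1) {τ : Perm (Fin n)}
    (hτ : Nb (A.φ s) τ) : ∃ s' ∈ K, orderOf s' = 2 ∧ A.φ s' = τ ∧ s * s' = s' * s := by
  obtain ⟨k, hk, hC, h1, h2⟩ := a_liftS A (pg_zpowers (a_sq hs2)) (zpowers_le.2 (norm_self _ hs))
    hτ.2.1 fun x hx => (a_mem_zp hs2 hx).imp (fun e => by rw [e, A.φ1]) fun e => by rwa [e]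
  exact ⟨k, hk, h1, h2, mem_C.1 hC s (mem_zpowers s)⟩

/-- adjoining a commuting involution to an elementary abelian group -/
theorem a_adj {E : Subgroup G} {x : G} (hE : ∀ a ∈ E, a * a = 1) (hx : x * x = 1) (hc : x ∈ C[E])
    (hn : x ∉ E) : ∃ F : Subgroup G, Nat.card F = 2 * Nat.card E ∧
      (∀ a, a ∈ F ↔ a ∈ E ∨ ∃ e ∈ E, a = e * x) ∧ ∀ a ∈ F, a * a = 1 := by
  have hm : ∀ a, a ∈ E ⊔ zpowers x ↔ a ∈ E ∨ ∃ e ∈ E, a = e * x := fun a => by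
    rw [mem_sup_of_norm (zpowers_le.2 (C_le_N E hc))]
    refine ⟨?_, ?_⟩
    · rintro ⟨e, he, y, hy, rfl⟩
      rcases a_mem_zp hx hy with rfl | rfl
      exacts [Or.inl (by simpa using he), Or.inr ⟨e, he, rfl⟩]
    · rintro (h | ⟨e, he, rfl⟩)
      exacts [⟨a, h, 1, one_mem _, (mul_one a).symm⟩, ⟨e, he, x, mem_zpowers x, rfl⟩]
  refine ⟨E ⊔ zpowers x, ?_, hm, fun a ha => ?_⟩
  · have h1 : E ⊓ zpowers x = ⊥ := eq_bot_iff.2 fun a ha =>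
      (a_mem_zp hx ha.2).elim (fun e => e) fun e => absurd (e ▸ ha.1) hn
    have h2 := (isProd_sup (zpowers_le.2 (C_le_N E hc))).card
    rw [h1, card_bot, mul_one, Nat.card_zpowers, iv_of hx fun e => hn (e ▸ one_mem E)] at h2
    rw [h2, mul_comm]
  · rcases (hm a).1 ha with h | ⟨e, he, rfl⟩
    · exact hE a h
    · rw [mul_assoc, ← mul_assoc x, ← mem_C.1 hc e he, mul_assoc, hx, mul_one, hE e he]

theorem a_pg {E : Subgroup G} (hE : ∀ a ∈ E, a * a = 1) : IsPGroup 2 E := fun a =>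
  ⟨1, Subtype.ext (a_sq (hE a a.2))⟩

/-- an elementary abelian subgroup of order 16 through a non-central involution of type `2^4` -/
theorem e16 (hn : 8 ≤ n) (h : Pc n H t K) (A : Act n K) {s : G} (hs : s ∈ K) (hs2 : s * s = 1)
    (h8 : T8 (A.φ s)) : ∃ E : Subgroup G, E ≤ K ∧ t ∈ E ∧ s ∈ E ∧ Nat.card E = 16 ∧
      (∀ a ∈ E, a ^ 2 = 1) ∧ ∀ a ∈ E, ∀ b ∈ E, a * b = b * a := by
  have _ := hn
  obtain ⟨σ1, σ2, n1, n2, n3, n4⟩ := p_e8 h8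
  have t2 := iv_mul h.iv
  have φt : A.φ t = 1 := (A.φ_one (norm_self _ h.mem)).2 h.mem_cz
  have mul : ∀ {a b}, a ∈ K → b ∈ K → A.φ (a * b) = A.φ a * A.φ b := fun ha hb =>
    A.φ_mul (norm_self _ ha) (norm_self _ hb)
  have f0 : ∀ a ∈ zpowers t, a ∈ K ∧ A.φ a = 1 := fun a ha =>
    ⟨zpowers_le.2 h.mem ha, (a_mem_zp t2 ha).elim (fun e => by rw [e, A.φ1]) fun e => by rwa [e]⟩
  obtain ⟨E1, c1, m1, q1⟩ := a_adj (E := zpowers t) (x := s)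
    (fun a ha => (a_mem_zp t2 ha).elim (fun e => by simp [e]) fun e => by rwa [e]) hs2
    (by rw [C_zpowers]; exact h.le_C hs) fun e => h8.ne_one (f0 s e).2
  have f1 : ∀ a ∈ E1, a ∈ K ∧ (A.φ a = 1 ∨ A.φ a = A.φ s) := fun a ha => by
    rcases (m1 a).1 ha with h1 | ⟨e, he, rfl⟩
    · exact ⟨(f0 a h1).1, Or.inl (f0 a h1).2⟩
    · exact ⟨mul_mem (f0 e he).1 hs, Or.inr (by rw [mul (f0 e he).1 hs, (f0 e he).2, one_mul])⟩
  obtain ⟨s1, k1, C1, o1, rfl⟩ := a_liftS A (a_pg q1) (fun a ha => norm_self _ (f1 a ha).1) n1.2.1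
    fun a ha => (f1 a ha).2.imp id fun e => by rwa [e]
  have ne : ∀ {σ τ : Perm (Fin n)}, Nb σ τ → τ ≠ 1 ∧ τ ≠ σ := fun h =>
    ⟨h.2.1.ne_one, fun e => h.2.2.1.ne_one (by rw [e, h.1.1])⟩
  obtain ⟨E2, c2, m2, q2⟩ := a_adj q1 (iv_mul o1) C1 fun e =>
    (f1 s1 e).2.elim (ne n1).1 (ne n1).2
  have f2 : ∀ a ∈ E2, a ∈ K ∧ (A.φ a = 1 ∨ Nb (A.φ a) σ2) := fun a ha => by
    rcases (m2 a).1 ha with h1 | ⟨e, he, rfl⟩
    · exact ⟨(f1 a h1).1, (f1 a h1).2.imp id fun e => by rwa [e]⟩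
    · refine ⟨mul_mem (f1 e he).1 k1, Or.inr ?_⟩
      rw [mul (f1 e he).1 k1]
      rcases (f1 e he).2 with e1 | e1 <;> rw [e1]
      exacts [by rwa [one_mul], n4]
  obtain ⟨s2, k2, C2, o2, rfl⟩ := a_liftS A (a_pg q2) (fun a ha => norm_self _ (f2 a ha).1) n2.2.1
    fun a ha => (f2 a ha).2
  obtain ⟨E3, c3, m3, q3⟩ := a_adj q2 (iv_mul o2) C2 fun e =>
    (f2 s2 e).2.elim (ne n2).1 fun e => (ne e).2 rfl
  refine ⟨E3, fun a ha => ?_, (m3 t).2 (.inl ((m2 t).2 (.inl ((m1 t).2 (.inl (mem_zpowers t)))))),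
    (m3 s).2 (.inl ((m2 s).2 (.inl ((m1 s).2 (.inr ⟨1, one_mem _, (one_mul s).symm⟩))))),
    by rw [c3, c2, c1, Nat.card_zpowers, h.iv], fun a ha => by rw [sq, q3 a ha], fun a ha b hb => ?_⟩
  · rcases (m3 a).1 ha with h1 | ⟨e, he, rfl⟩
    exacts [(f2 a h1).1, mul_mem (f2 e he).1 k2]
  · rw [← iv_inv (q3 _ (mul_mem ha hb)), mul_inv_rev, iv_inv (q3 a ha), iv_inv (q3 b hb)]

theorem t8 (hn : 8 ≤ n) (h11 : n ≤ 11) (h : Pc n H t K) (A : Act n K) {u : G} (hu : u ∈ K)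
    (hu2 : orderOf u = 2) (hne : u ≠ t) : T8 (A.φ u) := by
  rw [A.φ_π hu]
  refine t8_of h11 (A.sign_π hu) (by rw [← A.π_mul hu hu, iv_mul hu2, A.π1]) fun e => ?_
  rw [← A.φ_π hu] at e
  exact (t1 hn h hu ((A.φ_one (norm_self _ hu)).1 e) (a_sq (iv_mul hu2))).elim (iv_ne hu2) hne

theorem same_phi (hn : 8 ≤ n) (h : Pc n H t K) (A : Act n K) {u v : G} (hu : u ∈ K) (hv : v ∈ K)
    (hu2 : u * u = 1) (hv2 : v * v = 1) (e : A.φ u = A.φ v) :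
    ∃ c ∈ opp 2 K, c * u * c⁻¹ = v ∨ c * u * c⁻¹ = v * t := by
  rw [A.φ_π hu, A.φ_π hv] at e
  have e0 : A.π v * A.π v = 1 := by rw [← A.π_mul hv hv, hv2, A.π1]
  rcases pr_eq e with e1 | e1
  · obtain ⟨c, hc, e2⟩ := dh0 (odd_opp K) hu2 hv2 ((A.π_one (mul_mem hu hv)).1 (by
      rw [A.π_mul hu hv, e1, e0]))
    exact ⟨c, hc, Or.inl e2⟩
  · obtain ⟨c, hc, e2⟩ := dh0 (odd_opp K) (b := v * t) hu2 (by
      rw [mul_assoc, ← mul_assoc t, ← mem_C1.1 (h.le_C hv), mul_assoc, iv_mul h.iv, mul_one, hv2])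
      (by rw [← mul_assoc]; exact a_mul_t hn h A (mul_mem hu hv) (by
        rw [A.π_mul hu hv, e1, mul_assoc, e0, mul_one]))
    exact ⟨c, hc, Or.inr e2⟩

theorem t7 (hn : 8 ≤ n) (h11 : n ≤ 11) (h : Pc n H t K) {u v : G} (hu : u ∈ K) (hv : v ∈ K)
    (hu2 : orderOf u = 2) (hv2 : orderOf v = 2) (hut : u ≠ t) (hvt : v ≠ t) :
    ∃ k ∈ K, k * u * k⁻¹ = v := by
  obtain ⟨A⟩ := exists_act hn h.ty
  have h8 := t8 hn h11 h A hv hv2 hvt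
  obtain ⟨ρ, hρ, e⟩ := t8_conj (t8 hn h11 h A hu hu2 hut) h8
  obtain ⟨k, hk, rfl⟩ := A.φ_surj hρ
  obtain ⟨c, hc, e1 | e1⟩ := same_phi hn h A (conj_mem (norm_self _ hk) hu) hv
    (iv_mul (iv_conj hu2 k)) (iv_mul hv2) (by rw [A.φ_conj (norm_self _ hk) (norm_self _ hu), e])
  · exact ⟨c * k, mul_mem (opp_le _ _ hc) hk, by rw [← e1]; group⟩
  · obtain ⟨d, hd, e2⟩ := l1 hn h (iv_mul hv2) (norm_self _ hv) (h.le_C hv)
      fun e => h8.ne_one ((A.φ_one (norm_self _ hv)).2 e)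
    refine ⟨d⁻¹ * (c * k), mul_mem (inv_mem hd) (mul_mem (opp_le _ _ hc) hk), ?_⟩
    calc _ = d⁻¹ * (c * (k * u * k⁻¹) * c⁻¹) * d := by group
      _ = _ := by rw [e1, ← e2]; group

theorem d8 (hn : 8 ≤ n) (h : Ty n K) :
    ∃ u ∈ K, ∃ v ∈ K, u * u = 1 ∧ v * v = 1 ∧ (u * v) ^ 2 ≠ 1 ∧ (u * v) ^ 4 = 1 := by
  obtain ⟨A⟩ := exists_act hn h
  obtain ⟨x, y, sx, sy, x2, y2, e⟩ := p_d8 hn
  obtain ⟨a, ha, rfl⟩ := A.surj x sx
  obtain ⟨b, hb, rfl⟩ := A.surj y sy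
  obtain ⟨m, a2, ea⟩ := a_lift A ha x2
  obtain ⟨m', b2, eb⟩ := a_lift A hb y2
  rw [← ea, ← eb] at e
  have ha := pow_mem ha m
  have hb := pow_mem hb m'
  generalize a ^ m = u at *
  generalize b ^ m' = v at *
  obtain ⟨c, hc, e1⟩ := dh2 (odd_opp K) a2 b2 ((A.π_one (pow_mem (mul_mem ha hb) 4)).1 (by
    rw [A.π_pow (mul_mem ha hb), A.π_mul ha hb, show 4 = 2 * 2 from rfl, pow_mul, e, sq, zz_mul_zz]))
  have cK := opp_le _ _ hc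
  have hu := conj_mem (norm_self _ cK) ha
  refine ⟨_, hu, v, hb, by rw [conj_mul, a2]; group, b2, fun e2 => zz_ne (N := n) ?_, e1⟩
  rw [← e, ← A.π1, ← e2, A.π_pow (mul_mem hu hb), A.π_mul hu hb,
    A.π_mul (mul_mem cK ha) (inv_mem cK), A.π_mul cK ha, A.π_inv cK, (A.π_one cK).2 hc]
  simp

theorem four (hn : 8 ≤ n) (h : Ty n K) : ∃ s ∈ K, orderOf s = 2 ∧ s ∉ cz K := by
  obtain ⟨A⟩ := exists_act hn h
  obtain ⟨σ, hσ⟩ := ex_t8 hn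
  obtain ⟨k, hk, k2, rfl⟩ := inv8 A hσ
  exact ⟨k, hk, k2, fun e => hσ.ne_one ((A.φ_one (norm_self _ hk)).2 e)⟩

theorem gen_inv (hn : 8 ≤ n) (h : Ty n K) (hK : IsPCompOf 2 K H) {L : Subgroup G}
    (hL : ∀ u ∈ K, orderOf u = 2 → u ∈ L) : K ≤ L := by
  obtain ⟨s, hs, s2, hz⟩ := four hn h
  have := (pc_nml hK (R := closure {u | u ∈ K ∧ orderOf u = 2}) ((closure_le _).2 fun _ h => h.1)
    (norm_closure fun g hg u hu => subset_closure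
      ⟨conj_mem (norm_self _ hg) hu.1, iv_conj hu.2 g⟩)).resolve_right
    fun e => hz (e (subset_closure ⟨hs, s2⟩))
  rw [← this]
  exact (closure_le _).2 fun u hu => hL u hu.1 hu.2

theorem pr_odd_index (hn : 8 ≤ n) (h : Pr n t K) (hN : C{t} ≤ N[K])
    (hz : ∀ z ∈ cz K, z ∈ C{t} → orderOf z = 2 → z = t) : Odd (C{t} : Subgroup G).index :=
  odd_index h.iv fun z z2 e hne => by
    obtain ⟨k, hk, e1⟩ := l1 hn h (iv_mul z2) (hN (mem_C1.2 e)) (mem_C1.2 e)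
      fun hc => hne (hz z hc (mem_C1.2 e) z2)
    exact ⟨k, h.le_C hk, e1⟩

end H20.So
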