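import Mathlib
import Cfsg.Agent.H20.SoA
import Cfsg.Agent.S1645

/-!
# Pump-ups; the configuration with pairs of type II
-/

set_option autoImplicit false
set_option linter.unusedSectionVars false

namespace H20.So

open Subgroup Equiv Equiv.Perm Cfsg H24 H23 H25.LB H5.Ly
open scoped commutatorElement

variable {G : Type*} [Group G] [Finite G] {n : ℕ} {K W J L : Subgroup G} {t : G}

theorem Cn.c_le (h : Pc n (W ⊓ C{t}) t K) (c : Cn W t K J) :
    J ⊓ C{t} ≤ K ⊔ opp 2 (W ⊓ C{t}) := by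
  have := group_modl' (B := opp 2 J) (le_normalizer_opp 2 (norm_of_le c.le)) h.le_C
  exact (le_inf c.cent inf_le_right).trans (this.ge.trans (sup_le_sup_left
    ((inf_le_inf_right _ (opp_le_opp c.comp)).trans (opp_inf_le' _ _)) _))

theorem Cn.mem_two (h : Pc n (W ⊓ C{t}) t K) (c : Cn W t K J) {x : G} {k : ℕ} (hx : x ∈ J)
    (hxt : x ∈ C{t}) (h2 : x ^ 2 ^ k = 1) : x ∈ K :=
  mem_of_two (opp_le_normalizer_pcomp h.comp) (odd_opp _) h2 (c.c_le h ⟨hx, hxt⟩)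

theorem Cn.le_pgen (h : Pc n (W ⊓ C{t}) t K) (c : Cn W t K J) (h1 : L ≤ J) (h2 : L ≤ C{t})
    (hL : pGen 2 L = L) : L ≤ K :=
  le_of_pGen_of_le_sup_cop (opp_le_normalizer_pcomp h.comp) (opp_cop 2 _) hL
    ((le_inf h1 h2).trans (c.c_le h))

theorem Cn.big (hn : 8 ≤ n) (h : Pc n (W ⊓ C{t}) t K) (c : Cn W t K J) : Big n J :=
  big_mono c.le (ty_big hn h.ty)

theorem Cn.a_cz (h : Pc n (W ⊓ C{t}) t K) (c : Cn W t K J) (ha : J ≤ K ⊔ opp 2 J) : t ∈ cz J :=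
  cz_of_cover c.le ha (norm_self _ (c.le h.mem)) h.mem_cz

theorem Cn.b_not_cz (h : Pc n (W ⊓ C{t}) t K) (c : Cn W t K J)
    (hb : IsSimpleGroup (J ⧸ pPrimeCore 2 J)) : t ∉ cz J := fun e => by
  have := odd_orderOf_of_mem (odd_opp J) (simple_cz c.comp hb ⟨c.le h.mem, e⟩)
  rw [h.iv] at this
  exact absurd this (by decide)

theorem Cn.b_conj (h : Pc n (W ⊓ C{t}) t K) (c : Cn W t K J)
    (hb : IsSimpleGroup (J ⧸ pPrimeCore 2 J)) :
    ∃ g ∈ J, g * t * g⁻¹ ∈ K ∧ g * t * g⁻¹ ≠ t := by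
  by_contra H
  push Not at H
  have tJ := c.le h.mem
  exact c.b_not_cz h hb (mem_cz.2 ⟨norm_self _ tJ, zstar_mod h.iv tJ fun g hg e => H g hg
    (c.mem_two h (conj_mem (norm_self _ hg) tJ) (mem_C1.2 e) (a_sq (iv_mul (iv_conj h.iv g))))⟩)

theorem Cn.b_n (hn : 8 ≤ n) (h : Pc n (W ⊓ C{t}) t K) (c : Cn W t K J)
    (hb : IsSimpleGroup (J ⧸ pPrimeCore 2 J)) : n = 8 ∨ n = 11 := by
  have tJ := c.le h.mem
  let f := piO 2 J
  have hk := cop_ker_piO 2 J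
  have t2 : orderOf (⟨t, tJ⟩ : J) = 2 := by rw [← Subgroup.orderOf_coe]; exact h.iv
  have e1 : (K.subgroupOf J).map J.subtype = K := map_subgroupOf_eq_of_le c.le
  have ty : Ty n (K.subgroupOf J) := ty_of_map J.subtype (by rw [e1]; exact h.ty) (by simp)
  have ty2 : Ty n ((K.subgroupOf J).map f) :=
    ty_map hn ty f ((cop_two_iff_odd.1 hk).of_dvd_nat (card_dvd_of_le inf_le_right))
  have hO : ∀ {x : J}, (x : G) ∈ opp 2 J → f x = 1 := fun {x} hx => by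
    rw [← MonoidHom.mem_ker, ker_piO]
    obtain ⟨y, hy, e⟩ := hx
    rwa [← Subtype.ext e]
  have e2 : C{f ⟨t, tJ⟩} = (K.subgroupOf J).map f := by
    rw [← map_centralizer_singleton_of_cop_ker (piO_surj 2 J) hk (isPGroup_zpowers_of_orderOf t2)]
    refine le_antisymm ?_ (map_mono fun x hx =>
      mem_C1.2 (Subtype.ext (mem_C1.1 (h.le_C hx))))
    rintro _ ⟨x, hx, rfl⟩
    obtain ⟨k, hk, o, ho, e⟩ := (mem_sup_of_norm' (le_normalizer_opp 2 (norm_of_le c.le))).1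
      (c.cent ⟨x.2, mem_C1.2 (congrArg Subtype.val (mem_C1.1 hx))⟩)
    refine ⟨⟨k, c.le hk⟩, hk, ?_⟩
    rw [show x = ⟨k, c.le hk⟩ * ⟨o, opp_le _ _ ho⟩ from Subtype.ext e, map_mul, hO (x := ⟨o, _⟩) ho, mul_one]
  have e3 : opp 2 ((K.subgroupOf J).map f) = ⊥ := eq_bot_iff.2 ((opp_map_le hk _).trans (by
    rw [opp_subgroupOf 2 c.le]
    rintro _ ⟨x, hx, rfl⟩
    exact hO (c.core hx)))
  rw [← e2] at ty2 e3
  exact Cfsg.Agent.S1645.result n (by omega) _ (orderOf_map_of_cop_ker hk t2)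
    (dc_of_tyG hn ty2 (opp_eq_bot_iff.1 e3))

theorem Cn.b_one (hn : 8 ≤ n) (h11 : n ≤ 11) (h : Pc n (W ⊓ C{t}) t K) (c : Cn W t K J)
    (hb : IsSimpleGroup (J ⧸ pPrimeCore 2 J)) {u : G} (hu : u ∈ J) (hu2 : orderOf u = 2) :
    ∃ g ∈ J, g * t * g⁻¹ = u := by
  obtain ⟨g, hg, g1, g2⟩ := c.b_conj h hb
  refine one_class (c.le h.mem) (iv_mul h.iv) (fun w hw w2 w1 e => ?_) hu (iv_mul hu2) (iv_ne hu2)
  by_cases e1 : w = t
  · exact ⟨1, one_mem _, by simp [e1]⟩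
  obtain ⟨k, hk, e2⟩ := t7 hn h11 h g1 (c.mem_two h hw (mem_C1.2 e) (a_sq w2)) (iv_conj h.iv g)
    (iv_of w2 w1) g2 e1
  exact ⟨k * g, mul_mem (c.le hk) hg, by rw [← e2]; group⟩

/-- the induction hypothesis in the centraliser of an involution `a ∈ cz K` -/
theorem ih_cent [IsSimpleGroup G] (hn : 8 ≤ n) (ih : IH n G) (h : Pr n t K) {a : G}
    (ha : orderOf a = 2) (hc : a ∈ cz K) (hat : a ∈ C{t}) :
    Pc n (C{a} ⊓ C{t}) t (Kx K C{a}) ∧ K ≤ Kx K C{a} ⊔ opp 2 K ∧ ∃ J, Cn C{a} t (Kx K C{a}) J := by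
  have h1 := cover1 (a_sq (iv_mul ha)) hc
  have h2 := h.kx hn h1 (mem_C1_comm.1 hat)
  rw [inf_comm] at h2
  exact ⟨h2, (kx_comp h.comp h1).2, ih _ (cent_ne_top (not_sol h.comp) (iv_ne ha)) t _ h2⟩

namespace Ctx
variable (c : Ctx n G) {s : G}

theorem T_conj (h : c.T t) (g : G) : c.T (g * t * g⁻¹) := h.trans (isConj_iff.2 ⟨g, rfl⟩)
theorem T_iv (h : c.T t) : orderOf t = 2 := (c.pc h).iv
theorem T_ex (h : c.T t) (h' : c.T s) : ∃ g : G, g * t * g⁻¹ = s :=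
  isConj_iff.1 (h.symm.trans h')
theorem K_cj (h : c.T t) (g : G) : c.K (g * t * g⁻¹) = cj g (c.K t) :=
  (c.uniq (c.T_conj h g) ((c.pc h).cj g)).symm
theorem N_eq (h : c.T t) : N[c.K t] = C{t} :=
  le_antisymm (fun g hg => mem_C1_iff_conj.2 ((t1 c.h8 (c.pc h) (conj_mem hg (c.pc h).mem)
    (conj_mem (N_le_N_cz _ hg) (c.pc h).mem_cz) (a_sq (iv_mul (iv_conj (c.T_iv h) g)))).resolve_left
      (iv_ne (iv_conj (c.T_iv h) g))))
    fun _ hg => mem_N_iff_cj.2 (c.uniq h ((c.pc h).cj_mem hg))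
theorem cz_le_C (h : c.T t) : cz (c.K t) ≤ C{t} := (cz_le _).trans (c.N_eq h).le
theorem not_cz (h : c.T t) (hs : s ∈ c.K t) (h2 : orderOf s = 2) (hne : s ≠ t) :
    s ∉ cz (c.K t) := fun e => (t1 c.h8 (c.pc h) hs e (a_sq (iv_mul h2))).elim (iv_ne h2) hne
/-- two commuting involutions of `K s` form a pair of type II -/
theorem adj_of_comm (h : c.T s) {a b : G} (ha : a ∈ c.K s) (hb : b ∈ c.K s) (ha2 : orderOf a = 2)
    (hb2 : orderOf b = 2) (hab : a * b = b * a) : b ∈ c.K a := by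
  have aT := c.inv h ha ha2
  have bT := c.inv h hb hb2
  by_cases e : a = b
  · rw [← e]; exact (c.pc aT).mem
  refine (c.dich aT bT hab.symm).elim (fun hz => ?_) id
  have ab : a ∈ C{b} := mem_C1.2 hab
  have h1 := (c.pc aT).kx c.h8 (cover1 (a_sq (iv_mul hb2)) hz) ab
  have sa := c.symII h aT ha
  have hs : s ∈ Kx (c.K a) C{b} :=
    mem_pGen ⟨sa, mem_C1_comm.1 ((c.pc h).le_C hb)⟩ (a_sq (iv_mul (c.T_iv h)))
  rcases pump (iv_mul ha2) ab (by rw [inf_comm]; exact h1.comp) (c.pc bT).comp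
    (by rw [c.N_eq bT]; exact ab) with h2 | h2
  · exact absurd (c.symI aT bT hab.symm hz) (c.not_cz bT (h2 h1.mem) ha2 e)
  · by_contra hn
    exact c.not_cz bT (c.symII h bT hb) (c.T_iv h) (fun e => hn (e ▸ sa)) (h2 hs)
theorem Conn.all (hc : c.Conn) (ht : c.T t) (hs : c.T s) : Relation.ReflTransGen c.Adj t s := by
  have sy : ∀ {a b}, Relation.ReflTransGen c.Adj a b → Relation.ReflTransGen c.Adj b a :=
    fun e => by
      induction e with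
      | refl => exact .refl
      | tail _ e ih => exact .head ⟨e.2.1, e.1, c.symII e.1 e.2.1 e.2.2⟩ ih
  exact (sy (hc t ht)).trans (hc s hs)
theorem le_of_T [IsSimpleGroup G] {M : Subgroup G} (h : ∀ t, c.T t → t ∈ M) : M = ⊤ := by
  have h1 := (IsSimpleGroup.eq_bot_or_eq_top_of_normal (normalClosure {c.t0})
    inferInstance).resolve_left fun e => iv_ne (c.T_iv (IsConj.refl _)) (by
      rw [← mem_bot, ← e]; exact subset_normalClosure rfl)
  rw [eq_top_iff, ← h1]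
  refine (closure_le _).2 fun x hx => ?_
  obtain ⟨a, rfl, ha⟩ := Group.mem_conjugatesOfSet_iff.1 hx
  exact h x ha

end Ctx

end H20.So
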