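import Mathlib
import Cfsg.Agent.H13.WBasic
import Cfsg.Agent.H13.WSpecEx
import Cfsg.Agent.H13.WSpecInner
import Cfsg.Agent.H13.WSpecClass
import Cfsg.Agent.H13.WNum
import Cfsg.Agent.H13.WAlg
import Cfsg.Agent.H17.Cover
import Cfsg.Agent.H4.Galois

/-! Wreathed case: from the eight generalized characters to irreducible characters. -/

set_option autoImplicit false
set_option linter.unusedSectionVars false

namespace H20.WX

open H24 H26 Cfsg Subgroup Finset H13.W H13.Dih H4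
open H22 (WR WA Bj hh)
open scoped ComplexConjugate

universe u

variable {G : Type u} [Group G]

/-- the value of an irreducible character at `t` -/
noncomputable def valt [Finite G] (c : WC G) (χ : IrrCharacter G) : ℤ :=
  (χ.2.isGen.exists_int_of_sq (g := c.t) (by rw [← c.ht, pow_orderOf_eq_one])).choose

theorem valt_eq [Finite G] (c : WC G) (χ : IrrCharacter G) : χ.1 c.t = valt c χ :=
  (χ.2.isGen.exists_int_of_sq (g := c.t) (by rw [← c.ht, pow_orderOf_eq_one])).choose_spec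

/-- the degree -/
noncomputable def dg [Finite G] (χ : IrrCharacter G) : ℤ := H17.deg χ

theorem dg_eq [Finite G] (χ : IrrCharacter G) : χ.1 1 = dg χ := by
  rw [dg, Int.cast_natCast, H17.deg_eq]

theorem dg_pos [Finite G] (χ : IrrCharacter G) : 0 < dg χ :=
  Int.natCast_pos.2 (Nat.pos_of_ne_zero (H17.deg_ne_zero χ))

theorem lat_of [Fintype G] (c : WC G) (Q : ℤ) (Θ : Fin 8 → G → ℂ)
    (hg : ∀ i, IsGeneralizedCharacter G (Θ i))
    (hgram : ∀ i j, classInner (Θ i) (Θ j) = Gram i j) (h1 : ∀ i, Θ i 1 = 0)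
    (ht : ∀ i, Θ i c.t = Val8 Q i)
    (hcls : ∀ i, ∑ a ∈ H5.cl c.t, ∑ b ∈ H5.cl c.t, Θ i (a * b) =
      c.H.index * (c.k : ℂ) ^ 2 * (Q * Cls8 Q i)) :
    ∃ v : Fin 8 → IrrCharacter G → ℤ, (∀ i χ, classInner (Θ i) χ.1 = v i χ) ∧
      (∀ i g, Θ i g = ∑ χ : IrrCharacter G, (v i χ : ℂ) * χ.1 g) ∧
      Lat Q ((c.k : ℚ) ^ 2 * Q / c.H.index) dg (valt c) v := by
  choose v hv hv' _ using fun i => (hg i).exists_coeff
  have happ : ∀ i g, Θ i g = ∑ χ : IrrCharacter G, (v i χ : ℂ) * χ.1 g := fun i g => by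
    conv_lhs => rw [hv' i]
    simp [Finset.sum_apply]
  have hi : (c.H.index : ℂ) ≠ 0 := Nat.cast_ne_zero.2 index_ne_zero_of_finite
  refine ⟨v, hv, happ, dg_pos, fun i j => ?_, fun i => ?_, fun i => ?_, fun i => ?_⟩
  · have := (hg i).classFun.inner_eq_sum (Θ j)
    rw [hgram] at this
    simp only [hv, map_intCast] at this
    exact_mod_cast this.symm
  · have := happ i 1
    rw [h1] at this
    simp only [dg_eq] at this
    exact_mod_cast this.symm
  · have := happ i c.t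
    rw [ht] at this
    simp only [valt_eq] at this
    exact_mod_cast this.symm
  · have h2 := hcls i
    simp only [happ i] at h2
    have h3 : ∑ a ∈ H5.cl c.t, ∑ b ∈ H5.cl c.t, ∑ χ : IrrCharacter G, (v i χ : ℂ) * χ.1 (a * b) =
        ∑ χ : IrrCharacter G, (v i χ : ℂ) * ∑ a ∈ H5.cl c.t, ∑ b ∈ H5.cl c.t, χ.1 (a * b) := by
      simp only [Finset.mul_sum]
      exact (Finset.sum_congr rfl fun a _ => Finset.sum_comm).trans Finset.sum_comm
    rw [h3] at h2
    simp only [fun χ : IrrCharacter G => H5.sum_cl_cl χ.2 c.t c.t, H5.card_cl, valt_eq, dg_eq] at h2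
    have h4 : (∑ χ : IrrCharacter G, (v i χ : ℂ) * (valt c χ : ℂ) ^ 2 / dg χ) =
        (c.k : ℂ) ^ 2 * Q / c.H.index * Cls8 Q i := by
      apply mul_left_cancel₀ (mul_ne_zero hi hi)
      rw [Finset.mul_sum]
      have : (c.H.index : ℂ) * c.H.index * ((c.k : ℂ) ^ 2 * Q / c.H.index * Cls8 Q i) =
          c.H.index * (c.k : ℂ) ^ 2 * (Q * Cls8 Q i) := by field_simp
      rw [this, ← h2]
      refine Finset.sum_congr rfl fun χ _ => ?_
      simp only [WC.H]
      ring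
    exact_mod_cast h4

section Num

variable {c : WC G} (M : Mod c)

theorem q3 : 3 ≤ M.d.N.q := by
  have h1 := M.d.N.hp.two_le
  have h2 := M.d.N.p_ne
  have h3 : M.d.N.p ≤ M.d.N.p ^ M.d.N.f := Nat.le_self_pow M.d.N.f_pos.ne' _
  rw [M.d.N.hq]; omega

theorem Q_sq : M.Q ^ 2 = (M.d.N.q : ℤ) ^ 2 := by
  rcases M.d.N.hε with h | h <;> simp [Mod.Q, h]

theorem Q_mod : M.Q % 4 = 1 := by
  have h1 := M.d.N.hm
  obtain ⟨k, hk⟩ := Nat.exists_eq_add_of_le c.hn
  have h2 : 2 ^ c.n = 4 * 2 ^ k := by rw [hk, pow_add]; norm_num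
  rw [M.d.hm, h2] at h1
  push_cast at h1
  generalize (2 : ℤ) ^ k * (M.d.m' : ℤ) = x at h1
  have h1' : 4 * ((2 : ℤ) ^ k * (M.d.m' : ℤ)) = M.d.N.q - M.d.N.ε := by rw [← h1]; ring
  generalize (2 : ℤ) ^ k * (M.d.m' : ℤ) = x at h1'
  rcases M.d.N.hε with h | h <;> simp only [Mod.Q, h] at h1' ⊢ <;> omega

theorem Q_ne_one : M.Q ≠ 1 := by
  have := q3 M
  rcases M.d.N.hε with h | h <;> simp only [Mod.Q, h] <;> omega

theorem Q_ne_zero : M.Q ≠ 0 := by have := Q_mod M; omega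

theorem F_pos : 1 < M.F := by
  have h1 := Q_mod M
  have h2 := Q_ne_one M
  rw [Mod.F]
  rcases (by omega : M.Q ≤ -3 ∨ 5 ≤ M.Q) with h | h <;> nlinarith

theorem St_one : M.St 1 = M.Q := by
  rw [Mod.St, ap_one, Mod.Q]
  have : Nat.card (MulAction.fixedBy M.d.Ω (1 : M.Γ)) = M.d.N.q + 1 := by
    rw [MulAction.fixedBy_one_eq_univ, ← M.d.cardΩ, Nat.card_univ, Nat.card_eq_fintype_card]
  rw [this]; push_cast; ring

variable {M}

theorem spec_t {Θ : G → ℂ} {Λ : WA c.n → ℂ} {ϑ : ℕ → ℂ} (h : Spec M Θ Λ ϑ) {y : G}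
    (hy : y ∈ c.H) (ho : Odd (orderOf y)) :
    Θ (c.t * y) = (1 + M.St y) / 2 * Λ (hh c.n, hh c.n) + (1 - M.St y) / 2 * ϑ (2 ^ c.n) := by
  have e : ((2 ^ (c.n - 1) : ℕ) : ZMod (2 ^ c.n)) = hh c.n := by simp [hh]
  have e2 : 2 * 2 ^ (c.n - 1) = 2 ^ c.n := by
    rw [← pow_succ']; congr 1; have := c.n1; omega
  have e3 : 0 < 2 ^ (c.n - 1) := by positivity
  have := h.cen (2 ^ (c.n - 1)) e3 (by omega) y (by rw [e]; exact hy) ho
  rw [e, e2] at this
  exact this

end Num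

section Core

variable {c : WC G}

theorem lat_spec [Fintype G] (M : Mod c) (Θ : Fin 8 → G → ℂ)
    (hs : ∀ i, Spec M (Θ i) (Lam c.n i) (The c.n i)) :
    (∀ i j, classInner (Θ i) (Θ j) = Gram i j) ∧ (∀ i, Θ i 1 = 0) ∧
    (∀ i, Θ i c.t = Val8 M.Q i) ∧
    (∀ i, ∑ a ∈ H5.cl c.t, ∑ b ∈ H5.cl c.t, Θ i (a * b) =
      c.H.index * (c.k : ℂ) ^ 2 * (M.Q * Cls8 M.Q i)) ∧
    ∀ i, classInner (Θ i) (fun _ => 1) = One8 i := by
  refine ⟨fun i j => ?_, fun i => (hs i).odd 1 (by simp), fun i => ?_, fun i => ?_, fun i => ?_⟩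
  · rw [spec_inner (hs i) (hs j) (adm8 c.hn i) (adm8 c.hn j), gram8 c.hn]
  · have := spec_t (hs i) (one_mem _) (by simp)
    rw [mul_one, St_one, val8 c.hn] at this
    exact this
  · rw [spec_class (hs i) (adm8 c.hn i), ← cls8 c.hn i M.Q (Q_ne_zero M)]
    ring
  · rw [spec_inner_one (hs i) (adm8 c.hn i), one8 c.hn]

/-- membership in the principal block, from a generalized character vanishing on elements of
odd order -/
theorem bp_one [Fintype G] (I : Ideal AlgInt) [H17.PM 2 I] {Θ : G → ℂ}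
    (h : ∀ g, Odd (orderOf g) → Θ g = 0) {v : IrrCharacter G → ℤ}
    (hv : ∀ χ : IrrCharacter G, classInner Θ χ.1 = v χ) :
    ∑ χ : IrrCharacter G, H17.ind (principalBlock I G) χ * (v χ * dg χ) = 0 := by
  have := H17.blockPart_eq_zero (p := 2) (M := I) (A := principalBlock I G)
    (H17.fb_mem_ZS (irrOne G)) (ϑ := Θ) (u := 1) fun g hg => h g (by
      rw [H17.isConj_pp_iff_reg H17.reg_one] at hg
      exact Nat.odd_iff.2 (by omega))
  rw [H17.blockPart_apply] at this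
  simpa only [hv, dg_eq] using this

theorem core [Fintype G] (M : Mod c) (Θ : Fin 8 → G → ℂ)
    (hg : ∀ i, IsGeneralizedCharacter G (Θ i))
    (hs : ∀ i, Spec M (Θ i) (Lam c.n i) (The c.n i)) :
    (c.k : ℚ) ^ 2 * M.Q / c.H.index * (M.Q * (M.Q ^ 2 + M.Q + 1)) = 1 ∧
      ∃ fe fo : IrrCharacter G, fe ≠ fo ∧ Θ 0 = fe.1 - fo.1 ∧ fe.1 1 = M.F ∧ fo.1 1 = M.F ∧
        fe.1 c.t = M.Q + 2 ∧ fo.1 c.t = -M.Q ∧ ∀ (I : Ideal AlgInt) [H17.PM 2 I],
          H17.SB I (irrOne G) fe ∧ H17.SB I (irrOne G) fo := by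
  classical
  obtain ⟨h1, h2, h3, h4, h5⟩ := lat_spec M Θ hs
  obtain ⟨v, hv, happ, hL⟩ := lat_of c M.Q Θ hg h1 h2 h3 h4
  have hd1 : dg (irrOne G) = 1 := by
    have := dg_eq (irrOne G)
    rw [irrOne_apply] at this
    exact_mod_cast this.symm
  obtain ⟨hρ, xe, xo, xc, hne, e0, e7, de, d0, dc, ve, vo⟩ := hL.anchored (Q_mod M) (Q_ne_one M)
    (x₀ := irrOne G) hd1 (by
      have := valt_eq c (irrOne G)
      rw [irrOne_apply] at this
      exact_mod_cast this.symm) (fun i => by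
      have := hv i (irrOne G)
      rw [irrOne_coe, h5] at this
      exact_mod_cast this.symm)
  refine ⟨hρ, xe, xo, hne, ?_, by rw [dg_eq, de, Mod.F], by rw [dg_eq, d0, Mod.F],
    by rw [valt_eq, ve]; push_cast; rfl, by rw [valt_eq, vo]; push_cast; rfl, fun I _ => ?_⟩
  · ext g
    rw [happ, e0]
    simp [Pi.single_apply, sub_mul, Finset.sum_sub_distrib]
  · have b7 := bp_one I (hs 7).odd (hv 7)
    have b0 := bp_one I (hs 0).odd (hv 0)
    rw [e7] at b7
    rw [e0] at b0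
    simp only [Pi.sub_apply, Pi.add_apply, Pi.single_apply, Int.cast_sub, Int.cast_add,
      Int.cast_ite, Int.cast_one, Int.cast_zero, sub_mul, add_mul, mul_sub, mul_add, ite_mul,
      one_mul, zero_mul, mul_ite, mul_zero, Finset.sum_sub_distrib, Finset.sum_add_distrib,
      Finset.sum_ite_eq', Finset.mem_univ, if_true] at b7 b0
    have o1 : irrOne G ∈ principalBlock I G := H17.SB.refl (M := I) (irrOne G)
    rw [H17.ind_of_mem o1, hd1] at b7
    have he : xe ∈ principalBlock I G := by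
      by_contra hn
      rw [H17.ind_of_notMem hn] at b7
      have hc := dg_pos xc
      by_cases h : xc ∈ principalBlock I G
      · rw [H17.ind_of_mem h] at b7
        have b : (1 : ℂ) + (dg xc : ℂ) = 0 := by simpa using b7
        have : (1 : ℤ) + dg xc = 0 := by exact_mod_cast b
        omega
      · rw [H17.ind_of_notMem h] at b7
        simp at b7
    refine ⟨he, ?_⟩
    by_contra hn
    rw [H17.ind_of_mem he, H17.ind_of_notMem (A := principalBlock I G) hn] at b0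
    have hc := dg_pos xe
    have : dg xe = 0 := by exact_mod_cast (by simpa using b0)
    omega

/-- powers of `g` and of `g o` -/
theorem t_mem_mul [Finite G] {g o : G} (hg : c.t ∈ zpowers g) (ho : o ∈ c.O) :
    c.t ∈ zpowers (g * o) := by
  have hgH : g ∈ c.H := mem_C1.2 (by
    obtain ⟨k, hk⟩ := hg
    rw [← hk]; exact (Commute.refl g).zpow_right k)
  have key : ∀ k : ℕ, (g ^ k)⁻¹ * (g * o) ^ k ∈ c.O := by
    intro k
    induction k with
    | zero => simp
    | succ k ih =>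
      have : (g ^ (k + 1))⁻¹ * (g * o) ^ (k + 1) = g⁻¹ * ((g ^ k)⁻¹ * (g * o) ^ k) * g⁻¹⁻¹ * o := by
        rw [pow_succ, pow_succ]; group
      rw [this]
      exact mul_mem (H24.conj_mem (c.H_le_NO (inv_mem hgH)) ih) ho
  obtain ⟨k, hk⟩ := (mem_powers_iff_mem_zpowers.2 hg : c.t ∈ Submonoid.powers g)
  have h1 := key k
  simp only at hk
  rw [hk] at h1
  have h2 : (g * o) ^ k = c.t * (c.t⁻¹ * (g * o) ^ k) := by group
  have h3 := mem_zpowers_of_comm c.ht (odd_orderOf c.odd_O h1) (mem_C1.1 (c.O_le_H h1)).symm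
  rw [← h2] at h3
  exact (zpowers_le.2 (pow_mem (mem_zpowers _) k)) h3

theorem mem_H_of [Finite G] {g : G} (hg : c.t ∈ zpowers g) : g ∈ c.H := mem_C1.2 (by
  obtain ⟨k, hk⟩ := hg
  rw [← hk]; exact (Commute.refl g).zpow_right k)

theorem cent_pp_le [Finite G] {g : G} (hg : c.t ∈ zpowers g) : C{H17.pp 2 g} ≤ c.H := by
  intro x hx
  have h1 : H17.pp 2 c.t = c.t := H17.pp_of_pElt ⟨1, by rw [c.ht]; rfl⟩
  obtain ⟨k, hk⟩ := (mem_powers_iff_mem_zpowers.2 hg : c.t ∈ Submonoid.powers g)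
  simp only at hk
  rw [← hk, H17.pp_pow, hk] at h1
  refine mem_C1.2 ?_
  rw [← h1]
  exact (Commute.pow_right (mem_C1.1 hx) k)

/-- characters in the principal block are invariant under `O` on the section over `t` -/
theorem inv_of_sb [Finite G] (I : Ideal AlgInt) [H17.PM 2 I] {χ : IrrCharacter G}
    (h : H17.SB I (irrOne G) χ) {g o : G} (hg : c.t ∈ zpowers g) (ho : o ∈ c.O) :
    χ.1 (g * o) = χ.1 g := by
  have := Fintype.ofFinite c.H
  have hall := H17.exists_indRel_centralizer (p := 2) I (x := c.t) ⟨1, by rw [c.ht]; rfl⟩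
  have key : ∀ (x : G) (hx : c.t ∈ zpowers x), χ.1 x =
      blockPart (principalBlock I c.H) (fun k : c.H => χ.1 k) ⟨x, mem_H_of hx⟩ := by
    intro x hx
    have := H17.irr_eq_blockPart (p := 2) (M := I) (subtype_injective c.H) hall
      (h := ⟨x, mem_H_of hx⟩) (by rw [range_subtype]; exact cent_pp_le hx) χ
    rw [← h.blockOf_eq, ← H17.principalBlock_eq,
      H17.indSet_principal (subtype_injective c.H) hall] at this
    exact this
  rw [key _ hg, key _ (t_mem_mul hg ho), H17.blockPart_apply, H17.blockPart_apply]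
  refine Finset.sum_congr rfl fun ξ _ => ?_
  by_cases hξ : ξ ∈ principalBlock I c.H
  · congr 2
    have hn : (c.O.subgroupOf c.H).Normal := c.O_nml.normal
    have hk := H17.SB.ker (p := 2) (N := c.O.subgroupOf c.H) (M := I) (χ := irrOne _) (ψ := ξ) (by
      rw [card_subgroupOf_of_le c.O_le_H]
      exact c.odd_O.not_two_dvd_nat) hξ (fun _ _ => rfl) ⟨o, c.O_le_H ho⟩ ho
    exact H5.mul_mem_charKer_right ξ.2.classFun ((H5.mem_charKer_iff ξ.2.isCharacter).2 hk)
      ⟨g, mem_H_of hg⟩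
  · rw [H17.ind_of_notMem hξ, zero_mul, zero_mul]

end Core

end H20.WX
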