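import Mathlib
import Cfsg.Agent.H20.WX1

/-! Wreathed case: passing to a subgroup containing `S`, `w` and covering `H / O`. -/

set_option autoImplicit false
set_option linter.unusedSectionVars false

namespace H20.WX

open H24 H26 Cfsg Subgroup Finset H13.W H13.Dih H4
open H22 (WR WA Bj hh)

universe u

variable {G : Type u} [Group G] [Finite G] {c : WC G} {X : Subgroup G}

theorem sub_fus (M : Mod c) (hS : c.S ≤ X) (hcov : c.H ≤ (X ⊓ c.H) ⊔ c.O) :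
    ∃ h ∈ X, h ∈ C[c.Z] ∧ h * c.σ * h⁻¹ = c.u := by
  obtain ⟨h0, h1, h2⟩ := c.fus
  have hH : h0 ∈ c.H := mem_C1.2 (h1 _)
  obtain ⟨x, hx, o, ho, rfl⟩ := (mem_sup_of_norm' (inf_le_right.trans c.H_le_NO)).1 (hcov hH)
  have hodd : Odd ♯(c.O ⊓ X) := c.odd_O.of_dvd_nat (card_dvd inf_le_left)
  obtain ⟨v, hv, hvx⟩ := coprime_lift_cent (A := c.Z) (V := c.O ⊓ X)
    (norm_inf (c.Z_le_H.trans c.H_le_NO) (norm_of_le (c.Z_le_S.trans hS)))
    (cop2 hodd c.Z_pi) (Or.inl (sol_of_odd hodd)) (g := x) fun a ha => ⟨by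
      have := M.centZ (commutator_mem_commutator hx.2 ha)
      have h3 := inv_mem this
      rwa [commutatorElement_inv] at h3, by
      have ha' := hS (c.Z_le_S ha)
      have hx' : x ∈ X := hx.1
      exact X.mul_mem (X.mul_mem (X.mul_mem ha' hx') (inv_mem ha')) (inv_mem hx')⟩
  have hσ := c.S_le_CZ c.σ_mem_S
  have hu := c.S_le_CZ c.u_mem_S
  have hvxX : v * x ∈ X := mul_mem hv.2 hx.1
  have k1 : v * x * c.σ * (v * x)⁻¹ * c.u⁻¹ ∈ c.O := by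
    have e1 : v * x * c.σ * (v * x)⁻¹ * c.u⁻¹ = v * (x * c.σ * x⁻¹ * v⁻¹ * (x * c.σ * x⁻¹)⁻¹) *
        (x * (c.σ * o * c.σ⁻¹ * o⁻¹) * x⁻¹) := by
      rw [← show x * o * c.σ * (x * o)⁻¹ = c.u from h2]; group
    have hxH : x ∈ c.H := hx.2
    have hvO : v ∈ c.O := hv.1
    rw [e1]
    exact mul_mem (mul_mem hvO (c.O_nml.conj_mem (mul_mem (mul_mem hxH c.σ_mem_H) (inv_mem hxH))
      (inv_mem hvO))) (c.O_nml.conj_mem hxH (mul_mem (c.O_nml.conj_mem c.σ_mem_H ho) (inv_mem ho)))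
  have k2 : v * x * c.σ * (v * x)⁻¹ * c.u⁻¹ ∈ X :=
    mul_mem (mul_mem (mul_mem hvxX (hS c.σ_mem_S)) (inv_mem hvxX)) (inv_mem (hS c.u_mem_S))
  have k3 : v * x * c.σ * (v * x)⁻¹ * c.u⁻¹ ∈ C[c.Z] :=
    mul_mem (mul_mem (mul_mem hvx hσ) (inv_mem hvx)) (inv_mem hu)
  obtain ⟨o2, ho2, e⟩ := conj_of_coset (X := c.O ⊓ X ⊓ C[c.Z])
    (hodd.of_dvd_nat (card_dvd inf_le_left)) (v := c.u) (a := v * x * c.σ * (v * x)⁻¹)
    (sq_of c.hu) (sq_of (two_conj c.hσ _)) ⟨⟨k1, k2⟩, k3⟩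
  exact ⟨o2 * (v * x), mul_mem ho2.1.2 hvxX, mul_mem ho2.2 hvx, by rw [← e]; group⟩

/-- the coordinates on `X` -/
def subWC (c : WC G) (X : Subgroup G) (hS : c.S ≤ X) (w' : G) (hw : w' ∈ X)
    (hw' : w' * c.w⁻¹ ∈ C[c.E0]) (hf : ∃ h ∈ X, h ∈ C[c.Z] ∧ h * c.σ * h⁻¹ = c.u) : WC X where
  n := c.n
  hn := c.hn
  P := c.P.subtype hS
  E :=
    { r := fun a => ⟨c.E.r a, hS (c.E.r_mem a)⟩
      s := fun a => ⟨c.E.s a, hS (c.E.s_mem a)⟩
      r_mul_r := fun a b => Subtype.ext (c.E.r_mul_r a b)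
      r_mul_s := fun a b => Subtype.ext (c.E.r_mul_s a b)
      s_mul_r := fun a b => Subtype.ext (c.E.s_mul_r a b)
      s_mul_s := fun a b => Subtype.ext (c.E.s_mul_s a b)
      r_injective := fun _ _ h => c.E.r_injective (congrArg Subtype.val h)
      r_ne_s := fun a b h => c.E.r_ne_s a b (congrArg Subtype.val h)
      mem_iff := fun g => by
        simp only [Subtype.ext_iff]
        exact c.E.mem_iff g.1
      σσ := c.E.σσ
      σc := c.E.σc }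
  w := ⟨w', hw⟩
  hw := fun a => Subtype.ext (by
    have h1 := c.hw a
    have h2 := mem_C'.1 hw' _ (c.r_mem (a.2, -a.1 - a.2))
    show w' * c.E.r a * w'⁻¹ = c.E.r (a.2, -a.1 - a.2)
    calc w' * c.E.r a * w'⁻¹ = w' * c.w⁻¹ * (c.w * c.E.r a * c.w⁻¹) * (w' * c.w⁻¹)⁻¹ := by group
      _ = _ := by rw [h1, h2]; group)
  fus := by
    obtain ⟨h, h1, h2, h3⟩ := hf
    exact ⟨⟨h, h1⟩, fun j => Subtype.ext (mem_C'.1 h2 _ (c.mem_Z.2 ⟨j, rfl⟩)), Subtype.ext h3⟩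

section

variable {hS : c.S ≤ X} {w' : G} {hw : w' ∈ X} {hw' : w' * c.w⁻¹ ∈ C[c.E0]}
  {hf : ∃ h ∈ X, h ∈ C[c.Z] ∧ h * c.σ * h⁻¹ = c.u}

theorem mem_subC {x y : X} : x ∈ C{y} ↔ (x : G) ∈ C{(y : G)} := by
  rw [mem_C1, mem_C1, Subtype.ext_iff]; rfl

theorem mem_subH {x : X} : x ∈ (subWC c X hS w' hw hw' hf).H ↔ (x : G) ∈ c.H := mem_subC

theorem mem_subZ {x : X} : x ∈ (subWC c X hS w' hw hw' hf).Z ↔ (x : G) ∈ c.Z := by
  rw [WC.mem_Z, WC.mem_Z]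
  simp only [Subtype.ext_iff]
  rfl

theorem mem_subO (hcov : c.H ≤ (X ⊓ c.H) ⊔ c.O) {x : X} :
    x ∈ (subWC c X hS w' hw hw' hf).O ↔ (x : G) ∈ c.O := by
  have e : (subWC c X hS w' hw hw' hf).H = (X ⊓ c.H).subgroupOf X := by
    ext y; rw [mem_subH, mem_subgroupOf, Subgroup.mem_inf]; exact ⟨fun h => ⟨y.2, h⟩, fun h => h.2⟩
  have e2 : (subWC c X hS w' hw hw' hf).O = (𝒪[X ⊓ c.H]).subgroupOf X := by
    rw [← pcore_subgroupOf _ inf_le_left, ← e]; rfl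
  rw [e2, mem_subgroupOf]
  refine ⟨fun h => c.le_O_of_cover inf_le_right hcov (isPi_odd.1 (pcore_pi _ _))
    ((pcore_le _ _).trans inf_le_right) (pcore_nml _ _).norm h, fun h => ?_⟩
  exact pcore_inf_le (H := c.H) {2}ᶜ inf_le_right ⟨h, x.2, c.O_le_H h⟩

/-- the inclusion of centralisers -/
def subι : (subWC c X hS w' hw hw' hf).H →* c.H where
  toFun x := ⟨x.1.1, mem_subH.1 x.2⟩
  map_one' := rfl
  map_mul' _ _ := rfl

theorem ap_sub {A : Type*} [Group A] (f : c.H →* A) (x : X) :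
    ap (f.comp (subι (hS := hS) (hw := hw) (hw' := hw') (hf := hf))) x = ap f (x : G) := by
  by_cases h : (x : G) ∈ c.H
  · rw [ap_of_mem _ h, ap_of_mem _ (mem_subH.2 h)]; rfl
  · rw [ap, ap, dif_neg h, dif_neg (mt mem_subH.1 h)]

/-- the model for `X` -/
noncomputable def subMod (M : Mod c) (hcov : c.H ≤ (X ⊓ c.H) ⊔ c.O) :
    Mod (subWC c X hS w' hw hw' hf) where
  Γ := M.Γ
  d := M.d
  κ := M.κ.comp subι
  surj := fun γ => by
    obtain ⟨h, rfl⟩ := M.surj γ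
    obtain ⟨x, hx, o, ho, e⟩ := (mem_sup_of_norm' (inf_le_right.trans c.H_le_NO)).1 (hcov h.2)
    refine ⟨⟨⟨x, hx.1⟩, mem_subH.2 hx.2⟩, ?_⟩
    have h1 : M.κ ⟨o, c.O_le_H ho⟩ = 1 := (M.ker _).2 (mem_sup_left ho)
    have h2 : h = ⟨x, hx.2⟩ * ⟨o, c.O_le_H ho⟩ := Subtype.ext e
    rw [h2, map_mul, h1, mul_one]; rfl
  ker := fun x => by
    rw [MonoidHom.comp_apply, M.ker, mem_sup_of_norm (c.Z_le_H.trans c.H_le_NO),
      mem_sup_of_norm ((WC.Z_le_H _).trans (WC.H_le_NO _))]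
    constructor
    · rintro ⟨o, ho, z, hz, e⟩
      have hz' := hS (c.Z_le_S hz)
      have ho' : o ∈ X := by
        have : o = x.1.1 * z⁻¹ := by rw [eq_mul_inv_iff_mul_eq]; exact e.symm
        rw [this]; exact mul_mem x.1.2 (inv_mem hz')
      exact ⟨⟨o, ho'⟩, (mem_subO hcov).2 ho, ⟨z, hz'⟩, mem_subZ.2 hz, Subtype.ext e⟩
    · rintro ⟨o, ho, z, hz, e⟩
      exact ⟨o, (mem_subO hcov).1 ho, z, mem_subZ.1 hz, congrArg Subtype.val e⟩
  κ_r := fun a => (ap_sub _ _).trans (M.κ_r a)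
  κ_σ := (ap_sub _ _).trans M.κ_σ
  det := M.det.comp subι
  det_r := fun a => (ap_sub _ _).trans (M.det_r a)
  det_σ := (ap_sub _ _).trans M.det_σ
  centZ := commutator_le.2 fun a ha b hb => (mem_subO hcov).2
    (M.centZ (commutator_mem_commutator (mem_subH.1 ha) (mem_subZ.1 hb)))
  roots := M.roots

theorem sub_St (M : Mod c) (hcov : c.H ≤ (X ⊓ c.H) ⊔ c.O) (y : X) :
    (subMod (hS := hS) (hw := hw) (hw' := hw') (hf := hf) M hcov).St y = M.St y := by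
  unfold Mod.St
  rw [← ap_sub (hS := hS) (hw := hw) (hw' := hw') (hf := hf) M.κ y]
  rfl

theorem sub_spec {M : Mod c} (hcov : c.H ≤ (X ⊓ c.H) ⊔ c.O) {Θ : G → ℂ} {Λ : WA c.n → ℂ}
    {ϑ : ℕ → ℂ} (h : Spec M Θ Λ ϑ) :
    Spec (subMod (hS := hS) (hw := hw) (hw' := hw') (hf := hf) M hcov) (fun x : X => Θ x) Λ ϑ where
  cf := h.cf.restrict X
  odd g hg := h.odd g (by rwa [orderOf_coe])
  reg x hx y hy ho := h.reg x hx y (mem_subC.1 hy) (by rwa [orderOf_coe])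
  cen j h1 h2 y hy ho := by
    rw [sub_St]
    exact h.cen j h1 h2 y (mem_subC.1 hy) (by rwa [orderOf_coe])
  om i hi y hy ho := h.om i hi y (mem_subC.1 hy) (by rwa [orderOf_coe])

end

/-- a nonlinear irreducible character of a simple group is faithful -/
theorem eq_one_of_simple [IsSimpleGroup G] {χ : IrrCharacter G} (h : χ.1 1 ≠ 1) {g : G}
    (hg : χ.1 g = χ.1 1) : g = 1 := by
  have := Fintype.ofFinite G
  rcases (H5.charKer_normal χ.2.classFun).eq_bot_or_eq_top with e | e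
  · rw [← mem_bot, ← e]; exact (H5.mem_charKer_iff χ.2.isCharacter).2 hg
  · exfalso
    have h1 : ∀ x, χ.1 x = χ.1 1 := fun x => H5.apply_of_mem_charKer (e ▸ mem_top x)
    have h2 : χ.1 = χ.1 1 • fun _ => (1 : ℂ) := by ext x; simp [h1 x]
    have h3 : classInner χ.1 (fun _ => 1) ≠ 0 := by
      rw [h2, classInner_smul_left, classInner_one_one, mul_one]
      exact χ.2.apply_one_ne_zero
    exact h (by rw [χ.2.eq_of_inner_ne_zero isIrrCharacter_one h3])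

end H20.WX
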