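import Mathlib
import Cfsg.Agent.H20.WX2
import Cfsg.Agent.H5.Brauer

/-! Wreathed case: twisting the generalized characters by a linear character of `H`. -/

set_option autoImplicit false
set_option linter.unusedSectionVars false

namespace H20.WX

open H24 H26 Cfsg Subgroup Finset H13.W H13.Dih H4
open H22 (WR WA Bj hh)
open scoped ComplexConjugate

universe u

variable {G : Type u} [Group G] [Finite G] {c : WC G}

theorem conj_mem_zp {a g : G} (h : a ∈ zpowers g) (x : G) : x * a * x⁻¹ ∈ zpowers (x * g * x⁻¹) := by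
  obtain ⟨k, rfl⟩ := h
  exact ⟨k, conj_zpow⟩

theorem inv_eq {a b g : G} (ha : orderOf a = 2) (hb : orderOf b = 2) (h1 : a ∈ zpowers g)
    (h2 : b ∈ zpowers g) : a = b := eq_of_mem_cyc (H := zpowers g) inferInstance hb ha h2 h1

theorem ti {g x : G} (h1 : c.t ∈ zpowers g) (h2 : c.t ∈ zpowers (x * g * x⁻¹)) : x ∈ c.H :=
  mem_C1_iff_conj.2 (inv_eq (two_conj c.ht x) c.ht (conj_mem_zp h1 x) h2)

theorem exists_inv {g : G} (h : ¬ Odd (orderOf g)) : ∃ a ∈ zpowers g, orderOf a = 2 :=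
  exists_two (by rwa [card_zpowers'])

theorem exists_D (c : WC G) {g : G} (h : ¬ Odd (orderOf g)) :
    ∃ x, c.t ∈ zpowers (x * g * x⁻¹) := by
  obtain ⟨a, h1, h2⟩ := exists_inv h
  obtain ⟨x, hx⟩ := c.invol_G h2
  exact ⟨x, hx ▸ conj_mem_zp h1 x⟩

open Classical in
theorem sum_D {G : Type u} [Group G] [Fintype G] (c : WC G) {f : G → ℂ} (hf : IsClassFunction G f)
    (ho : ∀ g, Odd (orderOf g) → f g = 0)
    (h : ∑ g ∈ univ.filter (fun g => c.t ∈ zpowers g), f g = 0) : ∑ g, f g = 0 := by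
  have h1 : ∀ g, f g = ∑ a ∈ H5.cl c.t, if a ∈ zpowers g then f g else 0 := by
    intro g
    by_cases hg : Odd (orderOf g)
    · simp [ho g hg]
    · obtain ⟨a, h1, h2⟩ := exists_inv hg
      obtain ⟨x, hx⟩ := c.invol_G h2
      rw [Finset.sum_eq_single_of_mem a (H5.mem_cl.2 (isConj_iff.2 ⟨x, hx⟩).symm), if_pos h1]
      intro b hb hne
      obtain ⟨y, rfl⟩ := isConj_iff.1 (H5.mem_cl.1 hb)
      exact if_neg fun h3 => hne (inv_eq (two_conj c.ht y) h2 h3 h1)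
  rw [Finset.sum_congr rfl fun g _ => h1 g, Finset.sum_comm]
  refine Finset.sum_eq_zero fun a ha => ?_
  obtain ⟨y, rfl⟩ := isConj_iff.1 (H5.mem_cl.1 ha)
  rw [Finset.sum_filter] at h
  refine Eq.trans ?_ h
  rw [← (MulAut.conj y).toEquiv.sum_comp]
  refine Finset.sum_congr rfl fun g _ => ?_
  show (if y * c.t * y⁻¹ ∈ zpowers (y * g * y⁻¹) then f (y * g * y⁻¹) else 0) = _
  rw [hf]
  refine if_congr ⟨fun h3 => ?_, fun h3 => conj_mem_zp h3 y⟩ rfl rfl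
  simpa [mul_assoc] using conj_mem_zp h3 y⁻¹

open Classical in
/-- the linear character `μ` of `H`, transported to all elements of even order -/
noncomputable def tw (μ : c.H →* ℂˣ) (g : G) : ℂ :=
  if h : ∃ x, c.t ∈ zpowers (x * g * x⁻¹) then (ap μ (h.choose * g * h.choose⁻¹) : ℂˣ) else 0

variable {μ : c.H →* ℂˣ}

theorem ap_cj {x y : G} (hx : x ∈ c.H) (hy : y ∈ c.H) : ap μ (x * y * x⁻¹) = ap μ y := by
  rw [ap_conj μ hx hy, mul_comm (ap μ x), mul_inv_cancel_right]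

theorem tw_eq {g x : G} (h : c.t ∈ zpowers (x * g * x⁻¹)) :
    tw μ g = (ap μ (x * g * x⁻¹) : ℂˣ) := by
  have h' : ∃ x, c.t ∈ zpowers (x * g * x⁻¹) := ⟨x, h⟩
  rw [tw, dif_pos h']
  have h1 := h'.choose_spec
  generalize h'.choose = y at h1
  have e : x * g * x⁻¹ = x * y⁻¹ * (y * g * y⁻¹) * (x * y⁻¹)⁻¹ := by group
  rw [e] at h ⊢
  rw [ap_cj (ti h1 h) (mem_H_of h1)]

theorem tw_conj (g x : G) : tw μ (x * g * x⁻¹) = tw μ g := by
  by_cases h : ∃ y, c.t ∈ zpowers (y * g * y⁻¹)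
  · obtain ⟨y, hy⟩ := h
    have e : y * g * y⁻¹ = y * x⁻¹ * (x * g * x⁻¹) * (y * x⁻¹)⁻¹ := by group
    rw [tw_eq hy, e, tw_eq (e ▸ hy)]
  · rw [tw, tw, dif_neg h, dif_neg]
    rintro ⟨y, hy⟩
    exact h ⟨y * x, by simpa [mul_assoc] using hy⟩

theorem tw_norm {g : G} (h : ¬ Odd (orderOf g)) : tw μ g * conj (tw μ g) = 1 := by
  obtain ⟨x, hx⟩ := exists_D c h
  rw [tw_eq hx, ap_of_mem _ (mem_H_of hx)]
  have := (isIrrCharacter_linear μ).apply_inv ⟨_, mem_H_of hx⟩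
  rw [← this, ← Units.val_mul, ← map_mul, mul_inv_cancel, map_one, Units.val_one]

theorem tw_H (hw : ∀ y ∈ c.D, ap μ (c.w * y * c.w⁻¹) = ap μ y) {g : G} (hg : g ∈ c.H)
    (h : ¬ Odd (orderOf g)) : tw μ g = (ap μ g : ℂˣ) := by
  obtain ⟨a, h1, h2⟩ := exists_inv h
  by_cases ha : a = c.t
  · have := tw_eq (μ := μ) (g := g) (x := 1) (by simpa [ha] using h1)
    simpa using this
  · obtain ⟨x, hx, e⟩ := c.invol_H ((zpowers_le.2 hg) h1) h2 ha
    have h3 : c.u ∈ zpowers (x * g * x⁻¹) := e ▸ conj_mem_zp h1 x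
    have h4 : x * g * x⁻¹ ∈ c.D := ⟨c.H.mul_mem (c.H.mul_mem hx hg) (c.H.inv_mem hx), mem_C1.2 (by
      obtain ⟨k, hk⟩ := h3
      rw [← hk]; exact (Commute.refl _).zpow_right k)⟩
    have h5 : c.w⁻¹ * (x * g * x⁻¹) * c.w ∈ c.D := H24.conj_mem' (c.NE0_le_ND c.w_mem_NE0) h4
    have h6 : c.t ∈ zpowers (c.w⁻¹ * x * g * (c.w⁻¹ * x)⁻¹) := by
      have := conj_mem_zp h3 c.w⁻¹
      rw [← c.w_t] at this
      simpa [mul_assoc] using this
    rw [tw_eq h6, show c.w⁻¹ * x * g * (c.w⁻¹ * x)⁻¹ = c.w⁻¹ * (x * g * x⁻¹) * c.w by group,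
      ← hw _ h5, show c.w * (c.w⁻¹ * (x * g * x⁻¹) * c.w) * c.w⁻¹ = x * g * x⁻¹ by group,
      ap_cj hx hg]

theorem tw_gen (hw : ∀ y ∈ c.D, ap μ (c.w * y * c.w⁻¹) = ap μ y) {Θ : G → ℂ}
    (hΘ : IsGeneralizedCharacter G Θ) (ho : ∀ g, Odd (orderOf g) → Θ g = 0) :
    IsGeneralizedCharacter G (tw μ * Θ) := by
  have hcf : IsClassFunction G (tw μ * Θ) := (show IsClassFunction G (tw μ) from tw_conj).mul hΘ.classFun
  refine H5.isGen_of_elem hcf fun E ⟨p, hp, hE⟩ => ?_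
  have hn : Nil E := H5.isNilpotent_of_isElementary hp hE
  by_cases h : Odd ♯E
  · convert isGen_zero using 1
    ext x
    simp [ho x (odd_orderOf h x.2)]
  · obtain ⟨a, ha, ha2⟩ := exists_two h
    have h1 : O[{2}, E] ≠ ⊥ := fun e => ne_one_of ha2 (by
      rw [← mem_bot, ← e]; exact hn.mem_pcore (pi_two ha2) ha)
    have h2 := hn.inf_C_ne_bot (pcore_nml {2} E) h1
    obtain ⟨b, hb, hb2⟩ := exists_two_of_pi ((pcore_pi {2} E).inf_left C[E]) h2
    obtain ⟨x, hx⟩ := c.invol_G hb2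
    have h3 : ∀ e : E, x * e * x⁻¹ ∈ c.H := fun e => mem_C1.2 (by
      have := mem_C'.1 hb.2 e e.2
      rw [← hx]
      calc x * e * x⁻¹ * (x * b * x⁻¹) = x * (e * b) * x⁻¹ := by group
        _ = _ := by rw [← this]; group)
    let φ : E →* c.H := ((MulAut.conj x).toMonoidHom.comp E.subtype).codRestrict c.H h3
    convert (isIrrCharacter_linear (μ.comp φ)).isGen.mul (hΘ.restrict E) using 1
    ext e
    by_cases he : Odd (orderOf (e : G))
    · simp [ho e he]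
    · show tw μ e * Θ e = (μ (φ e) : ℂ) * Θ e
      rw [← tw_conj (e : G) x, tw_H hw (h3 e) (by rwa [H17.orderOf_conj]), ap_of_mem _ (h3 e)]
      rfl

theorem tw_prod (hw : ∀ y ∈ c.D, ap μ (c.w * y * c.w⁻¹) = ap μ y)
    (h2 : ∀ a ∈ c.H, a * a = 1 → ap μ a = 1) {a b : G} (ha : orderOf a = 2) (hb : orderOf b = 2)
    (h : ¬ Odd (orderOf (a * b))) : tw μ (a * b) = 1 := by
  obtain ⟨x, hx⟩ := exists_D c h
  have ha' := two_conj ha x
  have hb' := two_conj hb x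
  have e : x * (a * b) * x⁻¹ = x * a * x⁻¹ * (x * b * x⁻¹) := by group
  rw [tw_eq hx]
  rw [e] at hx ⊢
  clear e
  generalize x * a * x⁻¹ = a' at *
  generalize x * b * x⁻¹ = b' at *
  have h3 : a' ∈ c.H := ti hx (by
    rw [show a' * (a' * b') * a'⁻¹ = (a' * b')⁻¹ by
      rw [← mul_assoc, sq_of ha', mul_inv_rev, inv_of hb', one_mul], zpowers_inv]
    exact hx)
  have h4 : b' ∈ c.H := by simpa using mul_mem (inv_mem h3) (mem_H_of hx)
  rw [ap_mul _ h3 h4, h2 _ h3 (sq_of ha'), h2 _ h4 (sq_of hb')]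
  simp

end H20.WX
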