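import Mathlib
import Cfsg.Prelude.Def_ChevStructure
import Cfsg.Agent.H20.GoodG2
import Cfsg.Agent.H20.Poincare

set_option autoImplicit false
set_option maxRecDepth 100000

namespace H20

open Cfsg.Lie

theorem orbG2_0 : orbChk auxG2 2 12 [0, 1] [1] ([0, 1].map fun i => [i]) [1, 0]
    [[-1, 0], [1, -3], [-2, 3], [2, -3], [-1, 3], [1, 0]]
    [[0, 1], [1, 0], [1, 1], [2, 1], [3, 1], [3, 2]]
    [5, 4, 3, 2, 1, 0] := by decide +kernel

theorem orbG2_1 : orbChk auxG2 2 12 [1] [] ([1].map fun i => [i]) [0, 1]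
    [[1, -1], [0, 1]]
    [[0, 1]]
    [1, 0] := by decide +kernel

theorem JS_G2 : Good.JS chevG2 [0, 1] = Set.univ := Good.JS_range

theorem cardW_G2 : Nat.card goodG2.rs.W = 12 := by
  rw [RS.card_eq_poin _ le_rfl, ← JS_G2, goodG2.poin_W_of_orbChk orbG2_0, goodG2.poin_W_of_orbChk orbG2_1, Good.JS_nil, RS.poin_empty]
  simp only [one_pow]
  decide +kernel

theorem poin_G2 {A : Type*} [CommRing A] (y : A) :
    (y - 1) ^ 2 * goodG2.rs.poin goodG2.rs.W Set.univ y = (y ^ 2 - 1) * (y ^ 6 - 1) := by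
  rw [← JS_G2, goodG2.poin_W_of_orbChk orbG2_0, goodG2.poin_W_of_orbChk orbG2_1, Good.JS_nil, RS.poin_empty]
  simp only [List.map_cons, List.map_nil, List.sum_cons, List.sum_nil]
  ring

theorem cox_G2 : ∃ e : goodG2.rs.W ≃* (CoxeterMatrix.G₂).Group,
    ∀ i : Fin 2, e ⟨goodG2.rs.s i, goodG2.rs.s_mem_W i⟩ = (CoxeterMatrix.G₂).simple i := by
  refine RS.exists_coxeter_equiv_W (R := goodG2.rs) (CoxeterMatrix.G₂) fun i j => ?_
  have key : ∀ i j : Fin 2, ((CoxeterMatrix.G₂).M i j != 0 && iterChk auxG2.CL [i, j] (List.replicate 2 1) ((CoxeterMatrix.G₂).M i j - 1)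
      (wordL auxG2.CL [i, j] (List.replicate 2 1))) = true := by decide +kernel
  simp only [Bool.and_eq_true, bne_iff_ne] at key
  have h := goodG2.orderOf_wN (ω := [i, j]) (by simp) (key i j).2
  rw [Nat.sub_add_cancel (Nat.pos_of_ne_zero (key i j).1)] at h
  simpa [Good.wN, Good.sN_val] using h.symm

theorem orderOf_cox_G2 : orderOf (goodG2.wN (List.range 2)) = 6 :=
  goodG2.orderOf_wN (m := 5) (by decide) (by decide +kernel)

end H20
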