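import Mathlib
import Cfsg.Agent.H23.WR1
import Cfsg.Agent.H1.QP2

/-! Linear constituents of a character restricted to a subgroup: orbits and projections. -/

set_option autoImplicit false
set_option linter.unusedSectionVars false

namespace H20.QK

open H24 Cfsg Subgroup H4 H23.WR Module
open scoped ComplexConjugate Classical commutatorElement

variable {G : Type*} [Group G] [Fintype G] {A B J : Subgroup G} {f : G → ℂ} {x g a : G}

theorem conj_val (l : A →* ℂˣ) (a : A) : conj (l a : ℂ) = (l a : ℂ)⁻¹ := by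
  have := (isIrrCharacter_linear l).apply_inv a
  simpa using this.symm

theorem conj_ap (l : A →* ℂˣ) (a : G) : conj (ap l a).val = (ap l a).val⁻¹ := by
  by_cases h : a ∈ A
  · rw [ap_of_mem _ h]; exact conj_val l _
  · simp [ap, h]

theorem ap_inv_hom (l : A →* ℂˣ) (a : G) : ap l⁻¹ a = (ap l a)⁻¹ := by
  by_cases h : a ∈ A
  · rw [ap_of_mem _ h, ap_of_mem _ h]; rfl
  · simp [ap, h]

theorem ap_one_hom (a : G) : ap (1 : A →* ℂˣ) a = 1 := by
  by_cases h : a ∈ A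
  · rw [ap_of_mem _ h]; rfl
  · simp [ap, h]

theorem ap_res (l : A →* ℂˣ) (h : B ≤ A) (ha : a ∈ B) : ap (res l h) a = ap l a := by
  rw [ap_of_mem _ ha, res_apply]

theorem hom_ext {l l' : A →* ℂˣ} (h : ∀ a ∈ A, ap l a = ap l' a) : l = l' :=
  MonoidHom.ext fun a => by rw [← ap_coe, ← ap_coe]; exact h a a.2

theorem ne_one_iff {l : A →* ℂˣ} : l ≠ 1 ↔ ∃ a ∈ A, ap l a ≠ 1 := by
  refine ⟨fun h => ?_, ?_⟩
  · by_contra! h'
    exact h (hom_ext fun a ha => by rw [h' a ha, ap_one_hom])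
  · rintro ⟨a, -, h⟩ rfl
    exact h (ap_one_hom a)

theorem ap_cjc (l : A →* ℂˣ) (hg : g ∈ N[A]) (ha : a ∈ A) :
    ap (cjc l ⟨g, hg⟩) a = ap l (g * a * g⁻¹) := by
  rw [ap_of_mem _ ha, cjc_apply]

/-- a value of odd order with square one -/
theorem ap_eq_one_of_sq (l : A →* ℂˣ) (ho : Odd (orderOf a)) (h : ap l a * ap l a = 1) :
    ap l a = 1 := by
  by_cases ha : a ∈ A
  · obtain ⟨k, hk⟩ := ho
    have : ap l a ^ (2 * k + 1) = 1 := by rw [← ap_pow _ ha, ← hk, pow_orderOf_eq_one, ap_one]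
    rwa [pow_succ, pow_mul, sq, h, one_pow, one_mul] at this
  · simp [ap, ha]

theorem tr_inv (hr : ∀ g, f g⁻¹ = f g) (l : A →* ℂˣ) : tr f l⁻¹ 1 = tr f l 1 := by
  simp only [tr, mul_one]
  congr 1
  rw [← Equiv.sum_comp (Equiv.inv A)]
  refine Finset.sum_congr rfl fun a _ => ?_
  simp [hr]

theorem tr_mul (l : A →* ℂˣ) (ha : a ∈ A) (x : G) : tr f l (a * x) = ap l a * tr f l x := by
  simp only [tr]
  rw [mul_left_comm, Finset.mul_sum _ _ (ap l a).val, ← Equiv.sum_comp (Equiv.mulRight (⟨a, ha⟩ : A))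
    (fun b : A => (ap l a).val * (f (b * x) * conj (l b : ℂ)))]
  congr 1
  refine Finset.sum_congr rfl fun b _ => ?_
  simp only [Equiv.coe_mulRight, coe_mul, map_mul, Units.val_mul, conj_val, ap_of_mem _ ha, mul_assoc]
  field_simp

theorem tr_conj (hf : IsClassFunction G f) {l : A →* ℂˣ} (hg : g ∈ stab l) (x : G) :
    tr f l (g * x * g⁻¹) = tr f l x := by
  simp only [tr]
  congr 1
  rw [← (A.normalizerMonoidHom ⟨g, hg.1⟩).toEquiv.sum_comp]
  refine Finset.sum_congr rfl fun a _ => ?_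
  have e : ((A.normalizerMonoidHom ⟨g, hg.1⟩ a : A) : G) = g * a * g⁻¹ := rfl
  have e2 := hg.2 a a.2
  rw [← e, ap_coe, ap_coe] at e2
  change f (((A.normalizerMonoidHom ⟨g, hg.1⟩ a : A) : G) * _) *
    conj ((l (A.normalizerMonoidHom ⟨g, hg.1⟩ a) : ℂˣ) : ℂ) = _
  rw [e2, e, ← hf (a * x) g]
  congr 2; group

/-- the trace vanishes outside the radical -/
theorem tr_eq_zero (hf : IsClassFunction G f) {l : A →* ℂˣ} (hg : g ∈ stab l) (h : ⁅g, x⁆ ∈ A)
    (h1 : ap l ⁅g, x⁆ ≠ 1) : tr f l x = 0 := by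
  have := tr_conj hf hg x
  rw [show g * x * g⁻¹ = ⁅g, x⁆ * x by rw [commutatorElement_def]; group, tr_mul l h] at this
  by_contra h0
  exact h1 (Units.ext (mul_right_cancel₀ h0 (this.trans (one_mul _).symm)))

/-- the orbit of a linear character -/
def orb (J : Subgroup G) (l : A →* ℂˣ) : Set (A →* ℂˣ) :=
  {l' | ∃ g ∈ J, ∀ x ∈ A, ap l' x = ap l (g * x * g⁻¹)}

theorem cjc_mem_orb (l : A →* ℂˣ) (hg : g ∈ J) (h : g ∈ N[A]) : cjc l ⟨g, h⟩ ∈ orb J l :=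
  ⟨g, hg, fun _ hx => ap_cjc l h hx⟩

theorem orb_tr (hf : IsClassFunction G f) (hJ : J ≤ N[A]) {l l' : A →* ℂˣ} (h : l' ∈ orb J l) :
    tr f l' 1 = tr f l 1 := by
  obtain ⟨g, hg, e⟩ := h
  rw [show l' = cjc l ⟨g, hJ hg⟩ from hom_ext fun a ha => by rw [e a ha, ap_cjc _ _ ha], tr_cjc hf]

theorem orb_symm (hJ : J ≤ N[A]) {l l' : A →* ℂˣ} (h : l' ∈ orb J l) : l ∈ orb J l' := by
  obtain ⟨g, hg, e⟩ := h
  refine ⟨g⁻¹, inv_mem hg, fun x hx => ?_⟩
  rw [e _ (conj_mem (inv_mem (hJ hg)) hx)]; congr 1; group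

theorem orb_trans (hJ : J ≤ N[A]) {l l' l'' : A →* ℂˣ} (h : l' ∈ orb J l) (h' : l'' ∈ orb J l') :
    l'' ∈ orb J l := by
  obtain ⟨g, hg, e⟩ := h
  obtain ⟨g', hg', e'⟩ := h'
  refine ⟨g * g', mul_mem hg hg', fun x hx => ?_⟩
  rw [e' x hx, e _ (conj_mem (hJ hg') hx)]; congr 1; group

theorem orb_eq (hJ : J ≤ N[A]) {l l' : A →* ℂˣ} (h : l' ∈ orb J l) : orb J l' = orb J l :=
  Set.ext fun _ => ⟨orb_trans hJ h, orb_trans hJ (orb_symm hJ h)⟩

theorem ncard_le (hf : IsCharacter G f) {F n : ℕ} (hF : f 1 = F) (S : Set (A →* ℂˣ))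
    (h : ∀ l ∈ S, ∃ m : ℕ, tr f l 1 = m ∧ n ≤ m) : S.ncard * n ≤ F := by
  have hfin : S.Finite := Set.toFinite _
  choose m hm using fun l : A →* ℂˣ => tr_nat hf l
  have h3 := (sum_le hf hfin.toFinset m (fun l _ => hm l) hF).1
  have h4 : hfin.toFinset.card • n ≤ ∑ l ∈ hfin.toFinset, m l :=
    Finset.card_nsmul_le_sum _ _ _ fun l hl => by
      obtain ⟨k, e, hk⟩ := h l (hfin.mem_toFinset.1 hl)
      rwa [show m l = k by exact_mod_cast (hm l).symm.trans e]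
  rw [Set.ncard_eq_toFinset_card _ hfin]
  exact h4.trans h3

theorem one_le_of_ne (hf : IsCharacter G f) {l : A →* ℂˣ} (h : tr f l 1 ≠ 0) :
    ∃ m : ℕ, tr f l 1 = m ∧ 1 ≤ m := by
  obtain ⟨m, hm⟩ := tr_nat hf l
  refine ⟨m, hm, Nat.pos_of_ne_zero ?_⟩
  rintro rfl
  exact h (by simpa using hm)

/-- two large orbits coincide -/
theorem two_orb (hf : IsCharacter G f) {F n : ℕ} (hF : f 1 = F) (hn : F < 2 * n) (hJ : J ≤ N[A])
    {l l' : A →* ℂˣ} (h : tr f l 1 ≠ 0) (h' : tr f l' 1 ≠ 0) (c : n ≤ (orb J l).ncard)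
    (c' : n ≤ (orb J l').ncard) : l' ∈ orb J l := by
  by_contra h0
  have hd : Disjoint (orb J l) (orb J l') :=
    Set.disjoint_left.2 fun k hk hk' => h0 (orb_trans hJ hk (orb_symm hJ hk'))
  have := ncard_le hf hF (orb J l ∪ orb J l') (n := 1) fun k hk => one_le_of_ne hf (by
    rcases hk with hk | hk <;> rwa [orb_tr hf.classFun hJ hk])
  rw [Set.ncard_union_eq hd] at this
  omega

section proj
variable {V : Type*} [AddCommGroup V] [Module ℂ V] [FiniteDimensional ℂ V] (ρ : Representation ℂ G V)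

/-- the projection on the `l`-component -/
noncomputable def pr (l : A →* ℂˣ) : End ℂ V := (♯A : ℂ)⁻¹ • ∑ a : A, conj (l a : ℂ) • ρ a

theorem trace_pr (l : A →* ℂˣ) (x : G) :
    LinearMap.trace ℂ V (pr ρ l * ρ x) = tr ρ.character l x := by
  simp only [pr, tr, smul_mul_assoc, Finset.sum_mul, map_smul, map_sum, ← map_mul, smul_eq_mul,
    Representation.character, mul_comm]

theorem mul_pr (l : A →* ℂˣ) (ha : a ∈ A) : ρ a * pr ρ l = (ap l a).val • pr ρ l := by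
  simp only [pr]
  rw [mul_smul_comm, smul_comm, Finset.mul_sum, Finset.smul_sum (r := (ap l a).val),
    ← Equiv.sum_comp (Equiv.mulLeft (⟨a, ha⟩ : A))
    (fun b : A => (ap l a).val • conj (l b : ℂ) • ρ b)]
  congr 1
  refine Finset.sum_congr rfl fun b _ => ?_
  simp only [Equiv.coe_mulLeft, coe_mul, map_mul, Units.val_mul, conj_val, ap_of_mem _ ha,
    mul_smul_comm, smul_smul]
  congr 1; field_simp

theorem pr_comm {l : A →* ℂˣ} (hg : g ∈ stab l) : ρ g * pr ρ l = pr ρ l * ρ g := by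
  simp only [pr]
  rw [mul_smul_comm, smul_mul_assoc, Finset.mul_sum, Finset.sum_mul,
    ← (A.normalizerMonoidHom ⟨g, hg.1⟩).toEquiv.sum_comp (fun b : A => (conj (l b : ℂ) • ρ b) * ρ g)]
  congr 1
  refine Finset.sum_congr rfl fun a _ => ?_
  have e : ((A.normalizerMonoidHom ⟨g, hg.1⟩ a : A) : G) = g * a * g⁻¹ := rfl
  have e2 := hg.2 a a.2
  rw [← e, ap_coe, ap_coe] at e2
  change _ = (conj ((l (A.normalizerMonoidHom ⟨g, hg.1⟩ a) : ℂˣ) : ℂ) •
    ρ ((A.normalizerMonoidHom ⟨g, hg.1⟩ a : A) : G)) * _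
  rw [e2, e, mul_smul_comm, smul_mul_assoc, ← map_mul, ← map_mul]
  congr 2; group

theorem le_stab (l : A →* ℂˣ) : A ≤ stab l := fun a ha => ⟨le_normalizer ha, fun b hb => by
  rw [ap_conj _ ha hb, mul_inv_cancel_comm]⟩

theorem pr_mul (l : A →* ℂˣ) (ha : a ∈ A) : pr ρ l * ρ a = (ap l a).val • pr ρ l := by
  rw [← pr_comm ρ (le_stab l ha), mul_pr ρ l ha]

/-- absorption -/
theorem pr_mul_eq (l : A →* ℂˣ) {e : End ℂ V} (h : ∀ a ∈ A, ρ a * e = (ap l a).val • e) :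
    pr ρ l * e = e := by
  simp only [pr]
  rw [smul_mul_assoc, Finset.sum_mul, Finset.sum_congr rfl (g := fun _ => e) fun a _ => by
    rw [smul_mul_assoc, h a a.2, ap_coe, conj_val, smul_smul, inv_mul_cancel₀ (Units.ne_zero _),
      one_smul]]
  rw [Finset.sum_const, Finset.card_univ, ← Nat.card_eq_fintype_card, ← Nat.cast_smul_eq_nsmul ℂ,
    smul_smul, inv_mul_cancel₀ (H4.card_ne_zero A), one_smul]

theorem pr_apply (l : A →* ℂˣ) {w : V} (h : ∀ a ∈ A, ρ a w = (ap l a).val • w) : pr ρ l w = w := by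
  simp only [pr]
  rw [LinearMap.smul_apply, LinearMap.sum_apply, Finset.sum_congr rfl (g := fun _ => w) fun a _ => by
    rw [LinearMap.smul_apply, h a a.2, ap_coe, conj_val, smul_smul,
      inv_mul_cancel₀ (Units.ne_zero _), one_smul]]
  rw [Finset.sum_const, Finset.card_univ, ← Nat.card_eq_fintype_card, ← Nat.cast_smul_eq_nsmul ℂ,
    smul_smul, inv_mul_cancel₀ (H4.card_ne_zero A), one_smul]

theorem res_pr (l : A →* ℂˣ) (h : B ≤ A) : pr ρ (res l h) * pr ρ l = pr ρ l :=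
  pr_mul_eq ρ _ fun a ha => by rw [mul_pr ρ l (h ha), ap_res _ _ ha]

theorem pr_idem (l : A →* ℂˣ) : IsIdempotentElem (pr ρ l) :=
  pr_mul_eq ρ _ fun _ ha => mul_pr ρ l ha

theorem trace_idem {e : End ℂ V} (h : IsIdempotentElem e) :
    LinearMap.trace ℂ V e = finrank ℂ (LinearMap.range e) :=
  (LinearMap.IsIdempotentElem.isProj_range e h).trace

theorem tr_eq_finrank (l : A →* ℂˣ) :
    tr ρ.character l 1 = finrank ℂ (LinearMap.range (pr ρ l)) := by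
  rw [← trace_pr, map_one, mul_one, trace_idem (pr_idem ρ l)]

theorem tr_ne_zero_iff (l : A →* ℂˣ) : tr ρ.character l 1 ≠ 0 ↔ pr ρ l ≠ 0 := by
  rw [tr_eq_finrank, Ne, Nat.cast_eq_zero, Submodule.finrank_eq_zero, LinearMap.range_eq_bot]

end proj

theorem tr_mono (hf : IsCharacter G f) (l : A →* ℂˣ) (h : B ≤ A) {m n : ℕ} (hm : tr f l 1 = m)
    (hn : tr f (res l h) 1 = n) : m ≤ n := by
  obtain ⟨k, ρ, rfl⟩ := hf
  rw [tr_eq_finrank] at hm hn
  rw [← Nat.cast_injective hm, ← Nat.cast_injective hn]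
  refine Submodule.finrank_mono ?_
  conv_lhs => rw [← res_pr ρ l h]
  exact LinearMap.range_comp_le_range _ _

/-- an occurring character extends to an occurring character -/
theorem exists_ext (hf : IsCharacter G f) (hB : B ≤ A) {l₀ : B →* ℂˣ} (hst : A ≤ stab l₀)
    (hc : ∀ a ∈ A, ∀ b ∈ A, ⁅a, b⁆ ∈ B ∧ ap l₀ ⁅a, b⁆ = 1) (h0 : tr f l₀ 1 ≠ 0) :
    ∃ l : A →* ℂˣ, (∀ b ∈ B, ap l b = ap l₀ b) ∧ tr f l 1 ≠ 0 := by
  obtain ⟨k, ρ, rfl⟩ := hf
  rw [tr_ne_zero_iff] at h0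
  set Y := LinearMap.range (pr ρ l₀) with hY
  have hinv : ∀ g : A, ∀ w ∈ Y, (MonoidHom.comp ρ A.subtype) g w ∈ Y := by
    rintro g _ ⟨v, rfl⟩
    exact ⟨ρ g v, (LinearMap.congr_fun (pr_comm ρ (hst g.2)) v).symm⟩
  have hb : ∀ b ∈ B, ∀ w ∈ Y, ρ b w = (ap l₀ b).val • w := by
    rintro b hb _ ⟨v, rfl⟩
    exact LinearMap.congr_fun (mul_pr ρ l₀ hb) v
  have : Nontrivial Y := Submodule.nontrivial_iff_ne_bot.2 (by rwa [Ne, LinearMap.range_eq_bot])
  obtain ⟨w, -, w0, l, hl⟩ := H1.HH.exists_wt (H1.HH.resRep (MonoidHom.comp ρ A.subtype) Y hinv)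
    (W := ⊤) top_ne_bot fun _ _ _ => trivial
  have w0' : (w : Fin k → ℂ) ≠ 0 := fun e => w0 (Subtype.ext e)
  have hw : ∀ z : A, ρ z w = l z • (w : Fin k → ℂ) := fun z =>
    congrArg Subtype.val (hl z fun g => LinearMap.ext fun v => Subtype.ext (by
      change ρ g (ρ z v) = ρ z (ρ g v)
      obtain ⟨h1, h2⟩ := hc g g.2 z z.2
      have h3 := hb _ h1 _ (hinv z _ (hinv g _ v.2))
      rw [h2, Units.val_one, one_smul] at h3
      change ρ _ (ρ z (ρ g v)) = ρ z (ρ g v) at h3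
      rw [← h3, ← End.mul_apply, ← End.mul_apply (ρ _), ← End.mul_apply (ρ _ * _), ← map_mul,
        ← map_mul, ← map_mul]
      congr 2; rw [commutatorElement_def]; group))
  have inj := smul_left_injective ℂ w0'
  let l' : A →* ℂ :=
    { toFun := l
      map_one' := inj (by simpa using (hw 1).symm)
      map_mul' := fun a b => inj (by
        change l (a * b) • _ = (l a * l b) • _
        rw [← hw, coe_mul, map_mul, End.mul_apply, hw, map_smul, hw, smul_smul, mul_comm]) }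
  have e : ∀ a ∈ A, ρ a w = (ap l'.toHomUnits a).val • (w : Fin k → ℂ) := fun a ha => by
    rw [ap_of_mem _ ha]; exact hw ⟨a, ha⟩
  refine ⟨l'.toHomUnits, fun b h => Units.ext (inj ((e b (hB h)).symm.trans (hb b h _ w.2))), ?_⟩
  rw [tr_ne_zero_iff]
  intro h
  exact w0' (by rw [← pr_apply ρ _ e, h, LinearMap.zero_apply])

theorem exists_ne (hf : IsCharacter G f) (hA : Abl A) (ha : a ∈ A) (h : f a ≠ f 1) :
    ∃ l : A →* ℂˣ, ap l a ≠ 1 ∧ tr f l 1 ≠ 0 := by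
  obtain ⟨l₀, h1, h2⟩ := exists_ne_one hf (abl_zpowers a) (mem_zpowers a) h
  obtain ⟨l, h3, h4⟩ := exists_ext hf (zpowers_le.2 ha) (l₀ := l₀)
    (fun g hg => ⟨hA.norm le_rfl (zpowers_le.2 ha) hg, fun b hb => by
      rw [hA.comm hg (zpowers_le.2 ha hb), mul_inv_cancel_right]⟩)
    (fun b hb c hc => by
      rw [commutatorElement_eq_one_iff_mul_comm.2 (hA.comm hb hc)]; exact ⟨one_mem _, ap_one _⟩) h2
  refine ⟨l, fun e => h1 (hom_ext ?_), h4⟩
  rintro _ ⟨k, rfl⟩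
  rw [h3 a (mem_zpowers a)] at e
  simp only [ap_one_hom, ap_zpow _ (mem_zpowers a), e, one_zpow]

/-- the degree bound on the range of an idempotent -/
theorem key' {V : Type*} [AddCommGroup V] [Module ℂ V] [FiniteDimensional ℂ V]
    (ρ : Representation ℂ G V) {P : Subgroup G} {p k n : ℕ} {y : G} (hp : p.Prime) (h2 : p ≠ 2)
    (hP : IsPi {p} P) (hy : y ∈ N[P])
    (hk : ∀ j : ℕ, ¬ k ∣ j → ∀ x ∈ P, y ^ j * x * (y ^ j)⁻¹ * x⁻¹ ∈ Phi P → x ∈ Phi P)
    {e : End ℂ V} (he : IsIdempotentElem e) (hn : LinearMap.trace ℂ V e = n)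
    (c1 : ∀ x ∈ P, ρ x * e = e * ρ x) (c2 : ρ y * e = e * ρ y) (hne : ∃ x ∈ P, ρ x * e ≠ e) :
    3 * k ≤ 4 * n ∧ (Odd k → k ≤ n) := by
  rw [trace_idem he] at hn
  rw [← Nat.cast_injective hn]
  set Y := LinearMap.range e with hY
  have inv : ∀ g, ρ g * e = e * ρ g → ∀ w ∈ Y, ρ g w ∈ Y := by
    rintro g hg _ ⟨v, rfl⟩
    exact ⟨ρ g v, (LinearMap.congr_fun hg v).symm⟩
  let σ : MulAut P := P.normalizerMonoidHom ⟨y, hy⟩
  have hσ : ∀ (j : ℕ) (x : P), ((σ ^ j) x : G) = y ^ j * x * (y ^ j)⁻¹ := fun j x => by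
    rw [← map_pow]; rfl
  have mΦ : ∀ {x : P}, x ∈ frattini P ↔ x.1 ∈ Phi P := by simp [Phi]
  refine H1.HH.key (ρ := H1.HH.resRep (MonoidHom.comp ρ P.subtype) Y fun g => inv g (c1 g g.2))
    (σ := σ) (c := (ρ y).restrict (inv y c2)) hp h2 ((isPi_iff_isPGroup hp).1 hP) ?_
    (fun x => LinearMap.ext fun v => Subtype.ext ?_) (fun j hj N hN => ?_) ?_
  · refine (LinearMap.isUnit_iff_ker_eq_bot _).2 (LinearMap.ker_eq_bot.2 fun v w h => Subtype.ext ?_)
    exact LinearMap.ker_eq_bot.1 ((LinearMap.isUnit_iff_ker_eq_bot _).1 ((Group.isUnit y).map ρ))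
      (congrArg Subtype.val h)
  · change ρ (σ x) (ρ y v) = ρ y (ρ x v)
    rw [← End.mul_apply, ← End.mul_apply, ← map_mul, ← map_mul,
      show ((σ x : P) : G) = y * x * y⁻¹ from rfl, inv_mul_cancel_right]
  · refine frattini_nongenerating ((H1.HH.fpf_iff (σ ^ j) (frattini P)
      (fun a b => mΦ.2 (hP.der1_le_Phi hp (commutator_mem_commutator a.2 b.2)))
      fun a ha => mΦ.2 ?_).1 (fun x hx => mΦ.2 (hk j hj x x.2 (by rw [← hσ]; exact mΦ.1 hx))) _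
      le_sup_right fun x => mem_sup_left (hN x))
    rw [hσ]
    exact conj_mem (pow_mem (norm_Phi (zpowers_le.2 hy) (mem_zpowers y)) j) (mΦ.1 ha)
  · obtain ⟨x, hx, h⟩ := hne
    refine ⟨⟨x, hx⟩, fun e0 => h (LinearMap.ext fun v => ?_)⟩
    exact congrArg Subtype.val (LinearMap.congr_fun e0 ⟨e v, v, rfl⟩)

end H20.QK
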