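import Mathlib
import Cfsg.Agent.H20.QK0

/-! Sections which are sums of natural `SL₂(F)`-modules, and their linear characters. -/

set_option autoImplicit false
set_option linter.unusedSectionVars false

namespace H20.QK

open H24 Cfsg Subgroup H4 H23.WR Module
open scoped Classical commutatorElement MatrixGroups

section lin
variable {F : Type} [Field F]

theorem exists_row {x y : F} (h : (x, y) ≠ 0) : ∃ x' y', x * y' - y * x' = 1 := by
  by_cases hx : x = 0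
  · have hy : y ≠ 0 := fun e => h (by rw [hx, e]; rfl)
    exact ⟨-y⁻¹, 0, by field_simp; ring⟩
  · exact ⟨0, x⁻¹, by field_simp; ring⟩

theorem row_trans {x y u v : F} (h : (x, y) ≠ 0) (h' : (u, v) ≠ 0) :
    ∃ a b c d : F, a * d - b * c = 1 ∧ a * x + c * y = u ∧ b * x + d * y = v := by
  obtain ⟨x', y', e⟩ := exists_row h
  obtain ⟨u', v', e'⟩ := exists_row h'
  refine ⟨y' * u - y * u', y' * v - y * v', x * u' - x' * u, x * v' - x' * v, ?_, ?_, ?_⟩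
  · linear_combination (u * v' - v * u') * e + e'
  · linear_combination u * e
  · linear_combination v * e

theorem sl_det (g : SL(2, F)) : g 0 0 * g 1 1 - g 0 1 * g 1 0 = 1 :=
  (Matrix.det_fin_two _).symm.trans g.det_coe

/-- an element of trace two is unipotent -/
theorem pow_char_of_trace {p : ℕ} (hp : (p : F) = 0) {g : SL(2, F)} (h : g 0 0 + g 1 1 = 2) :
    g ^ p = 1 := by
  have hd := sl_det g
  have e : ∀ n : ℕ, ((g ^ n : SL(2, F)) : Matrix (Fin 2) (Fin 2) F) =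
      1 + (n : F) • ((g : Matrix (Fin 2) (Fin 2) F) - 1) := fun n => by
    induction n with
    | zero => simp
    | succ n ih =>
      rw [pow_succ, Matrix.SpecialLinearGroup.coe_mul, ih]
      ext i j
      fin_cases i <;> fin_cases j <;> simp [Matrix.mul_apply, Fin.sum_univ_two]
      · linear_combination (n * g 0 0) * h - n * hd
      · linear_combination (n * g 0 1) * h
      · linear_combination (n * g 1 0) * h
      · linear_combination (n * g 1 1) * h - n * hd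
  exact Subtype.ext (by rw [e, hp, zero_smul, add_zero]; rfl)

variable [Finite F]

/-- a primitive additive character -/
noncomputable def ψ₀ (F : Type) [Field F] [Finite F] : AddChar F ℂ :=
  AddChar.FiniteField.primitiveChar_to_Complex F

theorem ψ₀_sep {u v : F} (h : ∀ a, ψ₀ F (u * a) = ψ₀ F (v * a)) : u = v :=
  AddChar.to_mulShift_inj_of_isPrimitive (AddChar.FiniteField.primitiveChar_to_Complex_isPrimitive F)
    (DFunLike.ext _ _ h)

theorem ψ₀_sep' {u v : F × F}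
    (h : ∀ a b, ψ₀ F (u.1 * a + u.2 * b) = ψ₀ F (v.1 * a + v.2 * b)) : u = v :=
  Prod.ext (ψ₀_sep fun a => by simpa using h a 0) (ψ₀_sep fun a => by simpa using h 0 a)

theorem exists_shift (η : AddChar F ℂ) : ∃ u, ∀ a, η a = ψ₀ F (u * a) := by
  have := Fintype.ofFinite F
  obtain ⟨u, hu⟩ := ((Fintype.bijective_iff_injective_and_card _).2
    ⟨AddChar.to_mulShift_inj_of_isPrimitive
      (AddChar.FiniteField.primitiveChar_to_Complex_isPrimitive F), AddChar.card_eq.symm⟩).2 η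
  exact ⟨u, fun a => by rw [← hu]; rfl⟩

variable {W : Type*} [AddCommGroup W] [Module F W]

theorem exists_dual (η : AddChar W ℂ) : ∃ α : W →ₗ[F] F, ∀ w, η w = ψ₀ F (α w) := by
  choose α hα using fun w : W => exists_shift (F := F)
    (η.compAddMonoidHom (LinearMap.toSpanSingleton F W w).toAddMonoidHom)
  have h : ∀ w (a : F), η (a • w) = ψ₀ F (α w * a) := fun w a => hα w a
  refine ⟨⟨⟨α, fun v w => ψ₀_sep fun a => ?_⟩, fun r w => ψ₀_sep fun a => ?_⟩, fun w => ?_⟩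
  · rw [← h, smul_add, η.map_add_eq_mul, h, h, add_mul, AddChar.map_add_eq_mul]
  · rw [← h, smul_smul, h]; congr 1; simp; ring
  · simpa using h w 1

theorem card_ne : Nat.card {u : F × F // u ≠ 0} = Nat.card F ^ 2 - 1 := by
  have := Fintype.ofFinite F
  simp [Nat.card_eq_fintype_card, sq]

end lin

variable {G : Type*} [Group G] [Fintype G] {F : Type} [Field F] [Finite F] {W : Type*}
  [AddCommGroup W] [Module F W]

/-- `P / K ≅ W × W` is a sum of natural modules for `J` -/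
structure NS (lam : G → SL(2, F)) (J P K : Subgroup G) (φ : G → W × W) : Prop where
  norm : J ≤ N[P]
  le : K ≤ P
  add : ∀ x ∈ P, ∀ y ∈ P, φ (x * y) = φ x + φ y
  ker : ∀ x ∈ P, φ x = 0 ↔ x ∈ K
  surj : ∀ v, ∃ x ∈ P, φ x = v
  conj : ∀ j ∈ J, ∀ x ∈ P, φ (j * x * j⁻¹) = (lam j 0 0 • (φ x).1 + lam j 0 1 • (φ x).2,
    lam j 1 0 • (φ x).1 + lam j 1 1 • (φ x).2)
  lam_surj : ∀ g, ∃ j ∈ J, lam j = g

namespace NS

variable {lam : G → SL(2, F)} {J P K A : Subgroup G} {φ : G → W × W} (h : NS lam J P K φ)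
  {x y : G}
include h

theorem one : φ 1 = 0 := (h.ker 1 (one_mem _)).2 (one_mem _)

theorem inv (hx : x ∈ P) : φ x⁻¹ = -φ x :=
  eq_neg_of_add_eq_zero_left (by rw [← h.add _ (inv_mem hx) _ hx, inv_mul_cancel, h.one])

theorem eq_iff (hx : x ∈ P) (hy : y ∈ P) : φ x = φ y ↔ x * y⁻¹ ∈ K := by
  rw [← h.ker _ (mul_mem hx (inv_mem hy)), h.add _ hx _ (inv_mem hy), h.inv hy, add_neg_eq_zero]

theorem ex {a b c d : F} (e : a * d - b * c = 1) : ∃ j ∈ J, ∀ x ∈ P,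
    φ (j * x * j⁻¹) = (a • (φ x).1 + b • (φ x).2, c • (φ x).1 + d • (φ x).2) := by
  obtain ⟨j, hj, e'⟩ := h.lam_surj ⟨!![a, b; c, d], by rw [Matrix.det_fin_two_of]; exact e⟩
  exact ⟨j, hj, fun x hx => by rw [h.conj j hj x hx, e']; rfl⟩

/-- invariant subgroups -/
theorem exists_sub (h1 : K ≤ A) (h2 : A ≤ P) (h3 : J ≤ N[A]) :
    ∃ W₁ : Submodule F W, ∀ x ∈ P, x ∈ A ↔ (φ x).1 ∈ W₁ ∧ (φ x).2 ∈ W₁ := by
  have k1 : ∀ (a : F), ∀ x ∈ A, ∃ y ∈ A, φ y = (a • (φ x).2, 0) := fun a x hx => by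
    obtain ⟨j, hj, e⟩ := h.ex (a := 1) (b := a) (c := 0) (d := 1) (by ring)
    have := conj_mem (h3 hj) hx
    refine ⟨_, mul_mem this (inv_mem hx), ?_⟩
    rw [h.add _ (h2 this) _ (inv_mem (h2 hx)), e x (h2 hx), h.inv (h2 hx)]
    ext <;> simp
  have k2 : ∀ x ∈ A, ∃ y ∈ A, φ y = (-(φ x).2, (φ x).1) := fun x hx => by
    obtain ⟨j, hj, e⟩ := h.ex (a := 0) (b := -1) (c := 1) (d := 0) (by ring)
    exact ⟨_, conj_mem (h3 hj) hx, by rw [e x (h2 hx)]; simp⟩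
  refine ⟨⟨⟨⟨{w | ∃ x ∈ A, φ x = (w, 0)}, ?_⟩, 1, one_mem _, h.one⟩, ?_⟩, fun x hx => ⟨fun hA => ⟨?_, ?_⟩, ?_⟩⟩
  · rintro v w ⟨x, hx, e⟩ ⟨y, hy, e'⟩
    exact ⟨_, mul_mem hx hy, by rw [h.add _ (h2 hx) _ (h2 hy), e, e']; simp⟩
  · rintro a w ⟨x, hx, e⟩
    obtain ⟨y, hy, e1⟩ := k2 x hx
    obtain ⟨z, hz, e2⟩ := k1 a y hy
    exact ⟨z, hz, by rw [e2, e1, e]⟩
  · obtain ⟨y, hy, e1⟩ := k2 x hA
    obtain ⟨z, hz, e2⟩ := k1 1 y hy
    exact ⟨z, hz, by rw [e2, e1, one_smul]⟩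
  · obtain ⟨z, hz, e2⟩ := k1 1 x hA
    exact ⟨z, hz, by rw [e2, one_smul]⟩
  · rintro ⟨⟨y, hy, e1⟩, z, hz, e2⟩
    obtain ⟨w, hw, e3⟩ := k2 z hz
    have := h1 ((h.eq_iff hx (h2 (mul_mem hy hw))).1 (by
      rw [h.add _ (h2 hy) _ (h2 hw), e1, e3, e2]; simp))
    exact (A.mul_mem_cancel_right (inv_mem (mul_mem hy hw))).1 this

theorem quot {W₁ : Submodule F W} (h2 : A ≤ P)
    (hW : ∀ x ∈ P, x ∈ A ↔ (φ x).1 ∈ W₁ ∧ (φ x).2 ∈ W₁) :
    NS lam J P A fun x => (W₁.mkQ (φ x).1, W₁.mkQ (φ x).2) where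
  norm := h.norm
  le := h2
  add x hx y hy := by simp [h.add x hx y hy]
  ker x hx := by simp [hW x hx]
  surj v := by
    obtain ⟨a, ha⟩ := W₁.mkQ_surjective v.1
    obtain ⟨b, hb⟩ := W₁.mkQ_surjective v.2
    obtain ⟨x, hx, e⟩ := h.surj (a, b)
    exact ⟨x, hx, by rw [e, ha, hb]⟩
  conj j hj x hx := by simp [h.conj j hj x hx]
  lam_surj := h.lam_surj

theorem sub {W₁ : Submodule F W} (h1 : K ≤ A) (h2 : A ≤ P) (h3 : J ≤ N[A])
    (hW : ∀ x ∈ P, x ∈ A ↔ (φ x).1 ∈ W₁ ∧ (φ x).2 ∈ W₁) :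
    ∃ φ' : G → W₁ × W₁, NS lam J A K φ' := by
  let φ' : G → W₁ × W₁ := fun x =>
    if hx : x ∈ A then (⟨_, ((hW x (h2 hx)).1 hx).1⟩, ⟨_, ((hW x (h2 hx)).1 hx).2⟩) else 0
  have e : ∀ x ∈ A, ((φ' x).1 : W) = (φ x).1 ∧ ((φ' x).2 : W) = (φ x).2 := fun x hx => by
    simp [φ', hx]
  have ext : ∀ {v w : W₁ × W₁}, (v.1 : W) = w.1 → (v.2 : W) = w.2 → v = w := fun a b =>
    Prod.ext (Subtype.ext a) (Subtype.ext b)
  refine ⟨φ', h3, h1, fun x hx y hy => ?_, fun x hx => ?_, fun v => ?_, fun j hj x hx => ?_,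
    h.lam_surj⟩
  · refine ext ?_ ?_ <;> simp [e _ hx, e _ hy, e _ (mul_mem hx hy), h.add x (h2 hx) y (h2 hy)]
  · rw [← h.ker x (h2 hx), Prod.ext_iff, Prod.ext_iff, Subtype.ext_iff, Subtype.ext_iff, (e x hx).1,
      (e x hx).2]; rfl
  · obtain ⟨x, hx, e'⟩ := h.surj (v.1, v.2)
    have hA : x ∈ A := (hW x hx).2 (by rw [e']; exact ⟨v.1.2, v.2.2⟩)
    exact ⟨x, hA, ext (by rw [(e x hA).1, e']) (by rw [(e x hA).2, e'])⟩
  · refine ext ?_ ?_ <;> simp [e _ hx, e _ (conj_mem (h3 hj) hx), h.conj j hj x (h2 hx)]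

/-- restriction to a supplement of the kernel -/
theorem res (h2 : A ≤ P) (h3 : J ≤ N[A]) (h4 : ∀ x ∈ P, ∃ a ∈ A, x * a⁻¹ ∈ K) :
    NS lam J A (A ⊓ K) φ where
  norm := h3
  le := inf_le_left
  add x hx y hy := h.add x (h2 hx) y (h2 hy)
  ker x hx := by rw [h.ker x (h2 hx), mem_inf]; exact ⟨fun e => ⟨hx, e⟩, fun e => e.2⟩
  surj v := by
    obtain ⟨x, hx, e⟩ := h.surj v
    obtain ⟨a, ha, e'⟩ := h4 x hx
    exact ⟨a, ha, ((h.eq_iff hx (h2 ha)).2 e').symm.trans e⟩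
  conj j hj x hx := h.conj j hj x (h2 hx)
  lam_surj := h.lam_surj

theorem coord (μ : P →* ℂˣ) (hK : ∀ x ∈ K, ap μ x = 1) : ∃ α β : W →ₗ[F] F,
    ∀ x ∈ P, (ap μ x).val = ψ₀ F (α (φ x).1 + β (φ x).2) := by
  choose σ h1 h2 using h.surj
  have e : ∀ x ∈ P, ap μ (σ (φ x)) = ap μ x := fun x hx => by
    have := hK _ ((h.eq_iff (h1 (φ x)) hx).1 (h2 _))
    rwa [ap_mul _ (h1 _) (inv_mem hx), ap_inv _ hx, mul_inv_eq_one] at this
  let η : AddChar (W × W) ℂ :=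
    { toFun := fun v => (ap μ (σ v)).val
      map_zero_eq_one' := by rw [← h.one, e 1 (one_mem _), ap_one]; rfl
      map_add_eq_mul' := fun v w => by
        rw [← Units.val_mul, ← ap_mul _ (h1 v) (h1 w), ← e _ (mul_mem (h1 v) (h1 w)),
          h.add _ (h1 v) _ (h1 w), h2, h2] }
  obtain ⟨γ, hγ⟩ := exists_dual (F := F) η
  refine ⟨γ ∘ₗ LinearMap.inl F W W, γ ∘ₗ LinearMap.inr F W W, fun x hx => ?_⟩
  rw [← e x hx]
  refine (hγ (φ x)).trans ?_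
  simp [← map_add]

theorem fam {μ : P →* ℂˣ} {α β : W →ₗ[F] F}
    (hμ : ∀ x ∈ P, (ap μ x).val = ψ₀ F (α (φ x).1 + β (φ x).2)) {ι : Type} [Finite ι]
    (a b c d : ι → F) (hd : ∀ i, a i * d i - b i * c i = 1)
    (inj : ∀ i k, (∀ w, (a i * α w + c i * β w, b i * α w + d i * β w) =
      (a k * α w + c k * β w, b k * α w + d k * β w)) → i = k) :
    Nat.card ι ≤ (orb J μ).ncard := by
  choose j hj e using fun i => h.ex (hd i)
  have e' : ∀ i, ∀ x ∈ P, ∀ (w : W) (s r : F), φ x = (s • w, r • w) →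
      (ap (cjc μ ⟨j i, h.norm (hj i)⟩) x).val =
        ψ₀ F ((a i * α w + c i * β w) * s + (b i * α w + d i * β w) * r) := fun i x hx w s r e0 => by
    rw [ap_cjc _ _ hx, hμ _ (conj_mem (h.norm (hj i)) hx), e i x hx, e0]
    congr 1; simp; ring
  rw [← Nat.card_coe_set_eq]
  refine Nat.card_le_card_of_injective
    (fun i => (⟨_, cjc_mem_orb μ (hj i) (h.norm (hj i))⟩ : orb J μ)) fun i k e0 => ?_
  refine inj i k fun w => ψ₀_sep' fun s r => ?_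
  obtain ⟨x, hx, e1⟩ := h.surj (s • w, r • w)
  have e2 : cjc μ ⟨j i, h.norm (hj i)⟩ = cjc μ ⟨j k, h.norm (hj k)⟩ := congrArg Subtype.val e0
  rw [← e' i x hx w s r e1, ← e' k x hx w s r e1, e2]

theorem ol' {μ : P →* ℂˣ} (hK : ∀ x ∈ K, ap μ x = 1) (h1 : μ ≠ 1) :
    Nat.card F ^ 2 - 1 ≤ (orb J μ).ncard := by
  obtain ⟨α, β, hμ⟩ := h.coord μ hK
  obtain ⟨w, hw⟩ : ∃ w, (α w, β w) ≠ 0 := by
    by_contra! h0
    refine h1 (hom_ext fun x hx => Units.ext ?_)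
    have a1 : ∀ w, α w = 0 := fun w => congrArg Prod.fst (h0 w)
    have a2 : ∀ w, β w = 0 := fun w => congrArg Prod.snd (h0 w)
    rw [hμ x hx, a1, a2, ap_one_hom]; simp
  choose a b c d e1 e2 e3 using fun u : {u : F × F // u ≠ 0} => row_trans hw u.2
  rw [← card_ne]
  exact h.fam hμ a b c d e1 fun i k e => Subtype.ext (by simpa only [e2, e3] using e w)

/-- a nontrivial character has at least `q² - 1` conjugates -/
theorem ol (h1 : K ≤ A) (h2 : A ≤ P) (h3 : J ≤ N[A]) {μ : A →* ℂˣ} (hK : ∀ x ∈ K, ap μ x = 1)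
    (h4 : μ ≠ 1) : Nat.card F ^ 2 - 1 ≤ (orb J μ).ncard := by
  obtain ⟨W₁, hW⟩ := h.exists_sub h1 h2 h3
  obtain ⟨φ', h'⟩ := h.sub h1 h2 h3 hW
  exact h'.ol' hK h4

/-- a small orbit factors through one functional -/
theorem dep {μ : P →* ℂˣ} (hK : ∀ x ∈ K, ap μ x = 1)
    (hlt : (orb J μ).ncard < 2 * (Nat.card F ^ 2 - 1)) : ∃ γ : W →ₗ[F] F,
    ∀ μ' ∈ orb J μ, ∀ x ∈ P, γ (φ x).1 = 0 → γ (φ x).2 = 0 → ap μ' x = 1 := by
  obtain ⟨α, β, hμ⟩ := h.coord μ hK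
  obtain ⟨s, r, hsr, e0⟩ : ∃ s r : F, (s, r) ≠ 0 ∧ ∀ w, s * α w + r * β w = 0 := by
    by_contra! h0
    have h1 : ∀ s r : F, (∀ w, s * α w + r * β w = 0) → s = 0 ∧ r = 0 := fun s r e => by
      by_contra e'
      obtain ⟨w, hw⟩ := h0 s r fun e'' => e' (Prod.ext_iff.1 e'')
      exact hw (e w)
    choose c d e using fun u : {u : F × F // u ≠ 0} => exists_row (x := u.1.1) (y := u.1.2) u.2
    have := h.fam hμ (ι := {u : F × F // u ≠ 0} × F) (fun i => i.1.1.1) (fun i => i.1.1.2)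
      (fun i => c i.1 + i.2 * i.1.1.1) (fun i => d i.1 + i.2 * i.1.1.2)
      (fun i => by linear_combination e i.1) (by
        rintro ⟨u, i⟩ ⟨v, k⟩ e1
        obtain ⟨a1, a2⟩ := h1 (u.1.1 - v.1.1) (c u + i * u.1.1 - (c v + k * v.1.1)) fun w => by
          linear_combination congrArg Prod.fst (e1 w)
        obtain ⟨a3, a4⟩ := h1 (u.1.2 - v.1.2) (d u + i * u.1.2 - (d v + k * v.1.2)) fun w => by
          linear_combination congrArg Prod.snd (e1 w)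
        obtain rfl : u = v := Subtype.ext (Prod.ext (sub_eq_zero.1 a1) (sub_eq_zero.1 a3))
        have : i = k := by linear_combination (i - k) * (e u).symm + d u * a2 - c u * a4
        rw [this])
    rw [Nat.card_prod, card_ne] at this
    have h2 : 2 ≤ Nat.card F := Finite.one_lt_card
    have := (Nat.mul_le_mul_left _ h2).trans this
    omega
  obtain ⟨γ, hγ⟩ : ∃ γ : W →ₗ[F] F, ∀ w, γ w = 0 → α w = 0 ∧ β w = 0 := by
    by_cases hr : r = 0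
    · have hs : s ≠ 0 := fun e => hsr (by rw [hr, e]; rfl)
      exact ⟨β, fun w e => ⟨by simpa [hr, hs] using e0 w, e⟩⟩
    · exact ⟨α, fun w e => ⟨e, by simpa [hr, e] using e0 w⟩⟩
  refine ⟨γ, ?_⟩
  rintro μ' ⟨j, hj, e⟩ x hx e1 e2
  refine Units.ext ?_
  rw [e x hx, hμ _ (conj_mem (h.norm hj) hx), h.conj j hj x hx]
  simp [hγ _ e1, hγ _ e2]

theorem trans {γ : W →ₗ[F] F} (hγ : ∀ w, γ w = 0 → w = 0) (hx : x ∈ P) (hy : y ∈ P) (h1 : x ∉ K)
    (h2 : y ∉ K) : ∃ j ∈ J, j * x * j⁻¹ * y⁻¹ ∈ K := by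
  have k : ∀ z ∈ P, z ∉ K → (γ (φ z).1, γ (φ z).2) ≠ 0 := fun z hz h3 e =>
    h3 ((h.ker z hz).1 (Prod.ext (hγ _ (Prod.ext_iff.1 e).1) (hγ _ (Prod.ext_iff.1 e).2)))
  obtain ⟨a, b, c, d, e, e1, e2⟩ := row_trans (k x hx h1) (k y hy h2)
  obtain ⟨j, hj, e3⟩ := h.ex (a := a) (b := c) (c := b) (d := d) (by linear_combination e)
  refine ⟨j, hj, (h.eq_iff (conj_mem (h.norm hj) hx) hy).1 ?_⟩
  rw [e3 x hx]
  exact Prod.ext (sub_eq_zero.1 (hγ _ (by simp [e1]))) (sub_eq_zero.1 (hγ _ (by simp [e2])))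

theorem fpf {j : G} (hj : j ∈ J) (ht : lam j 0 0 + lam j 1 1 ≠ 2) (hx : x ∈ P)
    (e : φ (j * x * j⁻¹) = φ x) : x ∈ K := by
  rw [h.conj j hj x hx, Prod.ext_iff] at e
  obtain ⟨e1, e2⟩ := e
  have hd := sl_det (lam j)
  have h0 : 2 - lam j 0 0 - lam j 1 1 ≠ 0 := fun e => ht (by linear_combination -e)
  refine (h.ker x hx).1 (Prod.ext ((smul_eq_zero_iff_right h0).1 ?_) ((smul_eq_zero_iff_right h0).1 ?_))
  · linear_combination (norm := module) (lam j 1 1 - 1) • e1 - lam j 0 1 • e2 - hd • (φ x).1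
  · linear_combination (norm := module) (lam j 0 0 - 1) • e2 - lam j 1 0 • e1 - hd • (φ x).2

end NS

end H20.QK
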