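import Mathlib
import Cfsg.Agent.H20.QK1
import Cfsg.Agent.H13.DihMC

/-! A faithful real character of small degree restricted to a section inverted by an involution. -/

set_option autoImplicit false
set_option linter.unusedSectionVars false

namespace H20.QK

open H24 Cfsg Subgroup H4 H23.WR Module
open H13.Dih (Inv odd_orderOf sq_of)
open scoped Classical commutatorElement MatrixGroups ComplexConjugate

variable {G : Type*} [Group G] [Fintype G]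

theorem tr_cst {A : Subgroup G} {f : G → ℂ} {μ : A →* ℂˣ} (hμ : μ ≠ 1) {c : ℂ}
    (h : ∀ a ∈ A, a ≠ 1 → f a = c) : tr f μ 1 = (♯A : ℂ)⁻¹ * (f 1 - c) := by
  have e1 := tr_const μ 1
  rw [if_neg hμ] at e1
  simp only [tr, one_mul, mul_eq_zero, inv_eq_zero, H4.card_ne_zero, false_or] at e1
  have e2 : ∑ a : A, (f a - c) * conj (μ a : ℂ) = f 1 - c := by
    rw [Finset.sum_eq_single 1 (fun b _ hb => by
      rw [h b b.2 (by simpa using hb), sub_self, zero_mul]) (by simp)]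
    simp
  simp only [tr, mul_one]
  rw [← e2]
  simp only [sub_mul, Finset.sum_sub_distrib, ← Finset.mul_sum, e1, mul_zero, sub_zero]

/-- the setting -/
structure ST (χ : G → ℂ) (f q : ℕ) (t : G) (J P R : Subgroup G) : Prop where
  chr : IsCharacter G χ
  deg : χ 1 = f
  le : f + q + 1 ≤ 2 * q ^ 2
  q5 : 5 ≤ q
  real : ∀ g, χ g⁻¹ = χ g
  faith : ∀ g, χ g = χ 1 → g = 1
  ht : orderOf t = 2
  val : χ t = q ∨ χ t = -q
  inv : ∀ r ∈ R, χ (r * t) = χ t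
  odd : Odd ♯P
  RP : R ≤ P
  cen : R ≤ C[P]
  JR : J ≤ C[R]
  JP : J ≤ N[P]
  tJ : t ∈ J
  Jt : J ≤ C{t}
  fix : P ⊓ C{t} ≤ R

namespace ST

variable {χ : G → ℂ} {f q : ℕ} {t x y z r : G} {J P R A : Subgroup G} (h : ST χ f q t J P R)
include h

theorem tP : t ∈ N[P] := h.JP h.tJ

theorem lt : f < 2 * (q ^ 2 - 1) := by have := h.le; have := h.q5; omega

theorem cm (hr : r ∈ R) (hx : x ∈ P) : x * r = r * x := mem_C.1 (h.cen hr) x hx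

theorem cj (hr : r ∈ R) (hx : x ∈ J) : x * r * x⁻¹ = r := conj_eq_of_mem_C (h.JR hx) hr

theorem cp (hr : r ∈ R) (hx : x ∈ P) : x * r * x⁻¹ = r := by rw [h.cm hr hx, mul_inv_cancel_right]

theorem oddP (hx : x ∈ P) : Odd (orderOf x) := odd_orderOf h.odd hx

theorem ablR : Abl R := abl_iff.2 fun _ hr => mem_C.2 fun _ hx => h.cm hr (h.RP hx)

theorem dec (hx : x ∈ P) : ∃ c ∈ R, ∃ z ∈ P, t * z * t⁻¹ = z⁻¹ ∧ x = c * z := by
  obtain ⟨c, hc, z, hz, e⟩ := H13.Dih.decomp h.odd (sq_of h.ht) h.tP hx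
  exact ⟨c, h.fix hc, z, hz, e⟩

theorem nt (hx : x ∈ P) : x * (t * x * t⁻¹) ∈ R := by
  obtain ⟨c, hc, z, hz, e, rfl⟩ := h.dec hx
  rw [show t * (c * z) * t⁻¹ = t * c * t⁻¹ * (t * z * t⁻¹) by group, e, h.cj hc h.tJ,
    show c * z * (c * z⁻¹) = c * (z * c * z⁻¹) by group, h.cp hc hz]
  exact mul_mem hc hc

theorem nt_mul (hx : x ∈ P) (hy : y ∈ P) : x * y * (t * (x * y) * t⁻¹) =
    ⁅x, y⁆ * (x * (t * x * t⁻¹)) * (y * (t * y * t⁻¹)) := by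
  have := h.cp (h.nt hx) hy
  calc _ = ⁅x, y⁆ * (y * (x * (t * x * t⁻¹)) * y⁻¹) * (y * (t * y * t⁻¹)) := by
        rw [commutatorElement_def]; group
    _ = _ := by rw [this]

theorem comm (hx : x ∈ P) (hy : y ∈ P) : ⁅x, y⁆ ∈ R := by
  have := h.nt (mul_mem hx hy)
  rwa [h.nt_mul hx hy, R.mul_mem_cancel_right (h.nt hy), R.mul_mem_cancel_right (h.nt hx)] at this

theorem comm_mul (hx : x ∈ P) (hy : y ∈ P) (hz : z ∈ P) : ⁅x, y * z⁆ = ⁅x, y⁆ * ⁅x, z⁆ := by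
  conv_rhs => rw [← h.cp (h.comm hx hz) hy]
  simp only [commutatorElement_def]; group

theorem comm_R (hx : x ∈ P) (hr : r ∈ R) : ⁅x, r⁆ = 1 :=
  commutatorElement_eq_one_iff_mul_comm.2 (h.cm hr hx)

theorem const (hx : x ∈ P) : χ (x * t) = χ t := by
  obtain ⟨c, hc, z, hz, e, rfl⟩ := h.dec hx
  obtain ⟨k, hk⟩ := h.oddP hz
  have e1 : z ^ (k + 1) * z ^ (k + 1) = z := by
    rw [← pow_add, show k + 1 + (k + 1) = orderOf z + 1 by omega, pow_succ, pow_orderOf_eq_one,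
      one_mul]
  have e2 : t * z ^ (k + 1) * t⁻¹ = (z ^ (k + 1))⁻¹ := by rw [← conj_pow, e, inv_pow]
  have e3 := h.cm hc (pow_mem hz (k + 1))
  set w := z ^ (k + 1)
  rw [← h.inv c hc, ← h.chr.classFun (c * t) w, ← e1]
  congr 1
  calc c * (w * w) * t = c * w * (t * w * t⁻¹)⁻¹⁻¹⁻¹ * t := by rw [e2]; group
    _ = _ := by rw [← e3]; group

theorem tr_t (hA : A ≤ P) {l : A →* ℂˣ} (hl : l ≠ 1) (hx : x ∈ P) : tr χ l (x * t) = 0 := by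
  rw [tr_of_const (z := χ t) fun a ha => by rw [← mul_assoc, h.const (mul_mem (hA ha) hx)],
    tr_const, if_neg hl, mul_zero]

theorem m1 (hA : A ≤ P) (hN : t ∈ N[A]) {m : ℕ} (hm : tr χ (1 : A →* ℂˣ) 1 = m) : q ≤ m := by
  obtain ⟨a, b, ha, hb⟩ := tr_invol h.chr (l := (1 : A →* ℂˣ)) (by rwa [stab_one]) h.ht
  rw [tr_of_const fun a ha => h.const (hA ha), tr_const, if_pos rfl, mul_one] at hb
  have k3 : m = a + b := by exact_mod_cast hm.symm.trans ha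
  rcases h.val with e | e <;> rw [e] at hb
  · have : (q : ℤ) = a - b := by exact_mod_cast hb
    omega
  · have : -(q : ℤ) = a - b := by exact_mod_cast hb
    omega

theorem J_stab (ζ : R →* ℂˣ) : J ≤ stab ζ := fun _ hg =>
  ⟨centralizer_le_normalizer _ (h.JR hg), fun _ ha => by rw [h.cj ha hg]⟩

theorem P_stab (ζ : R →* ℂˣ) : P ≤ stab ζ := fun _ hg =>
  ⟨mem_N_of_finite fun _ ha => by rwa [h.cp ha hg], fun _ ha => by rw [h.cp ha hg]⟩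

theorem inv_ne {ζ : A →* ℂˣ} (hA : A ≤ P) (h1 : ζ ≠ 1) : ζ⁻¹ ≠ ζ := fun e => by
  obtain ⟨a, ha, h2⟩ := ne_one_iff.1 h1
  refine h2 (ap_eq_one_of_sq ζ (h.oddP (hA ha)) ?_)
  nth_rewrite 1 [← e]
  rw [ap_inv_hom, inv_mul_cancel]

/-- the radical of the commutator form -/
def Rad (ζ : R →* ℂˣ) : Subgroup G where
  carrier := {g | g ∈ P ∧ ∀ x ∈ P, ap ζ ⁅x, g⁆ = 1}
  one_mem' := ⟨one_mem _, fun x _ => by simp [ap_one]⟩
  mul_mem' := fun {a b} ha hb => ⟨mul_mem ha.1 hb.1, fun x hx => by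
    rw [h.comm_mul hx ha.1 hb.1, ap_mul _ (h.comm hx ha.1) (h.comm hx hb.1), ha.2 x hx, hb.2 x hx,
      one_mul]⟩
  inv_mem' := fun {a} ha => ⟨inv_mem ha.1, fun x hx => by
    have := congrArg (ap ζ) (h.comm_mul hx ha.1 (inv_mem ha.1))
    rw [ap_mul _ (h.comm hx ha.1) (h.comm hx (inv_mem ha.1)), ha.2 x hx] at this
    simpa [ap_one] using this.symm⟩

theorem mem_Rad {ζ : R →* ℂˣ} : x ∈ h.Rad ζ ↔ x ∈ P ∧ ∀ y ∈ P, ap ζ ⁅y, x⁆ = 1 := Iff.rfl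

theorem Rad_le (ζ : R →* ℂˣ) : h.Rad ζ ≤ P := fun _ hx => hx.1

theorem le_Rad (ζ : R →* ℂˣ) : R ≤ h.Rad ζ := fun _ hr =>
  ⟨h.RP hr, fun _ hx => by rw [h.comm_R hx hr, ap_one]⟩

theorem norm_Rad {ζ : R →* ℂˣ} {g : G} (hg : g ∈ N[P])
    (e : ∀ r ∈ R, ap ζ r = 1 → ap ζ (g * r * g⁻¹) = 1) : g ∈ N[h.Rad ζ] :=
  mem_N_of_finite fun x hx => ⟨conj_mem hg hx.1, fun y hy => by
    rw [← e _ (h.comm (conj_mem' hg hy) hx.1) (hx.2 _ (conj_mem' hg hy))]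
    congr 1; simp only [commutatorElement_def]; group⟩

theorem J_Rad (ζ : R →* ℂˣ) : J ≤ N[h.Rad ζ] := fun _ hg =>
  h.norm_Rad (h.JP hg) fun r hr e => by rwa [h.cj hr hg]

theorem tr_Rad {ζ : R →* ℂˣ} (hx : x ∈ P) (h1 : x ∉ h.Rad ζ) : tr χ ζ x = 0 := by
  obtain ⟨y, hy, e⟩ : ∃ y ∈ P, ap ζ ⁅y, x⁆ ≠ 1 := by
    by_contra! e; exact h1 ⟨hx, e⟩
  exact tr_eq_zero h.chr.classFun (h.P_stab ζ hy) (h.comm hy hx) e

theorem exists_ζ (hA : ¬ Abl P) : ∃ ζ : R →* ℂˣ, tr χ ζ 1 ≠ 0 ∧ ζ ≠ 1 ∧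
    ∃ z ∈ P, t * z * t⁻¹ = z⁻¹ ∧ z ∉ h.Rad ζ := by
  obtain ⟨x, hx, y, hy, e⟩ : ∃ x ∈ P, ∃ y ∈ P, ⁅x, y⁆ ≠ 1 := by
    by_contra! e
    exact hA (abl_iff.2 fun y hy => mem_C.2 fun x hx =>
      commutatorElement_eq_one_iff_mul_comm.1 (e x hx y hy))
  obtain ⟨ζ, h1, h2⟩ := exists_ne h.chr h.ablR (h.comm hx hy) fun e' => e (h.faith _ e')
  obtain ⟨c, hc, z, hz, e1, rfl⟩ := h.dec hy
  refine ⟨ζ, h2, ne_one_iff.2 ⟨_, h.comm hx hy, h1⟩, z, hz, e1, fun e2 => h1 ?_⟩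
  exact (mul_mem (h.le_Rad ζ hc) e2).2 x hx

/-- the case `q = 5`, `p = 3` -/
theorem abl5 (hq : q = 5) (hP : IsPi {3} P) (hΦ : Phi P ≤ R) {Q : Subgroup G} (hQ : Q ≤ J)
    (h8 : 8 ∣ ♯Q) (hc : ∀ g ∈ Q, g ≠ 1 → ∀ r ∈ R, χ (r * g) = χ g) : Abl P := by
  by_contra hA
  obtain ⟨ζ, h0, h1, z, hz, e1, e2⟩ := h.exists_ζ hA
  obtain ⟨m, hm, m1⟩ := one_le_of_ne h.chr h0
  have d8 := card_dvd_of_tr h.chr (hQ.trans (h.J_stab ζ)) hm fun g hg g1 => by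
    rw [tr_of_const (hc g hg g1), tr_const, if_neg h1, mul_zero]
  have z3 : orderOf z = 3 := by
    have := Fact.mk Nat.prime_three
    refine orderOf_eq_prime (H13.Dih.eq_one_of_inv_eq (h.oddP (pow_mem hz 3)) ?_) ?_
    · rw [← h.cj (hΦ (hP.pow_mem_Phi Nat.prime_three hz)) h.tJ, ← conj_pow, e1, inv_pow, inv_inv,
        ← inv_pow, ← e1, conj_pow, h.cj (hΦ (hP.pow_mem_Phi Nat.prime_three hz)) h.tJ]
    · rintro rfl; exact e2 (one_mem _)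
  have d3 := card_dvd_of_tr h.chr ((zpowers_le.2 hz).trans (h.P_stab ζ)) hm fun g hg g1 => by
    refine h.tr_Rad (zpowers_le.2 hz hg) fun e => e2 (zpowers_le.2 e ?_)
    have := Fact.mk Nat.prime_three
    have := zpowers_eq_top_of_prime_card (G := zpowers z) (p := 3) (by rw [Nat.card_zpowers, z3])
      (g := ⟨g, hg⟩) (by simpa using g1)
    obtain ⟨k, hk⟩ := this.ge (mem_top ⟨z, mem_zpowers z⟩)
    exact ⟨k, congrArg Subtype.val hk⟩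
  rw [Nat.card_zpowers, z3] at d3
  have := ncard_le h.chr h.deg {ζ⁻¹, ζ} (n := 24) fun l hl => ⟨m, by
    rcases hl with rfl | rfl
    exacts [(tr_inv h.real _).trans hm, hm], by have := h8.trans d8; omega⟩
  rw [Set.ncard_pair (h.inv_ne h.RP h1)] at this
  have := h.le
  subst hq; omega

section NS
variable {F : Type} [Field F] [Finite F] {W : Type*} [AddCommGroup W] [Module F W]
  {lam : G → SL(2, F)} {φ : G → W × W} (hn : NS lam J P R φ) (hq : Nat.card F = q)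
include hn hq

theorem ol2 (h1 : R ≤ A) (h2 : A ≤ P) (h3 : J ≤ N[A]) {l : A →* ℂˣ}
    (hl : ∃ x ∈ A, ap l (t * x * t⁻¹) ≠ ap l x) : q ^ 2 - 1 ≤ (orb J l).ncard := by
  let D : (A →* ℂˣ) → (A →* ℂˣ) := fun μ => cjc μ ⟨t, h3 h.tJ⟩ / μ
  have hD : ∀ μ, ∀ x ∈ A, ap (D μ) x = ap μ (t * x * t⁻¹) / ap μ x := fun μ x hx => by
    rw [← ap_cjc _ (h3 h.tJ) hx, ap_of_mem _ hx, ap_of_mem _ hx, ap_of_mem _ hx]; rfl
  have k := hn.ol h1 h2 h3 (μ := D l) (fun x hx => by rw [hD _ _ (h1 hx), h.cj hx h.tJ, div_self'])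
    (ne_one_iff.2 (hl.imp fun x hx => ⟨hx.1, by rw [hD _ _ hx.1]; exact div_ne_one.2 hx.2⟩))
  rw [hq] at k
  refine k.trans ((Set.ncard_le_ncard ?_).trans (Set.ncard_image_le (f := D)))
  rintro μ ⟨g, hg, e⟩
  refine ⟨_, cjc_mem_orb l hg (h3 hg), hom_ext fun a ha => ?_⟩
  rw [e a ha, hD _ _ ha, hD _ _ (conj_mem (h3 hg) ha), ap_cjc _ _ ha,
    ap_cjc _ _ (conj_mem (h3 h.tJ) ha)]
  congr 2
  calc g * (t * a * t⁻¹) * g⁻¹ = (g * t) * a * (g * t)⁻¹ := by group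
    _ = _ := by rw [mem_C1.1 (h.Jt hg)]; group

/-- an occurring character is `t`-invariant or trivial on `R` -/
theorem two (h1 : R ≤ A) (h2 : A ≤ P) (h3 : J ≤ N[A]) {l : A →* ℂˣ} (h0 : tr χ l 1 ≠ 0)
    (hr : r ∈ R) (hl : ap l r ≠ 1) (hx : x ∈ A) : ap l (t * x * t⁻¹) = ap l x := by
  by_contra e
  obtain ⟨g, hg, e1⟩ := two_orb h.chr h.deg h.lt h3 h0 (by rwa [tr_inv h.real])
    (h.ol2 hn hq h1 h2 h3 ⟨x, hx, e⟩) (h.ol2 hn hq h1 h2 h3 (l := l⁻¹) ⟨x, hx, by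
      rwa [ap_inv_hom, ap_inv_hom, Ne, inv_inj]⟩)
  refine hl (ap_eq_one_of_sq l (h.oddP (h.RP hr)) ?_)
  have := e1 r (h1 hr)
  rw [h.cj hr hg, ap_inv_hom] at this
  nth_rewrite 1 [← this]
  exact inv_mul_cancel _

end NS

section abl
variable (hA : Abl P)
include hA

theorem B_le : ⁅P, zpowers t⁆ ≤ P := comm_le_left (zpowers_le.2 h.tP)

theorem B_inv : Inv t ⁅P, zpowers t⁆ := H13.Dih.Abl.inv_comm hA (sq_of h.ht) h.tP

theorem B_inf : ⁅P, zpowers t⁆ ⊓ R = ⊥ := eq_bot_iff.2 fun _ hx =>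
  (h.B_inv hA).eq_one hx.1 (h.oddP (h.RP hx.2))
    (mem_C1_comm.1 (mem_C1_iff_conj.2 (h.cj hx.2 h.tJ)))

theorem B_norm : J ≤ N[⁅P, zpowers t⁆] := H13.Dih.norm_comm_zp h.JP h.Jt

theorem B_dec (hx : x ∈ P) : ∃ c ∈ R, ∃ z ∈ ⁅P, zpowers t⁆, x = c * z := by
  obtain ⟨c, hc, z, hz, e1, e2⟩ := h.dec hx
  exact ⟨c, hc, z, H13.Dih.mem_comm_of_inv hz (h.oddP hz) e1, e2⟩

theorem B_abl : Abl ⁅P, zpowers t⁆ := hA.of_le (h.B_le hA)

variable {F : Type} [Field F] [Finite F] {W : Type*} [AddCommGroup W] [Module F W]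
  {lam : G → SL(2, F)} {φ : G → W × W} (hn : NS lam J P R φ) (hq : Nat.card F = q)
include hn hq

theorem B_ns : NS lam J ⁅P, zpowers t⁆ ⊥ φ := by
  rw [← h.B_inf hA]
  refine hn.res (h.B_le hA) (h.B_norm hA) fun x hx => ?_
  obtain ⟨c, hc, z, hz, rfl⟩ := h.B_dec hA hx
  exact ⟨z, hz, by simpa using hc⟩

theorem B_ol {l : ↥⁅P, zpowers t⁆ →* ℂˣ} (hl : l ≠ 1) : q ^ 2 - 1 ≤ (orb J l).ncard :=
  hq ▸ (h.B_ns hA hn hq).ol' (fun x hx => by rw [mem_bot.1 hx, ap_one]) hl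

theorem B_trans (hx : x ∈ ⁅P, zpowers t⁆) (hy : y ∈ ⁅P, zpowers t⁆) (h1 : x ≠ 1) (h2 : y ≠ 1) :
    ∃ j ∈ J, j * x * j⁻¹ = y := by
  have hB := h.B_ns hA hn hq
  obtain ⟨μ, m1, m0⟩ := exists_ne h.chr (h.B_abl hA) hx fun e => h1 (h.faith _ e)
  have k := ncard_le h.chr h.deg (orb J μ) (n := 1) fun k hk => one_le_of_ne h.chr (by
    rwa [orb_tr h.chr.classFun hB.norm hk])
  obtain ⟨γ, hγ⟩ := hB.dep (μ := μ) (fun x hx => by rw [mem_bot.1 hx, ap_one])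
    (by have := h.lt; rw [hq]; omega)
  obtain ⟨j, hj, e⟩ := hB.trans (γ := γ) (fun w hw => by
    obtain ⟨z, hz, e⟩ := hB.surj (w, 0)
    by_contra w0
    have z1 : z ≠ 1 := by
      rintro rfl
      exact w0 (congrArg Prod.fst (e.symm.trans hB.one))
    obtain ⟨μ', n1, n0⟩ := exists_ne h.chr (h.B_abl hA) hz fun e => z1 (h.faith _ e)
    exact n1 (hγ μ' (two_orb h.chr h.deg h.lt hB.norm m0 n0
      (h.B_ol hA hn hq (ne_one_iff.2 ⟨x, hx, m1⟩)) (h.B_ol hA hn hq (ne_one_iff.2 ⟨z, hz, n1⟩)))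
      z hz (by rw [e, hw]) (by rw [e, map_zero]))) hx hy h1 h2
  exact ⟨j, hj, mul_inv_eq_one.1 e⟩

theorem B_one {l : ↥⁅P, zpowers t⁆ →* ℂˣ} (hl : l ≠ 1) : tr χ l 1 = 1 := by
  obtain ⟨x, hx, e⟩ := ne_one_iff.1 hl
  have x1 : x ≠ 1 := by rintro rfl; exact e (ap_one _)
  have k : ∀ μ : ↥⁅P, zpowers t⁆ →* ℂˣ, μ ≠ 1 →
      tr χ μ 1 = tr χ l 1 := fun μ hμ => by
    have k : ∀ b ∈ ⁅P, zpowers t⁆, b ≠ 1 → χ b = χ x := fun b hb b1 => by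
      obtain ⟨j, -, e2⟩ := h.B_trans hA hn hq hx hb x1 b1
      rw [← e2, h.chr.classFun]
    rw [tr_cst hμ k, tr_cst hl k]
  obtain ⟨μ, m1, m0⟩ := exists_ne h.chr (h.B_abl hA) hx fun e => x1 (h.faith _ e)
  have μ1 := ne_one_iff.2 ⟨x, hx, m1⟩
  obtain ⟨m, hm, m2⟩ := one_le_of_ne h.chr m0
  have k1 := ncard_le h.chr h.deg (orb J μ) (n := m) fun k hk =>
    ⟨m, by rwa [orb_tr h.chr.classFun (h.B_norm hA) hk], le_rfl⟩
  have k2 := (Nat.mul_le_mul_right m (h.B_ol hA hn hq μ1)).trans k1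
  have k3 : m < 2 := lt_of_mul_lt_mul_left (a := q ^ 2 - 1) (by have := h.lt; omega) (Nat.zero_le _)
  rw [← k μ μ1, hm, show m = 1 by omega, Nat.cast_one]

theorem B_root {s : G} (hs : orderOf s = 2) (hN : s ∈ N[⁅P, zpowers t⁆])
    (hi : ¬ Inv s ⁅P, zpowers t⁆) (hc : ∀ c ∈ ⁅P, zpowers t⁆ ⊓ C{s}, χ (c * s) = χ s) : False := by
  set B := ⁅P, zpowers t⁆
  have hX : ⁅B, zpowers s⁆ ≤ B := comm_le_left (zpowers_le.2 hN)
  obtain ⟨x, hx, hx'⟩ : ∃ x ∈ B, x ∉ ⁅B, zpowers s⁆ := by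
    by_contra! e
    exact hi ((H13.Dih.Abl.inv_comm (h.B_abl hA) (sq_of hs) hN).of_le e)
  obtain ⟨l, l1, l2⟩ := exists_sep hX (by rw [der1_eq_bot.2 (h.B_abl hA)]; exact bot_le) hx hx'
  have l0 := ne_one_iff.2 ⟨x, hx, l2⟩
  have hst : s ∈ stab l := ⟨hN, fun a ha => by
    have := l1 _ (H13.Dih.mem_comm_zp (t := s) (inv_mem ha))
    rw [inv_inv, ap_mul _ (inv_mem ha) (conj_mem hN ha), ap_inv _ ha] at this
    exact (inv_mul_eq_one.1 this).symm⟩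
  obtain ⟨a, b, ha, hb⟩ := tr_invol h.chr hst hs
  rw [tr_eq_ite h.chr.classFun hst (by
    rw [hs]; exact Nat.coprime_two_left.2 (odd_of_le h.odd (h.B_le hA))) hc, if_neg l0] at hb
  rw [h.B_one hA hn hq l0] at ha
  have k1 : 1 = a + b := by exact_mod_cast ha
  have k2 : (0 : ℤ) = a - b := by exact_mod_cast hb
  omega

theorem B_N : N[P] ⊓ N[R] ≤ N[⁅P, zpowers t⁆] := fun g hg => mem_N_of_finite fun x hx => by
  have k : ∀ l : P →* ℂˣ, tr χ l 1 ≠ 0 → ∀ r ∈ R, ap l r ≠ 1 → ∀ b ∈ ⁅P, zpowers t⁆, ap l b = 1 :=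
    fun l l0 r hr l1 b hb => by
      have := h.two hn hq h.RP le_rfl h.JP l0 hr l1 (h.B_le hA hb)
      rw [h.B_inv hA b hb, ap_inv _ (h.B_le hA hb)] at this
      refine ap_eq_one_of_sq l (h.oddP (h.B_le hA hb)) ?_
      nth_rewrite 1 [← this]
      exact inv_mul_cancel _
  have xP := h.B_le hA hx
  obtain ⟨c, hc, z, hz, e⟩ := h.B_dec hA (conj_mem hg.1 xP)
  by_cases c1 : c = 1
  · rwa [e, c1, one_mul]
  obtain ⟨l, l1, l0⟩ := exists_ne h.chr hA (h.RP hc) fun e => c1 (h.faith _ e)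
  have := k (cjc l ⟨g, hg.1⟩) (by rwa [tr_cjc h.chr.classFun]) _ (conj_mem' hg.2 hc) (by
    rw [ap_cjc _ _ (h.RP (conj_mem' hg.2 hc))]; simpa [mul_assoc] using l1) x hx
  rw [ap_cjc _ _ xP, e, ap_mul _ (h.RP hc) (h.B_le hA hz), k l l0 c hc l1 z hz, mul_one] at this
  exact absurd this l1

end abl

end ST

end H20.QK
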