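import Mathlib
import Cfsg.Agent.H20.QK2

/-! Tools for the nonabelian case. -/

set_option autoImplicit false
set_option linter.unusedSectionVars false

namespace H20.QK

open H24 Cfsg Subgroup H4 H23.WR Module
open H13.Dih (Inv odd_orderOf sq_of)
open scoped Classical commutatorElement MatrixGroups ComplexConjugate

theorem fix_count {X : Type*} [AddCommGroup X] [Finite X] (h2 : ∀ v : X, v + v = 0 → v = 0)
    (σ ι δ : X →+ X) (hσ : ∀ v, σ (σ v) = v) (hι : Function.Injective ι)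
    (e1 : ∀ v, ι (σ v) = -σ (ι v)) (e2 : ∀ v, δ (σ v) = σ (δ v)) {r n q : ℕ} (hr : r.Prime)
    (hδ : ∀ v, δ^[r ^ n] v = v) (fpf : ∀ v, δ v = v → v = 0) (hX : Nat.card X = q ^ 2) :
    q ≡ 1 [MOD r] := by
  set K := (σ - AddMonoidHom.id X).ker with hK
  set K' := (σ + AddMonoidHom.id X).ker with hK'
  have mK : ∀ {v}, v ∈ K ↔ σ v = v := by simp [hK, sub_eq_zero]
  have mK' : ∀ {v}, v ∈ K' ↔ σ v = -v := by simp [hK', add_eq_zero_iff_eq_neg]
  have c1 : Nat.card K ≤ Nat.card K' := Nat.card_le_card_of_injective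
    (fun v => ⟨ι v, mK'.2 (by rw [← neg_eq_iff_eq_neg, ← e1, mK.1 v.2])⟩)
    fun v w e => Subtype.ext (hι (congrArg Subtype.val e))
  have c2 : Nat.card K' ≤ Nat.card K := Nat.card_le_card_of_injective
    (fun v => ⟨ι v, mK.2 (by rw [← neg_inj, ← e1, mK'.1 v.2, map_neg])⟩)
    fun v w e => Subtype.ext (hι (congrArg Subtype.val e))
  have c3 : Nat.card K * Nat.card K' ≤ Nat.card X := by
    rw [← Nat.card_prod]
    refine Nat.card_le_card_of_injective (fun v : K × K' => (v.1 : X) + v.2) fun v w e => ?_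
    have e' := congrArg σ e
    simp only [map_add, mK.1 v.1.2, mK.1 w.1.2, mK'.1 v.2.2, mK'.1 w.2.2] at e'
    simp only at e
    have a : (v.1 : X) = w.1 := sub_eq_zero.1 (h2 _ (by linear_combination (norm := abel1) e + e'))
    exact Prod.ext (Subtype.ext a) (Subtype.ext (by rwa [a, add_right_inj] at e))
  have c4 : Nat.card X ≤ Nat.card K * Nat.card K' := by
    rw [← AddSubgroup.card_mul_index K, hK, AddSubgroup.index_ker]
    refine Nat.mul_le_mul_left _ (AddSubgroup.card_le_of_le ?_)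
    rintro _ ⟨v, rfl⟩
    exact mK'.2 (by simp [hσ])
  have c5 : Nat.card K = q := by
    rw [← le_antisymm c1 c2, hX] at c3 c4
    exact Nat.pow_left_injective two_ne_zero ((sq _).trans (le_antisymm c3 c4))
  let g : Function.End K := fun v => ⟨δ v, mK.2 (by rw [← e2, mK.1 v.2])⟩
  have hg : ∀ (k : ℕ) (v : K), ((g ^ k) v : X) = δ^[k] v := fun k => by
    induction k with
    | zero => intro v; rfl
    | succ k ih => intro v; rw [pow_succ, Function.iterate_succ_apply]; exact ih (g v)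
  have := Fact.mk hr
  have := Fintype.ofFinite K
  have c6 := Equiv.Perm.card_fixedPoints_modEq (f := g) (p := r) (n := n)
    (funext fun v => Subtype.ext ((hg _ v).trans (hδ v)))
  have c7 : Fintype.card (Function.fixedPoints g) = 1 :=
    Fintype.card_eq_one_iff.2 ⟨⟨(0 : K), Subtype.ext (map_zero δ)⟩,
      fun v => Subtype.ext (Subtype.ext (fpf _ (congrArg Subtype.val v.2)))⟩
  rwa [← Nat.card_eq_fintype_card, c5, c7] at c6

variable {G : Type*} [Group G] [Fintype G] {A B : Subgroup G} {f : G → ℂ} {g : G}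

theorem ncard_le1 (hf : IsCharacter G f) {F n m₁ : ℕ} (hF : f 1 = F) (S : Set (A →* ℂˣ))
    (h1 : 1 ∉ S) (hm₁ : tr f (1 : A →* ℂˣ) 1 = m₁)
    (h : ∀ l ∈ S, ∃ m : ℕ, tr f l 1 = m ∧ n ≤ m) : m₁ + S.ncard * n ≤ F := by
  have hfin : S.Finite := Set.toFinite _
  choose m hm using fun l : A →* ℂˣ => tr_nat hf l
  have h3 := (sum_le hf (insert 1 hfin.toFinset) m (fun l _ => hm l) hF).1
  have h4 : hfin.toFinset.card • n ≤ ∑ l ∈ hfin.toFinset, m l :=
    Finset.card_nsmul_le_sum _ _ _ fun l hl => by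
      obtain ⟨k, e, hk⟩ := h l (hfin.mem_toFinset.1 hl)
      rwa [show m l = k by exact_mod_cast (hm l).symm.trans e]
  rw [Finset.sum_insert (by simpa using h1), show m 1 = m₁ by exact_mod_cast (hm 1).symm.trans hm₁] at h3
  rw [Set.ncard_eq_toFinset_card _ hfin]
  exact (Nat.add_le_add_left h4 _).trans h3

theorem sum_ite_sub {M : Type*} [AddCommMonoid M] (h : B ≤ A) (X : G → M) :
    ∑ a : A, (if (a : G) ∈ B then X a else 0) = ∑ b : B, X b := by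
  rw [← Finset.sum_subtype (Finset.univ.filter (· ∈ A)) (by simp) fun a => if a ∈ B then X a else 0,
    ← Finset.sum_subtype (Finset.univ.filter (· ∈ B)) (by simp) X, ← Finset.sum_filter,
    Finset.filter_filter]
  exact Finset.sum_congr (by ext; simpa using fun e => h e) fun _ _ => rfl

theorem sum_conj {P : Subgroup G} (κ : P →* ℂˣ) :
    ∑ b : P, conj (κ b : ℂ) = if κ = 1 then (♯P : ℂ) else 0 := by
  have := tr_const κ 1
  simp only [tr, one_mul] at this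
  rw [(inv_mul_eq_iff_eq_mul₀ (H4.card_ne_zero P)).1 this]
  split_ifs <;> simp

theorem card_of_hom {X : Type*} [AddCommGroup X] (h : B ≤ A) (ψ : G → X)
    (add : ∀ x ∈ A, ∀ y ∈ A, ψ (x * y) = ψ x + ψ y) (ker : ∀ x ∈ A, ψ x = 0 ↔ x ∈ B)
    (surj : ∀ v, ∃ x ∈ A, ψ x = v) : ♯A = ♯B * Nat.card X := by
  let κ : A →* Multiplicative X := MonoidHom.mk' (fun a => Multiplicative.ofAdd (ψ a))
    fun a b => congrArg Multiplicative.ofAdd (add a a.2 b b.2)
  have e1 : κ.ker = B.subgroupOf A := Subgroup.ext fun a => ker a a.2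
  have e2 : κ.range = ⊤ := top_le_iff.1 fun v _ =>
    let ⟨x, hx, e⟩ := surj v.toAdd; ⟨⟨x, hx⟩, congrArg Multiplicative.ofAdd e⟩
  rw [← card_mul_index κ.ker, index_ker, e1, e2, card_top,
    Nat.card_congr (subgroupOfEquivOfLe h).toEquiv]
  rfl

variable {V : Type*} [AddCommGroup V] [Module ℂ V] [FiniteDimensional ℂ V] (ρ : Representation ℂ G V)

theorem pr_cjc (l : A →* ℂˣ) (hg : g ∈ N[A]) :
    ρ g⁻¹ * pr ρ l * ρ g = pr ρ (cjc l ⟨g, hg⟩) := by
  simp only [pr]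
  rw [mul_smul_comm, smul_mul_assoc, Finset.mul_sum, Finset.sum_mul,
    ← (A.normalizerMonoidHom ⟨g, hg⟩).toEquiv.sum_comp]
  congr 1
  refine Finset.sum_congr rfl fun a _ => ?_
  have e : ((A.normalizerMonoidHom ⟨g, hg⟩ a : A) : G) = g * a * g⁻¹ := rfl
  change ρ g⁻¹ * (conj ((l (A.normalizerMonoidHom ⟨g, hg⟩ a) : ℂˣ) : ℂ) •
    ρ ((A.normalizerMonoidHom ⟨g, hg⟩ a : A) : G)) * _ = _
  rw [mul_smul_comm, smul_mul_assoc, ← map_mul, ← map_mul, e]
  congr 2; group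

/-- the elements of `J` acting through the enveloping algebra of `P` on the range of `e` -/
theorem env {J P : Subgroup G} (hJ : J ≤ N[P]) {e : End ℂ V} (c2 : ∀ x ∈ J, ρ x * e = e * ρ x) :
    ∃ N ≤ J, J ≤ N[N] ∧ ∀ j ∈ J,
      j ∈ N ↔ ρ j * e ∈ Submodule.span ℂ (Set.range fun b : P => ρ b * e) := by
  set 𝒜 := Submodule.span ℂ (Set.range fun b : P => ρ b * e) with h𝒜
  have gen : ∀ b ∈ P, ρ b * e ∈ 𝒜 := fun b hb => Submodule.subset_span ⟨⟨b, hb⟩, rfl⟩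
  have ind : ∀ L : End ℂ V →ₗ[ℂ] End ℂ V, (∀ b ∈ P, L (ρ b * e) ∈ 𝒜) → ∀ X ∈ 𝒜, L X ∈ 𝒜 :=
    fun L hL => show 𝒜 ≤ 𝒜.comap L from Submodule.span_le.2 (by rintro _ ⟨b, rfl⟩; exact hL b b.2)
  have l1 : ∀ b ∈ P, ∀ X ∈ 𝒜, ρ b * X ∈ 𝒜 := fun b hb => ind (LinearMap.mulLeft ℂ (ρ b))
    fun c hc => by rw [LinearMap.mulLeft_apply, ← mul_assoc, ← map_mul]; exact gen _ (mul_mem hb hc)
  have l2 : ∀ j ∈ J, ∀ X ∈ 𝒜, ρ j * (X * ρ j⁻¹) ∈ 𝒜 := fun j hj =>
    ind (LinearMap.mulLeft ℂ (ρ j) ∘ₗ LinearMap.mulRight ℂ (ρ j⁻¹)) fun c hc => by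
      change ρ j * (ρ c * e * ρ j⁻¹) ∈ 𝒜
      rw [mul_assoc, ← c2 _ (inv_mem hj), ← mul_assoc, ← mul_assoc, ← map_mul, ← map_mul]
      exact gen _ (conj_mem (hJ hj) hc)
  let N₀ : Submonoid G :=
    { carrier := {j | j ∈ J ∧ ∀ X ∈ 𝒜, ρ j * X ∈ 𝒜}
      one_mem' := ⟨one_mem _, fun X hX => by rwa [map_one, one_mul]⟩
      mul_mem' := fun {a b} ha hb => ⟨mul_mem ha.1 hb.1, fun X hX => by
        rw [map_mul, mul_assoc]; exact ha.2 _ (hb.2 X hX)⟩ }
  let N : Subgroup G := { N₀ with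
    inv_mem' := fun {j} hj => Submonoid.powers_le.2 hj
      (mem_powers_iff_mem_zpowers.2 (inv_mem (mem_zpowers j))) }
  refine ⟨N, fun _ h => h.1, fun g hg => mem_N_of_finite fun j hj =>
    ⟨mul_mem (mul_mem hg hj.1) (inv_mem hg), fun X hX => ?_⟩, fun j hj => ⟨fun h => ?_, fun h =>
      ⟨hj, ind (LinearMap.mulLeft ℂ (ρ j)) fun c hc => ?_⟩⟩⟩
  · have := l2 g hg _ (hj.2 _ (l2 g⁻¹ (inv_mem hg) X hX))
    simp only [mul_assoc, ← map_mul, inv_inv, mul_inv_cancel, map_one, mul_one] at this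
    simpa only [map_mul, mul_assoc] using this
  · simpa using h.2 _ (gen 1 (one_mem _))
  · rw [LinearMap.mulLeft_apply, ← mul_assoc, ← map_mul, ← inv_mul_cancel_right (j * c) j, map_mul,
      mul_assoc]
    exact l1 _ (conj_mem (hJ hj) hc) _ h

/-- halving by an involution of trace zero -/
theorem key2 {P : Subgroup G} {p k n : ℕ} {y t : G} (hp : p.Prime) (h2 : p ≠ 2)
    (hP : IsPi {p} P) (hy : y ∈ N[P])
    (hk : ∀ j : ℕ, ¬ k ∣ j → ∀ x ∈ P, y ^ j * x * (y ^ j)⁻¹ * x⁻¹ ∈ Phi P → x ∈ Phi P)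
    {e : End ℂ V} (he : IsIdempotentElem e) (hn : LinearMap.trace ℂ V e = n + n)
    (ht : t * t = 1) (h0 : LinearMap.trace ℂ V (e * ρ t) = 0) (c0 : ρ t * e = e * ρ t)
    (c1 : ∀ x ∈ P, ρ x * e = e * ρ x) (c2 : ρ y * e = e * ρ y) (d1 : P ≤ C{t}) (d2 : y ∈ C{t})
    (hne : ∃ x ∈ P, ρ x * e ≠ e) : 3 * k ≤ 4 * n ∧ (Odd k → k ≤ n) := by
  have tt : ρ t * ρ t = 1 := by rw [← map_mul, ht, map_one]
  have k1 : e * ρ t * e = e * ρ t := by rw [mul_assoc, c0, ← mul_assoc, he.eq]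
  have k2 : e * (e * ρ t) = e * ρ t := by rw [← mul_assoc, he.eq]
  have k3 : e * ρ t * (e * ρ t) = e := by rw [← mul_assoc, k1, mul_assoc, tt, mul_one]
  have cc : ∀ (σ : ℂ) x, ρ x * e = e * ρ x → x ∈ C{t} → ρ x * ((2 : ℂ)⁻¹ • (e + σ • (e * ρ t))) =
      ((2 : ℂ)⁻¹ • (e + σ • (e * ρ t))) * ρ x := fun σ x a b => by
    simp only [mul_smul_comm, smul_mul_assoc, mul_add, add_mul]
    rw [← mul_assoc, a, mul_assoc, mul_assoc, ← map_mul, ← map_mul, mem_C1.1 b]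
  have key : ∀ σ : ℂ, σ * σ = 1 → (∃ x ∈ P, ρ x * ((2 : ℂ)⁻¹ • (e + σ • (e * ρ t))) ≠
      (2 : ℂ)⁻¹ • (e + σ • (e * ρ t))) → 3 * k ≤ 4 * n ∧ (Odd k → k ≤ n) := fun σ hσ =>
    key' ρ hp h2 hP hy hk (by
      simp only [IsIdempotentElem, mul_smul_comm, smul_mul_assoc, mul_add, add_mul, he.eq, k1, k2,
        k3, smul_smul]
      match_scalars
      · linear_combination (1 / 4 : ℂ) * hσ
      · ring) (by simp [hn, h0]; ring) (fun x hx => cc σ x (c1 x hx) (d1 hx)) (cc σ y c2 d2)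
  by_contra h
  obtain ⟨x, hx, h1⟩ := hne
  have a1 := not_not.1 fun e => h (key 1 (by simp) ⟨x, hx, e⟩)
  have a2 := not_not.1 fun e => h (key (-1) (by simp) ⟨x, hx, e⟩)
  simp only [mul_smul_comm, mul_add] at a1 a2
  exact h1 (by linear_combination (norm := module) a1 + a2)

theorem NS.exists_aut {F : Type} [Field F] [Finite F] {W : Type*} [AddCommGroup W] [Module F W]
    {lam : G → SL(2, F)} {J P K : Subgroup G} {φ : G → W × W} (h : NS lam J P K φ) (h1 : g ∈ N[P])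
    (h2 : g ∈ N[K]) : ∃ σ : W × W →+ W × W, ∀ x ∈ P, σ (φ x) = φ (g * x * g⁻¹) := by
  choose τ k1 k2 using h.surj
  have e : ∀ x ∈ P, φ (g * τ (φ x) * g⁻¹) = φ (g * x * g⁻¹) := fun x hx =>
    (h.eq_iff (conj_mem h1 (k1 _)) (conj_mem h1 hx)).2 (by
      have := conj_mem h2 ((h.eq_iff (k1 (φ x)) hx).1 (k2 _))
      convert this using 1; group)
  refine ⟨AddMonoidHom.mk' (fun v => φ (g * τ v * g⁻¹)) fun v w => ?_, e⟩
  rw [← h.add _ (conj_mem h1 (k1 v)) _ (conj_mem h1 (k1 w)),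
    show g * τ v * g⁻¹ * (g * τ w * g⁻¹) = g * (τ v * τ w) * g⁻¹ by group,
    ← e _ (mul_mem (k1 v) (k1 w)), h.add _ (k1 v) _ (k1 w), k2, k2]

end H20.QK
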