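import Mathlib
import Cfsg.Agent.H20.QK3

/-! The nonabelian case is impossible. -/

set_option autoImplicit false
set_option linter.unusedSectionVars false

namespace H20.QK

open H24 Cfsg Subgroup H4 H23.WR Module
open H13.Dih (Inv odd_orderOf sq_of)
open scoped Classical commutatorElement MatrixGroups ComplexConjugate

variable {G : Type*} [Group G] [Fintype G]

theorem comm_pr {V : Type*} [AddCommGroup V] [Module ℂ V] (ρ : Representation ℂ G V)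
    {A : Subgroup G} (l : A →* ℂˣ) {e : End ℂ V} (h : ∀ a ∈ A, ρ a * e = e * ρ a) :
    pr ρ l * e = e * pr ρ l := by
  simp only [pr, smul_mul_assoc, mul_smul_comm, Finset.sum_mul, Finset.mul_sum]
  exact congrArg _ (Finset.sum_congr rfl fun a _ => by rw [h a a.2])

namespace ST

variable {χ : G → ℂ} {f q : ℕ} {t x y z r : G} {J P R A : Subgroup G} (h : ST χ f q t J P R)
  {ζ : R →* ℂˣ}
include h

theorem normA (h1 : R ≤ A) (h2 : A ≤ P) : P ≤ N[A] := fun g hg => mem_N_of_finite fun a ha => by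
  rw [show g * a * g⁻¹ = ⁅g, a⁆ * a by rw [commutatorElement_def]; group]
  exact mul_mem (h1 (h.comm hg (h2 ha))) ha

theorem tA (h1 : R ≤ A) (h2 : A ≤ P) : t ∈ N[A] := mem_N_of_finite fun _ ha =>
  (A.mul_mem_cancel_left ha).1 (h1 (h.nt (h2 ha)))

theorem exists_hat (h1 : R ≤ A) (h2 : A ≤ P) (iso : ∀ x ∈ A, ∀ y ∈ A, ap ζ ⁅x, y⁆ = 1) :
    ∃ l : A →* ℂˣ, (∀ r ∈ R, ap l r = ap ζ r) ∧ J ⊓ N[A] ≤ stab l ∧
      ∀ (B : Subgroup G) (hB : B ≤ A) (μ : B →* ℂˣ), R ≤ B → (∀ r ∈ R, ap μ r = ap ζ r) →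
        (∀ x ∈ B, ap μ (t * x * t⁻¹) = ap μ x) → μ = res l hB := by
  obtain ⟨m, hm⟩ := h.odd
  have k : ∀ (B : Subgroup G) (μ : B →* ℂˣ), B ≤ P → ∀ x ∈ B,
      (ap μ x * ap μ x) ^ (m + 1) = ap μ x := fun B μ hB x hx => by
    rw [← sq, ← pow_mul, show 2 * (m + 1) = ♯P + 1 by omega, pow_succ, ← ap_pow _ hx,
      orderOf_dvd_iff_pow_eq_one.1 (P.orderOf_dvd_natCard (hB hx)), ap_one, one_mul]
  let l : A →* ℂˣ := MonoidHom.mk' (fun a => ap ζ (a * (t * a * t⁻¹)) ^ (m + 1)) fun a b => by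
    rw [coe_mul, h.nt_mul (h2 a.2) (h2 b.2),
      ap_mul _ (mul_mem (h.comm (h2 a.2) (h2 b.2)) (h.nt (h2 a.2))) (h.nt (h2 b.2)),
      ap_mul _ (h.comm (h2 a.2) (h2 b.2)) (h.nt (h2 a.2)), iso a a.2 b b.2, one_mul, mul_pow]
  have hl : ∀ a ∈ A, ap l a = ap ζ (a * (t * a * t⁻¹)) ^ (m + 1) := fun a ha => ap_of_mem _ ha
  refine ⟨l, fun r hr => ?_, fun g hg => ⟨hg.2, fun a ha => ?_⟩, fun B hB μ hR e1 e2 =>
    hom_ext fun a ha => ?_⟩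
  · rw [hl r (h1 hr), h.cj hr h.tJ, ap_mul _ hr hr, k R ζ h.RP r hr]
  · rw [hl _ (conj_mem hg.2 ha), hl a ha, ← h.cj (h.nt (h2 ha)) hg.1]
    congr 2
    calc _ = g * a * g⁻¹ * (t * g) * a * (t * g)⁻¹ := by group
      _ = _ := by rw [← mem_C1.1 (h.Jt hg.1)]; group
  · rw [ap_res _ _ ha, hl a (hB ha), ← e1 _ (h.nt (h2 (hB ha))),
      ap_mul _ ha (conj_mem (h.tA hR (hB.trans h2)) ha), e2 a ha, k B μ (hB.trans h2) a ha]

theorem beta_mul (hx : x ∈ P) (hy : y ∈ P) (hz : z ∈ P) :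
    ap ζ ⁅x, y * z⁆ = ap ζ ⁅x, y⁆ * ap ζ ⁅x, z⁆ := by
  rw [h.comm_mul hx hy hz, ap_mul _ (h.comm hx hy) (h.comm hx hz)]

theorem beta_symm (hx : x ∈ P) (hy : y ∈ P) : ap ζ ⁅y, x⁆ = (ap ζ ⁅x, y⁆)⁻¹ := by
  rw [← ap_inv _ (h.comm hx hy), commutatorElement_inv]

theorem beta_r (hx : x ∈ P) (hz : z ∈ P) (e : y * z⁻¹ ∈ h.Rad ζ) :
    ap ζ ⁅x, y⁆ = ap ζ ⁅x, z⁆ := by
  rw [← inv_mul_cancel_right y z, h.beta_mul hx e.1 hz, e.2 x hx, one_mul]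

variable {F : Type} [Field F] [Finite F] {W : Type*} [AddCommGroup W] [Module F W]
  {lam : G → SL(2, F)} {φ : G → W × W}

theorem iso (hn : NS lam J P (h.Rad ζ) φ) (hx : x ∈ P) (hy : y ∈ P) (e1 : (φ x).2 = 0)
    (e2 : (φ y).2 = 0) : ap ζ ⁅x, y⁆ = 1 := by
  obtain ⟨z, hz, e3⟩ := hn.surj (0, (φ y).1)
  obtain ⟨j, hj, e⟩ := hn.ex (a := 1) (b := 1) (c := 0) (d := 1) (by ring)
  have jx := conj_mem (h.JP hj) hx
  have jz := conj_mem (h.JP hj) hz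
  have k1 := (hn.eq_iff jx hx).1 (by rw [e x hx]; ext <;> simp [e1])
  have k2 := (hn.eq_iff jz (mul_mem hy hz)).1 (by
    rw [e z hz, hn.add y hy z hz, e3]; ext <;> simp [e2])
  have k3 : ⁅j * x * j⁻¹, j * z * j⁻¹⁆ = ⁅x, z⁆ := by
    rw [← h.cj (h.comm hx hz) hj]; simp only [commutatorElement_def]; group
  have k4 := congrArg (ap ζ) k3
  rw [h.beta_r jx (mul_mem hy hz) k2, h.beta_symm (mul_mem hy hz) jx,
    h.beta_r (mul_mem hy hz) hx k1, ← h.beta_symm (mul_mem hy hz) hx, h.beta_mul hx hy hz] at k4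
  exact mul_eq_right.1 k4

theorem deg_bound {W₀ : Type*} [AddCommGroup W₀] [Module F W₀] {φ₀ : G → W₀ × W₀}
    (hn₀ : NS lam J P R φ₀) (hq : Nat.card F = q) (hn : NS lam J P (h.Rad ζ) φ) {m : ℕ}
    (hm : tr χ ζ 1 = m) (m0 : m ≠ 0) (h1 : ζ ≠ 1) {P₀ : Subgroup G} {p k : ℕ} (hp : p.Prime)
    (h2 : p ≠ 2) (hP : IsPi {p} P₀) (hJ : P₀ ≤ J) (hy : y ∈ J) (hN : y ∈ N[P₀])
    (hk : ∀ j : ℕ, ¬ k ∣ j → ∀ x ∈ P₀, y ^ j * x * (y ^ j)⁻¹ * x⁻¹ ∈ Phi P₀ → x ∈ Phi P₀)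
    (up : ∀ x ∈ P₀, lam x 1 0 = 0) (upy : lam y 1 0 = 0)
    (gen : ∀ N ≤ J, J ≤ N[N] → P₀ ≤ N → t ∈ N) :
    ∃ a, 3 * k ≤ 4 * a ∧ (Odd k → k ≤ a) ∧ 2 * a * Nat.card W ≤ m := by
  let A : Subgroup G :=
    { carrier := {x | x ∈ P ∧ (φ x).2 = 0}
      one_mem' := ⟨one_mem _, by rw [hn.one]; rfl⟩
      mul_mem' := fun {a b} ha hb => ⟨mul_mem ha.1 hb.1, by
        rw [hn.add a ha.1 b hb.1, Prod.snd_add, ha.2, hb.2, add_zero]⟩
      inv_mem' := fun {a} ha => ⟨inv_mem ha.1, by rw [hn.inv ha.1, Prod.snd_neg, ha.2, neg_zero]⟩ }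
  have AP : A ≤ P := fun _ h => h.1
  set D := h.Rad ζ with hD
  have DA : D ≤ A := fun x hx => ⟨hx.1, by rw [(hn.ker x hx.1).2 hx]; rfl⟩
  have RD : R ≤ D := h.le_Rad ζ
  have DP : D ≤ P := h.Rad_le ζ
  have RA := RD.trans DA
  have upA : ∀ j ∈ J, lam j 1 0 = 0 → j ∈ N[A] := fun j hj e => mem_N_of_finite fun a ha =>
    ⟨conj_mem (h.JP hj) ha.1, by rw [hn.conj j hj a ha.1, e, ha.2]; simp⟩
  obtain ⟨l, l1, l2, l3⟩ := h.exists_hat (ζ := ζ) RA AP fun x hx y hy => h.iso hn hx.1 hy.1 hx.2 hy.2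
  obtain ⟨r, hr, r1⟩ := ne_one_iff.1 h1
  obtain ⟨μ, μ1, μ0⟩ := exists_ext h.chr RD (l₀ := ζ) (DP.trans (h.P_stab ζ))
    (fun a ha b hb => ⟨h.comm ha.1 hb.1, hb.2 a ha.1⟩) (by rw [hm]; exact_mod_cast m0)
  have μ2 : ∀ x ∈ D, ap μ (t * x * t⁻¹) = ap μ x := fun x hx =>
    h.two hn₀ hq RD DP (h.J_Rad ζ) μ0 hr (by rwa [μ1 r hr]) hx
  have μ3 := l3 D DA μ RD μ1 μ2
  have μJ : J ≤ stab μ := fun g hg => ⟨h.J_Rad ζ hg, fun a ha => by
    rw [← ap_cjc μ (h.J_Rad ζ hg) ha, l3 D DA (cjc μ ⟨g, h.J_Rad ζ hg⟩) RD (fun r hr => by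
      rw [ap_cjc _ _ (RD hr), h.cj hr hg, μ1 r hr]) (fun x hx => by
        rw [ap_cjc _ _ hx, ap_cjc _ _ (conj_mem (h.tA RD DP) hx), ← μ2 _ (conj_mem (h.J_Rad ζ hg) hx)]
        congr 1
        calc g * (t * x * t⁻¹) * g⁻¹ = (g * t) * x * (g * t)⁻¹ := by group
          _ = _ := by rw [mem_C1.1 (h.Jt hg)]; group), μ3]⟩
  have cP : ∀ b ∈ P, ∀ a ∈ A, ap l (b * a * b⁻¹) = ap ζ ⁅b, a⁆ * ap l a := fun b hb a ha => by
    rw [show b * a * b⁻¹ = ⁅b, a⁆ * a by rw [commutatorElement_def]; group,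
      ap_mul _ (RA (h.comm hb ha.1)) ha, l1 _ (h.comm hb ha.1)]
  have μP : P ≤ stab μ := fun g hg => ⟨h.normA RD DP hg, fun a ha => by
    rw [μ3, ap_res _ _ ha, ap_res _ _ (conj_mem (h.normA RD DP hg) ha), cP g hg a (DA ha),
      ha.2 g hg, one_mul]⟩
  have μ4 : μ ≠ 1 := ne_one_iff.2 ⟨r, RD hr, by rwa [μ1 r hr]⟩
  have l4 : l ≠ 1 := ne_one_iff.2 ⟨r, RA hr, by rwa [l1 r hr]⟩
  have tl : t ∈ stab l := l2 ⟨h.tJ, h.tA RA AP⟩
  obtain ⟨a, b, ha, hb⟩ := tr_invol h.chr tl h.ht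
  have t0 := h.tr_t AP l4 (one_mem P)
  rw [one_mul] at t0
  obtain rfl : a = b := by exact_mod_cast sub_eq_zero.1 (hb.symm.trans t0)
  obtain ⟨d, hd, -⟩ := one_le_of_ne h.chr μ0
  have dm : d ≤ m := tr_mono h.chr μ RD hd (by
    rwa [show res μ RD = ζ from hom_ext fun a ha => by rw [ap_res _ _ ha, μ1 a ha]])
  have trt := fun x hx => h.tr_t (x := x) DP μ4 hx
  obtain ⟨n, ρ, rfl⟩ := h.chr
  -- the averaging identity
  have id : ∑ b : P, ρ (b : G)⁻¹ * pr ρ l * ρ b = ((♯A : ℂ)⁻¹ * ♯P * ♯D) • pr ρ μ := by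
    rw [Finset.sum_congr rfl fun b _ => pr_cjc ρ l (h.normA RA AP b.2)]
    simp only [pr]
    rw [← Finset.smul_sum, Finset.sum_comm, smul_smul, mul_assoc, mul_assoc,
      mul_inv_cancel₀ (H4.card_ne_zero D), mul_one, mul_smul, Finset.smul_sum (r := (♯P : ℂ))]
    congr 1
    rw [Finset.sum_congr rfl (g := fun b : D => (♯P : ℂ) • conj (ap l b).val • ρ b) fun b _ => by
      rw [μ3, res_apply], ← sum_ite_sub DA fun b => (♯P : ℂ) • conj (ap l b).val • ρ b]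
    refine Finset.sum_congr rfl fun a _ => ?_
    let κ : P →* ℂˣ := MonoidHom.mk' (fun b => ap ζ ⁅(b : G), (a : G)⁆) fun b c => by
      rw [coe_mul, h.beta_symm (AP a.2) (mul_mem b.2 c.2), h.beta_mul (AP a.2) b.2 c.2,
        h.beta_symm (AP a.2) b.2, h.beta_symm (AP a.2) c.2, mul_inv]
    have e : κ = 1 ↔ (a : G) ∈ D := ⟨fun e => ⟨AP a.2, fun x hx => DFunLike.congr_fun e ⟨x, hx⟩⟩,
      fun e => MonoidHom.ext fun b => e.2 b b.2⟩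
    rw [← Finset.sum_smul, Finset.sum_congr rfl (g := fun b : P => conj (κ b : ℂ) * conj (ap l a).val)
      fun b _ => by rw [cjc_apply, cP b b.2 a a.2, Units.val_mul, map_mul]; rfl,
      ← Finset.sum_mul, sum_conj, mul_smul]
    simp only [e]
    split_ifs <;> simp
  have c0 : (♯A : ℂ)⁻¹ * ♯P * ♯D ≠ 0 :=
    mul_ne_zero (mul_ne_zero (inv_ne_zero (H4.card_ne_zero A)) (H4.card_ne_zero P)) (H4.card_ne_zero D)
  have tl1 : LinearMap.trace ℂ _ (pr ρ l) = a + a := by rw [← ha, ← trace_pr, map_one, mul_one]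
  have tμ : LinearMap.trace ℂ _ (pr ρ μ) = d := by rw [← hd, ← trace_pr, map_one, mul_one]
  have cA : ♯A = ♯D * Nat.card W := card_of_hom DA (fun x => (φ x).1)
    (fun x hx y hy => by rw [hn.add x hx.1 y hy.1]; rfl)
    (fun x hx => by rw [← hn.ker x hx.1, Prod.ext_iff, hx.2]; simp)
    fun v => let ⟨x, hx, e⟩ := hn.surj (v, 0); ⟨x, ⟨hx, by rw [e]⟩, by rw [e]⟩
  have e1 : 2 * a * Nat.card W = d := by
    have := congrArg (LinearMap.trace ℂ _) id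
    rw [map_sum, Finset.sum_congr rfl (g := fun _ => (a + a : ℂ)) fun b _ => by
      rw [LinearMap.trace_mul_comm, ← mul_assoc, ← map_mul, mul_inv_cancel, map_one, one_mul, tl1],
      map_smul, tμ, Finset.sum_const, Finset.card_univ, ← Nat.card_eq_fintype_card, cA] at this
    have k1 := H4.card_ne_zero D
    have k2 := H4.card_ne_zero P
    have k3 : (Nat.card W : ℂ) ≠ 0 := fun e => H4.card_ne_zero A (by rw [cA]; simp [e])
    simp only [nsmul_eq_mul, smul_eq_mul, Nat.cast_mul] at this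
    field_simp at this
    exact_mod_cast (show (2 * a * Nat.card W : ℂ) = d by linear_combination this)
  suffices 3 * k ≤ 4 * a ∧ (Odd k → k ≤ a) from ⟨a, this.1, this.2, e1 ▸ dm⟩
  refine key2 ρ hp h2 hP hN hk (pr_idem ρ l) tl1 (sq_of h.ht) ((trace_pr ρ l t).trans t0)
    (pr_comm ρ tl) (fun x hx => pr_comm ρ (l2 ⟨hJ hx, upA x (hJ hx) (up x hx)⟩))
    (pr_comm ρ (l2 ⟨hy, upA y hy upy⟩)) (hJ.trans h.Jt) (h.Jt hy) ?_
  by_contra! triv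
  obtain ⟨N, N1, N2, N3⟩ := env ρ h.JP (e := pr ρ μ) fun x hx => pr_comm ρ (μJ hx)
  set 𝒜 := Submodule.span ℂ (Set.range fun b : P => ρ b * pr ρ μ) with h𝒜
  have gen' : ∀ b ∈ P, ρ b * pr ρ μ ∈ 𝒜 := fun b hb => Submodule.subset_span ⟨⟨b, hb⟩, rfl⟩
  have e2 : pr ρ l = pr ρ l * pr ρ μ := by
    rw [comm_pr ρ l fun a ha => pr_comm ρ (μP (AP ha)), μ3, res_pr]
  have tN := (N3 t h.tJ).1 (gen N N1 N2 fun x hx => (N3 x (hJ hx)).2 (by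
    rw [← Submodule.smul_mem_iff _ c0, ← mul_smul_comm, ← id, Finset.mul_sum]
    refine Submodule.sum_mem _ fun b _ => ?_
    have e3 : ρ x * (ρ (b : G)⁻¹ * pr ρ l * ρ b) =
        ρ (x * (b : G)⁻¹ * x⁻¹) * (pr ρ l * (ρ b * pr ρ μ)) := by
      rw [pr_comm ρ (μP b.2), ← mul_assoc (pr ρ l), ← e2]
      nth_rewrite 2 [← triv x hx]
      simp only [← mul_assoc, ← map_mul, inv_mul_cancel_right]
    rw [e3]
    nth_rewrite 1 [pr]
    rw [smul_mul_assoc, mul_smul_comm, Finset.sum_mul, Finset.mul_sum]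
    refine Submodule.smul_mem _ _ (Submodule.sum_mem _ fun a _ => ?_)
    rw [smul_mul_assoc, mul_smul_comm, ← mul_assoc, ← mul_assoc, ← map_mul, ← map_mul]
    exact Submodule.smul_mem _ _ (gen' _ (mul_mem (mul_mem
      (conj_mem (h.JP (hJ hx)) (inv_mem b.2)) (AP a.2)) b.2))))
  have z : 𝒜 ≤ LinearMap.ker (LinearMap.trace ℂ _ ∘ₗ LinearMap.mulLeft ℂ (ρ t)) :=
    Submodule.span_le.2 (by
      rintro _ ⟨b, rfl⟩
      change LinearMap.trace ℂ _ (ρ t * (ρ b * pr ρ μ)) = 0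
      rw [← mul_assoc, ← map_mul, LinearMap.trace_mul_comm, trace_pr,
        ← inv_mul_cancel_right (t * b) t]
      exact trt _ (conj_mem h.tP b.2))
  have := z tN
  change LinearMap.trace ℂ _ (ρ t * (ρ t * pr ρ μ)) = 0 at this
  rw [← mul_assoc, ← map_mul, sq_of h.ht, map_one, one_mul, tμ, ← hd] at this
  exact μ0 this

theorem pd [Finite W] (hn : NS lam J P R φ) (hq : Nat.card F = q) (hF : (2 : F) ≠ 0)
    {P₀ : Subgroup G} {p k : ℕ} (hp : p.Prime) (h2 : p ≠ 2) (hP : IsPi {p} P₀) (hJ : P₀ ≤ J)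
    (hy : y ∈ J) (hN : y ∈ N[P₀]) (hkq : 2 * k + 1 = q)
    (hk : ∀ j : ℕ, ¬ k ∣ j → ∀ x ∈ P₀, y ^ j * x * (y ^ j)⁻¹ * x⁻¹ ∈ Phi P₀ → x ∈ Phi P₀)
    (up : ∀ x ∈ P₀, lam x 1 0 = 0) (upy : lam y 1 0 = 0)
    (gen : ∀ N ≤ J, J ≤ N[N] → P₀ ≤ N → t ∈ N)
    (hs : Odd k ∨ ∃ (s i d : G) (r n : ℕ), s ∈ N[P] ∧ s ∈ N[R] ∧ s * s = 1 ∧ i ∈ J ∧
      i * s * i⁻¹ = t * s ∧ d ∈ J ∧ d ∈ C{s} ∧ r.Prime ∧ d ^ r ^ n = 1 ∧
      lam d 0 0 + lam d 1 1 ≠ 2 ∧ ¬ q ≡ 1 [MOD r]) : Abl P := by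
  by_contra hA
  obtain ⟨ζ, h0, h1, z, hz, -, e2⟩ := h.exists_ζ hA
  obtain ⟨W₁, hW⟩ := hn.exists_sub (h.le_Rad ζ) (h.Rad_le ζ) (h.J_Rad ζ)
  obtain ⟨ψ, hn'⟩ : ∃ ψ : G → (W ⧸ W₁) × (W ⧸ W₁), NS lam J P (h.Rad ζ) ψ :=
    ⟨_, hn.quot (h.Rad_le ζ) hW⟩
  obtain ⟨m, hm, m1⟩ := one_le_of_ne h.chr h0
  obtain ⟨a, a1, a2, a3⟩ := h.deg_bound hn hq hn' hm (by omega) h1 hp h2 hP hJ hy hN hk up upy gen
  have : Finite (W ⧸ W₁) := Finite.of_surjective _ W₁.mkQ_surjective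
  have hc := Module.natCard_eq_pow_finrank (K := F) (V := W ⧸ W₁)
  rw [hq] at hc
  have q5 := h.q5
  have hle := h.le
  have r0 : finrank F (W ⧸ W₁) ≠ 0 := fun e => by
    have := Module.finrank_zero_iff.1 e
    exact e2 ((hn'.ker z hz).1 (Subsingleton.elim _ _))
  have hc1 : q ≤ Nat.card (W ⧸ W₁) := hc ▸ Nat.le_self_pow r0 q
  obtain ⟨m₁, hm₁⟩ := tr_nat h.chr (1 : R →* ℂˣ)
  have k1 := h.m1 h.RP (centralizer_le_normalizer _ (h.JR h.tJ)) hm₁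
  have k2 := ncard_le1 h.chr h.deg {ζ⁻¹, ζ} (n := m) (by
    rintro (e | e)
    exacts [h1 (hom_ext fun a _ => by
      rw [← inv_inv (ap ζ a), ← ap_inv_hom, ← e, ap_one_hom, inv_one]), h1 e.symm]) hm₁ fun l hl => ⟨m, by
      rcases hl with rfl | rfl
      exacts [(tr_inv h.real _).trans hm, hm], le_rfl⟩
  rw [Set.ncard_pair (h.inv_ne h.RP h1)] at k2
  have k3 := (Nat.mul_le_mul_left (2 * a) hc1).trans a3
  rcases hs with ho | ⟨s, i, d, r, n, sP, sR, ss, iJ, is, dJ, ds, hr, dr, dt, qr⟩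
  · have := Nat.mul_le_mul_right q (a2 ho)
    subst hkq; nlinarith
  set ξ := cjc ζ ⟨s, sR⟩ with hξ
  have sD : s ∈ N[h.Rad ζ] := by
    by_cases c1 : ξ = ζ
    · exact h.norm_Rad sP fun r hr e => by rwa [← ap_cjc ζ sR hr, ← hξ, c1]
    by_cases c2 : ξ = ζ⁻¹
    · exact h.norm_Rad sP fun r hr e => by rw [← ap_cjc ζ sR hr, ← hξ, c2, ap_inv_hom, e, inv_one]
    have ξ1 : ξ ≠ 1 := fun e => h1 (cjc_eq_one e)
    have ξm : tr χ ξ 1 = m := (tr_cjc h.chr.classFun _ _).trans hm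
    have k4 := ncard_le h.chr h.deg ({ζ⁻¹, ζ} ∪ {ξ⁻¹, ξ}) (n := m) fun l hl => ⟨m, by
      rcases hl with (rfl | rfl) | rfl | rfl
      exacts [(tr_inv h.real _).trans hm, hm, (tr_inv h.real _).trans ξm, ξm], le_rfl⟩
    rw [Set.ncard_union_eq (by
      rw [Set.disjoint_left]
      rintro l (e' | e') (e | e)
      exacts [c1 (inv_injective (e.symm.trans e')), c2 (e.symm.trans e'),
        c2 (by rw [← inv_inv ξ, ← e, show l = ζ from e']), c1 (e.symm.trans e')]),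
      Set.ncard_pair (h.inv_ne h.RP h1), Set.ncard_pair (h.inv_ne h.RP ξ1)] at k4
    have := Nat.mul_le_mul_right q a1
    subst hkq; nlinarith
  have hc2 : Nat.card (W ⧸ W₁) = q := by
    have : q ^ finrank F (W ⧸ W₁) < q ^ 2 := by
      have := (Nat.mul_le_mul_right _ (show 1 ≤ 2 * a by omega)).trans a3
      omega
    have := (Nat.pow_lt_pow_iff_right (by omega)).1 this
    rw [hc, show finrank F (W ⧸ W₁) = 1 by omega, pow_one]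
  obtain ⟨σ, hσ⟩ := hn'.exists_aut sP sD
  obtain ⟨ι, hι⟩ := hn'.exists_aut (h.JP iJ) (h.J_Rad ζ iJ)
  obtain ⟨δ, hδ⟩ := hn'.exists_aut (h.JP dJ) (h.J_Rad ζ dJ)
  have ind : ∀ {Q : (W ⧸ W₁) × (W ⧸ W₁) → Prop}, (∀ x ∈ P, Q (ψ x)) → ∀ v, Q v := fun H v => by
    obtain ⟨x, hx, rfl⟩ := hn'.surj v
    exact H x hx
  have ht : ∀ x ∈ P, ψ (t * x * t⁻¹) = -ψ x := fun x hx => eq_neg_of_add_eq_zero_right (by
    rw [← hn'.add x hx _ (conj_mem h.tP hx)]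
    exact (hn'.ker _ (h.RP (h.nt hx))).2 (h.le_Rad ζ (h.nt hx)))
  have hd : ∀ (k : ℕ), ∀ x ∈ P, δ^[k] (ψ x) = ψ (d ^ k * x * (d ^ k)⁻¹) := fun k => by
    induction k with
    | zero => intro x _; simp
    | succ k ih =>
      intro x hx
      rw [Function.iterate_succ_apply, hδ x hx, ih _ (conj_mem (h.JP dJ) hx)]
      congr 1; group
  refine qr (fix_count (fun v hv => (smul_eq_zero_iff_right hF).1 (by rwa [two_smul])) σ ι δ
    (ind fun x hx => ?_) ((injective_iff_map_eq_zero _).2 (ind fun x hx e => ?_))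
    (ind fun x hx => ?_) (ind fun x hx => ?_) (n := n) hr (ind fun x hx => ?_)
    (ind fun x hx e => ?_) (by rw [Nat.card_prod, hc2, sq]))
  · rw [hσ x hx, hσ _ (conj_mem sP hx)]
    congr 1
    calc _ = s * s * x * (s * s)⁻¹ := by group
      _ = x := by rw [ss]; group
  · rw [hι x hx, hn'.ker _ (conj_mem (h.JP iJ) hx), conj_mem_iff (h.J_Rad ζ iJ)] at e
    exact (hn'.ker x hx).2 e
  · rw [hσ x hx, hι x hx, hι _ (conj_mem sP hx), hσ _ (conj_mem (h.JP iJ) hx),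
      ← ht _ (conj_mem sP (conj_mem (h.JP iJ) hx))]
    congr 1
    calc _ = (i * s * i⁻¹) * (i * x * i⁻¹) * (i * s * i⁻¹)⁻¹ := by group
      _ = _ := by rw [is]; group
  · rw [hσ x hx, hδ x hx, hδ _ (conj_mem sP hx), hσ _ (conj_mem (h.JP dJ) hx)]
    congr 1
    calc _ = (d * s) * x * (d * s)⁻¹ := by group
      _ = _ := by rw [mem_C1.1 ds]; group
  · rw [hd _ x hx, dr]; simp
  · rw [hδ x hx] at e
    exact (hn'.ker x hx).2 (hn'.fpf dJ dt hx e)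

end ST

end H20.QK
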