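import Mathlib
import Cfsg.Agent.H20.SoC
import Cfsg.Agent.H3.Transfer

/-! # Solomon's theorem: reduction to the simple case -/

set_option autoImplicit false
set_option linter.unusedSectionVars false

namespace H20.So

open Subgroup Equiv Equiv.Perm Cfsg H24 H23 H25.LB H5.Ly
open scoped commutatorElement

universe u

section

variable {G G' : Type*} [Group G] [Finite G] [Group G'] [Finite G'] {n : ℕ} {W K J : Subgroup G} {t : G}

theorem f_equiv (f : G →* G') (hf : Function.Surjective f) (hk : (Nat.card f.ker).Coprime 2) :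
    Nonempty (G ⧸ pPrimeCore 2 G ≃* G' ⧸ pPrimeCore 2 G') :=
  ⟨(QuotientGroup.quotientMulEquivOfEq (by
      rw [← MonoidHom.comap_ker, ker_piO, comap_pPrimeCore_of_cop_ker hf hk])).trans
    (QuotientGroup.quotientKerEquivOfSurjective ((piO 2 G').comp f) ((piO_surj 2 G').comp hf))⟩

theorem f_equiv' (f : G →* G') (K : Subgroup G) (hk : (Nat.card ↥(K ⊓ f.ker)).Coprime 2) :
    Nonempty (K ⧸ pPrimeCore 2 K ≃* K.map f ⧸ pPrimeCore 2 (K.map f)) :=
  f_equiv (f.subgroupMap K) (f.subgroupMap_surjective K) (by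
    rwa [ker_subgroupMap, card_subgroupOf, inf_comm])

theorem f_cn_map (f : G →* G') (hf : Function.Injective f) (c : Cn W t K J) :
    Cn (W.map f) (f t) (K.map f) (J.map f) := by
  have e : (K ⊔ opp 2 J).map f = K.map f ⊔ opp 2 (J.map f) := by rw [Subgroup.map_sup, map_opp_of_injective 2 J hf]
  refine ⟨c.comp.map_of_injective hf, map_mono c.le, ?_, ?_, c.ty.imp (fun h => e ▸ map_mono h) fun h => ?_⟩
  · rintro _ ⟨⟨y, hy, rfl⟩, h⟩
    exact e ▸ mem_map_of_mem f (c.cent ⟨hy, mem_C1.2 (hf (by rw [map_mul, map_mul]; exact mem_C1.1 h))⟩)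
  · rw [← map_opp_of_injective 2 J hf, ← map_opp_of_injective 2 K hf]
    exact map_mono c.core
  · obtain ⟨e⟩ := f_equiv' f J (cop_of_le (cop_ker_of_injective hf) inf_le_right)
    exact e.isSimpleGroup_congr.1 h

theorem f_ih {X : Type u} [Group X] [Finite X]
    (h : ∀ (Y : Type u) [Group Y] [Finite Y], Nat.card Y < Nat.card X → Main n Y) : IH n X := by
  intro W hW t K hK
  have hKW : K ≤ W := hK.comp.1.trans inf_le_left
  have e := map_subgroupOf_eq_of_le hKW
  obtain ⟨J, c⟩ := h W (card_top (G := X) ▸ card_lt (lt_top_iff_ne_top.2 hW)) ⟨t, hKW hK.mem⟩ (K.subgroupOf W)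
    ⟨by rw [orderOf_mk, hK.iv], hK.mem, by
      have := pcomp_subgroupOf hK.comp inf_le_left
      convert this using 1
      ext x
      exact ⟨fun h => ⟨x.2, mem_C1.2 (congrArg Subtype.val (mem_C1.1 h))⟩,
        fun h => mem_C1.2 (Subtype.ext (mem_C1.1 h.2))⟩, le_rfl,
      ty_of_map W.subtype (e.symm ▸ hK.ty) (by simp)⟩
  have := f_cn_map W.subtype W.subtype_injective c
  rw [e, H24.map_subtype_top] at this
  exact ⟨_, this⟩

theorem f_core (hn : 8 ≤ n) (hM : Main n (G ⧸ pPrimeCore 2 G)) : Main n G := by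
  intro t K h
  have hk := cop_ker_piO 2 G
  obtain ⟨J', c⟩ := hM (piO 2 G t) (K.map (piO 2 G)) ⟨orderOf_map_of_cop_ker hk h.iv, mem_map_of_mem _ h.mem, by
      rw [← map_centralizer_singleton_of_cop_ker (piO_surj 2 G) hk (t2_pg (iv_mul h.iv))]
      exact pcomp_map_of_cop_ker hk h.comp, le_rfl,
    ty_map hn h.ty _ (cop_two_iff_odd.1 (cop_of_le hk inf_le_right))⟩
  obtain ⟨J, hJ, rfl⟩ := t2_lift (H := ⊤) hk (by rw [map_top_of_surjective _ (piO_surj 2 G)]; exact c.comp)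
  have h0 : opp 2 (J.map (piO 2 G)) = ⊥ := by
    rw [pcomp_opp_eq c.comp, opp_top, H2.pPrimeCore_quotient_pPrimeCore, bot_inf_eq]
  have h1 : opp 2 J = pPrimeCore 2 G ⊓ J := by rw [pcomp_opp_eq hJ, opp_top]
  have h2 : K ≤ J := le_of_pGen_of_le_sup_cop (opp_le_normalizer_pcomp hJ) (opp_cop 2 _) (pcomp_pGen_eq h.comp) (by
    rw [opp_top, ← comap_map_piO, ← map_le_iff_le_comap]; exact c.le)
  have h3 : ∀ x ∈ J, piO 2 G x ∈ K.map (piO 2 G) ⊔ opp 2 (J.map (piO 2 G)) → x ∈ K ⊔ opp 2 J := fun x hx hx' => by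
    rw [h0, sup_bot_eq, ← mem_comap, comap_map_piO] at hx'
    rw [h1, group_modl' (norm_of_normal K _) h2]
    exact ⟨hx', hx⟩
  refine ⟨J, hJ, h2, fun x hx => h3 x hx.1 (c.cent ⟨mem_map_of_mem _ hx.1, mem_C1.2 (by
    rw [← map_mul, mem_C1.1 hx.2, map_mul])⟩), ?_,
    c.ty.imp (fun h x hx => h3 x hx (h (mem_map_of_mem _ hx))) fun h => ?_⟩
  · have := (map_opp_le 2 K (piO 2 G)).trans c.core
    rw [h0, le_bot_iff, Subgroup.map_eq_bot_iff, ker_piO] at this
    exact h1 ▸ le_inf this ((opp_le 2 K).trans h2)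
  · obtain ⟨e⟩ := f_equiv' (piO 2 G) J (cop_of_le hk inf_le_right)
    exact e.isSimpleGroup_congr.2 h

theorem f_comp (hO : pPrimeCore 2 G = ⊥) (h : Pr n t K) : ∃ A : Subgroup G, IsComponent A ∧ K ≤ A := by
  have h1 : K ≤ layer G := pcomp_le_layer hO _ (t2_pg (iv_mul h.iv)) K (by rw [C_zpowers]; exact h.comp)
  by_contra hh
  push Not at hh
  have h2 : ⁅layer G, K⁆ = ⊥ := layer_comm fun A hA => by
    have hN := layer_le_normalizer_of_isSubnormal hA.1
    have := pump_top (by rw [sq, iv_mul h.iv]) h.comp (hN (h1 h.mem)) (pLayer_eq_layer (p := 2) hO ▸ hN)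
    rw [hO, sup_bot_eq, le_bot_iff] at this
    exact comm_bot_symm (this.resolve_left (hh A hA))
  exact not_sol h.comp (h.comp.perfect.symm.trans (comm_bot_mono h2 h1 le_rfl) ▸ sol_bot)

theorem f_simple (hq : IsQuasisimple G) (hZ : center G = ⊥) : IsSimpleGroup G := by
  obtain ⟨-, h1, h2⟩ := isQuasisimple_iff.1 hq
  exact ⟨fun N hN => (h2 N hN).symm.imp_left fun h => le_bot_iff.1 (hZ ▸ h)⟩

theorem f_two (hO : pPrimeCore 2 G = ⊥) {z : G} (hz : z ∈ center G) : ∃ k : ℕ, z ^ 2 ^ k = 1 := by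
  obtain ⟨a, b, e, -, hb, ha, ob⟩ := two_odd z
  have m : zpowers b ≤ center G := zpowers_le.2 (zpowers_le.2 hz hb)
  have : zpowers b ≤ opp 2 ⊤ := le_opp le_top
    (norm_zpowers_of_cent fun g _ => mem_C1.2 (mem_center_iff.1 (m (mem_zpowers b)) g))
    (by rw [Nat.card_zpowers]; exact cop_two_iff_odd.2 ob)
  rw [opp_top, hO] at this
  rwa [e, mem_bot.1 (this (mem_zpowers b)), mul_one]

theorem f_pr (hn : 8 ≤ n) (h : Pr n t K) (hK : K ⊓ center G = ⊥) :
    Pr n (QuotientGroup.mk' (center G) t) (K.map (QuotientGroup.mk' (center G))) := by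
  set ψ := QuotientGroup.mk' (center G) with hψ
  have hk : ψ.ker = center G := QuotientGroup.ker_mk' _
  have hs : Function.Surjective ψ := QuotientGroup.mk'_surjective _
  have h1 : (Nat.card ↥(K ⊓ ψ.ker)).Coprime 2 := by rw [hk, hK]; simp
  have h2 : C{t} ≤ C{ψ t}.comap ψ := fun x hx => mem_C1.2 (by rw [← map_mul, mem_C1.1 hx, map_mul])
  have h3 : C{ψ t}.comap ψ ≤ N[C{t}] := fun g hg => mem_N_of_finite fun x hx => by
    have : g⁻¹ * t * g * t⁻¹ ∈ center G := by
      rw [← hk, MonoidHom.mem_ker, map_mul, map_mul, map_mul, map_inv, map_inv, mul_assoc _ (ψ t),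
        ← mem_C1.1 (mem_comap.1 hg)]
      group
    have e := mem_center_iff.1 this x
    rw [mem_C1]
    calc g * x * g⁻¹ * t = g * (x * (g⁻¹ * t * g * t⁻¹)) * t * g⁻¹ := by group
      _ = g * (g⁻¹ * t * g * t⁻¹) * (x * t) * g⁻¹ := by rw [e]; group
      _ = _ := by rw [mem_C1.1 hx]; group
  have h4 := isSubnormal_subgroupOf_trans h.comp.1 h2 (pcomp_subnormal h.comp)
    (isSubnormal_subgroupOf_of_le_normalizer h3)
  obtain ⟨e⟩ := f_equiv' ψ K h1
  refine ⟨iv_of (by rw [← map_mul, iv_mul h.iv, map_one]) fun e => iv_ne h.iv (mem_bot.1 (hK.le ⟨h.mem, hk ▸ e⟩)),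
    mem_map_of_mem _ h.mem, isPCompOf_iff.2 ⟨map_le_iff_le_comap.2 (h.comp.1.trans h2), ?_,
      le_antisymm (pGen_le 2 _) ((map_mono (pcomp_pGen_eq h.comp).ge).trans (map_pGen_le 2 K ψ)),
      H23.IsQuasisimple.of_equiv (isPCompOf_iff.1 h.comp).2.2.2 e⟩, le_rfl, ty_map hn h.ty _ (cop_two_iff_odd.1 h1)⟩
  have := h4.map (f := ψ.subgroupComap C{ψ t}) (ψ.subgroupComap_surjective_of_surjective _ hs)
  convert this using 1
  ext y
  constructor
  · rintro ⟨x, hx, e⟩
    exact ⟨⟨x, h2 (h.comp.1 hx)⟩, hx, Subtype.ext e⟩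
  · rintro ⟨x, hx, e⟩
    exact ⟨x, hx, congrArg Subtype.val e⟩

theorem f_transfer (hn : 8 ≤ n) (hq : IsQuasisimple G) (hO : pPrimeCore 2 G = ⊥) (h : Pr n t K)
    (hK : K ⊓ center G = ⊥) (hC : C{QuotientGroup.mk' (center G) t} ≤ K.map (QuotientGroup.mk' (center G))) :
    center G = ⊥ := by
  have h' := f_pr hn h hK
  have h1 := pr_odd_index hn h' (norm_of_le hC) fun z hz hc o =>
    (t1 hn h' (k := 1) (hC hc) hz (by rw [pow_one, sq, iv_mul o])).resolve_left (iv_ne o)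
  rw [le_antisymm hC h'.comp.1, ← index_comap_of_surjective _ (QuotientGroup.mk'_surjective _), comap_map_eq,
    QuotientGroup.ker_mk'] at h1
  refine eq_bot_iff.2 fun z hz => ?_
  have h2 := H3.pow_index_mem_commutator_of_center (H := K ⊔ center G) (mem_sup_right hz) hz
    ((isQuasisimple_iff.1 hq).1.ge (mem_top z))
  rw [der1_sup_of_cent (center_le_centralizer _), h.comp.perfect,
    comm_eq_bot.2 (center_le_centralizer _), sup_bot_eq] at h2
  obtain ⟨k, hk⟩ := f_two hO hz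
  exact eq_one_of_two_odd hk (h1.of_dvd_nat (orderOf_dvd_of_pow_eq_one (hK.le ⟨h2, pow_mem hz _⟩)))

end

/-- the simple case, as a hypothesis -/
def SimpleCase (n : ℕ) : Prop :=
  ∀ (X : Type u) [Group X] [Finite X] [IsSimpleGroup X], IH n X →
    ∀ (t : X) (K : Subgroup X), Pr n t K → C{t} ≤ K ∧ opp 2 K = ⊥

theorem main {n : ℕ} (hn : 8 ≤ n) (hs : SimpleCase.{u} n) (X : Type u) [Group X] [Finite X] :
    Main n X := by
  induction' e : Nat.card X using Nat.strong_induction_on with m ih generalizing X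
  have ih' : ∀ (Y : Type u) [Group Y] [Finite Y], Nat.card Y < Nat.card X → Main n Y :=
    fun Y _ _ h => ih _ (e ▸ h) Y rfl
  have lt : ∀ (N : Subgroup X) [N.Normal], N ≠ ⊥ → Nat.card (X ⧸ N) < Nat.card X := fun N _ h => by
    rw [card_eq_card_quotient_mul_card_subgroup N]
    exact lt_mul_of_one_lt_right Nat.card_pos (one_lt_card h)
  by_cases hO : pPrimeCore 2 X = ⊥
  swap
  · exact f_core hn (ih' _ (lt _ hO))
  intro t K h
  obtain ⟨A, hA, hKA⟩ := f_comp hO h
  by_cases hT : A = ⊤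
  swap
  · obtain ⟨J, c⟩ := f_ih ih' A hT t K (h.of_le (le_inf hKA h.comp.1) inf_le_right)
    exact ⟨J, c.comp.trans le_top hA.1.subgroupOf, c.le, c.cent, c.core, c.ty⟩
  subst hT
  have hq := isComponent_top_iff.1 hA
  by_cases ht : t ∈ center X
  · have : C{t} = ⊤ := eq_top_iff.2 fun g _ => mem_C1.2 (mem_center_iff.1 ht g)
    exact ⟨K, this ▸ h.comp, le_rfl, inf_le_left.trans le_sup_left, le_rfl, Or.inl le_sup_left⟩
  have hZ : center X = ⊥ := by
    by_contra hZ
    have hK : K ⊓ center X = ⊥ := eq_bot_iff.2 fun x hx => by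
      obtain ⟨k, hk⟩ := f_two hO hx.2
      exact (t1 hn h hx.1 (mem_cz.2 ⟨norm_self K hx.1, fun g _ => by
        rw [commutatorElement_eq_one_iff_mul_comm.2 (mem_center_iff.1 hx.2 g)]; exact one_mem _⟩) hk).resolve_right
        fun e => ht (e ▸ hx.2)
    have := hq.2
    exact hZ (f_transfer hn hq hO h hK
      (hs _ (f_ih fun Y _ _ hY => ih' Y (hY.trans (lt _ hZ))) _ _ (f_pr hn h hK)).1)
  have := f_simple hq hZ
  obtain ⟨h1, h2⟩ := hs X (f_ih ih') t K h
  refine ⟨⊤, H23.IsPComponent.isPCompOf (H23.IsComponent.isPComponent_of_dvd hA (two_dvd_card_of_quasisimple hA.2)) le_rfl, le_top,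
    inf_le_right.trans (h1.trans le_sup_left), h2.le.trans bot_le, Or.inr ?_⟩
  obtain ⟨e⟩ := f_equiv (topEquiv (G := X)).toMonoidHom topEquiv.surjective (cop_ker_of_injective topEquiv.injective)
  exact (e.trans ((QuotientGroup.quotientMulEquivOfEq hO).trans QuotientGroup.quotientBot)).isSimpleGroup

end H20.So
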