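import Mathlib
import Cfsg.Agent.H20.SoC

/-!
# Commuting pairs of conjugate involutions
-/

set_option autoImplicit false
set_option linter.unusedSectionVars false

namespace H20.So

open Subgroup Equiv Equiv.Perm Cfsg H24 H23 H25.LB H5.Ly
open scoped commutatorElement

variable {G : Type*} [Group G] [Finite G] {n : ℕ} {K K' J : Subgroup G} {t s b : G}

theorem Act.φ_zp (A : Act n K) {x y : G} (hx : x ∈ N[K]) (h : y ∈ zpowers x) :
    A.φ y ∈ zpowers (A.φ x) := by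
  obtain ⟨k, rfl⟩ := (mem_powers_iff_mem_zpowers.2 h)
  exact (mem_powers_iff_mem_zpowers.1 ⟨k, (A.φ_pow hx k).symm⟩)

theorem pGen_cj {L H : Subgroup G} (h : IsPCompOf 2 L H) (g : G) : pGen 2 (cj g L) = cj g L :=
  pcomp_pGen_eq (pc_cj h g)

theorem mem_N_of_comm {D X : Subgroup G} (hD : IsPCompOf 2 D X) {m : G}
    (h : ∀ d ∈ D, ⁅m, d⁆ ∈ opp 2 X) : m ∈ N[D] := by
  refine mem_N_of_cj_le (le_of_pGen_of_le_sup_cop (opp_le_normalizer_pcomp hD) (opp_cop 2 X)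
    (pGen_cj hD m) fun x hx => ?_)
  obtain ⟨d, hd, rfl⟩ := mem_cj'.1 hx
  rw [show m * d * m⁻¹ = ⁅m, d⁆ * d by rw [commutatorElement_def]; group]
  exact mul_mem (mem_sup_right (h d hd)) (mem_sup_left hd)

theorem comm_mem_right {H : Subgroup G} {g x : G} (hg : g ∈ N[H]) (hx : x ∈ H) : ⁅g, x⁆ ∈ H :=
  mul_mem (conj_mem hg hx) (inv_mem hx)

theorem comm_mem_left {H : Subgroup G} {g x : G} (hg : g ∈ N[H]) (hx : x ∈ H) : ⁅x, g⁆ ∈ H := by
  rw [← commutatorElement_inv]; exact inv_mem (comm_mem_right hg hx)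

theorem comm_mem {H : Subgroup G} {g x : G} (hg : g ∈ H) (hx : x ∈ H) : ⁅g, x⁆ ∈ H :=
  comm_mem_right (norm_self H hg) hx

theorem l2 (hn : 8 ≤ n) (h : Pr n t K) (hb : b * b = 1) (hbN : b ∈ N[K]) (hbt : b ∈ C{t})
    (hJ : IsPCompOf 2 J C{b}) (hB : Big n J) : t ∈ N[J] := by
  by_contra hne
  have htb : t ∈ C{b} := mem_C1_comm.1 hbt
  obtain ⟨D, hD, hle, -, hm, hBD⟩ := dg hJ htb (iv_mul h.iv) hne
  obtain ⟨m1, h1, m2, h2, o1, o2, ht⟩ := g1 hn h hb hbN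
  have hs : ((K ⊓ (C{b} ⊓ C{t})).subgroupOf (C{b} ⊓ C{t})).IsSubnormal := by
    rw [inf_subgroupOf_right]
    exact isSubnormal_subgroupOf_of_le (pcomp_subnormal h.comp) inf_le_right
  rcases pcomp_le_or_comm_le hD inf_le_right hs with h3 | h3
  · exact hne ((sup_le (norm_self J) (pc_le_N hJ (pc_cj_mem hJ htb))) (hle
      (big_mem hn h hD (hBD n hB) (h3.trans inf_le_left))))
  · have key : ∀ m ∈ K ⊓ C{b}, Odd (orderOf m) → m ∈ N[J] := fun m hm' ho =>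
      mem_of_sq_mem ho (hm m hm'.2 (h.le_C hm'.1) (mem_N_of_comm hD fun d hd => by
        rw [← commutatorElement_inv]
        exact inv_mem (h3 (commutator_mem_commutator hd ⟨hm'.1, hm'.2, h.le_C hm'.1⟩))))
    exact hne (zpowers_le.2 (mul_mem (key m1 h1 o1) (key m2 h2 o2)) ht)

theorem l3 (hn : 8 ≤ n) (h : Pr n t K) (h' : Pr n s K') (hst : s * t = t * s) (hc : s ∈ cz K) :
    t ∈ cz K' := by
  have hts : t ∈ C{s} := mem_C1.2 hst.symm
  have hL := h.kx hn (cover1 (k := 1) (by rw [pow_one, sq, iv_mul h'.iv]) hc) hts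
  have hN : Kx K C{s} ≤ N[K'] := lbal1 (iv_mul h.iv) hts (by rw [inf_comm]; exact hL.comp) h'.comp
  rcases big_cz hn h'.ty hL.comp (ty_big hn hL.ty) hN (hN hL.mem) hL.le_C with h1 | h1
  exacts [h1 hL.mem, h1]

theorem mv_alg {Q : Type*} [Group Q] [Finite Q] {a0 a1 a2 b0 b1 b2 : Q} (h1 : Commute a1 a2)
    (h2 : Commute b1 b2) (z1 : Commute (a1 * a1) (a0 * a2)) (z2 : Commute (a1 * a1) (b0 * b2))
    (z3 : Commute (a1 * a1) (b1 * b1)) (z4 : Commute (b1 * b1) (a0 * a2))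
    (z5 : Commute (b1 * b1) (b0 * b2))
    (c1 : Commute a0 a2) (c2 : Commute b0 a2) (c3 : Commute a0 b2) (c4 : Commute b0 b2)
    (c5 : Commute a2 b2) :
    ⁅a0 * a1⁻¹ * (a2 * a1⁻¹), b0 * b1⁻¹ * (b2 * b1⁻¹)⁆ = ⁅a0, b0⁆ := by
  have e1 : a0 * a1⁻¹ * (a2 * a1⁻¹) = a0 * a2 * (a1 * a1)⁻¹ := by
    rw [← h1.inv_left.eq]; group
    rw [mul_assoc a0, mul_assoc a0, ((h1.zpow_left (-2)).eq)]
  have e2 : b0 * b1⁻¹ * (b2 * b1⁻¹) = b0 * b2 * (b1 * b1)⁻¹ := by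
    rw [← h2.inv_left.eq]; group
    rw [mul_assoc b0, mul_assoc b0, ((h2.zpow_left (-2)).eq)]
  rw [e1, e2, commutatorElement_mul_mul z1.inv_left.symm z2.inv_left.symm
    z4.inv_left.symm z5.inv_left.symm,
    commutatorElement_eq_one_iff_commute.2 z3.inv_inv, mul_one,
    commutatorElement_mul_mul c1 c2 c3 c4, commutatorElement_eq_one_iff_commute.2 c5, mul_one]

theorem mem_zp_of_mul {v : G} (hs : s * s = 1) (hc : v * s = s * v) (ho : Odd (orderOf (v * s))) :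
    s ∈ zpowers v := by
  obtain ⟨k, hk⟩ := ho
  have h1 := pow_orderOf_eq_one (v * s)
  rw [hk, (show Commute v s from hc).mul_pow, pow_succ s, pow_mul s, sq, hs, one_pow, one_mul] at h1
  rw [eq_inv_of_mul_eq_one_right h1]
  exact inv_mem (npow_mem_zpowers _ _)

theorem Pr.comm_mem {L : Subgroup G} (h : Pr n s K) (h' : Pr n s L) (hne : K ≠ L) {x y : G}
    (hx : x ∈ K) (hy : y ∈ L) : ⁅x, y⁆ ∈ opp 2 C{s} :=
  ((pcomp_eq_or_comm_le h.comp h'.comp).resolve_left hne) (commutator_mem_commutator hx hy)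

theorem mv (hn : 8 ≤ n) (h : Pr n t K) (h' : Pr n s K') (tN : t ∈ N[K']) {y : G} (hy : y ∈ K)
    (hys : y ∈ C{s}) (ho : Odd (orderOf y)) : y ∈ N[K'] ∨ s ∈ K := by
  refine or_iff_not_imp_left.2 fun hN => ?_
  obtain ⟨A⟩ := exists_act hn h'.ty
  obtain ⟨q1, h1, q2, h2, s1, s2, hq⟩ := q2 hn A (iv_mul h.iv) tN
  have inK : ∀ q ∈ C{t}, ∀ x ∈ K, ⁅⁅q, x⁆, x⁆ ∈ K := fun q hq x hx =>
    comm_mem_right (mul_mem (pc_le_N h.comp (pc_cj_mem h.comp hq) (conj_mem_cj q hx))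
      (norm_self K (inv_mem hx))) hx
  have hv := comm_mem (inK q1 h1.2 y hy) (inK q2 h2.2 y⁻¹ (inv_mem hy))
  have ex : ∀ q x : G, ⁅⁅q, x⁆, x⁆ =
      q * (x * q * x⁻¹)⁻¹ * ((x * x) * q * (x * x)⁻¹ * (x * q * x⁻¹)⁻¹) := fun q x => by
    simp only [commutatorElement_def]; group
  have hO : C{s} ≤ N[opp 2 C{s}] := le_normalizer_opp 2 (norm_self _)
  have P : ∀ g ∈ C{s}, Pr n s (cj g K') := fun g hg => h'.cj_mem hg
  have : Finite (QN (opp 2 C{s})) := Finite.of_surjective _ (coset_surjective _)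
  have fm : ∀ {x y : G}, x ∈ C{s} → y ∈ C{s} → ap (coset (opp 2 C{s})) (x * y) = _ :=
    fun hx hy => ap_mul _ (hO hx) (hO hy)
  have fi : ∀ {x : G}, x ∈ C{s} → ap (coset (opp 2 C{s})) x⁻¹ = _ := fun hx => ap_inv _ (hO hx)
  have fc : ∀ {x y : G}, x ∈ C{s} → y ∈ C{s} → ap (coset (opp 2 C{s})) ⁅x, y⁆ = _ :=
    fun hx hy => ap_commutator _ (hO hx) (hO hy)
  have f1 : ∀ {x : G}, x ∈ C{s} → (ap (coset (opp 2 C{s})) x = 1 ↔ x ∈ opp 2 C{s}) :=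
    fun hx => cs_eq_one (hO hx)
  generalize ap (coset (opp 2 C{s})) = f at fm fi fc f1
  have f0 : ∀ {x : G}, x ∈ opp 2 C{s} → f x = 1 := fun hx => (f1 (opp_le _ _ hx)).2 hx
  have cm : ∀ g ∈ C{s}, ∀ g' ∈ C{s}, g'⁻¹ * g ∉ N[K'] → ∀ x ∈ K', ∀ x' ∈ K',
      Commute (f (g * x * g⁻¹)) (f (g' * x' * g'⁻¹)) := fun g hg g' hg' hne x hx x' hx' => by
    have m1 := conj_mem_cj g hx
    have m2 := conj_mem_cj g' hx'
    rw [← commutatorElement_eq_one_iff_commute, ← fc ((P g hg).le_C m1) ((P g' hg').le_C m2)]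
    exact f0 ((P g hg).comm_mem (P g' hg') (fun e => hne (cj_eq_cj_iff.1 e)) m1 m2)
  have sC : s ∈ C{s} := self_mem_C1 s
  have cC : ∀ {g q : G}, g ∈ C{s} → q ∈ K' → g * q * g⁻¹ ∈ C{s} := fun hg hq =>
    mul_mem (mul_mem hg (h'.le_C hq)) (inv_mem hg)
  have fz : ∀ {q : G}, q ∈ K' → A.π q = zz → f q = f s := fun {q} hq e => by
    have e3 : q * s ∈ opp 2 K' := (A.π_one (mul_mem hq h'.mem)).1 (by
      rw [A.π_mul hq h'.mem, e, pi_t hn h' A, zz_mul_zz])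
    have := f0 (opp_le_opp h'.comp e3)
    rw [fm (h'.le_C hq) sC, mul_eq_one_iff_eq_inv, ← fi sC, iv_inv (iv_mul h'.iv)] at this
    exact this
  have sz : ∀ {x : G}, x ∈ C{s} → Commute (f s) (f x) := fun hx => by
    change _ * _ = _ * _
    rw [← fm sC hx, ← fm hx sC, mem_C1.1 hx]
  have zc : ∀ q ∈ K', A.φ q * A.φ q = 1 → ∀ g ∈ C{s}, ∀ x ∈ C{s},
      Commute (f (g * q * g⁻¹) * f (g * q * g⁻¹)) (f x) := fun q hq e g hg x hx => by
    have hqq := mul_mem hq hq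
    rw [← fm (cC hg hq) (cC hg hq), show g * q * g⁻¹ * (g * q * g⁻¹) = g * (q * q) * g⁻¹ by group,
      fm (mul_mem hg (h'.le_C hqq)) (inv_mem hg), fm hg (h'.le_C hqq), fi hg]
    have e1 : pr (A.π (q * q)) = 1 := by rw [← A.φ_π hqq,
      A.φ_mul (norm_self _ hq) (norm_self _ hq), e]
    rcases pr_eq_one e1 with e2 | e2
    · rw [f0 (opp_le_opp h'.comp ((A.π_one hqq).1 e2)), mul_one, mul_inv_cancel]
      exact Commute.one_left _
    · rw [fz hqq e2, ← (sz hg).eq, mul_inv_cancel_right]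
      exact sz hx
  have n1 : ∀ {x : G}, (x ∈ N[K'] → y ∈ N[K']) → x ∉ N[K'] := fun h1 h2 => hN (h1 h2)
  have sq1 : y * y ∈ N[K'] → y ∈ N[K'] := mem_of_sq_mem ho
  have o2 : Odd (orderOf (y * y)) := ho.of_dvd_nat (by rw [← sq]; exact orderOf_pow_dvd 2)
  have yi := inv_mem hys
  have yy := mul_mem hys hys
  have yyi := mul_mem yi yi
  have o := one_mem C{s}
  have c0 : ∀ q : G, q = 1 * q * 1⁻¹ := fun q => by group
  have hv2 : ⁅⁅⁅q1, y⁆, y⁆, ⁅⁅q2, y⁻¹⁆, y⁻¹⁆⁆ ∈ C{s} := comm_mem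
    (comm_mem (comm_mem (h'.le_C h1.1) hys) hys) (comm_mem (comm_mem (h'.le_C h2.1) yi) yi)
  have fx : ∀ {q x : G}, q ∈ K' → x ∈ C{s} → f ⁅⁅q, x⁆, x⁆ = f (1 * q * 1⁻¹) * (f (x * q * x⁻¹))⁻¹ *
      (f ((x * x) * q * (x * x)⁻¹) * (f (x * q * x⁻¹))⁻¹) := fun {q x} hq hx => by
    rw [ex, fm (mul_mem (h'.le_C hq) (inv_mem (cC hx hq)))
      (mul_mem (cC (mul_mem hx hx) hq) (inv_mem (cC hx hq))), fm (h'.le_C hq) (inv_mem (cC hx hq)),
      fm (cC (mul_mem hx hx) hq) (inv_mem (cC hx hq)), fi (cC hx hq), ← c0]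
  have key : f ⁅⁅⁅q1, y⁆, y⁆, ⁅⁅q2, y⁻¹⁆, y⁻¹⁆⁆ = f s := by
    rw [fc (comm_mem (comm_mem (h'.le_C h1.1) hys) hys)
      (comm_mem (comm_mem (h'.le_C h2.1) yi) yi), fx h1.1 hys, fx h2.1 yi, mv_alg, ← c0, ← c0,
      ← fc (h'.le_C h1.1) (h'.le_C h2.1), fz (comm_mem h1.1 h2.1) hq]
    · exact cm _ hys _ yy (n1 fun e => by simpa using inv_mem e) _ h1.1 _ h1.1
    · exact cm _ yi _ yyi (n1 fun e => by simpa using e) _ h2.1 _ h2.1
    · rw [← fm (cC o h1.1) (cC yy h1.1)]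
      exact zc _ h1.1 s1 _ hys _ (mul_mem (cC o h1.1) (cC yy h1.1))
    · rw [← fm (cC o h2.1) (cC yyi h2.1)]
      exact zc _ h1.1 s1 _ hys _ (mul_mem (cC o h2.1) (cC yyi h2.1))
    · rw [← fm (cC yi h2.1) (cC yi h2.1)]
      exact zc _ h1.1 s1 _ hys _ (mul_mem (cC yi h2.1) (cC yi h2.1))
    · rw [← fm (cC o h1.1) (cC yy h1.1)]
      exact zc _ h2.1 s2 _ yi _ (mul_mem (cC o h1.1) (cC yy h1.1))
    · rw [← fm (cC o h2.1) (cC yyi h2.1)]
      exact zc _ h2.1 s2 _ yi _ (mul_mem (cC o h2.1) (cC yyi h2.1))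
    · exact cm _ o _ yy (n1 fun e => sq1 (by simpa using inv_mem e)) _ h1.1 _ h1.1
    · exact cm _ o _ yy (n1 fun e => sq1 (by simpa using inv_mem e)) _ h2.1 _ h1.1
    · exact cm _ o _ yyi (n1 fun e => sq1 (by simpa using e)) _ h1.1 _ h2.1
    · exact cm _ o _ yyi (n1 fun e => sq1 (by simpa using e)) _ h2.1 _ h2.1
    · exact cm _ yy _ yyi (n1 fun e => sq1 (mem_of_sq_mem o2 (by simpa using e))) _ h1.1 _ h2.1
  refine zpowers_le.2 hv (mem_zp_of_mul (iv_mul h'.iv) (mem_C1.1 hv2)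
    (odd_orderOf_of_mem (odd_opp C{s}) ((f1 (mul_mem hv2 sC)).1 ?_)))
  rw [fm hv2 sC, key, ← fm sC sC, iv_mul h'.iv]
  exact f0 (one_mem _)

/-- a pair normalising, but not centralising, each other's components -/
structure Np (n : ℕ) (t s : G) (K K' : Subgroup G) : Prop where
  h : Pr n t K
  h' : Pr n s K'
  st : s * t = t * s
  cj : IsConj t s
  sN : s ∈ N[K]
  sz : s ∉ cz K

theorem exists_pr (h : Pr n t K) (hs : IsConj t s) : ∃ K', Pr n s K' := by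
  obtain ⟨g, rfl⟩ := isConj_iff.1 hs
  exact ⟨_, h.cj g⟩

namespace Np
variable (hn : 8 ≤ n) (p : Np n t s K K')
include p

theorem sC : s ∈ C{t} := mem_C1.2 p.st
theorem tC : t ∈ C{s} := mem_C1.2 p.st.symm
theorem s2 : s * s = 1 := iv_mul p.h'.iv
theorem t2 : t * t = 1 := iv_mul p.h.iv

include hn

theorem tN : t ∈ N[K'] := l2 hn p.h p.s2 p.sN p.sC p.h'.comp (ty_big hn p.h'.ty)

theorem symm : Np n s t K' K :=
  ⟨p.h', p.h, p.st.symm, p.cj.symm, p.tN hn, fun e => p.sz (l3 hn p.h' p.h p.st.symm e)⟩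

theorem right {L : Subgroup G} (h : Pr n s L) : Np n t s K L := ⟨p.h, h, p.st, p.cj, p.sN, p.sz⟩

theorem left {L : Subgroup G} (h : Pr n t L) : Np n t s L K' :=
  ((p.symm hn).right hn h).symm hn

theorem mv {y : G} (hy : y ∈ K ⊓ C{s}) (ho : Odd (orderOf y)) : y ∈ N[K'] := by
  by_contra hN
  have hs := (So.mv hn p.h p.h' (p.tN hn) hy.1 hy.2 ho).resolve_left hN
  obtain ⟨g, hg⟩ := isConj_iff.1 p.cj.symm
  have h1 := p.h'.cj g
  have h2 := (p.h'.cj_mem hy.2).cj g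
  rw [hg] at h1 h2
  have key : ∀ L, Pr n t L → L = K := fun L hL => by
    by_contra hne
    exact (p.left hn hL).sz (ne_le_cz hL.comp p.h.comp hne hs)
  exact hN (mem_N_iff_cj.2 (cj_inj.1 ((key _ h2).trans (key _ h1).symm)))

theorem key (A : Act n K') {m : G} (hm : m ∈ K ⊓ C{s}) (ho : Odd (orderOf m))
    (hF : ¬ Fx (A.φ t) (A.φ m)) : ∃ q ∈ K', q ∈ N[K] ∧ s ∈ zpowers ⁅q, m⁆ := by
  simp only [Fx, not_forall] at hF
  obtain ⟨a, ha, hη⟩ := hF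
  have tN := p.tN hn
  have mN := p.mv hn hm ho
  have τ2 := A.φ_sq tN p.t2
  obtain ⟨b1, b2, h5, e⟩ := p_ot τ2 (A.φ_commute tN mN (mem_C1.1 (p.h.le_C hm.1)).symm)
    (A.odd_φ mN ho) ha hη
  obtain ⟨m1, h1, m2, h2, o1, o2, e2⟩ := g1b A p.t2 tN h5 b1
  have hq := mul_mem h1.1 h2.1
  have hw := comm_mem_left mN hq
  refine ⟨m1 * m2, hq, mul_mem ((p.symm hn).mv hn h1 o1) ((p.symm hn).mv hn h2 o2),
    mem_zp2 hn p.h' A hw (ee_sq τ2 b2 ?_)⟩
  rw [← A.φ_π hw, A.φ_comm (norm_self _ hq) mN, e2, e]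

theorem two (A : Act n K') {m1 m2 : G} (h1 : m1 ∈ K ⊓ C{s}) (h2 : m2 ∈ K ⊓ C{s})
    (o1 : Odd (orderOf m1)) (o2 : Odd (orderOf m2)) (ht : t ∈ zpowers (m1 * m2)) :
    ¬ Fx (A.φ t) (A.φ m1) ∨ ¬ Fx (A.φ t) (A.φ m2) := by
  by_contra hc
  push Not at hc
  have n1 := p.mv hn h1 o1
  have n2 := p.mv hn h2 o2
  have := (hc.1.mul hc.2).of_mem_zpowers (ν := A.φ t) (by
    rw [← A.φ_mul n1 n2]; exact A.φ_zp (mul_mem n1 n2) ht)
  exact (p.symm hn).sz ((A.φ_one (p.tN hn)).1 this.eq_one)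

theorem mem : s ∈ K := by
  obtain ⟨A⟩ := exists_act hn p.h'.ty
  obtain ⟨m1, h1, m2, h2, o1, o2, ht⟩ := g1 hn p.h p.s2 p.sN
  rcases p.two hn A h1 h2 o1 o2 ht with h | h
  · obtain ⟨q, -, hq, e⟩ := p.key hn A h1 o1 h
    exact zpowers_le.2 (comm_mem_right hq h1.1) e
  · obtain ⟨q, -, hq, e⟩ := p.key hn A h2 o2 h
    exact zpowers_le.2 (comm_mem_right hq h2.1) e

theorem C_le : C{t} ≤ N[K] := fun g hg => by
  by_contra hN
  exact p.sz (ne_le_cz p.h.comp (p.h.cj_mem hg).comp (fun e => hN (mem_N_iff_cj.2 e.symm))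
    ((p.left hn (p.h.cj_mem hg)).mem hn))

theorem fix (A : Act n K) : n < (A.φ s).support.card + 4 := by
  by_contra hf
  obtain ⟨A'⟩ := exists_act hn p.h'.ty
  obtain ⟨m1, h1, m2, h2, o1, o2, f1, f2, ht⟩ := g1a hn p.h A p.s2 p.sN (not_lt.1 hf)
  have key : ∀ m ∈ K ⊓ C{s}, Odd (orderOf m) → Fx (A.φ s) (A.φ m) → Fx (A'.φ t) (A'.φ m) :=
    fun m hm ho f => by
      by_contra hF
      obtain ⟨q, hq', hq, e⟩ := p.key hn A' hm ho hF
      have mN := norm_self _ hm.1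
      have f3 : Fx (A.φ s) (A.φ ⁅q, m⁆) := by
        rw [A.φ_comm hq mN, commutatorElement_def]
        exact (f.conj (A.φ_commute p.sN hq (mem_C1.1 (p.h'.le_C hq')).symm)).mul f.inv
      exact p.sz ((A.φ_one p.sN).1 (f3.of_mem_zpowers (A.φ_zp (comm_mem hq mN) e)).eq_one)
  exact (p.two hn A' h1 h2 o1 o2 ht).elim (· (key m1 h1 o1 f1)) (· (key m2 h2 o2 f2))

theorem le11 : n ≤ 11 := by
  obtain ⟨A⟩ := exists_act hn p.h.ty
  obtain ⟨A'⟩ := exists_act hn p.h'.ty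
  have f1 := p.fix hn A
  have f2 := (p.symm hn).fix hn A'
  by_contra hlt
  have tN := p.tN hn
  have CN := (p.symm hn).C_le hn
  obtain ⟨a, c, hB⟩ := exists_bl (A.φ_sq p.sN p.s2) (by omega)
  obtain ⟨x, hx, e1, e2⟩ := h2 hn p.h A p.s2 p.sN hB
  have xN := CN hx.2
  obtain ⟨ρ, r1, r2, r3⟩ := p_rho (A'.φ_sq tN p.t2) (η := A'.φ x)
    (by rw [← A'.φ_mul xN xN, e1]) (by omega)
  obtain ⟨r, hr, hrt, -, rfl⟩ := lf1 A' (e := 1) (by rw [pow_one, sq, p.t2]) tN r1 r2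
  have rN := p.C_le hn hrt
  have rs := p.h'.le_C hr
  have hv := comm_mem_left rN hx.1
  have e3 : A.π (⁅x, r⁆ ^ 4) = 1 := by
    rw [A.π_pow hv, show ∀ y : PP n, y ^ 4 = y * y * (y * y) from fun y => by
      simp only [pow_succ, pow_zero, one_mul, mul_assoc]]
    refine sq_sq_of_pr ?_
    rw [← A.φ_π hv, A.φ_comm (norm_self _ hx.1) rN, e2]
    exact ee_base (A.φ_sq p.sN p.s2) hB (A.φ_commute p.sN rN (mem_C1.1 rs).symm)
  have hY : ⁅x, r⁆ ^ 4 ∈ opp 2 C{t} ⊓ C{s} :=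
    ⟨opp_le_opp p.h.comp ((A.π_one (pow_mem hv 4)).1 e3), pow_mem (comm_mem hx.2 rs) 4⟩
  have := ot A' p.t2 tN (Y := opp 2 C{t} ⊓ C{s})
    ((odd_opp C{t}).of_dvd_nat (card_dvd_of_le inf_le_left))
    (le_inf (inf_le_right.trans CN) (inf_le_left.trans (opp_le _ _)))
    (norm_inf (inf_le_right.trans (le_normalizer_opp 2 (norm_self _)))
      (inf_le_left.trans (norm_of_le p.h'.le_C))) hY
  rw [A'.φ_pow (comm_mem xN (norm_self _ hr)), A'.φ_comm xN (norm_self _ hr)] at this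
  exact r3 this

end Np

theorem case_M [IsSimpleGroup G] (hn : 8 ≤ n) (ih : IH n G) (h : Pr n t K) (hs : IsConj t s)
    (hst : s * t = t * s) : s ∈ N[K] := by
  by_contra hN
  obtain ⟨K', h'⟩ := exists_pr h hs
  have s2 := iv_mul h'.iv
  have t2 := iv_mul h.iv
  have si := iv_inv s2
  have sC : s ∈ C{t} := mem_C1.2 hst
  have tC : t ∈ C{s} := mem_C1.2 hst.symm
  have tN : t ∉ N[K'] := fun e => hN (l2 hn h' t2 e tC h.comp (ty_big hn h.ty))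
  have hK2 := h.cj_mem sC
  have hne : K ≠ cj s K := fun e => hN (mem_N_iff_cj.2 e.symm)
  obtain ⟨k0, hk0, k2, kz⟩ := four hn h.ty
  obtain ⟨c, hc, e⟩ := dh2 (odd_opp C{t}) (iv_mul k2) s2 (by
    have := h.comm_mem hK2 hne hk0 (conj_mem_cj s hk0)
    rw [commutatorElement_def, iv_inv (iv_mul k2), iv_inv (iv_mul (iv_conj k2 s)), si] at this
    convert this using 1
    simp only [pow_succ, pow_zero, one_mul, mul_assoc])
  have hcz := opp_le_cz h.comp hc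
  have hk : c * k0 * c⁻¹ ∈ K := conj_mem (cz_le K hcz) hk0
  have kz' : c * k0 * c⁻¹ ∉ cz K := fun e => kz ((conj_mem_iff (norm_self _ hcz)).1 e)
  have k2' := iv_mul (iv_conj k2 c)
  generalize c * k0 * c⁻¹ = k at e hk kz' k2'
  have ki := iv_inv k2'
  have b2 : k * (s * k * s⁻¹) * (k * (s * k * s⁻¹)) = 1 := by
    rw [← e, si]; simp only [pow_succ, pow_zero, one_mul, mul_assoc]
  have bi := iv_inv b2
  have sb : k * s * k⁻¹ = s * (k * (s * k * s⁻¹)) := by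
    rw [← bi]; simp only [mul_inv_rev, si, ki, ← mul_assoc, s2, one_mul]
  have bs : k * (s * k * s⁻¹) ∈ C{s} := by
    rw [mem_C1, ← sb, mul_assoc, inv_mul_cancel_right, ki, mul_assoc]
  have b1 : k * (s * k * s⁻¹) ≠ 1 := fun e => kz' (ne_le_cz h.comp hK2.comp hne (by
    rw [eq_inv_of_mul_eq_one_left e]; exact inv_mem (conj_mem_cj s hk)))
  have bK : k * (s * k * s⁻¹) ∈ N[K] :=
    mul_mem (norm_self _ hk) (pc_le_N h.comp hK2.comp (conj_mem_cj s hk))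
  have bt : k * (s * k * s⁻¹) ∈ C{t} := mul_mem (h.le_C hk) (hK2.le_C (conj_mem_cj s hk))
  obtain ⟨D, hD, -, hb, -, -⟩ := dg h.comp sC s2 hN
  have bN := lbal1 t2 tC (by rw [inf_comm]; exact hD) h'.comp
    (hb k hk 1 (by rw [pow_one, sq, b2]) bs)
  generalize k * (s * k * s⁻¹) = b at *
  by_cases hz : b ∈ cz K'
  · obtain ⟨hL, -, J, c⟩ := ih_cent hn ih h' (iv_of b2 b1) hz bs
    have tJ := l2 hn h b2 bK bt c.comp (c.big hn hL)
    have h1 : cj t (Kx K' C{b}) ≤ Kx K' C{b} := c.le_pgen hL (cj_le_of_mem_N c.le tJ)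
      (cj_le_of_mem hL.le_C tC) (pGen_cj hL.comp t)
    have h2 : Kx K' C{b} ≤ K' := (pGen_le _ _).trans inf_le_left
    exact tN (mem_N_iff_cj.2 (pc_eq_of_not_sol (h'.cj_mem tC).comp h'.comp (cj_mono t h2)
      (h1.trans h2) (not_sol (pc_cj hL.comp t))))
  · obtain ⟨k', -, e'⟩ := l1 hn h' b2 bN bs hz
    have hc : IsConj s b := (isConj_iff.2 ⟨k, sb.trans (mem_C1.1 bs).symm⟩).trans
      (isConj_iff.2 ⟨k', e'⟩).symm
    obtain ⟨L, hL⟩ := exists_pr h' hc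
    exact tN ((Np.mk h' hL (mem_C1.1 bs) hc bN hz).C_le hn tC)

theorem dich [IsSimpleGroup G] (hn : 8 ≤ n) (ih : IH n G) (h : Pr n t K) (hs : IsConj t s)
    (hst : s * t = t * s) : TI n t s ∨ TII n t s := by
  obtain ⟨K', h'⟩ := exists_pr h hs
  by_cases hz : s ∈ cz K
  · exact Or.inl fun L hL => l3 hn h' hL hst.symm (l3 hn h h' hst hz)
  · have p : Np n t s K K' := ⟨h, h', hst, hs, case_M hn ih h hs hst, hz⟩
    exact Or.inr ⟨p.le11 hn, fun L hL => (p.left hn hL).mem hn⟩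

theorem exists_ctx [IsSimpleGroup G] (hn : 8 ≤ n) (ih : IH n G) (h : Pr n t K) (hs : IsConj t s)
    (hne : s ≠ t) (hII : TII n t s) : ∃ c : Ctx n G, c.t0 = t ∧ c.K t = K := by
  classical
  have s2 : orderOf s = 2 := by obtain ⟨_, h'⟩ := exists_pr h hs; exact h'.iv
  have u0 : ∀ L, Pr n t L → L = K := fun L hL => by
    by_contra hL'
    rcases t1 hn hL (k := 1) (hII.2 L hL) (ne_le_cz hL.comp h.comp hL' (hII.2 K h))
      (by rw [pow_one, sq, iv_mul s2]) with e | e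
    exacts [iv_ne s2 e, hne e]
  have u1 : ∀ g L, Pr n (g * t * g⁻¹) L → L = cj g K := fun g L hL => by
    have := hL.cj g⁻¹
    rw [show g⁻¹ * (g * t * g⁻¹) * g⁻¹⁻¹ = t by group] at this
    rw [← u0 _ this, cj_cj_inv]
  have u2 : ∀ {u L L'}, IsConj t u → Pr n u L → Pr n u L' → L = L' := fun hu h1 h2 => by
    obtain ⟨g, rfl⟩ := isConj_iff.1 hu
    rw [u1 _ _ h1, u1 _ _ h2]
  let F : G → Subgroup G := fun u => if hu : IsConj t u then (exists_pr h hu).choose else ⊥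
  have pc : ∀ {u}, IsConj t u → Pr n u (F u) := fun {u} hu => by
    simp only [F, dif_pos hu]; exact (exists_pr h hu).choose_spec
  refine ⟨⟨t, F, hn, hII.1, ih, pc, fun hu hL => u2 hu hL (pc hu), fun {u v} hu hv v2 => ?_,
    fun hu hv e => (dich hn ih (pc hu) (hu.symm.trans hv) e).imp (· _ (pc hu)) (·.2 _ (pc hu)),
    fun hu hv e hz => l3 hn (pc hu) (pc hv) e hz, fun {u v} hu hv hm => ?_⟩, rfl,
    u0 _ (pc (IsConj.refl t))⟩
  · by_cases e : v = u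
    · exact e ▸ hu
    obtain ⟨g, rfl⟩ := isConj_iff.1 hu
    have hm : g * s * g⁻¹ ∈ F (g * t * g⁻¹) := by
      rw [u1 _ _ (pc hu)]; exact conj_mem_cj g (hII.2 K h)
    obtain ⟨k, -, rfl⟩ := t7 hn hII.1 (pc hu) hm hv (iv_conj s2 g) v2
      (fun e => hne (by simpa using e)) e
    exact (hs.trans (isConj_iff.2 ⟨g, rfl⟩)).trans (isConj_iff.2 ⟨k, rfl⟩)
  · have e := mem_C1.1 ((pc hu).le_C hm)
    rcases dich hn ih (pc hv) (hv.symm.trans hu) e.symm with h1 | h1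
    · rcases t1 hn (pc hu) (k := 1) hm (l3 hn (pc hv) (pc hu) e.symm (h1 _ (pc hv)))
        (by rw [pow_one, sq, iv_mul (pc hv).iv]) with e1 | e1
      · exact absurd e1 (iv_ne (pc hv).iv)
      · rw [e1]; exact (pc hu).mem
    · exact h1.2 _ (pc hv)

end H20.So
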