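import Mathlib
import Cfsg.Agent.H20.SoD
import Cfsg.Agent.S1169

/-!
# Swapped pairs of type I; the case without pairs of type II
-/

set_option autoImplicit false
set_option linter.unusedSectionVars false

namespace H20.So

open Subgroup Equiv Equiv.Perm Cfsg H24 H23 H25.LB H5.Ly
open scoped commutatorElement

variable {G : Type*} [Group G] [Finite G] {n : ℕ} {K K' : Subgroup G} {t b : G}

theorem sq1 {x : G} (h : x * x = 1) : x ^ 2 ^ 1 = 1 := by rw [pow_one, sq, h]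

theorem iv_mul_iv {x y : G} (hx : orderOf x = 2) (hy : orderOf y = 2) (hc : y * x = x * y)
    (hne : y ≠ x) : orderOf (x * y) = 2 :=
  iv_of (by rw [mul_assoc, ← mul_assoc y, hc, mul_assoc, iv_mul hy, mul_one, iv_mul hx])
    fun e => hne (by rw [eq_inv_of_mul_eq_one_right e, iv_inv (iv_mul hx)])

theorem swap_mem (hb : b * b = 1) (hc : b * t * b⁻¹ ∈ C{t}) : b ∈ C{t * (b * t * b⁻¹)} := by
  rw [mem_C1_iff_conj]
  calc _ = b * t * b⁻¹ * ((b * b) * t * (b * b)⁻¹) := by group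
    _ = _ := by rw [hb, one_mul, inv_one, mul_one, mem_C1.1 hc]

theorem sw [IsSimpleGroup G] (hn : 8 ≤ n) (ih : IH n G) (h : Pr n t K) (hb : b * b = 1)
    (hI : b * t * b⁻¹ ∈ cz K) (hc : b * t * b⁻¹ ∈ C{t}) (hne : b * t * b⁻¹ ≠ t) :
    ∃ J D, IsPCompOf 2 J C{t * (b * t * b⁻¹)} ∧ b ∉ N[J] ∧
      IsPCompOf 2 D (C{t * (b * t * b⁻¹)} ⊓ C{b}) ∧ t * (b * t * b⁻¹) ∈ D ∧ Big n D := by
  have z2 := iv_mul_iv h.iv (iv_conj h.iv b) (mem_C1.1 hc) hne
  have bz := swap_mem hb hc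
  obtain ⟨hL, -, J, c⟩ := ih_cent hn ih h z2 (mul_mem h.mem_cz hI) (mul_mem (self_mem_C1 t) hc)
  have hN : b ∉ N[J] := fun hN => by
    have h1 := c.le_pgen hL (cj_le_of_mem_N c.le hN) (fun x hx => by
      have a1 : x ∈ C{b * t * b⁻¹} := by rw [← cj_C1]; exact cj_mono b hL.le_C hx
      have a2 : x ∈ C{t * (b * t * b⁻¹)} :=
        cj_le_of_mem (hL.comp.1.trans inf_le_left) bz hx
      rw [mem_C1] at a1 a2 ⊢
      rw [← mul_assoc, mul_assoc t, ← a1, ← mul_assoc t] at a2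
      exact mul_right_cancel a2) (pGen_cj hL.comp b)
    rcases t1 hn h (((pGen_le _ _).trans inf_le_left) (h1 (conj_mem_cj b hL.mem))) hI
      (sq1 (iv_mul (iv_conj h.iv b))) with e | e
    exacts [iv_ne (iv_conj h.iv b) e, hne e]
  obtain ⟨D, hD, -, hm, -, hB⟩ := dg c.comp bz hb hN
  exact ⟨J, D, c.comp, hN, hD, hm t (c.le hL.mem) 1 (sq1 (iv_mul z2)) (mem_C1_comm.1 bz),
    hB n (c.big hn hL)⟩

/-- an involution in a product of suitable components does not swap a pair of type I -/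
theorem sc [IsSimpleGroup G] (hn : 8 ≤ n) (ih : IH n G) (h : Pr n t K) (hb : b * b = 1)
    (hI : b * t * b⁻¹ ∈ cz K) (hc : b * t * b⁻¹ ∈ C{t})
    (hS : b ∈ sSup {J : Subgroup G | IsPCompOf 2 J C{b} ∧ Ty n J}) : b * t * b⁻¹ = t := by
  by_contra hne
  obtain ⟨J, D, hJ, hN, hD, hz, hB⟩ := sw hn ih h hb hI hc hne
  have z2 := iv_mul (iv_mul_iv h.iv (iv_conj h.iv b) (mem_C1.1 hc) hne)
  have bz := swap_mem hb hc
  generalize t * (b * t * b⁻¹) = z at *
  have zb := mem_C1_comm.1 bz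
  have le : sSup {J : Subgroup G | IsPCompOf 2 J C{b} ∧ Ty n J} ≤
      sSup {J : Subgroup G | IsPCompOf 2 J C{b} ∧ z ∈ cz J} := sSup_le_sSup fun L hL => by
    have hDN := lbal1 z2 zb (by rw [inf_comm]; exact hD) hL.1
    exact ⟨hL.1, (big_cz hn hL.2 hD hB hDN (hDN hz) (hD.1.trans inf_le_left)).elim (· hz) id⟩
  have := syf z2 zb hb bz (le hS)
  rw [inf_comm] at this
  exact hN (play_le_normalizer_pcomp hJ (lbal1' hb bz this))

theorem o4 [IsSimpleGroup G] (hn : 8 ≤ n) (ih : IH n G) (h : Pr n t K) (h' : Pr n b K')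
    (hI : b * t * b⁻¹ ∈ cz K) (hc : b * t * b⁻¹ ∈ C{t}) : b * t * b⁻¹ = t :=
  sc hn ih h (iv_mul h'.iv) hI hc (le_sSup (s := {J | IsPCompOf 2 J C{b} ∧ Ty n J})
    ⟨h'.comp, h'.ty⟩ h'.mem)

theorem d8_comm {a : G} (ha : a * a = 1) (hb : b * b = 1) (h : (a * b) ^ 4 = 1) :
    b * a * b⁻¹ ∈ C{a} := by
  have h1 : (a * b * (a * b))⁻¹ = a * b * (a * b) := iv_inv (by
    rw [← h]; simp only [pow_succ, pow_zero, one_mul, mul_assoc])
  simp only [mul_inv_rev, iv_inv ha, iv_inv hb] at h1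
  rw [mem_C1, iv_inv hb]
  simpa only [mul_assoc] using h1

theorem pg_d8 {u v : G} (hu : u * u = 1) (hv : v * v = 1) (h : (u * v) ^ 4 = 1) :
    ∃ P : Subgroup G, IsPGroup 2 P ∧ u ∈ P ∧ v ∈ P := by
  refine ⟨zpowers u ⊔ zpowers (u * v), isPGroup_sup (pg_zpowers (sq1 hu)) (pg_zpowers (k := 2) h)
    (zpowers_le.2 (mem_N_iff_cj.2 ?_)), mem_sup_left (mem_zpowers u), ?_⟩
  · rw [cj_zpowers, ← zpowers_inv, iv_inv hu]
    congr 1
    simp only [mul_inv_rev, iv_inv hu, iv_inv hv, ← mul_assoc, hu, one_mul]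
  · have := mul_mem (mem_sup_left (T := zpowers (u * v)) (mem_zpowers u))
      (mem_sup_right (mem_zpowers (u * v)))
    rwa [← mul_assoc, hu, one_mul] at this

theorem no_II [IsSimpleGroup G] (hn : 8 ≤ n) (ih : IH n G) (h : Pr n t K)
    (hI : ∀ s u, IsConj t s → IsConj t u → u * s = s * u → TI n s u) : False := by
  have cT : ∀ {u : G} (g : G), IsConj t u → IsConj t (g * u * g⁻¹) := fun g hu =>
    hu.trans (isConj_iff.2 ⟨g, rfl⟩)
  have iT : ∀ {u : G}, IsConj t u → orderOf u = 2 := fun hu => (exists_pr h hu).choose_spec.iv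
  -- general non-swapping
  have sc' : ∀ U : Set G, (∀ u ∈ U, IsConj t u) → (∀ u ∈ U, ∀ v ∈ U, u * v = v * u) →
      ∀ b ∈ closure U, b * b = 1 → ∀ s, IsConj t s → b * s * b⁻¹ ∈ C{s} → b * s * b⁻¹ = s :=
    fun U hU hUc b hbU hb s hs hc => by
      by_cases b1 : b = 1
      · simp [b1]
      obtain ⟨L, hL⟩ := exists_pr h hs
      refine sc hn ih hL hb (hI _ _ hs (cT b hs) (mem_C1.1 hc) L hL) hc
        ((closure_le _).2 (fun u hu => ?_) hbU)
      obtain ⟨M, hM⟩ := exists_pr h (hU u hu)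
      obtain ⟨hM', -, J, c⟩ := ih_cent hn ih hM (iv_of hb b1)
        ((closure_le _).2 (fun v hv => hI _ _ (hU u hu) (hU v hv) (hUc v hv u hu) M hM) hbU)
        ((closure_le _).2 (fun v hv => mem_C1.2 (hUc v hv u hu)) hbU)
      refine le_sSup (s := {J | IsPCompOf 2 J C{b} ∧ Ty n J}) ⟨c.comp, ?_⟩ (c.le hM'.mem)
      rcases c.ty with h1 | h1
      · exact ty_of_ge hn hM'.ty c.le h1
      · obtain ⟨g, -, g1, g2⟩ := c.b_conj hM' h1
        have g3 := ((pGen_le _ _).trans inf_le_left) g1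
        rcases t1 hn hM g3 (hI _ _ (hU u hu) (cT g (hU u hu)) (mem_C1.1 (hM.le_C g3)) M hM)
          (sq1 (iv_mul (iv_conj hM.iv g))) with e | e
        exacts [absurd e (iv_ne (iv_conj hM.iv g)), absurd e g2]
  obtain ⟨S, hS⟩ := (pg_zpowers (sq1 (iv_mul h.iv))).exists_le_sylow
  have tS : t ∈ (S : Subgroup G) := hS (mem_zpowers t)
  let U : Subgroup G → Set G := fun P => {u | u ∈ P ∧ IsConj t u}
  have cU : ∀ u ∈ U S, ∀ v ∈ U S, u * v = v * u := fun u hu v hv => by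
    by_contra hne
    obtain ⟨k, hk⟩ := S.2 ⟨u * v, mul_mem hu.1 hv.1⟩
    obtain ⟨a, ha, a4, a2⟩ := d8_of (iv_mul (iT hu.2)) (iv_mul (iT hv.2))
      (congrArg Subtype.val hk) hne
    have aT : IsConj t a := ha.elim hu.2.trans hv.2.trans
    have := sc' {v} (by simpa using hv.2) (by simp) v (subset_closure rfl) (iv_mul (iT hv.2)) a aT
      (d8_comm (iv_mul (iT aT)) (iv_mul (iT hv.2)) a4)
    rw [iv_inv (iv_mul (iT hv.2))] at this
    apply a2
    rw [sq, mul_assoc, ← mul_assoc v, this, iv_mul (iT aT)]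
  have AS : ∀ P, closure (U P) ≤ P := fun P => (closure_le _).2 fun u hu => hu.1
  have AC : closure (U S) ≤ C[closure (U S)] := by
    rw [centralizer_closure, closure_le]
    exact fun u hu v hv => cU v hv u hu
  have scl : ∀ x ∈ closure (U S), ∀ g : G, g * x * g⁻¹ ∈ (S : Subgroup G) →
      g * x * g⁻¹ ∈ closure (U S) := fun x hx g hg => by
    have Ucj : ∀ (g : G) (P : Subgroup G), U (cj g P) = (fun u => g * u * g⁻¹) '' U P := fun g P => by
      ext u
      refine ⟨fun hu => ⟨g⁻¹ * u * g, ⟨mem_cj.1 hu.1, by simpa using cT g⁻¹ hu.2⟩, by group⟩, ?_⟩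
      rintro ⟨v, hv, rfl⟩
      exact ⟨conj_mem_cj g hv.1, cT g hv.2⟩
    have Acj : ∀ (g : G) (P : Subgroup G), cj g (closure (U P)) = closure (U (cj g P)) := fun g P => by
      rw [Ucj, cj_def, MonoidHom.map_closure]; rfl
    have x2 : ∀ x ∈ closure (U S), x * x = 1 := fun x hx => by
      induction hx using closure_induction with
      | mem x hx => exact iv_mul (iT hx.2)
      | one => simp
      | mul x y hx hy h1 h2 =>
        rw [mul_assoc, ← mul_assoc y, ← comm_of_cent AC hx hy, mul_assoc, h2, mul_one, h1]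
      | inv x _ h1 => rw [← mul_inv_rev, h1, inv_one]
    have y2 : g * x * g⁻¹ * (g * x * g⁻¹) = 1 := by rw [conj_mul, x2 x hx]; group
    have hy : g * x * g⁻¹ ∈ cj g (closure (U S)) := conj_mem_cj g hx
    have c1 : cj g (closure (U S)) ≤ C{g * x * g⁻¹} := (cent_cj AC g).trans (C_le_C1 hy)
    generalize g * x * g⁻¹ = y at hg y2 hy c1 ⊢
    have c2 : closure (U S) ≤ C{y} := (closure_le _).2 fun u hu => mem_C1_comm.1
      (mem_C1_iff_conj.2 (sc' (U (cj g S)) (fun _ h => h.2) (by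
        rw [Ucj]
        rintro _ ⟨a, ha, rfl⟩ _ ⟨b, hb, rfl⟩
        simp only [conj_mul, cU a ha b hb]) y (Acj g S ▸ hy) y2 u hu.2
        (mem_C1.2 (cU _ ⟨mul_mem (mul_mem hg hu.1) (inv_mem hg), cT y hu.2⟩ u hu))))
    have pA : IsPi {2} (closure (U S)) := (isPi_iff_isPGroup Nat.prime_two).2 (S.2.to_le (AS S))
    obtain ⟨P, hP, hAP⟩ := Sylow_superset Nat.prime_two pA c2
    obtain ⟨c, hc, hcP⟩ := Sylow_Jsub Nat.prime_two hP (pA.cj g) c1
    obtain ⟨P', hP', hPP⟩ := Sylow_superset Nat.prime_two hP.pi le_top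
    obtain ⟨d, -, rfl⟩ := Sylow_trans Nat.prime_two (syl_top_of_sylow Nat.prime_two S) hP'
    have inj : ∀ g : G, Function.Injective fun u : G => g * u * g⁻¹ := fun g => (MulAut.conj g).injective
    have e1 : U S = U (cj d S) := Set.eq_of_subset_of_ncard_le
      (fun u hu => ⟨hPP (hAP (subset_closure hu)), hu.2⟩)
      (by rw [Ucj, Set.ncard_image_of_injective _ (inj d)]) (Set.toFinite _)
    have e2 : cj c (cj g (closure (U S))) ≤ closure (U S) := by
      rw [Acj, Acj] at *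
      refine closure_mono fun u hu => ?_
      rw [e1]
      exact ⟨hPP (hcP (subset_closure hu)), hu.2⟩
    have := e2 (conj_mem_cj c hy)
    rwa [mem_C1_iff_conj.1 hc] at this
  obtain ⟨u, hu, v, hv, u2, v2, a2, a4⟩ := d8 hn h.ty
  rcases Cfsg.Agent.S1169.result S (closure (U S))
    (fun e => iv_ne h.iv (by rw [← mem_bot, ← e]; exact subset_closure ⟨tS, IsConj.refl t⟩))
    (abl_iff.2 AC) ⟨AS S, scl⟩ with h1 | ⟨H, h1⟩
  · obtain ⟨P, hP, uP, vP⟩ := pg_d8 u2 v2 a4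
    obtain ⟨S', hS'⟩ := hP.exists_le_sylow
    obtain ⟨g, rfl⟩ := MulAction.exists_smul_eq G S S'
    have h2 : Abl ((g • S : Sylow 2 G) : Subgroup G) := Abl.cj h1 g
    apply a2
    rw [sq, mul_assoc, ← mul_assoc v, h2.comm (hS' vP) (hS' uP), mul_assoc, v2, mul_one, u2]
  · exact nse u2 v2 a2 a4 H h1

end H20.So
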