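import Mathlib
import Cfsg.Agent.H20.SoE1
import Cfsg.Agent.S1175

/-!
# The graph of pairs of type II is connected
-/

set_option autoImplicit false
set_option linter.unusedSectionVars false

namespace H20.So

open Subgroup Equiv Equiv.Perm Cfsg H24 H23 H25.LB H5.Ly Relation
open scoped commutatorElement

variable {G : Type*} [Group G] [Finite G] {n : ℕ}

/-- a symmetric relation invariant under conjugation -/
structure Gr (R : G → G → Prop) : Prop where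
  symm : ∀ {a b}, R a b → R b a
  conj : ∀ g {a b}, R a b → R (g * a * g⁻¹) (g * b * g⁻¹)

namespace Gr
variable {R : G → G → Prop} (h : Gr R) {a b : G}
include h

theorem rsymm (e : ReflTransGen R a b) : ReflTransGen R b a := by
  induction e with
  | refl => exact .refl
  | tail _ e ih => exact .head (h.symm e) ih

theorem rconj (g : G) (e : ReflTransGen R a b) : ReflTransGen R (g * a * g⁻¹) (g * b * g⁻¹) := by
  induction e with
  | refl => exact .refl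
  | tail _ e ih => exact .tail ih (h.conj g e)

/-- stabiliser of a connected component -/
def St (t : G) : Subgroup G where
  carrier := {g | ReflTransGen R t (g * t * g⁻¹)}
  one_mem' := by simpa using ReflTransGen.refl
  mul_mem' := fun {x y} hx hy => by
    have := ReflTransGen.trans hx (h.rconj x hy)
    simpa [mul_assoc] using this
  inv_mem' := fun {x} hx => by
    have := h.rsymm (h.rconj x⁻¹ hx)
    simpa [mul_assoc] using this

theorem mem_St {t g : G} : g ∈ h.St t ↔ ReflTransGen R t (g * t * g⁻¹) := Iff.rfl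

theorem St_conj {t g : G} (hg : g ∈ h.St t) (e : ReflTransGen R t a) :
    ReflTransGen R t (g * a * g⁻¹) := ReflTransGen.trans hg (h.rconj g e)

theorem St_eq (e : ReflTransGen R a b) : h.St a = h.St b :=
  le_antisymm (fun _ hg => (h.rsymm e).trans (h.St_conj hg e))
    fun _ hg => e.trans (h.St_conj hg (h.rsymm e))

theorem C_le (t : G) : C{t} ≤ h.St t := fun g hg => by
  rw [mem_St, mem_C1_iff_conj.1 hg]

theorem St_cj (g t : G) : h.St (g * t * g⁻¹) = cj g (h.St t) := by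
  ext x
  rw [mem_cj, mem_St, mem_St]
  refine ⟨fun e => ?_, fun e => ?_⟩
  · simpa [mul_assoc] using h.rconj g⁻¹ e
  · simpa [mul_assoc] using h.rconj g e

end Gr

namespace Ctx
variable (c : Ctx n G) {t s u v a : G} {W J L0 Y : Subgroup G}

theorem grA : Gr c.Adj :=
  ⟨fun h => ⟨h.2.1, h.1, c.symII h.1 h.2.1 h.2.2⟩, fun g _ _ h => ⟨c.T_conj h.1 g,
    c.T_conj h.2.1 g, by rw [c.K_cj h.1]; exact conj_mem_cj g h.2.2⟩⟩

/-- commuting pairs -/
def Cm (t s : G) : Prop := c.T t ∧ c.T s ∧ s * t = t * s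

theorem grC : Gr c.Cm :=
  ⟨fun h => ⟨h.2.1, h.1, h.2.2.symm⟩, fun g _ _ h => ⟨c.T_conj h.1 g, c.T_conj h.2.1 g, by
    rw [conj_mul, conj_mul, h.2.2]⟩⟩

abbrev Cp (t s : G) : Prop := ReflTransGen c.Adj t s
abbrev Om (t s : G) : Prop := ReflTransGen c.Cm t s
abbrev NC (t : G) : Subgroup G := c.grA.St t
abbrev M (t : G) : Subgroup G := c.grC.St t
/-- the subgroup generated by a connected component -/
def L (t : G) : Subgroup G := closure {s | c.Cp t s}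

theorem Cp.om (h : c.Cp t s) : c.Om t s := by
  induction h with
  | refl => exact .refl
  | tail _ h ih => exact .tail ih ⟨h.1, h.2.1, mem_C1.1 ((c.pc h.1).le_C h.2.2)⟩

theorem Om.T (h : c.Om t s) (ht : c.T t) : c.T s := by
  induction h with
  | refl => exact ht
  | tail _ h _ => exact h.2.1

theorem NC_le (t : G) : c.NC t ≤ c.M t := fun _ h => Cp.om c h

theorem adj (ht : c.T t) (hs : s ∈ c.K t) (s2 : orderOf s = 2) : c.Cp t s :=
  ReflTransGen.single ⟨ht, c.inv ht hs s2, hs⟩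

theorem odd_le (ht : c.T t) (hs : s ∈ c.K t) (s2 : orderOf s = 2) (hne : s ≠ t)
    (hY : Odd (Nat.card Y)) (h1 : t ∈ N[Y]) (h2 : s ∈ N[Y]) : Y ≤ c.NC t := by
  have e := mem_C1.1 ((c.pc ht).le_C hs)
  refine gen4 hY (c.T_iv ht) s2 e.symm hne.symm h1 h2 (inf_le_right.trans (c.grA.C_le t))
    (inf_le_right.trans ?_) (inf_le_right.trans ?_)
  · rw [NC, c.grA.St_eq (c.adj ht hs s2)]; exact c.grA.C_le _
  · rw [NC, c.grA.St_eq (c.adj ht (mul_mem (c.pc ht).mem hs) (iv_mul_iv (c.T_iv ht) s2 e hne))]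
    exact c.grA.C_le _

include c in
theorem ex_inv {H : Subgroup G} (h : Pc n H t L0) : ∃ s ∈ L0, orderOf s = 2 ∧ s ≠ t := by
  obtain ⟨s, hs, s2, hz⟩ := four c.h8 h.ty
  exact ⟨s, hs, s2, fun e => hz (e ▸ h.mem_cz)⟩

theorem b_le (ht : c.T t) (h : Pc n (W ⊓ C{t}) t L0) (hL : L0 ≤ c.K t) (d : Cn W t L0 J)
    (hb : IsSimpleGroup (J ⧸ pPrimeCore 2 J)) :
    J ≤ c.NC t ∧ ∀ u ∈ J, orderOf u = 2 → c.Cp t u := by
  obtain ⟨u, hu, v, hv, u2, v2, a2, a4⟩ := d8 c.h8 h.ty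
  have le : L0 ≤ J ⊓ c.NC t := le_inf d.le (h.le_C.trans (c.grA.C_le t))
  have h1 : J ≤ c.NC t := (se_le (H := J ⊓ c.NC t) inf_le_left (le h.mem) (iv_mul h.iv)
    (fun g hg e => ⟨hg, c.grA.C_le t (mem_C1.2 e)⟩) (fun w hw w2 w1 e => by
      obtain ⟨g, hg, rfl⟩ := d.b_one c.h8 c.h11 h hb hw.1 (iv_of w2 w1)
      exact ⟨g, ⟨hg, c.adj ht (hL (d.mem_two h hw.1 (mem_C1.2 e) (sq1 w2))) (iv_of w2 w1)⟩, rfl⟩)
    (le hu) (le hv) u2 v2 a2 a4).trans inf_le_right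
  refine ⟨h1, fun u hu u2 => ?_⟩
  obtain ⟨g, hg, rfl⟩ := d.b_one c.h8 c.h11 h hb hu u2
  exact h1 hg

variable [IsSimpleGroup G]

theorem gam (ht : c.T t) (a2 : orderOf a = 2) (ha : a ∈ cz (c.K t)) : C{a} ≤ c.M t := by
  obtain ⟨h, -, J, d⟩ := ih_cent c.h8 c.ih (c.pc ht) a2 ha (c.cz_le_C ht ha)
  have hL : Kx (c.K t) C{a} ≤ c.K t := (pGen_le _ _).trans inf_le_left
  obtain ⟨s, hs, s2, hne⟩ := c.ex_inv h
  have hN : C{a} ≤ N[opp 2 C{a}] := le_normalizer_opp 2 (norm_self _)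
  have hO := c.odd_le ht (hL hs) s2 hne (odd_opp C{a}) (hN (h.comp.1 h.mem).1) (hN (h.comp.1 hs).1)
  intro g hg
  have tJ := d.le h.mem
  have key : ⁅t, g * t * g⁻¹⁆ ∈ opp 2 C{a} → g ∈ c.M t := fun e => by
    obtain ⟨x, hx, e⟩ := dh1 (odd_opp C{a}) (iv_mul h.iv) (iv_mul (iv_conj h.iv g)) e
    exact ReflTransGen.tail (c.NC_le t (hO hx)) ⟨c.T_conj ht x, c.T_conj ht g, e.symm⟩
  rcases pcomp_eq_or_comm_le d.comp (pc_cj_mem d.comp hg) with e | e
  · have h1 : g * t * g⁻¹ ∈ J := by rw [e]; exact conj_mem_cj g tJ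
    rcases d.ty with h2 | h2
    · refine key ?_
      rw [← commutatorElement_inv]
      exact inv_mem (opp_le_opp d.comp ((mem_cz.1 (d.a_cz h h2)).2 _ h1))
    · exact c.NC_le t ((c.b_le ht h hL d h2).2 _ h1 (iv_conj h.iv g))
  · exact key (e (commutator_mem_commutator tJ (conj_mem_cj g tJ)))

theorem mem_L (h : c.Cp t s) : s ∈ c.L t := subset_closure h

theorem K_le_L (ht : c.T t) (h : c.Cp t u) : c.K u ≤ c.L t :=
  have hu := (Cp.om c h).T c ht
  gen_inv c.h8 (c.pc hu).ty (c.pc hu).comp fun _ hv v2 => c.mem_L (h.trans (c.adj hu hv v2))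

theorem L_eq (h : c.Cp t u) : c.L t = c.L u :=
  congrArg Subgroup.closure (Set.ext fun _ => ⟨(c.grA.rsymm h).trans, h.trans⟩)

theorem L_le (t : G) : c.L t ≤ c.NC t := (closure_le _).2 fun u hu => by
  rw [NC, c.grA.St_eq hu]; exact c.grA.C_le u (self_mem_C1 u)

theorem NC_le_N (t : G) : c.NC t ≤ N[c.L t] :=
  norm_closure fun _ hg _ hu => c.mem_L (c.grA.St_conj hg hu)

theorem L_cn (ht : c.T t) (hW : W ≠ ⊤) (hL : c.L t ≤ W) : Pc n (W ⊓ C{t}) t (c.K t) ∧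
    Cn W t (c.K t) (c.L t) ∧ IsSimpleGroup (c.L t ⧸ pPrimeCore 2 (c.L t)) := by
  have pc : ∀ u, c.Cp t u → Pc n (W ⊓ C{u}) u (c.K u) := fun u hu =>
    have hu' := c.pc ((Cp.om c hu).T c ht)
    hu'.of_le (le_inf ((c.K_le_L ht hu).trans hL) hu'.le_C) inf_le_right
  obtain ⟨J, d⟩ := c.ih W hW t _ (pc t .refl)
  have h1 : ∀ u, c.Cp t u → c.K u ≤ J := fun u hu => by
    induction hu with
    | refl => exact d.le
    | @tail u v hu h ih =>
      by_cases e : v = u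
      · rwa [e]
      obtain ⟨J', d'⟩ := c.ih W hW v _ (pc v (hu.tail h))
      by_contra hn
      exact c.not_cz h.1 h.2.2 (c.T_iv h.2.1) e (cz_sub ih (ne_le_cz d.comp d'.comp
        (fun e => hn (e ▸ d'.le)) (d'.le (c.pc h.2.1).mem)) (norm_self _ h.2.2))
  have h2 : c.L t ≤ J := (closure_le _).2 fun u hu => h1 u hu (pc u hu).mem
  have hb : IsSimpleGroup (J ⧸ pPrimeCore 2 J) := d.ty.resolve_left fun ha => by
    obtain ⟨s, hs, s2, hne⟩ := c.ex_inv (c.pc ht)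
    have hT := c.inv ht hs s2
    have := c.symII ht hT hs
    exact c.not_cz hT this (c.T_iv ht) hne.symm (cz_sub (h1 s (c.adj ht hs s2))
      (d.a_cz (pc t .refl) ha) (norm_self _ this))
  have e : c.L t = J := (pc_nml d.comp h2 ((c.b_le ht (pc t .refl) le_rfl d hb).1.trans
    (c.NC_le_N t))).resolve_right fun e => d.b_not_cz (pc t .refl) hb (e (c.mem_L .refl))
  rw [e]
  exact ⟨pc t .refl, d, hb⟩

section
variable (hc : ¬ c.Conn)
include hc

theorem NC_ne (ht : c.T t) : c.NC t ≠ ⊤ := fun e => hc fun s hs => by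
  obtain ⟨g, rfl⟩ := isConj_iff.1 ht
  obtain ⟨k, rfl⟩ := isConj_iff.1 hs
  rw [NC, c.grA.St_cj, cj_eq_top] at e
  exact c.grA.mem_St.1 (e ▸ mem_top k)

theorem L_inv (ht : c.T t) (hu : u ∈ c.L t) (u2 : orderOf u = 2) : c.Cp t u :=
  have ⟨h1, h2, h3⟩ := c.L_cn ht (c.NC_ne hc ht) (c.L_le t)
  (c.b_le ht h1 le_rfl h2 h3).2 u hu u2

theorem N_L (ht : c.T t) : N[c.L t] = c.NC t :=
  le_antisymm (fun g hg => c.L_inv hc ht (conj_mem hg (c.mem_L .refl)) (iv_conj (c.T_iv ht) g))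
    (c.NC_le_N t)

theorem typeI (ht : c.T t) (hs : c.T s) (e : s * t = t * s) (hz : s ∈ cz (c.K t)) :
    c.L s ≤ c.NC t := by
  by_cases hne : s = t
  · rw [hne]; exact c.L_le t
  have tW : t ∈ c.NC s := c.grA.C_le s (mem_C1.2 e.symm)
  have h := (c.pc ht).kx c.h8 ((cover1 (sq1 (iv_mul (c.T_iv hs))) hz).trans
    (sup_le_sup_right (inf_le_inf_left _ (c.grA.C_le s)) _)) tW
  rw [inf_comm] at h
  obtain ⟨J, d⟩ := c.ih _ (c.NC_ne hc hs) t _ h
  obtain ⟨h1, h2, -⟩ := c.L_cn hs (c.NC_ne hc hs) (c.L_le s)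
  have tz : t ∈ cz (c.L s) := ne_le_cz h2.comp d.comp (fun e' => c.not_cz hs
    (h2.mem_two h1 (e' ▸ d.le h.mem) (mem_C1.2 e.symm) (sq1 (iv_mul h.iv))) h.iv (Ne.symm hne)
    (c.symI ht hs e hz)) (d.le h.mem)
  obtain ⟨r, hr, r2, hrt⟩ := c.ex_inv h
  have hN : c.NC s ≤ N[opp 2 (c.L s)] := le_normalizer_opp 2 (c.NC_le_N s)
  exact (cover1 (sq1 (iv_mul h.iv)) tz).trans (sup_le (inf_le_right.trans (c.grA.C_le t))
    (c.odd_le ht (((pGen_le _ _).trans inf_le_left) hr) r2 hrt (odd_opp _) (hN tW)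
      (hN (h.comp.1 hr).1)))

theorem om_le (hu : c.T u) (h : c.Om u v) : c.L v ≤ c.NC u ∧ c.L u ≤ c.NC v := by
  induction h with
  | refl => exact ⟨c.L_le u, c.L_le u⟩
  | @tail v w hv h ih =>
    rcases c.dich h.1 h.2.1 h.2.2 with e | e
    · have h1 := (c.L_cn h.2.1 (c.NC_ne hc h.1) (c.typeI hc h.1 h.2.1 h.2.2 e)).2.1.comp
      have h2 := (c.L_cn hu (c.NC_ne hc h.1) ih.2).2.1.comp
      rw [← c.N_L hc hu, ← c.N_L hc h.2.1]
      exact ⟨pc_le_N h2 h1, pc_le_N h1 h2⟩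
    · have h1 : c.Cp v w := .single ⟨h.1, h.2.1, e⟩
      rwa [← c.L_eq h1, NC, NC, ← c.grA.St_eq h1]

theorem M_ne (ht : c.T t) : c.M t ≠ ⊤ := fun e => c.NC_ne hc ht (c.le_of_T fun s hs => by
  obtain ⟨g, rfl⟩ := c.T_ex ht hs
  exact (c.om_le hc ht (show g ∈ c.M t from e ▸ mem_top g)).1 (c.mem_L .refl))

theorem L_comp (ht : c.T t) (h : c.Om t v) : IsPCompOf 2 (c.L v) (c.M t) :=
  (c.L_cn (h.T c ht) (c.M_ne hc ht) ((c.om_le hc ht h).1.trans (c.NC_le t))).2.1.comp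

theorem ex_cent (ht : c.T t) (ha : a ∈ N[c.L t]) (a2 : a * a = 1) : ∃ v, c.Cp t v ∧ a * v = v * a := by
  obtain ⟨v, hv, v2, e⟩ := cent_inv ha a2 (c.mem_L .refl) (c.T_iv ht)
  exact ⟨v, c.L_inv hc ht hv v2, e⟩

theorem swp (ht : c.T t) (ha : a ∈ c.M t) (a2 : a * a = 1) : (∃ v, c.Om t v ∧ a * v = v * a) ∨
    ∃ v, c.Om t v ∧ a * v * a⁻¹ ∈ cz (c.K v) ∧ a * v * a⁻¹ ∈ C{v} ∧ a * v * a⁻¹ ≠ v := by
  refine or_iff_not_imp_left.2 fun H => ?_
  have hN : ∀ v, c.Om t v → a ∉ N[c.L v] := fun v hv h => by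
    obtain ⟨w, hw, e⟩ := c.ex_cent hc (hv.T c ht) h a2
    exact H ⟨w, hv.trans (Cp.om c hw), e⟩
  have h1 := c.L_comp hc ht .refl
  have t2 := iv_mul (c.T_iv ht)
  obtain ⟨x, hx, e⟩ := dh2 (odd_opp (c.M t)) t2 a2 (by
    have := ((pcomp_eq_or_comm_le h1 (pc_cj_mem h1 ha)).resolve_left fun e =>
      hN t .refl (mem_N_iff_cj.2 e.symm)) (commutator_mem_commutator (c.mem_L .refl)
      (conj_mem_cj a (c.mem_L .refl)))
    rw [commutatorElement_def, iv_inv t2, iv_inv (iv_mul (iv_conj (c.T_iv ht) a)), iv_inv a2] at this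
    convert this using 1
    simp only [pow_succ, pow_zero, one_mul, mul_assoc])
  have hv : c.Om t (x * t * x⁻¹) := opp_le _ _ hx
  generalize x * t * x⁻¹ = v at e hv
  have vT := hv.T c ht
  have h2 := d8_comm (iv_mul (c.T_iv vT)) a2 e
  refine ⟨v, hv, (c.dich vT (c.T_conj vT a) (mem_C1.1 h2)).resolve_right fun h3 => ?_, h2,
    fun h3 => H ⟨v, hv, mem_C1.1 (mem_C1_iff_conj.2 h3)⟩⟩
  exact hN v hv (c.NC_le_N v (.single ⟨vT, c.T_conj vT a, h3⟩))

theorem alpha (ht : c.T t) (hu : c.T u) (h : u ∈ c.M t) : c.Om t u := by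
  rcases c.swp hc ht h (iv_mul (c.T_iv hu)) with ⟨v, hv, e⟩ | ⟨v, hv, h1, h2, h3⟩
  · exact hv.tail ⟨hv.T c ht, hu, e⟩
  · exact absurd (o4 c.h8 c.ih (c.pc (hv.T c ht)) (c.pc hu) h1 h2) h3

theorem inv_play (ht : c.T t) (ha : a ∈ play 2 (c.M t)) (a2 : orderOf a = 2) : C{a} ≤ c.M t := by
  have hJ := c.L_comp hc ht .refl
  have aN := play_le_normalizer_pcomp hJ ha
  have key : ∀ v, c.Cp t v → a * v = v * a → a ∈ cz (c.L t) ∨ v * a ∈ cz (c.L t) → C{a} ≤ c.M t :=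
    fun v hv e h => by
      have vT := (Cp.om c hv).T c ht
      have aC : a ∈ N[c.K v] := by rw [c.N_eq vT]; exact mem_C1.2 e
      rw [M, c.grC.St_eq (Cp.om c hv)]
      refine c.gam vT a2 (h.elim (fun h => cz_sub (c.K_le_L ht hv) h aC) fun h => ?_)
      have := cz_sub (c.K_le_L ht hv) h (mul_mem (norm_self _ (c.pc vT).mem) aC)
      exact (mul_mem_cancel_left (c.pc vT).mem_cz).1 this
  by_cases hz : a ∈ cz (c.L t)
  · obtain ⟨v, hv, e⟩ := c.ex_cent hc ht aN (iv_mul a2)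
    exact key v hv e (Or.inl hz)
  obtain ⟨x, hx, y, hy, rfl⟩ := play_le_sup_cz hJ ha
  have xN := N_le_N_cz _ (norm_self _ hx)
  have x2 : x * x ∈ opp 2 (c.L t) :=
    simple_cz hJ (c.L_cn ht (c.NC_ne hc ht) (c.L_le t)).2.2 ⟨mul_mem hx hx, by
      have : x * x = x * y⁻¹ * x⁻¹ * y⁻¹ := by
        calc _ = x * y⁻¹ * x⁻¹ * (x * y * (x * y)) * y⁻¹ := by group
          _ = _ := by rw [iv_mul a2, mul_one]
      rw [this]
      exact (cz (c.L t)).mul_mem (conj_mem xN (inv_mem hy)) (inv_mem hy)⟩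
  obtain ⟨k, hk⟩ := odd_orderOf_of_mem (odd_opp _) x2
  have o : (x * x) ^ k ∈ opp 2 (c.L t) := pow_mem x2 k
  have cx : Commute ((x * x) ^ k) x := ((Commute.refl x).mul_left (Commute.refl x)).pow_left k
  have u2 : x * (x * x) ^ k * (x * (x * x) ^ k) = 1 := by
    rw [← pow_orderOf_eq_one (x * x), hk, mul_assoc, ← mul_assoc ((x * x) ^ k), cx.eq, two_mul,
      pow_succ', pow_add]
    simp only [mul_assoc]
  generalize (x * x) ^ k = o' at o u2
  have hu := mul_mem hx (opp_le _ _ o)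
  have hy' := mul_mem (inv_mem (opp_le_cz' _ o)) hy
  rw [show x * y = x * o' * (o'⁻¹ * y) by group] at *
  generalize x * o' = u at *
  generalize o'⁻¹ * y = y at *
  have hO : c.L t ≤ N[opp 2 (c.L t)] := le_normalizer_opp 2 (norm_self _)
  obtain ⟨d, hd, e⟩ := dh1 (odd_opp (c.L t)) u2 (iv_mul a2) (by
    rw [show ⁅u, u * y⁆ = u * ⁅u, y⁆ * u⁻¹ by simp only [commutatorElement_def]; group]
    exact conj_mem (hO hu) ((mem_cz.1 hy').2 u hu))
  have u1 : u ≠ 1 := by rintro rfl; exact hz (by simpa using hy')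
  refine key (d * u * d⁻¹) (c.L_inv hc ht (mul_mem (mul_mem (opp_le _ _ hd) hu)
    (inv_mem (opp_le _ _ hd))) (iv_conj (iv_of u2 u1) d)) e.symm (Or.inr ?_)
  rw [show d * u * d⁻¹ * (u * y) = ⁅d, u⁆ * (u * u) * y by simp only [commutatorElement_def]; group,
    u2, mul_one]
  exact mul_mem (opp_le_cz' _ (comm_mem_left (hO hu) hd)) hy'

theorem mem_play (ht : c.T t) (h : c.Om t v) : v ∈ play 2 (c.M t) :=
  (c.L_comp hc ht h).le_play (c.mem_L .refl)

end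

end Ctx

theorem play_cj (g : G) (H : Subgroup G) : cj g (play 2 H) ≤ play 2 (cj g H) :=
  cj_le_iff.2 (play_le_of fun _ hK => cj_le_iff.1 (pc_cj hK g).le_play)

theorem Ctx.conn [IsSimpleGroup G] (c : Ctx n G) : c.Conn := by
  by_contra hc
  have ht : c.T c.t0 := IsConj.refl _
  generalize c.t0 = t at ht
  have tM : t ∈ c.M t := c.grC.C_le t (self_mem_C1 t)
  obtain ⟨P, hP, tP⟩ := Sylow_superset Nat.prime_two ((isPi_iff_isPGroup Nat.prime_two).2
    (pg_zpowers (sq1 (iv_mul (c.T_iv ht))))) (zpowers_le.2 tM)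
  have tP := tP (mem_zpowers t)
  have hP' : Syl 2 ⊤ P := hP.of_norm_le Nat.prime_two le_top fun g hg =>
    c.alpha hc ht (c.T_conj ht g) (hP.le (conj_mem hg.2 tP))
  have hN : c.M t ≤ N[play 2 (c.M t)] := (norm_self _).trans (normalizer_le_normalizer_play _)
  have h1 := meet_center_nil (hP.pi.nil Nat.prime_two) (nml_inf_of_norm (hP.le.trans hN))
    fun e => iv_ne (c.T_iv ht) (by rw [← mem_bot, ← e]; exact ⟨tP, c.mem_play hc ht .refl⟩)
  obtain ⟨z, hz, z2⟩ := exists_orderOf_eq Nat.prime_two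
    ((hP.pi.of_le (inf_le_left.trans inf_le_left)).dvd_card h1)
  obtain ⟨S, rfl⟩ := hP'.exists_sylow_top Nat.prime_two
  have h2 : ∀ g : G, g * z * g⁻¹ ∈ c.M t → g ∈ c.M t := fun g hg => by
    have gT := c.T_conj ht g
    have zp : g * z * g⁻¹ ∈ play 2 (c.M (g * t * g⁻¹)) := by
      rw [Ctx.M, c.grC.St_cj]; exact play_cj g _ (conj_mem_cj g hz.1.2)
    have z2' := iv_conj z2 g
    have hC := c.inv_play hc gT zp z2'
    have key : ∀ v, c.Om t v → v ∈ c.M (g * t * g⁻¹) → g ∈ c.M t := fun v hv h =>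
      hv.trans (c.grC.rsymm (c.alpha hc gT (hv.T c ht) h))
    generalize g * z * g⁻¹ = b at *
    rcases c.swp hc ht hg (iv_mul z2') with ⟨v, hv, e⟩ | ⟨v, hv, h1, h2, h3⟩
    · exact key v hv (hC (mem_C1.2 e.symm))
    have vT := hv.T c ht
    obtain ⟨J, D, -, -, hD, hm, -⟩ := sw c.h8 c.ih (c.pc vT) (iv_mul z2') h1 h2 h3
    have y2 := iv_mul_iv (c.T_iv vT) (iv_conj (c.T_iv vT) b) (mem_C1.1 h2) h3
    have h4 := lbal1' (iv_mul y2) (mem_C1_comm.1 (swap_mem (iv_mul z2') h2))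
      (by rw [inf_comm]; exact hD.le_play hm)
    have h5 := lbal1' (iv_mul z2') (hC (self_mem_C1 b)) (by rwa [inf_eq_right.2 hC])
    exact key v hv (c.inv_play hc gT h5 y2 (mem_C1_comm.1 (mul_mem (self_mem_C1 v) h2)))
  obtain ⟨H, hH⟩ := Cfsg.Agent.S1175.result (c.M t) (c.M_ne hc ht) z z2 (hP.le hz.1.1)
    ⟨S, hz.1.1, fun s hs => mem_C.1 hz.2.2 s hs⟩ h2 fun g e hne =>
      c.inv_play hc ht (mul_mem hz.1.2 (conj_mem (hN (h2 g (c.inv_play hc ht hz.1.2 z2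
        (mem_C1.2 e.eq.symm)))) hz.1.2)) (iv_mul_iv z2 (iv_conj z2 g) e.eq.symm hne)
  obtain ⟨u, -, v, -, u2, v2, a2, a4⟩ := d8 c.h8 (c.pc ht).ty
  exact nse u2 v2 a2 a4 H hH

end H20.So
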