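import Mathlib
import Cfsg.Agent.H20.SoC
import Cfsg.Agent.H20.SoP2
import Cfsg.Agent.S0217

set_option autoImplicit false
set_option linter.unusedSectionVars false

namespace H20.So

open Subgroup Equiv Equiv.Perm Cfsg H24 H23 H25.LB H5.Ly
open scoped commutatorElement

variable {G : Type*} [Group G] [Finite G] {n : ℕ} {t s : G}

namespace E3

theorem odd_sup {A B : Subgroup G} (hA : Odd (Nat.card A)) (hB : Odd (Nat.card B)) (h : A ≤ N[B]) :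
    Odd (Nat.card ↥(A ⊔ B)) :=
  cop_two_iff_odd.1 (cop_sup (cop_two_iff_odd.2 hA) (cop_two_iff_odd.2 hB) h)

theorem le_O {A H : Subgroup G} (h1 : A ≤ H) (h2 : H ≤ N[A]) (h3 : Odd (Nat.card A)) : A ≤ opp 2 H :=
  le_opp h1 h2 (cop_two_iff_odd.2 h3)

theorem N_O (H : Subgroup G) : H ≤ N[opp 2 H] := le_normalizer_opp 2 (norm_self H)

theorem act (c : Ctx n G) (ht : c.T t) : Nonempty (Act n (c.K t)) := exists_act c.h8 (c.pc ht).ty

theorem KC (c : Ctx n G) (ht : c.T t) : c.K t ≤ C{t} := (c.pc ht).le_C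

theorem CN (c : Ctx n G) (ht : c.T t) : C{t} ≤ N[c.K t] := (c.N_eq ht).ge

theorem OK (c : Ctx n G) (ht : c.T t) : opp 2 (c.K t) ≤ opp 2 C{t} := opp_le_opp (c.pc ht).comp

theorem O_conj (g v : G) : cj g (opp 2 C{v}) = opp 2 C{g * v * g⁻¹} := by rw [← opp_cj, cj_C1]

/-- the signalizer functor theorem for odd functors -/
theorem sig {E : Subgroup G} (h16 : Nat.card E = 16) (h2 : ∀ a ∈ E, a ^ 2 = 1)
    (hc : ∀ a ∈ E, ∀ b ∈ E, a * b = b * a) (θ : G → Subgroup G) (h1 : ∀ a ∈ E, a ≠ 1 → θ a ≤ C{a})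
    (ho : ∀ a ∈ E, a ≠ 1 → Odd (Nat.card (θ a))) (hn : ∀ a ∈ E, a ≠ 1 → E ≤ N[θ a])
    (hb : ∀ a ∈ E, a ≠ 1 → ∀ b ∈ E, b ≠ 1 → θ a ⊓ C{b} ≤ θ b) :
    ∃ Y : Subgroup G, Odd (Nat.card Y) ∧ ∀ a ∈ E, a ≠ 1 → θ a ≤ Y :=
  ⟨_, Nat.odd_iff.2 (Nat.two_dvd_ne_zero.1 (Cfsg.Agent.S0217.result (p := 2) E hc h2 (by rw [h16]; norm_num) θ h1
    (fun a ha a1 => (ho a ha a1).not_two_dvd_nat) (fun a ha a1 b hb x hx => conj_mem (hn a ha a1 hb) hx)
    (fun a ha a1 => sol_of_odd (ho a ha a1)) hb).1), fun a ha a1 =>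
      le_iSup (fun a : {a : G // a ∈ E ∧ a ≠ 1} => θ a) ⟨a, ha, a1⟩⟩

theorem eq_of_odd {x y : PP n} (hx : Odd (orderOf x)) (hy : Odd (orderOf y)) (h : pr x = pr y) : x = y := by
  refine (pr_eq h).resolve_right fun e => zz_ne (N := n) ?_
  obtain ⟨k, hk⟩ := hx.mul hy
  have h1 : x ^ (2 * k + 1) = 1 := by rw [← hk, pow_mul, pow_orderOf_eq_one, one_pow]
  have h2 : y ^ (2 * k + 1) = 1 := by rw [← hk, mul_comm, pow_mul, pow_orderOf_eq_one, one_pow]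
  rwa [e, Commute.mul_pow (zz_comm y), h2, mul_one, pow_succ, pow_mul, sq, zz_mul_zz, one_pow, one_mul] at h1

theorem odd_π {K : Subgroup G} (A : Act n K) {a : G} (h : a ∈ K) (ho : Odd (orderOf a)) :
    Odd (orderOf (A.π a)) :=
  ho.of_dvd_nat ((orderOf_map_dvd (A.homπ le_rfl) ⟨a, h⟩).trans (by simp))

theorem exists_pow {K : Subgroup G} (A : Act n K) {m : G} (hm : m ∈ N[K]) {η : Perm (Fin n)}
    (h : η ∈ zpowers (A.φ m)) : ∃ i : ℕ, A.φ (m ^ i) = η := by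
  obtain ⟨i, hi⟩ := (mem_powers_iff_mem_zpowers.2 h)
  exact ⟨i, by rw [A.φ_pow hm]; exact hi⟩

theorem m3 {K X : Subgroup G} (A : Act n K) {v m : G} (hX : X ≤ N[K] ⊓ C{v}) (hv : v ∈ N[K]) (hm : m ∈ K)
    (hmX : m ∈ X) (ho : Odd (orderOf m)) (hf : Fx (A.φ v) (A.φ m))
    (hu : ∀ η : Perm (Fin n), Odd (orderOf η) → Fx (A.φ v) η → η ∈ zpowers (A.φ m)) : m ∈ opp 2 X := by
  have hN : X ≤ N[opp 2 K ⊓ X] :=
    norm_inf ((hX.trans inf_le_left).trans (normalizer_le_normalizer_opp 2 K)) (norm_self X)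
  have h1 : zpowers m ≤ N[opp 2 K ⊓ X] := (zpowers_le.2 hmX).trans hN
  refine le_O (A := zpowers m ⊔ opp 2 K ⊓ X) (sup_le (zpowers_le.2 hmX) inf_le_right)
    (fun g hg => mem_N_of_cj_le ?_)
    (odd_sup (by rwa [card_zpowers']) (odd_of_le (odd_opp K) inf_le_left) h1) (mem_sup_left (mem_zpowers m))
  rw [cj_sup, cj_of_mem_N (hN hg), cj_zpowers]
  refine sup_le (zpowers_le.2 ?_) le_sup_right
  have hg' := mem_inf.1 (hX hg)
  have h2 := conj_mem hg'.1 hm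
  have h3 : Odd (orderOf (g * m * g⁻¹)) := by rwa [orderOf_conj]
  obtain ⟨i, hi⟩ := exists_pow A (norm_self K hm) (hu _ (A.odd_φ (norm_self K h2) h3) (by
    rw [A.φ_conj hg'.1 (norm_self K hm)]
    exact hf.conj (A.φ_commute hv hg'.1 (mem_C1.1 hg'.2).symm)))
  have h4 := pow_mem hm i
  have h5 := eq_of_odd (odd_π A h4 (ho.of_dvd_nat (orderOf_pow_dvd i))) (odd_π A h2 h3)
    (by rw [← A.φ_π h4, ← A.φ_π h2, hi])
  rw [← mul_inv_cancel_left (m ^ i) (g * m * g⁻¹)]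
  refine mul_mem (mem_sup_left (pow_mem (mem_zpowers m) i)) (mem_sup_right (mem_inf.2
    ⟨(A.π_one (mul_mem (inv_mem h4) h2)).1 ?_, mul_mem (inv_mem (pow_mem hmX i))
      (mul_mem (mul_mem hg hmX) (inv_mem hg))⟩))
  rw [A.π_mul (inv_mem h4) h2, A.π_inv h4, h5, inv_mul_cancel]

/-- commuting lifts -/
theorem comm_O {K : Subgroup G} (A : Act n K) {a b : G} (ha : a ∈ K) (hb : b ∈ K)
    (h : Nb (A.φ a) (A.φ b)) : ⁅b, a⁆ ∈ opp 2 K := by
  rw [A.φ_π ha, A.φ_π hb] at h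
  rw [← A.π_one (show ⁅b, a⁆ ∈ K from mul_mem (mul_mem (mul_mem hb ha) (inv_mem hb)) (inv_mem ha)), A.π_comm hb ha, commutatorElement_eq_one_iff_mul_comm,
    nb_comm h]

end E3

open E3

theorem Ctx.bz (c : Ctx n G) (ht : c.T t) (hs : s ∈ c.K t) (hs2 : orderOf s = 2) :
    opp 2 (C{s} ⊓ C{t}) ⊓ cz (c.K s) ≤ opp 2 C{s} := by
  have Ts := c.inv ht hs hs2
  have hts := c.symII ht Ts hs
  have hN : C{s} ≤ N[opp 2 (c.K s)] := (CN c Ts).trans (normalizer_le_normalizer_opp 2 _)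
  have hz : C{s} ≤ N[cz (c.K s)] := (CN c Ts).trans (N_le_N_cz _)
  refine le_sup_left.trans ((le_O (A := opp 2 (C{s} ⊓ C{t}) ⊓ cz (c.K s) ⊔ opp 2 (c.K s))
    (sup_le inf_le_right (opp_le_cz' _)) (fun g hg => ?_) (odd_sup (odd_of_le (odd_opp _) inf_le_left) (odd_opp _)
      ((inf_le_right.trans (c.cz_le_C Ts)).trans hN))).trans (opp_mono (c.cz_le_C Ts) hz))
  obtain ⟨y, hy, h⟩ := lift_cent1 (k := 1) (odd_opp (c.K s)) (by rw [pow_one, sq, iv_mul (c.T_iv ht)])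
    (hN (KC c Ts hts)) ((mem_cz.1 hg).2 t hts)
  have h1 := c.cz_le_C Ts (mul_mem (opp_le_cz' _ hy) hg)
  rw [← inv_mul_cancel_left y g]
  exact mul_mem (inv_mem (norm_self _ (mem_sup_right hy))) (norm_sup (X := C{s} ⊓ C{t}) (norm_inf (N_O _)
    (inf_le_left.trans hz)) (inf_le_left.trans hN) (mem_inf.2 ⟨h1, h⟩))

theorem Ctx.otx (c : Ctx n G) (ht : c.T t) (hs : s ∈ c.K t) (hs2 : orderOf s = 2)
    (A : Act n (c.K s)) {y : G} (hy : y ∈ opp 2 (C{s} ⊓ C{t})) : Fx (A.φ t) (A.φ y) := by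
  have Ts := c.inv ht hs hs2
  exact ot A (iv_mul (c.T_iv ht)) (norm_self _ (c.symII ht Ts hs)) (odd_opp _)
    ((opp_le 2 _).trans (inf_le_inf_right _ (CN c Ts))) ((inf_le_inf_right _ (KC c Ts)).trans (N_O _)) hy

namespace E3

theorem OX (t s : G) : opp 2 C{t} ⊓ C{s} ≤ opp 2 (C{s} ⊓ C{t}) := inf_comm C{t} C{s} ▸ opp_inf_le' _ _

theorem odd2 (c : Ctx n G) (hn : n = 11) (ht : c.T t) (hs : s ∈ c.K t) (hs2 : orderOf s = 2) :
    ∃ Y : Subgroup G, Odd (Nat.card Y) ∧ opp 2 C{t} ≤ Y ∧ opp 2 C{s} ≤ Y := by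
  by_cases hne : s = t
  · exact ⟨_, odd_opp _, le_rfl, hne ▸ le_rfl⟩
  obtain ⟨A⟩ := act c ht
  obtain ⟨E, hE, htE, hsE, h16, h2, hc⟩ := e16 c.h8 (c.pc ht) A hs (iv_mul hs2)
    (t8 c.h8 c.h11 (c.pc ht) A hs hs2 hne)
  have iv : ∀ a ∈ E, a ≠ 1 → orderOf a = 2 := fun a ha a1 => iv_of (by rw [← sq, h2 a ha]) a1
  have EC : ∀ a ∈ E, C[E] ≤ C{a} := fun a ha => C_le_C1 ha
  have EE : E ≤ C[E] := le_C_iff.2 hc
  have EK : ∀ a ∈ E, a ≠ 1 → E ≤ c.K a := fun a ha a1 b hb => by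
    by_cases b1 : b = 1
    · rw [b1]; exact one_mem _
    · exact c.adj_of_comm ht (hE ha) (hE hb) (iv a ha a1) (iv b hb b1) (hc a ha b hb)
  have NO : ∀ a ∈ E, opp 2 C[E] ≤ N[opp 2 C{a}] := fun a ha => ((opp_le 2 _).trans (EC a ha)).trans (N_O _)
  obtain ⟨Y, hY, h⟩ := sig h16 h2 hc (fun v => opp 2 C[E] ⊔ opp 2 C{v})
    (fun a ha _ => sup_le ((opp_le 2 _).trans (EC a ha)) (opp_le 2 _))
    (fun a ha _ => odd_sup (odd_opp _) (odd_opp _) (NO a ha))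
    (fun a ha _ => norm_sup (EE.trans (N_O _)) ((EE.trans (EC a ha)).trans (N_O _))) fun v hv v1 w hw w1 x hx => by
      obtain ⟨e, he, o, ho, rfl⟩ := (mem_sup_of_norm' (NO v hv)).1 (mem_inf.1 hx).1
      refine mul_mem (mem_sup_left he) ?_
      have hoC := (mul_mem_cancel_left (EC w hw (opp_le 2 _ he))).1 (mem_inf.1 hx).2
      by_cases e' : v = w
      · exact mem_sup_right (e' ▸ ho)
      have Tv := c.inv ht (hE hv) (iv v hv v1)
      have Tw := c.inv ht (hE hw) (iv w hw w1)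
      obtain ⟨B⟩ := act c Tw
      have hX := OX v w (mem_inf.2 ⟨ho, hoC⟩)
      have f1 := c.otx Tv (EK v hv v1 hw) (iv w hw w1) B hX
      have T8v := t8 c.h8 c.h11 (c.pc Tw) B (EK w hw w1 hv) (iv v hv v1) e'
      obtain ⟨μ, μ3, μf, μu⟩ := p_fix3 hn T8v
      have EN : E ≤ N[c.K w] := (EK w hw w1).trans (norm_self _)
      have k2 : Nat.card (B.hom EN).ker ≤ 2 := by
        rw [← card_map_of_injective E.subtype_injective, ← c.T_iv Tw, ← card_zpowers']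
        refine H24.card_le ?_
        rintro _ ⟨a, ha, rfl⟩
        rcases t1 (k := 1) c.h8 (c.pc Tw) (EK w hw w1 a.2) ((B.φ_one (EN a.2)).1 ha) (h2 a a.2) with e | e
        · exact (congrArg (· ∈ zpowers w) e).mpr (one_mem _)
        · exact (congrArg (· ∈ zpowers w) e).mpr (mem_zpowers w)
      have r8 : 8 ≤ Nat.card (B.hom EN).range := by
        have := card_eq_card_quotient_mul_card_subgroup (B.hom EN).ker
        rw [Nat.card_congr (QuotientGroup.quotientKerEquivRange _).toEquiv, h16] at this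
        nlinarith
      have all8 : ∀ b ∈ (B.hom EN).range, b ≠ 1 → T8 b := by
        rintro _ ⟨a, rfl⟩ a1
        refine t8 c.h8 c.h11 (c.pc Tw) B (EK w hw w1 a.2) (iv a a.2 fun e => a1 ?_) fun e => a1 ?_
        · exact (congrArg B.φ e).trans B.φ1
        · exact (congrArg B.φ e).trans ((B.φ_one (EN hw)).2 (c.pc Tw).mem_cz)
      obtain ⟨m, hm, hmE, om, rfl⟩ := lfS B (S := E) (fun a => ⟨1, Subtype.ext (h2 a a.2)⟩) EN μ3 fun a ha => by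
        by_cases a1 : B.φ a = 1
        · rw [a1, one_mul, mul_one]
        · have := p_fx hn r8 all8 (a := B.φ a) (b := B.φ v) ⟨⟨a, ha⟩, rfl⟩ ⟨⟨v, hv⟩, rfl⟩ a1 T8v.ne_one
          exact Fx.comm fun i hi => μf i (mem_support.1 (this ▸ mem_support.2 hi))
      have m1 := m3 B (X := C[E]) (le_inf ((EC w hw).trans (CN c Tw)) (EC v hv)) (EN hv) hm hmE om μf μu
      have m2 := m3 B (X := C{w} ⊓ C{v}) (inf_le_inf_right _ (CN c Tw)) (EN hv) hm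
        (mem_inf.2 ⟨EC w hw hmE, EC v hv hmE⟩) om μf μu
      have oN := CN c Tw hoC
      obtain ⟨i, hi⟩ := exists_pow B (norm_self _ hm) (μu _ (B.odd_φ oN (odd_orderOf_of_mem (odd_opp _) ho)) f1)
      have mN := norm_self _ (pow_mem hm i)
      rw [← mul_inv_cancel_left (m ^ i) o]
      refine mul_mem (mem_sup_left (pow_mem m1 i)) (mem_sup_right (c.bz Tv (EK v hv v1 hw) (iv w hw w1)
        (mem_inf.2 ⟨mul_mem (inv_mem (pow_mem m2 i)) hX, (B.φ_one (mul_mem (inv_mem mN) oN)).1 ?_⟩)))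
      rw [B.φ_mul (inv_mem mN) oN, B.φ_inv mN, hi, inv_mul_cancel]
  exact ⟨Y, hY, le_sup_right.trans (h t htE (iv_ne (c.T_iv ht))), le_sup_right.trans (h s hsE (iv_ne hs2))⟩

end E3

theorem Ctx.bal (c : Ctx n G) (ht : c.T t) (hs : s ∈ c.K t) (hs2 : orderOf s = 2) :
    opp 2 C{t} ⊓ C{s} ≤ opp 2 C{s} := by
  by_cases hne : t = s
  · rw [hne]; exact inf_le_left
  intro y hy
  have Ts := c.inv ht hs hs2
  have hts := c.symII ht Ts hs
  obtain ⟨A⟩ := act c Ts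
  have hX := OX t s hy
  have yN := CN c Ts (mem_inf.1 hy).2
  refine c.bz ht hs hs2 (mem_inf.2 ⟨hX, (A.φ_one yN).1 ?_⟩)
  have f1 := c.otx ht hs hs2 A hX
  have h8 := t8 c.h8 c.h11 (c.pc Ts) A hts (c.T_iv ht) hne
  have oy := A.odd_φ yN (odd_orderOf_of_mem (odd_opp _) hX)
  by_cases hn : n ≤ 10
  · exact p_fix2 hn h8 oy f1
  have h11 : n = 11 := le_antisymm c.h11 (by omega)
  by_contra h1
  obtain ⟨ρ, ρ1, ρ2, ρ3⟩ := p_two3 h11 h8 oy f1 h1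
  obtain ⟨k, hk, rfl⟩ := A.φ_surj ρ1
  have kN := norm_self _ hk
  have t' := conj_mem kN hts
  obtain ⟨d, hd, e⟩ := dh1 (odd_opp (c.K s)) (iv_mul (iv_conj (c.T_iv ht) k)) (iv_mul (c.T_iv ht))
    (comm_O A hts t' (by rwa [A.φ_conj kN (norm_self _ hts)]))
  have dK := opp_le 2 _ hd
  have e' : d * (k * t * k⁻¹) * d⁻¹ = d * k * t * (d * k)⁻¹ := by group
  rw [e'] at e
  have dkN := norm_self _ (mul_mem dK hk)
  obtain ⟨Y, hY, y1, y2⟩ := odd2 c h11 ht (c.adj_of_comm Ts hts (conj_mem dkN hts) (c.T_iv ht)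
    (iv_conj (c.T_iv ht) _) e.symm) (iv_conj (c.T_iv ht) _)
  have hN : Y ⊓ C{s} ≤ N[c.K s] := inf_le_right.trans (CN c Ts)
  refine ρ3 (A.hom hN).range ⟨⟨y, mem_inf.2 ⟨y1 (mem_inf.1 hy).1, (mem_inf.1 hy).2⟩⟩, rfl⟩
    ⟨⟨d * k * y * (d * k)⁻¹, mem_inf.2 ⟨y2 ?_, (c.N_eq Ts).le (mul_mem (mul_mem dkN yN) (inv_mem dkN))⟩⟩, ?_⟩
    ((odd_of_le hY inf_le_left).of_dvd_nat (card_range_dvd _))
  · rw [← O_conj]; exact conj_mem_cj _ (mem_inf.1 hy).1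
  · change A.φ _ = _
    rw [A.φ_conj dkN yN, A.φ_mul (norm_self _ dK) kN, (A.φ_one (norm_self _ dK)).2 (opp_le_cz' _ hd), one_mul]

end H20.So
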