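import Mathlib
import Cfsg.Agent.H20.SoE3

set_option autoImplicit false
set_option linter.unusedSectionVars false

namespace H20.So

open Subgroup Equiv Equiv.Perm Cfsg H24 H23 H25.LB H5.Ly
open scoped commutatorElement

variable {G : Type*} [Group G] [Finite G] {n : ℕ} {t : G}

namespace E4

open E3

variable {s u a b : G}

/-- the signalizer of a four-group -/
def Wf (a b : G) : Subgroup G := opp 2 C{a} ⊔ opp 2 C{b} ⊔ opp 2 C{a * b}

/-- the signalizer of `K t` -/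
def W (c : Ctx n G) (t : G) : Subgroup G := ⨆ v : {v : G // v ∈ c.K t ∧ orderOf v = 2}, opp 2 C{v.1}

theorem iv_prod (ha : orderOf a = 2) (hb : orderOf b = 2) (h : a * b = b * a) (hne : b ≠ a) :
    orderOf (a * b) = 2 :=
  iv_of (by rw [mul_assoc, ← mul_assoc b, ← h, mul_assoc, iv_mul hb, mul_one, iv_mul ha]) fun e =>
    hne (by rw [← iv_inv (iv_mul ha)]; exact eq_inv_of_mul_eq_one_right e)

theorem le_Wf (c : Ctx n G) (ht : c.T t) (hs : s ∈ c.K t) (hs2 : orderOf s = 2) (hne : s ≠ t)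
    (hu : u ∈ c.K t) (hu2 : orderOf u = 2) (h : u * s = s * u) : opp 2 C{u} ≤ Wf t s := by
  have Tu := c.inv ht hu hu2
  have h1 := mem_C1.1 (KC c ht hs)
  have h2 := mem_C1.1 (KC c ht hu)
  have h3 := iv_prod (c.T_iv ht) hs2 h1.symm hne
  refine gen4 (odd_opp _) (c.T_iv ht) hs2 h1.symm hne.symm (N_O _ (mem_C1.2 h2.symm)) (N_O _ (mem_C1.2 h.symm))
    ((c.bal Tu (c.symII ht Tu hu) (c.T_iv ht)).trans (le_sup_left.trans le_sup_left))
    ((c.bal Tu (c.adj_of_comm ht hu hs hu2 hs2 h) hs2).trans (le_sup_right.trans le_sup_left))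
    ((c.bal Tu (c.adj_of_comm ht hu (mul_mem (c.pc ht).mem hs) hu2 h3 ?_) h3).trans le_sup_right)
  rw [← mul_assoc, h2, mul_assoc, h, mul_assoc]

theorem Wf_le (c : Ctx n G) (ht : c.T t) (hs : s ∈ c.K t) (hs2 : orderOf s = 2) (hne : s ≠ t)
    (hu : u ∈ c.K t) (hu2 : orderOf u = 2) (hne' : u ≠ t) (h : u * s = s * u) : Wf t u ≤ Wf t s := by
  refine sup_le (sup_le (le_sup_left.trans le_sup_left) (le_Wf c ht hs hs2 hne hu hu2 h))
    (le_Wf c ht hs hs2 hne (mul_mem (c.pc ht).mem hu)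
      (iv_prod (c.T_iv ht) hu2 (mem_C1.1 (KC c ht hu)).symm hne') ?_)
  rw [mul_assoc, h, ← mul_assoc, ← mem_C1.1 (KC c ht hs), mul_assoc]

theorem W_eq (c : Ctx n G) (hn : n = 8 ∨ n = 11) (ht : c.T t) (hs : s ∈ c.K t) (hs2 : orderOf s = 2)
    (hne : s ≠ t) : W c t = Wf t s := by
  refine le_antisymm (iSup_le fun ⟨v, hv, hv2⟩ => ?_) (sup_le (sup_le
    (le_iSup_of_le ⟨t, (c.pc ht).mem, c.T_iv ht⟩ le_rfl) (le_iSup_of_le ⟨s, hs, hs2⟩ le_rfl))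
    (le_iSup_of_le ⟨t * s, mul_mem (c.pc ht).mem hs,
      iv_prod (c.T_iv ht) hs2 (mem_C1.1 (KC c ht hs)).symm hne⟩ le_rfl))
  by_cases hvt : v = t
  · rw [show (⟨v, hv, hv2⟩ : {v : G // v ∈ c.K t ∧ orderOf v = 2}).1 = t from hvt]
    exact le_sup_left.trans le_sup_left
  obtain ⟨A⟩ := act c ht
  obtain ⟨b, ⟨hb, hb2, hbt, hW⟩, e⟩ := p_t9 hn
    (S := A.φ '' {b | b ∈ c.K t ∧ orderOf b = 2 ∧ b ≠ t ∧ Wf t b ≤ Wf t s}) (by
      rintro _ ⟨b, ⟨hb, hb2, hbt, hW⟩, rfl⟩ τ hτ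
      obtain ⟨b', h1, h2, rfl, h3⟩ := inv_nb A hb (iv_mul hb2) hτ
      have h4 : b' ≠ t := fun e => hτ.2.1.ne_one (by
        rw [e]; exact (A.φ_one (norm_self _ (c.pc ht).mem)).2 (c.pc ht).mem_cz)
      exact ⟨b', ⟨h1, h2, h4, (Wf_le c ht hb hb2 hbt h1 h2 h4 h3.symm).trans hW⟩, rfl⟩)
    ⟨s, ⟨hs, hs2, hne, le_rfl⟩, rfl⟩ (t8 c.h8 c.h11 (c.pc ht) A hs hs2 hne)
    (t8 c.h8 c.h11 (c.pc ht) A hv hv2 hvt)
  obtain ⟨d, hd, h⟩ := same_phi c.h8 (c.pc ht) A hb hv (iv_mul hb2) (iv_mul hv2) e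
  have hdW : d ∈ Wf t b := mem_sup_left (mem_sup_left (OK c ht hd))
  refine le_trans ?_ hW
  rcases h with h | h
  · dsimp only
    rw [← h, ← O_conj]
    exact cj_le_of_mem (le_sup_right.trans le_sup_left) hdW
  · have : v = d * (t * b) * d⁻¹ := by
      rw [← mul_assoc d, mem_C1.1 (KC c ht (opp_le 2 _ hd)), mul_assoc t, mul_assoc t, h, mem_C1.1 (KC c ht hv),
        ← mul_assoc, iv_mul (c.T_iv ht), one_mul]
    dsimp only
    rw [this, ← O_conj]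
    exact cj_le_of_mem le_sup_right hdW

theorem Wf_odd (c : Ctx n G) (ht : c.T t) (hs : s ∈ c.K t) (hs2 : orderOf s = 2) (hne : s ≠ t) :
    Odd (Nat.card (Wf t s)) := by
  obtain ⟨A⟩ := act c ht
  obtain ⟨E, hE, htE, hsE, h16, h2, hc⟩ := e16 c.h8 (c.pc ht) A hs (iv_mul hs2)
    (t8 c.h8 c.h11 (c.pc ht) A hs hs2 hne)
  have iv : ∀ a ∈ E, a ≠ 1 → orderOf a = 2 := fun a ha a1 => iv_of (by rw [← sq, h2 a ha]) a1
  obtain ⟨Y, hY, h⟩ := sig h16 h2 hc (fun v => opp 2 C{v}) (fun a _ _ => opp_le 2 _) (fun a _ _ => odd_opp _)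
    (fun a ha _ => le_trans (fun b hb => mem_C1.2 (hc b hb a ha)) (N_O _)) fun a ha a1 b hb b1 =>
      c.bal (c.inv ht (hE ha) (iv a ha a1))
        (c.adj_of_comm ht (hE ha) (hE hb) (iv a ha a1) (iv b hb b1) (hc a ha b hb)) (iv b hb b1)
  exact odd_of_le hY (sup_le (sup_le (h t htE (iv_ne (c.T_iv ht))) (h s hsE (iv_ne hs2)))
    (h _ (mul_mem htE hsE) (iv_ne (iv_prod (c.T_iv ht) hs2 (hc t htE s hsE) hne))))

theorem W_adj (c : Ctx n G) (hn : n = 8 ∨ n = 11) (h : c.Adj t s) : W c t = W c s := by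
  by_cases hne : s = t
  · rw [hne]
  obtain ⟨ht, hs, h⟩ := h
  rw [W_eq c hn ht h (c.T_iv hs) hne, W_eq c hn hs (c.symII ht hs h) (c.T_iv ht) (Ne.symm hne), Wf, Wf,
    mem_C1.1 (KC c ht h), sup_comm (opp 2 C{t})]

end E4

open E3 E4 in
theorem Ctx.core_bot [IsSimpleGroup G] (c : Ctx n G) (hc : c.Conn) (hn : n = 8 ∨ n = 11)
    (ht : c.T t) : opp 2 C{t} = ⊥ := by
  have all : ∀ {s}, Relation.ReflTransGen c.Adj t s → W c t = W c s := fun h => by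
    induction h with
    | refl => rfl
    | tail _ h ih => exact ih.trans (W_adj c hn h)
  have hN : (W c t).Normal := normalizer_eq_top_iff.1 (eq_top_iff.2 fun g _ => mem_N_of_cj_le (by
    rw [cj_le_iff]
    refine iSup_le fun ⟨v, hv, hv2⟩ => ?_
    rw [← cj_le_iff, O_conj, all (hc.all c ht (c.T_conj ht g))]
    exact le_iSup_of_le ⟨g * v * g⁻¹, by rw [c.K_cj ht]; exact conj_mem_cj g hv, iv_conj hv2 g⟩ le_rfl))
  obtain ⟨s, hs, hs2, hz⟩ := four c.h8 (c.pc ht).ty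
  have hne : s ≠ t := fun e => hz (e ▸ (c.pc ht).mem_cz)
  have ho := Wf_odd c ht hs hs2 hne
  rw [← W_eq c hn ht hs hs2 hne] at ho
  rcases hN.eq_bot_or_eq_top with h | h
  · exact eq_bot_of_le h (le_iSup_of_le ⟨t, (c.pc ht).mem, c.T_iv ht⟩ le_rfl)
  · exact absurd (odd_orderOf_of_mem ho (h.ge (mem_top s))) (by rw [hs2]; decide)

end H20.So
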