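import Mathlib
import Cfsg.Agent.H20.SoE4

set_option autoImplicit false
set_option linter.unusedSectionVars false

namespace H20.So

open Subgroup Equiv Equiv.Perm Cfsg H24 H23 H25.LB H5.Ly
open scoped commutatorElement

variable {G : Type*} [Group G] [Finite G] {n : ℕ} {t s : G}

open E3

theorem Ctx.ct (c : Ctx n G) (ht : c.T t) (hs : s ∈ c.K t) (hs2 : orderOf s = 2) (hne : s ≠ t)
    (A : Act n (c.K s)) {x : G} (hx : x ∈ cz (c.K t)) (hxs : x ∈ C{s}) :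
    Fx (A.φ t) (A.φ x) ∨ Fx (A.φ t) (A.φ (x * t)) := by
  have Ts := c.inv ht hs hs2
  have hts := c.symII ht Ts hs
  have xN := CN c Ts hxs
  rw [A.φ_mul xN (norm_self _ hts)]
  refine p_ct (t8 c.h8 c.h11 (c.pc Ts) A hts (c.T_iv ht) hne.symm)
    (A.φ_commute (norm_self _ hts) xN (mem_C1.1 (c.cz_le_C ht hx)).symm) fun τ hτ => ?_
  obtain ⟨u, hu, hu2, rfl, h⟩ := inv_nb A hts (iv_mul (c.T_iv ht)) hτ
  rw [← A.φ_comm (norm_self _ hu) xN]
  have h1 := KC c Ts hu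
  exact c.otx ht hs hs2 A (OX t s (mem_inf.2 ⟨OK c ht ((mem_cz.1 hx).2 u
    (c.adj_of_comm Ts hts hu (c.T_iv ht) hu2 h)), mul_mem (mul_mem (mul_mem h1 hxs) (inv_mem h1)) (inv_mem hxs)⟩))

namespace E5

theorem step {x : G} (k : ℕ) (h2 : x ^ 2 ^ k = 1) (h : ¬ (x = 1 ∨ x = t)) :
    ∃ y ∈ zpowers x, ¬ (y = 1 ∨ y = t) ∧ (y * y = 1 ∨ y * y = t) := by
  induction k generalizing x with
  | zero => exact (h (.inl (by simpa using h2))).elim
  | succ k ih =>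
    by_cases h' : x * x = 1 ∨ x * x = t
    · exact ⟨x, mem_zpowers x, h, h'⟩
    · obtain ⟨y, hy, h3⟩ := ih (x := x * x) (by rw [← sq, ← pow_mul, ← pow_succ', h2]) h'
      exact ⟨y, zpowers_le.2 (mul_mem (mem_zpowers x) (mem_zpowers x)) hy, h3⟩

theorem odd_pow_of_sq {X : Type*} [Group X] {x : X} (h : x * x = 1) {m : ℕ} (hm : Odd m) : x ^ m = x := by
  obtain ⟨k, rfl⟩ := hm
  rw [pow_succ, pow_mul, sq, h, one_pow, one_mul]

theorem ex_inv (c : Ctx n G) (ht : c.T t) {y : G} (hy : y ∈ cz (c.K t)) {e : ℕ} (h : y ^ 2 ^ e = 1) :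
    ∃ s ∈ c.K t, orderOf s = 2 ∧ s ≠ t ∧ y ∈ C{s} := by
  obtain ⟨A⟩ := act c ht
  obtain ⟨s, hs, hs2, hz⟩ := four c.h8 (c.pc ht).ty
  obtain ⟨k, hk, hky, e1⟩ := lift1 A h (cz_le _ hy) (x := 1) (y := A.π s)
    (by rw [map_one, (A.φ_one (cz_le _ hy)).2 hy]) (A.sign_π hs) (by rw [one_mul, mul_one])
  obtain ⟨m, j, hm, h2⟩ := two_part k
  have hkm := pow_mem hk m
  have e2 : A.π s * A.π s = 1 := by rw [← A.π_mul hs hs, iv_mul hs2, A.π1]
  have e3 : A.π (k ^ m) = A.π s := by rw [A.π_pow hk, e1, odd_pow_of_sq e2 hm]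
  have e4 : k ^ m ∉ cz (c.K t) := fun h => hz ((A.φ_one (norm_self _ hs)).1 (by
    rw [A.φ_π hs, ← e3, ← A.φ_π hkm, (A.φ_one (norm_self _ hkm)).2 h]))
  refine ⟨k ^ m, hkm, iv_of (eq_one_of_two_odd (k := j) ?_ (odd_orderOf_of_mem (odd_opp (c.K t))
    ((A.π_one (mul_mem hkm hkm)).1 (by rw [A.π_mul hkm hkm, e3, e2])))) fun e => e4 (e ▸ one_mem _),
    fun e => e4 (e ▸ (c.pc ht).mem_cz), mem_C1_comm.1 (pow_mem hky m)⟩
  rw [(Commute.refl _).mul_pow, h2, mul_one]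

theorem kill [IsSimpleGroup G] (c : Ctx n G) (hc : c.Conn) (ht : c.T t) (hs : s ∈ c.K t) (hs2 : orderOf s = 2)
    (hne : s ≠ t) (A : Act n (c.K s)) {a : G} (ha : orderOf a = 2) (haz : a ∈ cz (c.K t)) (has : a ∈ C{s})
    (hf : Fx (A.φ t) (A.φ a)) : False := by
  have Ts := c.inv ht hs hs2
  have hts := c.symII ht Ts hs
  have hat := c.cz_le_C ht haz
  obtain ⟨ρ, ρ3, ρf, ρn⟩ := p_pz (t8 c.h8 c.h11 (c.pc Ts) A hts (c.T_iv ht) hne.symm)
  obtain ⟨m, hm, hma, -, rfl⟩ := lf1 A (e := 1) (by rw [pow_one, sq, iv_mul ha]) (CN c Ts has) ρ3 (hf.comm' ρf)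
  have mN := norm_self _ hm
  have t' := conj_mem mN hts
  have hta := mem_C1_comm.1 hat
  have t'a : m * t * m⁻¹ ∈ C{a} := mul_mem (mul_mem hma hta) (inv_mem hma)
  obtain ⟨d, hd, e⟩ := dh1 (Y := opp 2 (c.K s) ⊓ C{a}) (odd_of_le (odd_opp _) inf_le_left)
    (iv_mul (iv_conj (c.T_iv ht) m)) (iv_mul (c.T_iv ht)) (mem_inf.2 ⟨comm_O A hts t' (by
      rwa [A.φ_conj mN (norm_self _ hts)]), mul_mem (mul_mem (mul_mem t'a hta) (inv_mem t'a)) (inv_mem hta)⟩)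
  have dK := opp_le 2 _ (mem_inf.1 hd).1
  rw [show d * (m * t * m⁻¹) * d⁻¹ = d * m * t * (d * m)⁻¹ by group] at e
  set g := d * m with hg
  have gN := norm_self _ (mul_mem dK hm)
  have ga : g ∈ C{a} := mul_mem (mem_inf.1 hd).2 hma
  set u := g * t * g⁻¹ with hu
  have Tu : c.T u := c.T_conj ht g
  have hut : u ≠ t := fun e' => by
    have : A.φ u = A.φ m * A.φ t * (A.φ m)⁻¹ := by
      rw [A.φ_conj gN (norm_self _ hts), A.φ_mul (norm_self _ dK) mN,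
        (A.φ_one (norm_self _ dK)).2 (opp_le_cz' _ (mem_inf.1 hd).1), one_mul]
    rw [← this, e'] at ρn
    exact ρn.2.2.1.ne_one ρn.1.1
  have huK : u ∈ c.K t := c.adj_of_comm Ts hts (conj_mem gN hts) (c.T_iv ht) (c.T_iv Tu) e.symm
  have htK := c.symII ht Tu huK
  have hau : a ∈ cz (c.K u) := by
    rw [c.K_cj ht, cz_cj, ← mem_C1_iff_conj.1 ga]; exact conj_mem_cj g haz
  obtain ⟨p1, v1, J, c1⟩ := ih_cent c.h8 c.ih (c.pc ht) ha haz hat
  obtain ⟨p2, v2, J', c2⟩ := ih_cent c.h8 c.ih (c.pc Tu) ha hau (c.cz_le_C Tu hau)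
  have le : ∀ K : Subgroup G, Kx K C{a} ≤ K := fun K => (pGen_le 2 _).trans inf_le_left
  have uL : u ∈ Kx (c.K t) C{a} := mem_pGen (k := 1) (mem_inf.2 ⟨huK, mul_mem (mul_mem ga hta) (inv_mem ga)⟩)
    (by rw [pow_one, sq, iv_mul (c.T_iv Tu)])
  have tL : t ∈ Kx (c.K u) C{a} := mem_pGen (k := 1) (mem_inf.2 ⟨htK, hta⟩)
    (by rw [pow_one, sq, iv_mul (c.T_iv ht)])
  obtain rfl : J = J' := by
    by_contra h
    exact c.not_cz ht huK (c.T_iv Tu) hut (cz_of_cover (le _) v1 (norm_self _ huK)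
      (cz_sub c1.le (ne_le_cz c1.comp c2.comp h (c2.le p2.mem)) (norm_self _ uL)))
  rcases c1.ty with h | h
  · exact c.not_cz Tu htK (c.T_iv ht) hut.symm (cz_of_cover (le _) v2 (norm_self _ htK)
      (cz_sub c2.le (c1.a_cz p1 h) (norm_self _ tL)))
  have hO := eq_bot_of_le (c.core_bot hc (c1.b_n c.h8 p1 h) ht) (OK c ht)
  rw [hO, sup_bot_eq] at v1
  have all : ∀ {v}, Relation.ReflTransGen c.Adj t v → v ∈ J := fun h' => by
    induction h' with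
    | refl => exact c1.le p1.mem
    | tail _ h' ih =>
      obtain ⟨k, hk, rfl⟩ := c1.b_one c.h8 c.h11 p1 h ih (c.T_iv h'.1)
      have := h'.2.2
      rw [c.K_cj ht] at this
      exact cj_le_of_mem (v1.trans c1.le) hk this
  exact cent_ne_top (not_sol (c.pc ht).comp) (iv_ne ha)
    (c.le_of_T fun v hv => c1.comp.1 (all (hc.all c ht hv)))

end E5

open E5 in
theorem Ctx.cz_two [IsSimpleGroup G] (c : Ctx n G) (hc : c.Conn) (ht : c.T t) {x : G} {k : ℕ}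
    (hx : x ∈ cz (c.K t)) (h2 : x ^ 2 ^ k = 1) : x = 1 ∨ x = t := by
  by_contra h
  obtain ⟨y, hy, h1, h3⟩ := step k h2 h
  replace hy := zpowers_le.2 hx hy
  have tt := iv_mul (c.T_iv ht)
  obtain ⟨s, hs, hs2, hne, hys⟩ := ex_inv c ht hy (e := 2) (by
    rw [show y ^ 2 ^ 2 = y * y * (y * y) by rw [sq 2, pow_mul, sq, sq]]
    rcases h3 with e | e <;> rw [e]
    exacts [mul_one _, tt])
  have Ts := c.inv ht hs hs2
  have hts := KC c Ts (c.symII ht Ts hs)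
  obtain ⟨A⟩ := act c Ts
  have yt := mem_C1.1 (c.cz_le_C ht hy)
  have e2 : y * t * (y * t) = y * y := by rw [mul_assoc, ← mul_assoc t, ← yt, mul_assoc, tt, mul_one]
  obtain ⟨a, haz, has, hf, a1, a2⟩ : ∃ a ∈ cz (c.K t), a ∈ C{s} ∧ Fx (A.φ t) (A.φ a) ∧ a ≠ 1 ∧ a * a = y * y := by
    rcases c.ct ht hs hs2 hne A hy hys with hf | hf
    · exact ⟨y, hy, hys, hf, fun e => h1 (.inl e), rfl⟩
    · exact ⟨y * t, mul_mem hy (c.pc ht).mem_cz, mul_mem hys hts, hf,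
        fun e => h1 (.inr ((eq_inv_of_mul_eq_one_left e).trans (iv_inv tt))), e2⟩
  rcases h3 with e | e
  · exact kill c hc ht hs hs2 hne A (iv_of (a2.trans e) a1) haz has hf
  · have := hf.mul hf
    rw [← A.φ_mul (CN c Ts has) (CN c Ts has), a2, e] at this
    exact (t8 c.h8 c.h11 (c.pc Ts) A (c.symII ht Ts hs) (c.T_iv ht) hne.symm).ne_one this.eq_one

end H20.So
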