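import Mathlib
import Cfsg.Agent.H20.SoE5
import Cfsg.Agent.S0111
import Cfsg.Agent.S0503
import Cfsg.Agent.S1291

set_option autoImplicit false
set_option linter.unusedSectionVars false

namespace H20.So

open Subgroup Equiv Equiv.Perm Cfsg H24 H23 H25.LB H5.Ly
open scoped commutatorElement

variable {G : Type*} [Group G] [Finite G] {n : ℕ} {t : G}

namespace E6

open E3 E5

theorem cz_sup [IsSimpleGroup G] (c : Ctx n G) (hc : c.Conn) (ht : c.T t) :
    cz (c.K t) ≤ c.K t ⊔ opp 2 C{t} := fun x hx => by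
  obtain ⟨a, b, rfl, ha, hb, ⟨k, hk⟩, ob⟩ := two_odd x
  have hz := (c.pc ht).mem_cz
  have hZ : IsPi {2} (zpowers t) := isPi_of_card_prime Nat.prime_two (by rw [card_zpowers', c.T_iv ht])
  refine mul_mem (mem_sup_left ?_) (mem_sup_right (opp_mono (c.cz_le_C ht) ((CN c ht).trans (N_le_N_cz _))
    (mem_opp_of_central_sylow (Z := zpowers t) (hZ.isPGroup Nat.prime_two) (zpowers_le.2 hz)
      (comm_eq_bot'.2 (C_zpowers t ▸ c.cz_le_C ht)) (cop_iff_not_dvd.2 ((syl_of_max Nat.prime_two hZ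
        (zpowers_le.2 hz) fun Q hQ _ h y hy => ?_).not_dvd Nat.prime_two)) (zpowers_le.2 hx hb)
      (cop_two_iff_odd.2 ob))))
  · rcases c.cz_two hc ht (zpowers_le.2 hx ha) hk with rfl | rfl
    exacts [one_mem _, (c.pc ht).mem]
  · obtain ⟨j, hj⟩ := (hQ.piElt hy).exists_pow Nat.prime_two
    rcases c.cz_two hc ht (h hy) (k := j) (by rw [← hj, pow_orderOf_eq_one]) with rfl | rfl
    exacts [one_mem _, mem_zpowers _]

theorem mem_sup_of_even [IsSimpleGroup G] (c : Ctx n G) (hc : c.Conn) (ht : c.T t) (A : Act n (c.K t)) {x : G}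
    (hx : x ∈ C{t}) (h : sign (A.φ x) = 1) : x ∈ c.K t ⊔ opp 2 C{t} := by
  obtain ⟨k, hk, e⟩ := A.φ_surj h
  have kN := norm_self _ hk
  rw [← mul_inv_cancel_left k x]
  refine mul_mem (mem_sup_left hk) (cz_sup c hc ht ((A.φ_one (mul_mem (inv_mem kN) (CN c ht hx))).1 ?_))
  rw [A.φ_mul (inv_mem kN) (CN c ht hx), A.φ_inv kN, e, inv_mul_cancel]

theorem ex_odd [IsSimpleGroup G] (c : Ctx n G) (hc : c.Conn) (ht : c.T t) (A : Act n (c.K t)) {x : G}
    (hx : x ∈ C{t}) (h : sign (A.φ x) = -1) : ∃ u ∈ C{t}, u * u = 1 ∧ sign (A.φ u) = -1 := by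
  obtain ⟨ξ, y, s1, ξ2, s2, y2, hy⟩ := p_tr c.h8
  obtain ⟨k, hk, e⟩ := A.φ_surj (ρ := ξ * (A.φ x)⁻¹) (by rw [map_mul, map_inv, s1, h]; rfl)
  have h1 := mul_mem (KC c ht hk) hx
  obtain ⟨m, j, hm, h2⟩ := two_part (k * x)
  have h3 := pow_mem h1 m
  have h4 : A.φ ((k * x) ^ m) = ξ := by
    rw [A.φ_pow (CN c ht h1), A.φ_mul (norm_self _ hk) (CN c ht hx), e, inv_mul_cancel_right, odd_pow_of_sq ξ2 hm]
  generalize (k * x) ^ m = w at h2 h3 h4
  have wN := CN c ht h3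
  rcases c.cz_two hc ht (x := w * w) (k := j) ((A.φ_one (mul_mem wN wN)).1 (by rw [A.φ_mul wN wN, h4, ξ2]))
    (by rw [(Commute.refl _).mul_pow, h2, mul_one]) with e | e
  · exact ⟨w, h3, e, h4 ▸ s1⟩
  obtain ⟨z, hz⟩ := pr_surj ξ
  obtain ⟨l, hl, hlw, e1⟩ := lift1 A h2 wN (hz.trans h4.symm) s2 (hy z hz)
  obtain ⟨m, j, hm, h5⟩ := two_part l
  have h6 := pow_mem hl m
  have h7 : A.π (l ^ m * l ^ m) = zz := by
    rw [← (Commute.refl _).mul_pow, A.π_pow (mul_mem hl hl), A.π_mul hl hl, e1, y2, odd_pow_of_sq zz_mul_zz hm]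
  have h8 := mem_C1.1 (pow_mem hlw m)
  generalize l ^ m = v at h5 h6 h7 h8
  have h9 := mul_mem h6 h6
  rcases t1 (k := j) c.h8 (c.pc ht) h9 ((A.φ_one (norm_self _ h9)).1 (by rw [A.φ_π h9, h7, pr_zz]))
    (by rw [(Commute.refl _).mul_pow, h5, mul_one]) with e' | e'
  · rw [e', A.π1] at h7
    exact (zz_ne h7.symm).elim
  · refine ⟨w * v, mul_mem h3 (KC c ht h6), ?_, ?_⟩
    · rw [mul_assoc, ← mul_assoc v, h8, mul_assoc, e', ← mul_assoc, e, iv_mul (c.T_iv ht)]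
    · rw [A.φ_mul wN (norm_self _ h6), map_mul, A.even h6, h4, s1, mul_one]

theorem two_mem (c : Ctx n G) (ht : c.T t) {u : G} (h : u ∈ c.K t ⊔ opp 2 C{t}) (hu : orderOf u = 2) :
    u ∈ c.K t :=
  mem_of_two (k := 1) ((opp_le 2 _).trans (CN c ht)) (odd_opp _) (by rw [pow_one, sq, iv_mul hu]) h

theorem le_sup [IsSimpleGroup G] (c : Ctx n G) (hc : c.Conn) (ht : c.T t) : C{t} ≤ c.K t ⊔ opp 2 C{t} := by
  obtain ⟨A⟩ := act c ht
  intro x hx
  refine mem_sup_of_even c hc ht A hx ((Int.units_eq_one_or _).resolve_right fun h => ?_)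
  obtain ⟨u, hu, u2, su⟩ := ex_odd c hc ht A hx h
  have u1 : u ≠ 1 := fun e => by rw [e, A.φ1, map_one] at su; exact absurd su (by decide)
  have ou := iv_of u2 u1
  have hi := pr_odd_index c.h8 (c.pc ht) (CN c ht) fun z hz _ o =>
    (c.cz_two hc ht hz (k := 1) (by rw [pow_one, sq, iv_mul o])).resolve_left (iv_ne o)
  obtain ⟨P, hP, huP⟩ := Sylow_superset Nat.prime_two
    (isPi_of_card_prime Nat.prime_two (by rw [card_zpowers', ou])) (zpowers_le.2 hu)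
  obtain ⟨S, rfl⟩ := Syl.exists_sylow_top Nat.prime_two (hP.of_idx le_top (by
    rw [relIndex_top_right]; exact (piNat_compl_iff_coprime Nat.prime_two).2 hi.coprime_two_left))
  replace huP := huP (mem_zpowers u)
  let f := sign.comp (A.hom (CN c ht))
  have m : ∀ {b}, b ∈ S.1 → (b ∈ S.1 ⊓ f.ker.map (C{t}).subtype ↔ sign (A.φ b) = 1) := fun {b} hb =>
    ⟨by rintro ⟨-, a, ha, rfl⟩; exact ha, fun h => ⟨hb, ⟨b, hP.le hb⟩, h, rfl⟩⟩
  rcases Cfsg.Agent.S0111.result S (S.1 ⊓ f.ker.map (C{t}).subtype) inf_le_left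
    (index_eq_two_iff.2 ⟨⟨u, huP⟩, fun b => by
      simp only [mem_subgroupOf, Subgroup.coe_mul]
      rw [m (mul_mem b.2 huP), m b.2, A.φ_mul (CN c ht (hP.le b.2)) (CN c ht hu), map_mul, su]
      rcases Int.units_eq_one_or (sign (A.φ b)) with e | e <;> rw [e] <;> decide⟩)
    u ou huP (by rw [m huP, su]; decide) with ⟨M, hM, h2, -⟩ | ⟨g, hg⟩
  · rcases hM.eq_bot_or_eq_top with rfl | rfl
    · have := ((c.pc ht).ty.card_dvd c.h8).trans (card_subgroup_dvd_card _)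
      rw [← index_bot, h2] at this
      exact absurd ((Nat.factorial_dvd_factorial c.h8).trans this) (by decide)
    · simp at h2
  · have h1 := (mem_inf.1 hg).1
    have h2 := c.inv ht (two_mem c ht (mem_sup_of_even c hc ht A (hP.le h1) ((m h1).1 hg)) (iv_conj ou g))
      (iv_conj ou g)
    rcases c.dich ht (h2.trans (isConj_iff.2 ⟨g, rfl⟩).symm) (mem_C1.1 hu) with h3 | h3
    · rw [(A.φ_one (CN c ht hu)).2 h3, map_one] at su; exact absurd su (by decide)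
    · rw [A.even h3] at su; exact absurd su (by decide)

theorem all_T [IsSimpleGroup G] (c : Ctx n G) (hc : c.Conn) (ht : c.T t) {u : G} (hu : orderOf u = 2) : c.T u := by
  obtain ⟨g, -, rfl⟩ := one_class (H := ⊤) (mem_top t) (iv_mul (c.T_iv ht)) (fun w _ w2 w1 h => by
    obtain ⟨g, e⟩ := c.T_ex ht (c.inv ht (two_mem c ht (le_sup c hc ht (mem_C1.2 h)) (iv_of w2 w1)) (iv_of w2 w1))
    exact ⟨g, mem_top g, e⟩) (mem_top u) (iv_mul hu) (iv_ne hu)
  exact c.T_conj ht g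

theorem core [IsSimpleGroup G] (c : Ctx n G) (hc : c.Conn) (ht : c.T t) : opp 2 C{t} = ⊥ := by
  by_cases hn : n = 8 ∨ n = 11
  · exact c.core_bot hc hn ht
  have h9 : Nat.factorial 9 ∣ Nat.card G := (Nat.factorial_dvd_factorial (by have := c.h8; omega)).trans
    (((c.pc ht).ty.card_dvd c.h8).trans (card_subgroup_dvd_card _))
  have bal : ∀ x y : G, orderOf x = 2 → orderOf y = 2 → x * y = y * x →
      opp 2 C{x} ⊓ C{y} ≤ opp 2 C{y} ⊓ C{x} := fun x y hx hy h =>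
    have Tx := all_T c hc ht hx
    le_inf (c.bal Tx (two_mem c Tx (le_sup c hc Tx (mem_C1.2 h.symm)) hy) hy) (inf_le_left.trans (opp_le 2 _))
  have hr : ¬ PRankLE 2 2 G := fun h => by
    obtain ⟨A⟩ := act c ht
    obtain ⟨s, hs, hs2, hz⟩ := four c.h8 (c.pc ht).ty
    obtain ⟨E, -, -, -, h16, h2, hE⟩ := e16 c.h8 (c.pc ht) A hs (iv_mul hs2)
      (t8 c.h8 c.h11 (c.pc ht) A hs hs2 fun e => hz (e ▸ (c.pc ht).mem_cz))
    have := h E (abl_iff.2 (le_C_iff.2 hE)) h2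
    omega
  obtain ⟨S⟩ : Nonempty (Sylow 2 G) := inferInstance
  refine Cfsg.Agent.S1291.result (fun x y hx hy h => le_antisymm (bal x y hx hy h) (bal y x hy hx h.symm)) ?_ hr
    (.inr ⟨S, by_contra fun h => ?_⟩) t (c.T_iv ht)
  · refine (IsSimpleGroup.eq_bot_or_eq_top_of_normal _ inferInstance).resolve_right fun h => ?_
    have h1 := odd_opp (⊤ : Subgroup G)
    rw [opp_top] at h1
    exact absurd (odd_orderOf_of_mem h1 (h.ge (mem_top t))) (by rw [c.T_iv ht]; decide)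
  · rcases Cfsg.Agent.S0503.result hr S h with ⟨-, e⟩ | ⟨-, e⟩ <;> rw [e] at h9 <;> exact absurd h9 (by decide)

end E6

theorem Ctx.conn_main [IsSimpleGroup G] (c : Ctx n G) (hc : c.Conn) (ht : c.T t) :
    C{t} ≤ c.K t ∧ opp 2 (c.K t) = ⊥ := by
  have h := E6.core c hc ht
  exact ⟨by simpa [h] using E6.le_sup c hc ht, eq_bot_of_le h (E3.OK c ht)⟩

end H20.So
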