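import Mathlib
import Cfsg.Agent.H20.SoE2
import Cfsg.Agent.H20.SoE6
import Cfsg.Agent.H20.SoF
import Cfsg.Agent.H5.LySE
import Cfsg.Agent.S1660

/-!
# Solomon's theorem on intrinsic `2A_n` components
-/

set_option autoImplicit false
set_option linter.unusedSectionVars false

namespace H20.So

open Subgroup Equiv Equiv.Perm Cfsg H24 H23 H25.LB H5.Ly
open scoped commutatorElement

universe u

theorem simple_case {n : ℕ} (hn : 8 ≤ n) : SimpleCase.{u} n := fun X _ _ _ ih t K h => by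
  by_cases hII : ∃ s, IsConj t s ∧ s ≠ t ∧ TII n t s
  · obtain ⟨s, hs, hne, h2⟩ := hII
    obtain ⟨c, rfl, rfl⟩ := exists_ctx hn ih h hs hne h2
    exact c.conn_main c.conn (IsConj.refl _)
  refine (no_II hn ih h fun s u hs hu e => ?_).elim
  obtain ⟨g, rfl⟩ := isConj_iff.1 hs
  by_cases e1 : u = g * t * g⁻¹
  · exact fun L hL => e1 ▸ hL.mem_cz
  refine (dich hn ih (h.cj g) (hs.symm.trans hu) e).resolve_right fun h2 => hII
    ⟨g⁻¹ * u * g, hu.trans (isConj_iff.2 ⟨g⁻¹, by simp⟩), fun e => e1 (by rw [← e]; group), h2.1,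
      fun L hL => mem_cj.1 (h2.2 _ (hL.cj g))⟩

theorem solomon {G : Type u} [Group G] [Finite G] (hO : pPrimeCore 2 G = ⊥)
    (hF : IsQuasisimple (generalizedFittingSubgroup G)) {n : ℕ} (hn : 8 ≤ n) {t : G}
    {K : Subgroup G} (h : Pr n t K) :
    IsNonsplitDoubleCover (generalizedFittingSubgroup G) (alternatingGroup (Fin n)) ∨
      (n = 8 ∧ Spor.IsoMcL (generalizedFittingSubgroup G)) ∨
      (n = 11 ∧ Spor.IsoLy (generalizedFittingSubgroup G)) := by
  obtain ⟨J, c⟩ := main hn (simple_case hn) G t K h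
  have hJ := IsPComponent.isComponent_of_pPrimeCore_eq_bot hO (c.comp.isPComponent
    Subgroup.IsSubnormal.top)
  have hle : J ≤ generalizedFittingSubgroup G := (le_layer hJ).trans (layer_le_fstar G)
  have e : generalizedFittingSubgroup G = J :=
    ((IsQuasisimple.eq_or_comm_of_isSubnormal hF hle hJ.1.subgroupOf).resolve_right fun e =>
      IsQuasisimple.comm_ne_bot hJ.2 (eq_bot_iff.2 ((commutator_mono le_rfl hle).trans e.le))).symm
  have hb : opp 2 J = ⊥ := eq_bot_iff.2 ((opp_le_opp c.comp).trans (by rw [opp_top, hO]))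
  rw [e]
  rcases c.ty with h1 | h1
  · exact Or.inl (dc_of_tyG hn (ty_of_ge hn h.ty c.le h1) (opp_eq_bot_iff.1 hb))
  have hb' := opp_eq_bot_iff.1 hb
  have : IsSimpleGroup J := ((QuotientGroup.quotientMulEquivOfEq hb').trans
    QuotientGroup.quotientBot).symm.isSimpleGroup
  have tJ := c.le h.mem
  have t2 : orderOf (⟨t, tJ⟩ : J) = 2 := by rw [← Subgroup.orderOf_coe]; exact h.iv
  have e2 : C{(⟨t, tJ⟩ : J)} = K.subgroupOf J := by
    refine le_antisymm (fun x hx => ?_) fun x hx => mem_C1.2 (Subtype.ext (mem_C1.1 (h.le_C hx)))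
    have := c.cent ⟨x.2, mem_C1.2 (congrArg Subtype.val (mem_C1.1 hx))⟩
    rwa [hb, sup_bot_eq] at this
  have hc : IsNonsplitDoubleCover C{(⟨t, tJ⟩ : J)} (alternatingGroup (Fin n)) := by
    rw [e2]
    refine dc_of_tyG hn (ty_of_map J.subtype (by rw [map_subgroupOf_eq_of_le c.le]; exact h.ty)
      (by simp)) (opp_eq_bot_iff.1 ?_)
    rw [opp_subgroupOf 2 c.le, eq_bot_iff.2 (c.core.trans hb.le), bot_subgroupOf]
  rcases Cfsg.Agent.S1645.result n (by omega) _ t2 hc with rfl | rfl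
  · exact Or.inr (Or.inl ⟨rfl, mcl_of_cent t2 hc⟩)
  · exact Or.inr (Or.inr ⟨rfl, Cfsg.Agent.S1660.result _ t2 hc⟩)

end H20.So
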