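import Mathlib
import Cfsg.Prelude.Def_ChevB2
import Cfsg.Agent.H20.Good

set_option autoImplicit false
set_option maxRecDepth 100000

namespace H20

open Cfsg.Lie

def auxB2 : Aux where
  rtL := [[-2, -1], [-1, -1], [-1, 0], [0, -1], [0, 1], [1, 0], [1, 1], [2, 1]]
  κL := [16, 1]
  dL := [1, 2]
  nrmL := [2, 1, 1, 2, 2, 1, 1, 2]
  CL := [[2, -2], [-1, 2]]
  witL := [(1, 4), (0, 5), (1, 4), (0, 5), (0, 6), (1, 7), (2, 7), (3, 6)]

theorem auxB2_chk1 : auxB2.chk1 chevB2 := by decide +kernel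
theorem auxB2_chk2 : auxB2.chk2 chevB2 := by decide +kernel
theorem auxB2_chk3 : auxB2.chk3 chevB2 := by decide +kernel
theorem auxB2_chk4 : auxB2.chk4 chevB2 := by decide +kernel

def goodB2 : Good chevB2 := ⟨auxB2, auxB2_chk1, auxB2_chk2, auxB2_chk3, auxB2_chk4⟩

end H20
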