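import Mathlib
import Cfsg.Agent.H20.GoodG2
import Cfsg.Agent.H20.GoodB2
import Cfsg.Agent.H20.GoodD4
import Cfsg.Agent.H20.GoodF4
import Cfsg.Agent.H20.GoodE6
import Cfsg.Agent.H20.GoodE7
import Cfsg.Agent.H20.GoodE8

set_option autoImplicit false

namespace H20

open Cfsg.Lie

theorem good_of_mem {D : ChevalleyDatum}
    (hD : D ∈ [chevG2, chevB2, chevD4, chevF4, chevE6, chevE7, chevE8]) : Nonempty (Good D) := by
  simp only [List.mem_cons, List.not_mem_nil, or_false] at hD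
  rcases hD with rfl | rfl | rfl | rfl | rfl | rfl | rfl
  exacts [⟨goodG2⟩, ⟨goodB2⟩, ⟨goodD4⟩, ⟨goodF4⟩, ⟨goodE6⟩, ⟨goodE7⟩, ⟨goodE8⟩]

end H20
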