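import Mathlib
import Cfsg.Agent.H20.Hom
import Cfsg.Agent.H19.FastB2

/-! Checked data of a map of root elements (generated). -/

set_option autoImplicit false

namespace H20

open Cfsg.Lie

def homB2g : HomD where
  p := 2
  ρT := 0x607040502030001
  γT := 0x0
  lamT := 0x66

theorem chkB2g : homB2g.Chk chevB2 chevB2 :=
  homB2g.chk_of_agree H19.agreeB2 H19.agreeB2 (Or.inr (by decide)) (by decide +kernel)

end H20
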