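import Mathlib
import Cfsg.Agent.H20.Hom
import Cfsg.Agent.H19.FastD4

/-! Checked data of a map of root elements (generated). -/

set_option autoImplicit false

namespace H20

open Cfsg.Lie

def homD4b : HomD where
  p := 0
  ρT := 0x171614110f0c1513100e120d0a05090704020b0806030100
  γT := 0x1b00d8
  lamT := 0x0

theorem chkD4b : homD4b.Chk chevD4 chevD4 :=
  homD4b.chk_of_agree H19.agreeD4 H19.agreeD4 (Or.inl rfl) (by decide +kernel)

end H20
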