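import Mathlib
import Cfsg.Agent.H20.Hom
import Cfsg.Agent.H19.FastE7
import Cfsg.Agent.H19.FastE8

/-! Checked data of a map of root elements (generated). -/

set_option autoImplicit false

namespace H20

open Cfsg.Lie

def homE78 : HomD where
  p := 0
  ρT := 0xe2dbd6d2cfcdccc8c5c3c2bfbdbcbab9b8b5b3b2b0afaeacabaaa9a7a6a5a4a3a29f9d9c9a99989695949391908f8e8d8b8a89888785848382807f7e7c7b7976747371706f6d6c6b6a68676665646261605f5e5c5b5a595756555352504d4c4b4a49484645444341403f3d3c3a3736353332302d2c2a272322201d19140d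
  γT := 0x0
  lamT := 0x0

theorem chkE78 : homE78.Chk chevE7 chevE8 :=
  homE78.chk_of_agree H19.agreeE7 H19.agreeE8 (Or.inl rfl) (by decide +kernel)

end H20
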