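import Mathlib
import Cfsg.Agent.H20.Hom
import Cfsg.Agent.H19.FastG2

/-! Checked data of a map of root elements (generated). -/

set_option autoImplicit false

namespace H20

open Cfsg.Lie

def homG2g : HomD where
  p := 3
  ρT := 0x9080b0a0607040501000302
  γT := 0x0
  lamT := 0x39c

theorem chkG2g : homG2g.Chk chevG2 chevG2 :=
  homG2g.chk_of_agree H19.agreeG2 H19.agreeG2 (Or.inr (by decide)) (by decide +kernel)

end H20
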