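import Mathlib
import Cfsg.Prelude.Def_CaseTheorems
import Cfsg.Prelude.Def_Local
import Cfsg.Prelude.Def_Transfer
import Cfsg.Prelude.Def_Involutions
import Cfsg.Prelude.Def_Classical

/-! S0509, identification part: graph covers and the graph of unit vectors of `F^5`. -/

set_option autoImplicit false

namespace H20.P4

/-- `π` is a covering of graphs along which triangles lift -/
structure IsCover {V U : Type*} (adj : V → V → Prop) (adj' : U → U → Prop) (π : U → V) : Prop where
  symm : ∀ x y, adj' x y → adj' y x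
  map : ∀ x y, adj' x y → adj (π x) (π y)
  lift : ∀ x v, adj (π x) v → ∃ y, adj' x y ∧ π y = v
  uniq : ∀ x y y', adj' x y → adj' x y' → π y = π y' → y = y'
  tri : ∀ x y y', adj' x y → adj' x y' → adj (π y) (π y') → adj' y y'

/-- unit vectors of `F^5` for the dot product -/
abbrev Sph (F : Type*) [Field F] : Type _ := {x : Fin 5 → F // x ⬝ᵥ x = 1}

/-- orthogonality -/
def Sph.adj {F : Type*} [Field F] (x y : Sph F) : Prop := x.1 ⬝ᵥ y.1 = 0

/-- unit vectors orthogonal to `u` and `v` -/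
def CN {F : Type*} [Field F] (u v w : Fin 5 → F) : Prop := w ⬝ᵥ w = 1 ∧ u ⬝ᵥ w = 0 ∧ v ⬝ᵥ w = 0

/-- orthogonal or elliptic pairs of common neighbours -/
def OE {F : Type*} [Field F] (u v a b : Fin 5 → F) : Prop :=
  CN u v a ∧ CN u v b ∧ (a ⬝ᵥ b = 0 ∨ ¬ IsSquare ((a ⬝ᵥ b) ^ 2 - 1))

end H20.P4
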