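import Mathlib
import Cfsg.Agent.H20.PI0
import Cfsg.Agent.H24.G2Fus
import Cfsg.Agent.H24.G2C3

/-! S0509: the Sylow 2-subgroup `W m` of `PSp₄(q)`, order `2^(2m+6)`, as the subgroup
`{(r^i f^a, r^j f^b) s^e : i ≡ j (2)}` of `D ≀ 2`, `D` dihedral with `r` of order `2^(m+2)`. -/

set_option autoImplicit false
set_option linter.unusedSectionVars false

namespace H20.P4

open Cfsg Subgroup
open scoped MatrixGroups

abbrev R (m : ℕ) : Type := ZMod (2 ^ (m + 2))

variable {m : ℕ}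

/-- sign -/
def sg (m : ℕ) (d : Bool) : R m := if d then -1 else 1
@[simp] theorem sg_true : sg m true = -1 := rfl
@[simp] theorem sg_false : sg m false = 1 := rfl

/-- parity -/
def par (m : ℕ) : R m →+* ZMod 2 := H24.G2S.par (n := m + 2) (by omega)
/-- `2^(m+1)` -/
def hh (m : ℕ) : R m := H24.G2S.h (m + 2)
/-- `2^m` -/
def kk (m : ℕ) : R m := H24.G2S.k (m + 2)

theorem two_hh : 2 * hh m = 0 := H24.G2S.two_h (by omega)
theorem two_kk : 2 * kk m = hh m := H24.G2S.two_k (by omega)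
theorem hh_ne : hh m ≠ 0 := H24.G2S.h_ne (by omega)
@[simp] theorem neg_hh : -hh m = hh m := H24.G2S.neg_h (by omega)
@[simp] theorem hh_add_hh : hh m + hh m = 0 := by rw [← two_mul, two_hh]
theorem two_mul_eq_zero {x : R m} (hx : 2 * x = 0) : x = 0 ∨ x = hh m :=
  H24.G2S.two_mul_eq_zero (by omega) hx
theorem two_mul_eq_hh {x : R m} (hx : 2 * x = hh m) : x = kk m ∨ x = -kk m :=
  H24.G2S.two_mul_eq_h (by omega) hx
theorem par_two_mul (x : R m) : par m (2 * x) = 0 := H24.G2S.par_two_mul _ x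
theorem exists_half {x : R m} (hx : par m x = 0) : ∃ t, x = 2 * t := H24.G2S.exists_half _ hx
@[simp] theorem par_hh : par m (hh m) = 0 := H24.G2S.par_h (by omega)
@[simp] theorem par_neg (x : R m) : par m (-x) = par m x := H24.G2S.par_neg _ x
@[simp] theorem neg_par (x : R m) : -par m x = par m x := ZMod.neg_eq_self_mod_two _
theorem kk_ne_zero : kk m ≠ 0 := H24.G2S.k_ne_zero (by omega)
theorem kk_ne_hh : kk m ≠ hh m := H24.G2S.k_ne_h (by omega)
theorem kk_ne_neg : kk m ≠ -kk m := H24.G2S.k_ne_neg (by omega)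
theorem exists_half_kk (hm : 1 ≤ m) : ∃ t, kk m = 2 * t := H24.G2S.exists_half_k (by omega)
theorem par_sg (d : Bool) (x : R m) : par m (sg m d * x) = par m x := by cases d <;> simp
theorem par_cases (x : R m) : par m x = 0 ∨ par m x = 1 := by
  generalize par m x = t; revert t; decide

/-- `(r^i f^a, r^j f^b) s^e` -/
@[ext] structure W (m : ℕ) where
  i : R m
  j : R m
  a : Bool
  b : Bool
  e : Bool
  hp : par m i = par m j

instance : Mul (W m) := ⟨fun x y =>
  ⟨x.i + sg m x.a * (if x.e then y.j else y.i), x.j + sg m x.b * (if x.e then y.i else y.j),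
    xor x.a (if x.e then y.b else y.a), xor x.b (if x.e then y.a else y.b), xor x.e y.e, by
      rw [map_add, map_add, par_sg, par_sg, x.hp]
      cases x.e <;> simp [y.hp]⟩⟩
instance : One (W m) := ⟨⟨0, 0, false, false, false, rfl⟩⟩
instance : Inv (W m) := ⟨fun x =>
  ⟨-(if x.e then sg m x.b * x.j else sg m x.a * x.i), -(if x.e then sg m x.a * x.i else sg m x.b * x.j),
    if x.e then x.b else x.a, if x.e then x.a else x.b, x.e, by
      cases x.e <;> simp only [par_neg, par_sg, x.hp, if_true, if_false, Bool.false_eq_true]⟩⟩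

@[simp] theorem mul_i (x y : W m) : (x * y).i = x.i + sg m x.a * (if x.e then y.j else y.i) := rfl
@[simp] theorem mul_j (x y : W m) : (x * y).j = x.j + sg m x.b * (if x.e then y.i else y.j) := rfl
@[simp] theorem mul_a (x y : W m) : (x * y).a = xor x.a (if x.e then y.b else y.a) := rfl
@[simp] theorem mul_b (x y : W m) : (x * y).b = xor x.b (if x.e then y.a else y.b) := rfl
@[simp] theorem mul_e (x y : W m) : (x * y).e = xor x.e y.e := rfl
@[simp] theorem one_i : (1 : W m).i = 0 := rfl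
@[simp] theorem one_j : (1 : W m).j = 0 := rfl
@[simp] theorem one_a : (1 : W m).a = false := rfl
@[simp] theorem one_b : (1 : W m).b = false := rfl
@[simp] theorem one_e : (1 : W m).e = false := rfl
@[simp] theorem inv_i (x : W m) : x⁻¹.i = -(if x.e then sg m x.b * x.j else sg m x.a * x.i) := rfl
@[simp] theorem inv_j (x : W m) : x⁻¹.j = -(if x.e then sg m x.a * x.i else sg m x.b * x.j) := rfl
@[simp] theorem inv_a (x : W m) : x⁻¹.a = if x.e then x.b else x.a := rfl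
@[simp] theorem inv_b (x : W m) : x⁻¹.b = if x.e then x.a else x.b := rfl
@[simp] theorem inv_e (x : W m) : x⁻¹.e = x.e := rfl

instance : Group (W m) := Group.ofLeftAxioms
  (by
    rintro ⟨i, j, a, b, e, _⟩ ⟨i', j', a', b', e', _⟩ ⟨i'', j'', a'', b'', e'', _⟩
    cases e <;> cases e' <;> cases a <;> cases b <;> cases a' <;> cases b' <;> ext <;> simp <;> ring)
  (by rintro ⟨i, j, a, b, e, _⟩; ext <;> simp)
  (by rintro ⟨i, j, a, b, e, _⟩; cases e <;> cases a <;> cases b <;> ext <;> simp)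

/-- as a subtype of a product -/
def equivProd : W m ≃ {p : R m × R m // par m p.1 = par m p.2} × Bool × Bool × Bool where
  toFun x := (⟨(x.i, x.j), x.hp⟩, x.a, x.b, x.e)
  invFun p := ⟨p.1.1.1, p.1.1.2, p.2.1, p.2.2.1, p.2.2.2, p.1.2⟩
  left_inv _ := rfl
  right_inv _ := rfl

instance : DecidableEq (W m) := fun x y =>
  decidable_of_iff (x.i = y.i ∧ x.j = y.j ∧ x.a = y.a ∧ x.b = y.b ∧ x.e = y.e) W.ext_iff.symm
instance : Fintype (W m) := Fintype.ofEquiv _ equivProd.symm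

theorem card_W : Nat.card (W m) = 2 ^ (2 * m + 6) := by
  let φ : R m × R m →+ ZMod 2 :=
    ((par m).toAddMonoidHom.comp (AddMonoidHom.fst _ _)) - ((par m).toAddMonoidHom.comp (AddMonoidHom.snd _ _))
  have hs : φ.range = ⊤ := by
    rw [eq_top_iff]; intro t _
    rcases (by decide : ∀ t : ZMod 2, t = 0 ∨ t = 1) t with rfl | rfl
    · exact zero_mem _
    · exact ⟨(1, 0), by simp [φ]⟩
  have h1 : φ.ker.index = 2 := by
    rw [AddSubgroup.index_ker, hs, AddSubgroup.card_top, Nat.card_zmod]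
  have h2 := φ.ker.card_mul_index
  rw [h1, Nat.card_prod, Nat.card_zmod] at h2
  have h3 : Nat.card {p : R m × R m // par m p.1 = par m p.2} = Nat.card φ.ker :=
    Nat.card_congr (Equiv.subtypeEquivRight fun p => by simp [φ, AddMonoidHom.mem_ker, sub_eq_zero])
  rw [Nat.card_congr equivProd, Nat.card_prod, Nat.card_prod, Nat.card_prod, h3,
    Nat.card_eq_fintype_card (α := Bool), Fintype.card_bool]
  have : Nat.card φ.ker * 2 * 4 = 2 ^ (2 * m + 6) := by rw [h2]; ring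
  omega

theorem W_p : IsPGroup 2 (W m) := IsPGroup.of_card card_W

namespace W
/-- `(c,c)` -/
def z (m : ℕ) : W m := ⟨hh m, hh m, false, false, false, rfl⟩
/-- `(1,c)` -/
def y (m : ℕ) : W m := ⟨0, hh m, false, false, false, by simp⟩
/-- `(c,1)` -/
def v (m : ℕ) : W m := ⟨hh m, 0, false, false, false, by simp⟩
/-- `(f,c)` -/
def u (m : ℕ) : W m := ⟨0, hh m, true, false, false, by simp⟩
/-- `(c,f)` -/
def u' (m : ℕ) : W m := ⟨hh m, 0, false, true, false, by simp⟩
/-- `(f,f)` -/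
def t (m : ℕ) : W m := ⟨0, 0, true, true, false, rfl⟩
/-- `(rf,rf)` -/
def w (m : ℕ) : W m := ⟨1, 1, true, true, false, rfl⟩
def s (m : ℕ) : W m := ⟨0, 0, false, false, true, rfl⟩
/-- `(r,r⁻¹)s` -/
def s' (m : ℕ) : W m := ⟨1, -1, false, false, true, by simp⟩
def x1 (m : ℕ) : W m := ⟨1, 1, false, false, false, rfl⟩
def x2 (m : ℕ) : W m := ⟨1, -1, false, false, false, by simp⟩
def y1 (m : ℕ) : W m := ⟨0, hh m, true, true, true, by simp⟩
def y2 (m : ℕ) : W m := ⟨0, hh m, false, false, true, by simp⟩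
def c1 (m : ℕ) : W m := ⟨kk m, kk m, false, false, false, rfl⟩
def c2 (m : ℕ) : W m := ⟨kk m, -kk m, false, false, false, by simp⟩

theorem z_ne_one : z m ≠ 1 := fun e => hh_ne (congrArg W.i e)
theorem z_mul_z : z m * z m = 1 := by ext <;> simp [z]
theorem z_comm (x : W m) : x * z m = z m * x := by
  rcases x with ⟨i, j, a, b, e, _⟩; cases e <;> cases a <;> cases b <;> ext <;> simp [z, add_comm]
theorem u_mul_u : u m * u m = 1 := by ext <;> simp [u]
theorem y_mul_y : y m * y m = 1 := by ext <;> simp [y]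
end W

/-- `Q = Q₁ ∘ Q₂` -/
def Q (m : ℕ) : Subgroup (W m) where
  carrier := {x | x.a = x.b}
  one_mem' := rfl
  mul_mem' := by rintro x y (hx : _ = _) (hy : _ = _); show _ = _; simp [hx, hy]
  inv_mem' := by rintro x (hx : _ = _); show _ = _; simp [hx]
theorem mem_Q {x : W m} : x ∈ Q m ↔ x.a = x.b := Iff.rfl

/-- `Q₁ = ⟨x1, y1⟩`, generalized quaternion of order `2^(m+3)` -/
def Q1 (m : ℕ) : Subgroup (W m) where
  carrier := {x | x.a = x.e ∧ x.b = x.e ∧ x.j = x.i + if x.e then hh m else 0}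
  one_mem' := by simp
  mul_mem' := by
    rintro x y ⟨h1, h2, h3⟩ ⟨h4, h5, h6⟩
    refine ⟨?_, ?_, ?_⟩ <;> simp only [mul_i, mul_j, mul_a, mul_b, mul_e, h1, h2, h3, h4, h5, h6] <;>
      rcases Bool.eq_false_or_eq_true x.e with hx | hx <;> rcases Bool.eq_false_or_eq_true y.e with hy | hy <;>
      simp [hx, hy] <;> first | ring1 | linear_combination (exp := 1) two_hh (m := m) | linear_combination (exp := 1) -two_hh (m := m)
  inv_mem' := by
    rintro x ⟨h1, h2, h3⟩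
    refine ⟨?_, ?_, ?_⟩ <;> simp only [inv_i, inv_j, inv_a, inv_b, inv_e, h1, h2, h3] <;>
      rcases Bool.eq_false_or_eq_true x.e with hx | hx <;>
      simp [hx] <;> first | ring1 | linear_combination (exp := 1) two_hh (m := m) | linear_combination (exp := 1) -two_hh (m := m)
theorem mem_Q1 {x : W m} :
    x ∈ Q1 m ↔ x.a = x.e ∧ x.b = x.e ∧ x.j = x.i + if x.e then hh m else 0 := Iff.rfl

/-- `Q₂ = ⟨x2, y2⟩ = u Q₁ u` -/
def Q2 (m : ℕ) : Subgroup (W m) where
  carrier := {x | x.a = false ∧ x.b = false ∧ x.j = -x.i + if x.e then hh m else 0}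
  one_mem' := by simp
  mul_mem' := by
    rintro x y ⟨h1, h2, h3⟩ ⟨h4, h5, h6⟩
    refine ⟨?_, ?_, ?_⟩ <;> simp only [mul_i, mul_j, mul_a, mul_b, mul_e, h1, h2, h3, h4, h5, h6] <;>
      rcases Bool.eq_false_or_eq_true x.e with hx | hx <;> rcases Bool.eq_false_or_eq_true y.e with hy | hy <;>
      simp [hx, hy] <;> first | ring1 | linear_combination (exp := 1) two_hh (m := m) | linear_combination (exp := 1) -two_hh (m := m)
  inv_mem' := by
    rintro x ⟨h1, h2, h3⟩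
    refine ⟨?_, ?_, ?_⟩ <;> simp only [inv_i, inv_j, inv_a, inv_b, inv_e, h1, h2, h3] <;>
      rcases Bool.eq_false_or_eq_true x.e with hx | hx <;>
      simp [hx] <;> first | ring1 | linear_combination (exp := 1) two_hh (m := m) | linear_combination (exp := 1) -two_hh (m := m)
theorem mem_Q2 {x : W m} :
    x ∈ Q2 m ↔ x.a = false ∧ x.b = false ∧ x.j = -x.i + if x.e then hh m else 0 := Iff.rfl

/-- `T₀ = C(y)` -/
def T0 (m : ℕ) : Subgroup (W m) where
  carrier := {x | x.e = false}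
  one_mem' := rfl
  mul_mem' := by rintro x y (hx : _ = _) (hy : _ = _); show _ = _; simp [hx, hy]
  inv_mem' := by rintro x (hx : _ = _); show _ = _; simp [hx]
theorem mem_T0 {x : W m} : x ∈ T0 m ↔ x.e = false := Iff.rfl

/-- the elementary abelian subgroup `⟨f,c⟩ × ⟨f,c⟩` of order 16 -/
def EE (m : ℕ) : Subgroup (W m) where
  carrier := {x | x.e = false ∧ 2 * x.i = 0 ∧ 2 * x.j = 0}
  one_mem' := by simp
  mul_mem' := by
    rintro ⟨i, j, a, b, e, _⟩ ⟨i', j', a', b', e', _⟩ ⟨rfl, h1, h2⟩ ⟨rfl, h3, h4⟩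
    simp only at h1 h2 h3 h4
    refine ⟨rfl, ?_, ?_⟩
    · show 2 * (i + sg m a * i') = 0
      linear_combination h1 + sg m a * h3
    · show 2 * (j + sg m b * j') = 0
      linear_combination h2 + sg m b * h4
  inv_mem' := by
    rintro ⟨i, j, a, b, e, _⟩ ⟨rfl, h1, h2⟩
    simp only at h1 h2
    refine ⟨rfl, ?_, ?_⟩
    · show 2 * -(sg m a * i) = 0
      linear_combination -sg m a * h1
    · show 2 * -(sg m b * j) = 0
      linear_combination -sg m b * h2
theorem mem_EE {x : W m} : x ∈ EE m ↔ x.e = false ∧ 2 * x.i = 0 ∧ 2 * x.j = 0 := Iff.rfl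

/-- the automorphism `u ↦ uz` which is trivial on `Q` -/
def κ : W m →* W m := MonoidHom.mk' (fun x => if x.a = x.b then x else x * W.z m) (by
  rintro ⟨i, j, a, b, e, _⟩ ⟨i', j', a', b', e', _⟩
  cases e <;> cases a <;> cases b <;> cases a' <;> cases b' <;> ext <;> simp [W.z] <;>
    first | ring1 | linear_combination (exp := 1) two_hh (m := m) | linear_combination (exp := 1) -two_hh (m := m))
theorem κ_apply (x : W m) : κ x = if x.a = x.b then x else x * W.z m := rfl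
theorem κ_of_mem {x : W m} (hx : x ∈ Q m) : κ x = x := if_pos hx
theorem κ_of_not_mem {x : W m} (hx : x ∉ Q m) : κ x = x * W.z m := if_neg hx
theorem κ_κ (x : W m) : κ (κ x) = x := by
  by_cases hx : x ∈ Q m
  · rw [κ_of_mem hx, κ_of_mem hx]
  · rw [κ_of_not_mem hx, map_mul, κ_of_not_mem hx, κ_of_mem (x := W.z m) rfl, mul_assoc, W.z_mul_z, mul_one]

/-- extremal conjugates -/
theorem exists_extremal {G : Type*} [Group G] [Finite G] (S : Sylow 2 G) {x : G}
    (hx : x ∈ (S : Subgroup G)) : ∃ x' ∈ (S : Subgroup G), IsConj x x' ∧ ∀ y, IsConj y x' →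
      ∀ T : Subgroup G, IsPGroup 2 T → (∀ t ∈ T, t * y = y * t) →
        ∃ g : G, g * y * g⁻¹ = x' ∧ ∀ t ∈ T, g * t * g⁻¹ ∈ (S : Subgroup G) := by
  have hxc : x ∈ centralizer ({x} : Set G) := mem_centralizer_singleton_iff.2 rfl
  have hp : IsPGroup 2 ((zpowers x).subgroupOf (centralizer ({x} : Set G))) :=
    (S.isPGroup'.to_le ((zpowers_le).2 hx)).comap_subtype
  obtain ⟨P, hP⟩ := hp.exists_le_sylow
  obtain ⟨g, hg⟩ := H24.G2S.exists_conj_le_sylow S _ (P.isPGroup'.map (centralizer ({x} : Set G)).subtype)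
  refine ⟨g * x * g⁻¹, hg x ⟨⟨x, hxc⟩, hP (mem_zpowers x), rfl⟩, isConj_iff.2 ⟨g, rfl⟩, fun y hy T hT hTy => ?_⟩
  obtain ⟨c, hc, hc'⟩ := H24.G2S.exists_conj_cent (hy.trans (isConj_iff.2 ⟨g, rfl⟩ : IsConj x _).symm) P T hT hTy
  refine ⟨g * c, by rw [← hc]; group, fun t ht => ?_⟩
  have := hg _ (hc' t ht)
  convert this using 1; group

/-- an isomorphism of `W m` onto a Sylow 2-subgroup -/
structure Emb (m : ℕ) (G : Type*) [Group G] where
  f : W m →* G
  inj : Function.Injective f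
  odd : Odd f.range.index

/-- `O(C(x))` -/
abbrev OC {G : Type*} [Group G] (x : G) : Subgroup G := centralizerPPrimeCore 2 x

namespace Emb
variable {G : Type*} [Group G] [Finite G] (E : Emb m G)

/-- the Sylow 2-subgroup -/
noncomputable def S : Sylow 2 G :=
  (W_p.of_surjective _ E.f.rangeRestrict_surjective).toSylow (by
    have := E.odd; rw [← Nat.not_even_iff_odd, even_iff_two_dvd] at this; exact this)
theorem S_eq : (E.S : Subgroup G) = E.f.range := rfl
theorem mem (x : W m) : E.f x ∈ (E.S : Subgroup G) := ⟨x, rfl⟩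
theorem exists_eq {y : G} (hy : y ∈ (E.S : Subgroup G)) : ∃ x, E.f x = y := hy

abbrev z : G := E.f (W.z m)
abbrev u : G := E.f (W.u m)
abbrev y : G := E.f (W.y m)
/-- the class `Z` of `z` -/
abbrev Z (a : G) : Prop := IsConj E.z a
/-- `C = C_G(z)` -/
abbrev C : Subgroup G := centralizer {E.z}
/-- `C / O(C)` -/
abbrev Bar : Type _ := E.C ⧸ oddCore E.C
/-- `C → C / O(C)` -/
abbrev π : E.C →* E.Bar := QuotientGroup.mk' (oddCore E.C)
/-- `z` is central -/
def Cen : Prop := ∀ g : G, g * E.z = E.z * g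

omit [Finite G] in
theorem mem_C (x : W m) : E.f x ∈ E.C :=
  mem_centralizer_singleton_iff.2 (by rw [← map_mul, ← map_mul, W.z_comm])

/-- twisting by `κ` -/
def tw : Emb m G := ⟨E.f.comp κ, E.inj.comp (Function.LeftInverse.injective κ_κ), by
  have : (E.f.comp κ).range = E.f.range := by
    ext g; constructor
    · rintro ⟨x, rfl⟩; exact ⟨_, rfl⟩
    · rintro ⟨x, rfl⟩; exact ⟨κ x, by simp [κ_κ]⟩
  rw [this]; exact E.odd⟩
omit [Finite G] in
theorem tw_f (x : W m) : E.tw.f x = E.f (κ x) := rfl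
omit [Finite G] in
theorem tw_z : E.tw.z = E.z := congrArg E.f (κ_of_mem rfl)

/-- restriction to `C` -/
def cen : Emb m E.C := ⟨E.f.codRestrict E.C E.mem_C, fun _ _ h => E.inj (congrArg Subtype.val h), by
  have h : (E.f.codRestrict E.C E.mem_C).range = E.f.range.subgroupOf E.C := by
    ext g; constructor
    · rintro ⟨x, rfl⟩; exact ⟨x, rfl⟩
    · rintro ⟨x, hx⟩; exact ⟨x, Subtype.ext hx⟩
  rw [h]
  exact E.odd.of_dvd_nat (relIndex_dvd_index_of_le (by rintro _ ⟨x, rfl⟩; exact E.mem_C x))⟩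
omit [Finite G] in
theorem cen_f (x : W m) : (E.cen.f x : G) = E.f x := rfl
omit [Finite G] in
theorem cen_Cen : E.cen.Cen := fun g => Subtype.ext (mem_centralizer_singleton_iff.1 g.2)

/-- the image in `C / O(C)` -/
def bar : Emb m E.Bar := ⟨E.π.comp E.cen.f, (injective_iff_map_eq_one _).2 fun x hx => by
    have h2 : E.cen.f x = 1 := H3.eq_one_of_mem_of_coprime E.cen.S.isPGroup' (E.cen.mem x)
      (H3.orderOf_coprime_of_mem (H2.pPrimeCore_coprime 2 _) ((QuotientGroup.eq_one_iff _).1 hx))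
    exact E.cen.inj (h2.trans (map_one _).symm), by
  rw [MonoidHom.range_comp]
  exact E.cen.odd.of_dvd_nat (index_map_dvd _ (QuotientGroup.mk'_surjective _))⟩
theorem bar_f (x : W m) : E.bar.f x = E.π (E.cen.f x) := rfl
theorem bar_Cen : E.bar.Cen := fun g => by
  obtain ⟨g, rfl⟩ := QuotientGroup.mk'_surjective _ g
  change E.π g * E.π _ = E.π _ * E.π g
  rw [← map_mul, ← map_mul, E.cen_Cen g]

/-- extremal conjugation onto `z` -/
theorem ext_z {a : G} (ha : E.Z a) (T : Subgroup G) (hT : IsPGroup 2 T) (hTa : ∀ t ∈ T, t * a = a * t) :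
    ∃ g : G, g * a * g⁻¹ = E.z ∧ ∀ t ∈ T, ∃ x, E.f x = g * t * g⁻¹ := by
  have hS : (E.S : Subgroup G) ≤ E.C := by rintro _ ⟨x, rfl⟩; exact E.mem_C x
  obtain ⟨g, hg, hg'⟩ := H24.G2S.exists_conj_cent ha.symm (E.S.subtype hS) T hT hTa
  refine ⟨g, hg, fun t ht => E.exists_eq ?_⟩
  obtain ⟨c, hc, e⟩ := hg' _ ht
  rw [← e]; exact hc

/-- `C₀` : the subgroup of index 2 with Sylow 2-subgroup `Q` -/
structure IsC0 (C0 : Subgroup G) : Prop where
  idx : C0.index = 2
  mem : ∀ x, E.f x ∈ C0 ↔ x ∈ Q m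

/-- the normal closure of `Q₁` in `C₀` -/
def N1 (C0 : Subgroup G) : Subgroup G := closure {a | ∃ g ∈ C0, ∃ x ∈ Q1 m, a = g * E.f x * g⁻¹}

/-- the product structure of `C₀` (in a group with `z` central and trivial core); `N₂ = u N₁ u` -/
structure PN (N : Subgroup G) : Prop where
  cen : E.Cen
  core : oddCore G = ⊥
  mem : ∀ x, E.f x ∈ N ↔ x ∈ Q1 m
  comm : ∀ a ∈ N, ∀ b ∈ N, a * (E.u * b * E.u) = E.u * b * E.u * a
  inf : ∀ a ∈ N, E.u * a * E.u ∈ N → a = 1 ∨ a = E.z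
  norm : ∀ g : G, (∀ a ∈ N, g * a * g⁻¹ ∈ N) ∨ ∀ a ∈ N, E.u * (g * a * g⁻¹) * E.u ∈ N
  cent : ∀ g : G, (∀ a ∈ N, g * a = a * g) → (∀ a ∈ N, g * (E.u * a * E.u) = E.u * a * E.u * g) →
    g = 1 ∨ g = E.z

/-- all elements of order 4 of `Q₁` are conjugate in `N` -/
def Conj4 (N : Subgroup G) : Prop :=
  ∀ x ∈ Q1 m, x * x = W.z m → ∃ g ∈ N, g * E.f x * g⁻¹ = E.f (W.c1 m)

/-- case (S): `m = 0` and `Q₁`, `Q₂` are normalized or swapped -/
def CaseS : Prop := m = 0 ∧ E.PN ((Q1 m).map E.f)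

/-- case (L): `N₁ ≅ SL₂(F)` -/
structure CaseL (F : Type) [Field F] [Fintype F] (ψ : SL(2, F) →* G) : Prop where
  odd : Odd (Fintype.card F)
  five : 5 ≤ Fintype.card F
  inj : Function.Injective ψ
  neg : ψ (-1) = E.z
  pn : E.PN ψ.range

/-- case (A): `N₁ ≅ 2A₇` -/
def CaseA : Prop := ∃ N : Subgroup G, E.PN N ∧ ∃ (hz : E.z ∈ N) (p : N →* alternatingGroup (Fin 7)),
  H22.DCover p ⟨E.z, hz⟩

/-- the fusion pattern W: `Z ∩ S = {z} ∪ u^S` -/
def PW : Prop := ∀ x : W m, E.Z (E.f x) ↔ x = W.z m ∨ IsConj (W.u m) x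

/-- a pair of distinct commuting elements of `Z` -/
structure Pair (a b : G) : Prop where
  za : E.Z a
  zb : E.Z b
  ne : a ≠ b
  comm : a * b = b * a

/-- `[O²(C(ab)), a] ≤ O(C(ab))` -/
def ZH : Prop := ∀ a b, E.Pair a b → ∀ h : G, h * (a * b) = a * b * h → Odd (orderOf h) →
  h * a * h⁻¹ * a ∈ OC (a * b)

/-- z-balance -/
def ZB : Prop := ∀ a b, E.Pair a b → ∀ P : Subgroup G, Odd (Nat.card P) → P ≤ centralizer {a, b} →
  (∀ g ∈ centralizer ({a, b} : Set G), ∀ p ∈ P, g * p * g⁻¹ ∈ P) → P ≤ OC a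

/-- five distinct commuting elements of `Z` with product 1 -/
structure Frame (ζ : Fin 5 → G) : Prop where
  z : ∀ k, E.Z (ζ k)
  inj : Function.Injective ζ
  comm : ∀ k l, ζ k * ζ l = ζ l * ζ k
  prod : ζ 0 * ζ 1 * ζ 2 * ζ 3 * ζ 4 = 1

/-- the standard frame `(c,c), (f,c), (fc,c), (c,f), (c,fc)` -/
def fr0 : Fin 5 → G :=
  ![E.z, E.u, E.f (W.u m * W.v m), E.f (W.u' m), E.f (W.u' m * W.y m)]

/-- `⟨z, u, y⟩` -/
def B0 : Subgroup G := closure {E.z, E.u, E.y}

/-- the diagonal `a ↦ ψ a · u (ψ a) u` -/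
def CaseL.δ {E : Emb m G} {F : Type} [Field F] [Fintype F] {ψ : SL(2, F) →* G} (h : E.CaseL F ψ) :
    SL(2, F) →* G := MonoidHom.mk' (fun a => ψ a * (E.u * ψ a * E.u)) (fun a b => by
  have h1 := h.pn.comm _ ⟨b, rfl⟩ _ ⟨a, rfl⟩
  have h2 : E.u * E.u = 1 := by rw [← map_mul, W.u_mul_u, map_one]
  calc ψ (a * b) * (E.u * ψ (a * b) * E.u)
      = ψ a * (ψ b * (E.u * ψ a * E.u)) * (E.u * ψ b * E.u) := by
        rw [map_mul]
        calc ψ a * ψ b * (E.u * (ψ a * ψ b) * E.u)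
            = ψ a * ψ b * (E.u * ψ a * (E.u * E.u) * ψ b * E.u) := by rw [h2]; group
          _ = _ := by group
    _ = _ := by rw [h1]; group)
theorem CaseL.δ_apply {E : Emb m G} {F : Type} [Field F] [Fintype F] {ψ : SL(2, F) →* G}
    (h : E.CaseL F ψ) (a : SL(2, F)) : h.δ a = ψ a * (E.u * ψ a * E.u) := rfl

/-- every conjugate of `u` is conjugate to `u` under `N₁` -/
def CU {F : Type} [Field F] (ψ : SL(2, F) →* G) : Prop :=
  ∀ g : G, ∃ B, g * E.u * g⁻¹ = ψ B * E.u * (ψ B)⁻¹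

end Emb

/-- the subgroup generated by a frame -/
abbrev FG {G : Type*} [Group G] (ζ : Fin 5 → G) : Subgroup G := closure (Set.range ζ)

/-- `⟨Δ(D) : D ≤ B, |D| = 4⟩` -/
def WB {G : Type*} [Group G] (B : Subgroup G) : Subgroup G :=
  ⨆ D : {D : Subgroup G // D ≤ B ∧ Nat.card ↥D = 4}, signalizerDelta 2 (D : Subgroup G)

/-- the conclusion -/
def Concl (G : Type*) [Group G] : Prop :=
  (∃ (K : Type) (_ : Field K) (_ : Fintype K), Odd (Fintype.card K) ∧ Nonempty (G ≃* Cfsg.PSp 2 K)) ∨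
    Nonempty (G ≃* alternatingGroup (Fin 8)) ∨ Nonempty (G ≃* alternatingGroup (Fin 9))

end H20.P4
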