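import Mathlib
import Cfsg.Agent.H20.P0

set_option autoImplicit false
set_option linter.unusedVariables false
set_option linter.unusedSectionVars false
set_option linter.unusedSimpArgs false
set_option linter.unusedTactic false
set_option linter.unreachableTactic false
set_option linter.unnecessarySeqFocus false

namespace H20.P4

open Cfsg Subgroup
open scoped MatrixGroups

universe u

variable {m : ℕ} {G : Type u} [Group G] [Finite G]

theorem two_ne : (2 : R m) ≠ 0 := fun e0 => hh_ne (m := m) (by rw [← two_kk, e0, zero_mul])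
theorem one_ne_neg : (1 : R m) ≠ -1 := fun e0 => two_ne (m := m) (by linear_combination e0)
theorem neg_ne_one : (-1 : R m) ≠ 1 := fun e0 => one_ne_neg e0.symm
theorem par_of_two {x : R m} (h : 2 * x = 0) : par m x = 0 := by
  rcases two_mul_eq_zero h with rfl | rfl <;> simp
theorem add_self_eq {x : R m} (h : x + x = 0) : x = 0 ∨ x = hh m := two_mul_eq_zero (by rw [two_mul, h])
theorem neg_eq_self' {x : R m} (h : -x = x) : x = 0 ∨ x = hh m := two_mul_eq_zero (by linear_combination -h)

theorem same2 {p q : R m} (hp : p + p = 0) (h : q = p ∨ q = -p) : p = 0 ∧ q = 0 ∨ p = hh m ∧ q = hh m := by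
  rcases add_self_eq hp with rfl | rfl <;> rcases h with rfl | rfl <;> simp

/-! ### PMF -/
section PMF
namespace W
theorem cent_Q {x : W m} (hx : ∀ d ∈ Q m, d * x = x * d) : x = 1 ∨ x = z m := by
  have e1 := W.ext_iff.1 (hx (x1 m) rfl)
  have e2 := W.ext_iff.1 (hx (x2 m) rfl)
  have e3 := W.ext_iff.1 (hx (t m) rfl)
  have e4 := W.ext_iff.1 (hx (s m) rfl)
  rcases x with ⟨i, j, a, b, e, hp⟩
  cases e <;> cases a <;> cases b <;> simp [x1, x2, t, s, add_comm, one_ne_neg, neg_ne_one] at e1 e2 e3 e4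
  obtain ⟨rfl, -⟩ := e4
  rcases neg_eq_self' e3.1 with rfl | rfl
  · exact Or.inl rfl
  · exact Or.inr rfl
theorem center_eq {x : W m} (hx : ∀ d, d * x = x * d) : x = 1 ∨ x = z m := cent_Q fun d _ => hx d
theorem cent_Q2 {x : W m} (hx : ∀ d ∈ Q2 m, d * x = x * d) : x ∈ Q1 m := by
  have e1 := W.ext_iff.1 (hx (x2 m) (by simp [mem_Q2, x2]))
  have e2 := W.ext_iff.1 (hx (y2 m) (by simp [mem_Q2, y2]))
  rcases x with ⟨i, j, a, b, e, hp⟩
  cases e <;> cases a <;> cases b <;> simp [x2, y2, add_comm, one_ne_neg, neg_ne_one] at e1 e2 <;>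
    refine ⟨rfl, rfl, ?_⟩ <;> simp <;>
    first | linear_combination e2.1 | linear_combination -e2.1 | linear_combination e2.2 | linear_combination -e2.2
theorem cent_y {x : W m} : x * y m = y m * x ↔ x ∈ T0 m := by
  rcases x with ⟨i, j, a, b, e, hp⟩
  cases e <;> cases a <;> cases b <;> simp [W.ext_iff, y, mem_T0, add_comm, hh_ne]
theorem index_Q : (Q m).index = 2 := by
  refine index_eq_two_iff.2 ⟨u m, fun b => ?_⟩
  rcases b with ⟨i, j, a, b, e, hp⟩
  cases e <;> cases a <;> cases b <;> simp [mem_Q, u]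
theorem index_T0 : (T0 m).index = 2 := by
  refine index_eq_two_iff.2 ⟨s m, fun b => ?_⟩
  rcases b with ⟨i, j, a, b, e, hp⟩
  cases e <;> simp [mem_T0, s]
theorem card_Q1 : Nat.card (Q1 m) = 2 ^ (m + 3) := by
  let φ : R m × Bool → Q1 m := fun p =>
    ⟨⟨p.1, p.1 + if p.2 then hh m else 0, p.2, p.2, p.2, by cases p.2 <;> simp⟩, rfl, rfl, rfl⟩
  have : Function.Bijective φ := by
    constructor
    · rintro ⟨i, e⟩ ⟨i', e'⟩ h
      have h1 := W.ext_iff.1 (congrArg Subtype.val h)
      exact Prod.ext h1.1 h1.2.2.1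
    · rintro ⟨x, h1, h2, h3⟩
      exact ⟨(x.i, x.e), Subtype.ext (W.ext rfl h3.symm h1.symm h2.symm rfl)⟩
  rw [← Nat.card_eq_of_bijective φ this, Nat.card_prod, Nat.card_zmod, Nat.card_eq_fintype_card,
    Fintype.card_bool]
  ring
theorem card_EE : Nat.card (EE m) = 16 := by
  let φ : Bool × Bool × Bool × Bool → EE m := fun p =>
    ⟨⟨if p.1 then hh m else 0, if p.2.1 then hh m else 0, p.2.2.1, p.2.2.2, false, by
      cases p.1 <;> cases p.2.1 <;> simp⟩, rfl, by cases p.1 <;> simp [two_hh], by cases p.2.1 <;> simp [two_hh]⟩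
  have : Function.Bijective φ := by
    constructor
    · rintro ⟨p, q, a, b⟩ ⟨p', q', a', b'⟩ h
      have h1 := W.ext_iff.1 (congrArg Subtype.val h)
      have h0 := hh_ne (m := m)
      cases p <;> cases q <;> cases p' <;> cases q' <;> simp [φ, h0, h0.symm] at h1 ⊢ <;> exact h1
    · rintro ⟨⟨i, j, a, b, e, hp⟩, h1, h2, h3⟩
      dsimp only at h1; subst h1
      rcases two_mul_eq_zero h2 with h | h <;> rcases two_mul_eq_zero h3 with h' | h' <;>
        dsimp only at h h' <;> subst h h'
      · exact ⟨(false, false, a, b), rfl⟩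
      · exact ⟨(false, true, a, b), rfl⟩
      · exact ⟨(true, false, a, b), rfl⟩
      · exact ⟨(true, true, a, b), rfl⟩
  rw [← Nat.card_eq_of_bijective φ this]; simp
theorem x1_pow (k : ℕ) : x1 m ^ k = ⟨k, k, false, false, false, rfl⟩ := by
  induction k with
  | zero => ext <;> simp
  | succ k ih => rw [pow_succ, ih]; ext <;> simp [x1]
theorem x2_pow (k : ℕ) : x2 m ^ k = ⟨k, -k, false, false, false, by simp⟩ := by
  induction k with
  | zero => ext <;> simp
  | succ k ih => rw [pow_succ, ih]; ext <;> simp [x2, add_comm]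
theorem x1_mem : x1 m ∈ Q1 m := by simp [mem_Q1, x1]
theorem y1_mem : y1 m ∈ Q1 m := by simp [mem_Q1, y1]
theorem c1_mem : c1 m ∈ Q1 m := by simp [mem_Q1, c1]
theorem z_mem_Q1 : z m ∈ Q1 m := by simp [mem_Q1, z]
theorem x2_mem : x2 m ∈ Q2 m := by simp [mem_Q2, x2]
theorem y2_mem : y2 m ∈ Q2 m := by simp [mem_Q2, y2]
theorem c2_mem : c2 m ∈ Q2 m := by simp [mem_Q2, c2]
theorem z_mem_Q2 : z m ∈ Q2 m := by simp [mem_Q2, z]
theorem hh_cast : ((2 ^ (m + 1) : ℕ) : R m) = hh m := by simp [hh, H24.G2S.h]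
theorem Q1_zp {x : W m} (hx : x ∈ Q1 m) (he : x.e = false) : x = x1 m ^ x.i.val := by
  obtain ⟨h1, h2, h3⟩ := hx
  rw [x1_pow]; ext <;> simp [h1, h2, h3, he]
theorem Q2_zp {x : W m} (hx : x ∈ Q2 m) (he : x.e = false) : x = x2 m ^ x.i.val := by
  obtain ⟨h1, h2, h3⟩ := hx
  rw [x2_pow]; ext <;> simp [h1, h2, h3, he]
theorem Q1_equiv : Nonempty (Q1 m ≃* QuaternionGroup (2 ^ (m + 1))) := by
  refine H7.nonempty_equiv_quaternion _ ⟨x1 m, x1_mem⟩ ⟨y1 m, y1_mem⟩ ?_ ?_ ?_ ?_ ?_
  · rw [← orderOf_coe, ← pow_succ']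
    refine orderOf_eq_prime_pow ?_ ?_
    · rw [x1_pow]; exact fun e0 => hh_ne (hh_cast.symm.trans (congrArg W.i e0))
    · rw [x1_pow]; ext <;> simp [-Nat.cast_pow, ZMod.natCast_self]
  · refine Subtype.ext ?_
    simp only [coe_mul, SubgroupClass.coe_pow]
    rw [x1_pow]; ext <;> simp [y1] <;> simpa using hh_cast.symm
  · exact Subtype.ext (by ext <;> simp [x1, y1]; linear_combination two_hh (m := m))
  · rintro ⟨k, hk⟩
    have h3 : x1 m ^ k = y1 m := congrArg Subtype.val hk
    have h4 : y1 m ∈ T0 m := h3 ▸ zpow_mem (show x1 m ∈ T0 m from rfl) k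
    cases h4
  · have key : ∀ x : Q1 m, x.1.e = false → x ∈ zpowers (⟨x1 m, x1_mem⟩ : Q1 m) := fun x hx =>
      ⟨x.1.i.val, Subtype.ext (by
        simp only [zpow_natCast, SubgroupClass.coe_pow]; exact (Q1_zp x.2 hx).symm)⟩
    intro g
    by_cases hg : g.1.e = false
    · exact Or.inl (key g hg)
    · refine Or.inr (key _ ?_)
      have : g.1.e = true := by simpa using hg
      simp [y1, this]
theorem Q1_le : Q1 m ≤ Q m := fun x hx => hx.1.trans hx.2.1.symm
theorem Q2_le : Q2 m ≤ Q m := fun x hx => hx.1.trans hx.2.1.symm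
theorem Q1_Q2_comm {a b : W m} (ha : a ∈ Q1 m) (hb : b ∈ Q2 m) : a * b = b * a := by
  obtain ⟨h1, h2, h3⟩ := ha
  obtain ⟨h4, h5, h6⟩ := hb
  rcases Bool.eq_false_or_eq_true a.e with hx | hx <;> rcases Bool.eq_false_or_eq_true b.e with hy | hy <;>
    ext <;> simp [h1, h2, h3, h4, h5, h6, hx, hy] <;>
    first | ring1 | linear_combination two_hh (m := m) | linear_combination -two_hh (m := m)
theorem Q1_inf_Q2 {a : W m} (ha : a ∈ Q1 m) (hb : a ∈ Q2 m) : a = 1 ∨ a = z m := by
  obtain ⟨h1, h2, h3⟩ := ha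
  obtain ⟨h4, h5, h6⟩ := hb
  have he : a.e = false := h1.symm.trans h4
  simp only [he, Bool.false_eq_true, if_false, add_zero] at h3 h6
  rcases neg_eq_self' (h6.symm.trans h3) with h | h
  · left; ext <;> simp [h, h3, h4, h5, he]
  · right; ext <;> simp [z, h, h3, h4, h5, he]
theorem u_Q1 {a : W m} : u m * a * u m ∈ Q2 m ↔ a ∈ Q1 m := by
  rcases a with ⟨i, j, a, b, e, hp⟩
  cases e <;> cases a <;> cases b <;> simp [mem_Q1, mem_Q2, u] <;> constructor <;> intro h <;>
    first | linear_combination h | linear_combination h + two_hh (m := m) | linear_combination h - two_hh (m := m)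
theorem u_Q2 {a : W m} : u m * a * u m ∈ Q1 m ↔ a ∈ Q2 m := by
  rw [← u_Q1]
  have : u m * (u m * a * u m) * u m = a := by
    calc u m * (u m * a * u m) * u m = (u m * u m) * a * (u m * u m) := by group
      _ = a := by rw [u_mul_u]; group
  rw [this]
theorem mem_Q_iff {x : W m} : x ∈ Q m ↔ ∃ a ∈ Q1 m, ∃ b ∈ Q2 m, x = a * b := by
  constructor
  · intro hx
    rcases x with ⟨i, j, a, b, e, hp⟩
    obtain rfl : a = b := hx
    obtain ⟨p, hp'⟩ := exists_half (x := i + j) (by
      rw [map_add, hp]; exact CharTwo.add_self_eq_zero _)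
    obtain rfl : j = 2 * p - i := by linear_combination hp'
    cases e <;> cases a
    · exact ⟨⟨p, p, false, false, false, rfl⟩, by simp [mem_Q1], ⟨i - p, p - i, false, false, false, by
        rw [← par_neg, neg_sub]⟩, by simp [mem_Q2], by ext <;> simp <;> ring⟩
    · refine ⟨⟨p + hh m, p + hh m + hh m, true, true, true, by simp⟩, by simp [mem_Q1],
        ⟨i - p, -(i - p) + hh m, false, false, true, by rw [map_add _ _ (hh m), par_hh, add_zero, par_neg]⟩,
        by simp [mem_Q2], ?_⟩
      ext <;> simp <;>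
        first | ring1 | linear_combination two_hh (m := m) | linear_combination -two_hh (m := m)
    · refine ⟨⟨p + kk m, p + kk m, false, false, false, rfl⟩, by simp [mem_Q1],
        ⟨i - p - kk m, p - i + kk m + hh m, false, false, true, by
          rw [map_add _ _ (hh m), par_hh, add_zero, ← par_neg]; congr 1; ring⟩,
        by simp [mem_Q2]; ring, ?_⟩
      ext <;> simp <;>
        first | ring1 | linear_combination -two_kk (m := m) - two_hh (m := m)
    · refine ⟨⟨p + kk m, p + kk m + hh m, true, true, true, by simp⟩, by simp [mem_Q1],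
        ⟨i - p - kk m, -(i - p - kk m), false, false, false, by rw [par_neg]⟩, by simp [mem_Q2], ?_⟩
      ext <;> simp <;>
        first | ring1 | linear_combination -two_kk (m := m) - two_hh (m := m)
  · rintro ⟨a, ha, b, hb, rfl⟩
    exact mul_mem (Q1_le ha) (Q2_le hb)
theorem conj_Q1 {d a : W m} (hd : d ∈ Q m) (ha : a ∈ Q1 m) : d * a * d⁻¹ ∈ Q1 m := by
  obtain ⟨p, hp, q, hq, rfl⟩ := mem_Q_iff.1 hd
  have : p * q * a * (p * q)⁻¹ = p * a * p⁻¹ := by
    calc p * q * a * (p * q)⁻¹ = p * (q * a) * q⁻¹ * p⁻¹ := by group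
      _ = _ := by rw [← Q1_Q2_comm ha hq]; group
  rw [this]; exact mul_mem (mul_mem hp ha) (inv_mem hp)
theorem conj_Q2 {d a : W m} (hd : d ∈ Q m) (ha : a ∈ Q2 m) : d * a * d⁻¹ ∈ Q2 m := by
  obtain ⟨p, hp, q, hq, rfl⟩ := mem_Q_iff.1 hd
  have h1 := mul_mem (mul_mem hq ha) (inv_mem hq)
  have : p * q * a * (p * q)⁻¹ = q * a * q⁻¹ := by
    calc p * q * a * (p * q)⁻¹ = p * (q * a * q⁻¹) * p⁻¹ := by group
      _ = _ := by rw [Q1_Q2_comm hp h1]; group
  rw [this]; exact h1
theorem Q1_gen (K : Subgroup (W m)) (h1 : y1 m ∈ K) (h2 : x1 m * y1 m ∈ K) : Q1 m ≤ K := by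
  have hx : x1 m ∈ K := by simpa using mul_mem h2 (inv_mem h1)
  intro x h
  by_cases he : x.e = false
  · rw [Q1_zp h he]; exact pow_mem hx _
  · have h3 : x * y1 m ∈ K := by
      rw [Q1_zp (mul_mem h y1_mem) (by simpa [y1] using he)]; exact pow_mem hx _
    simpa using mul_mem h3 (inv_mem h1)
theorem Q2_gen (K : Subgroup (W m)) (h1 : y2 m ∈ K) (h2 : x2 m * y2 m ∈ K) : Q2 m ≤ K := by
  have hx : x2 m ∈ K := by simpa using mul_mem h2 (inv_mem h1)
  intro x h
  by_cases he : x.e = false
  · rw [Q2_zp h he]; exact pow_mem hx _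
  · have h3 : x * y2 m ∈ K := by
      rw [Q2_zp (mul_mem h y2_mem) (by simpa [y2] using he)]; exact pow_mem hx _
    simpa using mul_mem h3 (inv_mem h1)
theorem Q1_invol {a : W m} (ha : a ∈ Q1 m) (h : a * a = 1) : a = 1 ∨ a = z m := by
  obtain ⟨h1, h2, h3⟩ := ha
  have e1 := congrArg W.i h
  rcases Bool.eq_false_or_eq_true a.e with hx | hx <;> simp [h1, h3, hx, hh_ne] at e1
  rcases add_self_eq e1 with h | h
  · left; ext <;> simp [h, h1, h2, h3, hx]
  · right; ext <;> simp [z, h, h1, h2, h3, hx]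
theorem sqrt_z {x : W m} (hx : x * x = z m) : x ∈ Q1 m ∨ x ∈ Q2 m := by
  have e := W.ext_iff.1 hx
  have h0 := hh_ne (m := m)
  rcases x with ⟨i, j, a, b, e', hp⟩
  cases e' <;> cases a <;> cases b <;> simp [z, h0, h0.symm] at e <;> simp [mem_Q1, mem_Q2]
  · rcases two_mul_eq_hh (x := i) (by linear_combination e.1) with rfl | rfl <;>
      rcases two_mul_eq_hh (x := j) (by linear_combination e.2) with rfl | rfl <;> simp
  · linear_combination e.1
  · linear_combination e.2
theorem invol_Q {x : W m} (hx : x ∈ Q m) (h2 : x * x = 1) (h1 : x ≠ 1) (hz : x ≠ z m) :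
    ∃ a ∈ Q1 m, ∃ b ∈ Q2 m, a * a = z m ∧ b * b = z m ∧ x = a * b := by
  obtain ⟨a, ha, b, hb, rfl⟩ := mem_Q_iff.1 hx
  have hc := Q1_Q2_comm ha hb
  have h3 : a * a * (b * b) = 1 := by
    rw [← h2]
    calc a * a * (b * b) = a * (a * b) * b := by group
      _ = a * (b * a) * b := by rw [hc]
      _ = _ := by group
  have h4 : a * a = (b * b)⁻¹ := eq_inv_of_mul_eq_one_left h3
  have hzi : (z m)⁻¹ = z m := inv_eq_of_mul_eq_one_right z_mul_z
  rcases Q1_inf_Q2 (mul_mem ha ha) (h4 ▸ inv_mem (mul_mem hb hb)) with h | h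
  · have hb1 : b * b = 1 := by rw [h, one_mul] at h3; exact h3
    have hb' : b = 1 ∨ b = z m := by
      rcases Q1_invol (u_Q2.2 hb) (by
        calc u m * b * u m * (u m * b * u m) = u m * (b * (u m * u m) * b) * u m := by group
          _ = 1 := by rw [u_mul_u, mul_one, hb1, mul_one, u_mul_u]) with e | e
      · left
        calc b = u m * (u m * b * u m) * u m * ((u m * u m)⁻¹) * 1 := by
              rw [show u m * (u m * b * u m) * u m = (u m * u m) * b * (u m * u m) by group, u_mul_u]; group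
          _ = 1 := by rw [e, u_mul_u]; simp [u_mul_u]
      · right
        calc b = u m * (u m * b * u m) * u m := by
              rw [show u m * (u m * b * u m) * u m = (u m * u m) * b * (u m * u m) by group, u_mul_u]; group
          _ = z m := by rw [e, z_comm, mul_assoc, u_mul_u, mul_one]
    rcases Q1_invol ha h with rfl | rfl <;> rcases hb' with rfl | rfl <;> simp [z_mul_z] at h1 hz
  · exact ⟨a, ha, b, hb, h, by rw [← hzi, ← h, h4, inv_inv], rfl⟩
theorem conj_u {x : W m} (h : IsConj (u m) x) : ∃ a ∈ Q1 m, x = a * u m * a⁻¹ := by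
  obtain ⟨d, rfl⟩ := isConj_iff.1 h
  have key : ∀ d ∈ Q m, ∃ a ∈ Q1 m, d * u m * d⁻¹ = a * u m * a⁻¹ := by
    intro d hd
    obtain ⟨p, hp, q, hq, rfl⟩ := mem_Q_iff.1 hd
    have h1 : u m * q⁻¹ * u m ∈ Q1 m := u_Q2.2 (inv_mem hq)
    refine ⟨p * (u m * q⁻¹ * u m), mul_mem hp h1, ?_⟩
    have hu : (u m)⁻¹ = u m := inv_eq_of_mul_eq_one_right u_mul_u
    have h2 := Q1_Q2_comm h1 hq
    calc p * q * u m * (p * q)⁻¹ = p * (q * (u m * q⁻¹ * u m)) * (u m)⁻¹ * p⁻¹ := by group
      _ = p * (u m * q⁻¹ * u m) * ((u m * u m) * q * (u m)⁻¹) * p⁻¹ := by rw [← h2, u_mul_u]; group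
      _ = p * (u m * q⁻¹ * u m) * u m * ((u m)⁻¹ * q * (u m)⁻¹) * p⁻¹ := by rw [hu]; group
      _ = _ := by group
  by_cases hd : d ∈ Q m
  · exact key d hd
  · obtain ⟨a, ha, e⟩ := key (d * u m) (by
      rcases d with ⟨i, j, a, b, e, hp⟩
      cases e <;> cases a <;> cases b <;> simp [mem_Q, u] at hd ⊢)
    exact ⟨a, ha, by rw [← e]; group⟩
/-- the class of `u` in coordinates -/
theorem conj_u_iff {x : W m} : IsConj (u m) x ↔ x.e = false ∧
    ((x.a = true ∧ x.b = false ∧ x.j = hh m) ∨ (x.a = false ∧ x.b = true ∧ x.i = hh m)) := by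
  constructor
  · intro h
    obtain ⟨d, rfl⟩ := isConj_iff.1 h
    rcases d with ⟨i, j, a, b, e, hp⟩
    cases e <;> cases a <;> cases b <;> simp [u]
  · rcases x with ⟨i, j, a, b, e, hp⟩
    rintro ⟨rfl, ⟨rfl, rfl, h⟩ | ⟨rfl, rfl, h⟩⟩ <;> dsimp only at h <;> subst h
    · obtain ⟨p, rfl⟩ := exists_half (x := i) (by simpa using hp)
      exact isConj_iff.2 ⟨⟨p, p, false, false, false, rfl⟩, by ext <;> simp [u] <;> ring⟩
    · obtain ⟨p, rfl⟩ := exists_half (x := j) (by simpa using hp.symm)
      exact isConj_iff.2 ⟨⟨p, p, false, false, true, rfl⟩, by ext <;> simp [u] <;> ring⟩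
theorem not_conj_u : ¬ IsConj (u m) (u m * z m) := fun h => by
  have := conj_u_iff.1 h
  simp [u, z, hh_ne, hh_ne.symm] at this
theorem invol_out {x : W m} (hx : x ∉ Q m) (h2 : x * x = 1) :
    IsConj (u m) x ∨ IsConj (u m * z m) x := by
  have key : IsConj (u m) (x * z m) → IsConj (u m * z m) x := fun h => by
    obtain ⟨d, hd⟩ := isConj_iff.1 h
    refine isConj_iff.2 ⟨d, ?_⟩
    calc d * (u m * z m) * d⁻¹ = d * u m * (z m * d⁻¹) := by group
      _ = d * u m * d⁻¹ * z m := by rw [← z_comm]; group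
      _ = x := by rw [hd, mul_assoc, z_mul_z, mul_one]
  have e := W.ext_iff.1 h2
  rcases x with ⟨i, j, a, b, e', hp⟩
  cases e' <;> cases a <;> cases b <;> simp [mem_Q] at e hx
  · rcases add_self_eq e with rfl | rfl
    · exact Or.inr (key (conj_u_iff.2 (by simp [z])))
    · exact Or.inl (conj_u_iff.2 (by simp))
  · rcases add_self_eq e with rfl | rfl
    · exact Or.inr (key (conj_u_iff.2 (by simp [z])))
    · exact Or.inl (conj_u_iff.2 (by simp))
theorem sq_out {x d : W m} (hx : x ∉ Q m) (h2 : x * x = 1) (hd : d * x = x * d) : d * d ≠ z m := by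
  intro h
  have h1 : d ∈ Q1 m ∨ d ∈ Q2 m := sqrt_z h
  have e := W.ext_iff.1 h2
  have e1 := W.ext_iff.1 hd
  have e2 := W.ext_iff.1 h
  have h0 := hh_ne (m := m)
  rcases x with ⟨i, j, a, b, e', hp⟩
  rcases d with ⟨i', j', a', b', e'', hp'⟩
  cases e' <;> cases a <;> cases b <;> simp [mem_Q] at e hx <;>
    cases e'' <;> cases a' <;> cases b' <;> simp [z, h0, h0.symm] at e1 e2
  · exact h0 (by linear_combination -e2.2 + e1.2)
  · exact h0 (by linear_combination -e2.1 + e1.1)
theorem sq_in {x d : W m} (hx : x ∈ Q m) (h2 : x * x = 1) (h1 : x ≠ 1) (hz : x ≠ z m)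
    (hd : d * x = x * d) (h4 : d * d * (d * d) = 1) :
    d * d = 1 ∨ d * d = z m ∨ d * d = x ∨ d * d = x * z m := by
  have e := W.ext_iff.1 h2
  have e1 := W.ext_iff.1 hd
  have e4 := W.ext_iff.1 h4
  have h0 := hh_ne (m := m)
  rcases x with ⟨i, j, a, b, e', hp⟩
  rcases d with ⟨i', j', a', b', e'', hp'⟩
  obtain rfl : a = b := hx
  simp only [ne_eq, W.ext_iff, z] at h1 hz ⊢
  cases e' <;> cases a <;> cases e'' <;> cases a' <;> cases b' <;> simp at e e1 e4 h1 hz ⊢
  · rcases add_self_eq e.1 with rfl | rfl <;> rcases add_self_eq e.2 with rfl | rfl <;>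
      rcases add_self_eq e4.1 with h | h <;> rcases add_self_eq e4.2 with h' | h' <;> simp [h, h'] at h1 hz ⊢
  · rcases add_self_eq e.1 with rfl | rfl <;> rcases add_self_eq e.2 with rfl | rfl <;>
      rcases add_self_eq e4 with h | h <;> simp [h] at h1 hz ⊢
  · rcases add_self_eq e.1 with rfl | rfl <;> rcases add_self_eq e.2 with rfl | rfl <;>
      rcases add_self_eq e4 with h | h <;> simp [h] at h1 hz ⊢
  · exact (same2 e4.1 (Or.inl (by ring))).imp_right Or.inl
  · obtain rfl : j = i := by linear_combination e1.1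
    rcases add_self_eq e.1 with rfl | rfl <;> simp at h1 hz
  · obtain rfl : j = i := by linear_combination e1.2.symm
    rcases add_self_eq e.1 with rfl | rfl <;> simp at h1 hz
  · exact (same2 e4.1 (Or.inr (by ring))).imp_right Or.inl
  · exact Or.inl ⟨by linear_combination e1.1, by linear_combination e1.2⟩
  · exact Or.inl (by linear_combination e1.1)
  · exact Or.inl (by linear_combination e1.2)
  · exact same2 e4.1 (Or.inl (by ring))
  · rcases add_self_eq (x := i' + j' - i) (by linear_combination e1.1 + e1.2) with h | h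
    · exact Or.inl ⟨by linear_combination h, by linear_combination h - e1.1⟩
    · exact Or.inr ⟨by linear_combination h, by linear_combination h - e1.1⟩
  · rcases add_self_eq (x := i' - j' - i) (by linear_combination e1.1 - e1.2) with h | h
    · exact Or.inl ⟨by linear_combination h, by linear_combination h + e1.2⟩
    · exact Or.inr ⟨by linear_combination h, by linear_combination h + e1.2⟩
  · exact same2 e4.1 (Or.inr (by ring))
  · exact same2 e4.1 (Or.inl (by linear_combination -2 * e1.1))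
  · exact same2 e4.1 (Or.inl (by ring))
  · exact same2 e4.1 (Or.inr (by ring))
  · exact same2 e4.1 (Or.inr (by linear_combination 2 * e1.1))
  · exact same2 e4.1 (Or.inl (by ring))
  · exact same2 e4.1 (Or.inr (by ring))

/-- coordinates of an involution of the dihedral factor relative to a reflection `r^p f` -/
theorem card_le_of (A : Subgroup (W m)) {β : Type} [Fintype β] (φ : W m → β)
    (h : ∀ a ∈ A, ∀ b ∈ A, φ a = φ b → a = b) : Nat.card A ≤ Fintype.card β := by
  rw [← Nat.card_eq_fintype_card]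
  exact Nat.card_le_card_of_injective (fun a : A => φ a) fun a b e => Subtype.ext (h _ a.2 _ b.2 e)

theorem ea_comm {A : Subgroup (W m)} (hA : ∀ a ∈ A, a * a = 1) {a b : W m} (ha : a ∈ A) (hb : b ∈ A) :
    a * b = b * a := by
  have h1 := hA _ (mul_mem ha hb)
  calc a * b = (a * b)⁻¹ := (inv_eq_of_mul_eq_one_right h1).symm
    _ = b * a := by
      rw [mul_inv_rev, inv_eq_of_mul_eq_one_right (hA a ha), inv_eq_of_mul_eq_one_right (hA b hb)]

/-- the structure of an elementary abelian subgroup -/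
theorem ea_struct (A : Subgroup (W m)) (hA : ∀ a ∈ A, a * a = 1) :
    Nat.card A ≤ 8 ∨ ∃ p q : R m, ∀ x ∈ A, x.e = false ∧ 2 * (x.i - if x.a then p else 0) = 0 ∧
      2 * (x.j - if x.b then q else 0) = 0 := by
  classical
  by_cases hT : ∀ x ∈ A, x.e = false
  · right
    have h1 : ∃ p : R m, ∀ x ∈ A, 2 * (x.i - if x.a then p else 0) = 0 := by
      by_cases h : ∃ x0 ∈ A, x0.a = true
      · obtain ⟨x0, h0, ha⟩ := h
        refine ⟨x0.i, fun x hx => ?_⟩
        have e1 := congrArg W.i (ea_comm hA hx h0)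
        have e2 := congrArg W.i (hA x hx)
        rcases Bool.eq_false_or_eq_true x.a with hb | hb <;> simp [hb, ha, hT x hx, hT x0 h0] at e1 e2 ⊢
        · linear_combination e1
        · linear_combination e2
      · refine ⟨0, fun x hx => ?_⟩
        have hb : x.a = false := by simpa using fun e => h ⟨x, hx, e⟩
        have e2 := congrArg W.i (hA x hx)
        simp [hb, hT x hx] at e2 ⊢
        linear_combination e2
    have h2 : ∃ q : R m, ∀ x ∈ A, 2 * (x.j - if x.b then q else 0) = 0 := by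
      by_cases h : ∃ x0 ∈ A, x0.b = true
      · obtain ⟨x0, h0, ha⟩ := h
        refine ⟨x0.j, fun x hx => ?_⟩
        have e1 := congrArg W.j (ea_comm hA hx h0)
        have e2 := congrArg W.j (hA x hx)
        rcases Bool.eq_false_or_eq_true x.b with hb | hb <;> simp [hb, ha, hT x hx, hT x0 h0] at e1 e2 ⊢
        · linear_combination e1
        · linear_combination e2
      · refine ⟨0, fun x hx => ?_⟩
        have hb : x.b = false := by simpa using fun e => h ⟨x, hx, e⟩
        have e2 := congrArg W.j (hA x hx)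
        simp [hb, hT x hx] at e2 ⊢
        linear_combination e2
    obtain ⟨p, hp⟩ := h1
    obtain ⟨q, hq⟩ := h2
    exact ⟨p, q, fun x hx => ⟨hT x hx, hp x hx, hq x hx⟩⟩
  · left
    push Not at hT
    obtain ⟨x0, h0, he⟩ := hT
    have he : x0.e = true := by simpa using he
    -- an element of `A ∩ T0` is determined by its first coordinate
    let A0 : Subgroup (W m) := A ⊓ T0 m
    have hA0 : Nat.card A0 ≤ 4 := by
      have h1 : ∃ p : R m, ∀ x ∈ A0, 2 * (x.i - if x.a then p else 0) = 0 := by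
        by_cases h : ∃ x0 ∈ A0, x0.a = true
        · obtain ⟨x1, h1, ha⟩ := h
          refine ⟨x1.i, fun x hx => ?_⟩
          have e1 := congrArg W.i (ea_comm hA hx.1 h1.1)
          have e2 := congrArg W.i (hA x hx.1)
          have t1 : x.e = false := hx.2
          have t2 : x1.e = false := h1.2
          rcases Bool.eq_false_or_eq_true x.a with hb | hb <;> simp [hb, ha, t1, t2] at e1 e2 ⊢
          · linear_combination e1
          · linear_combination e2
        · refine ⟨0, fun x hx => ?_⟩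
          have hb : x.a = false := by simpa using fun e => h ⟨x, hx, e⟩
          have e2 := congrArg W.i (hA x hx.1)
          have t1 : x.e = false := hx.2
          simp [hb, t1] at e2 ⊢
          linear_combination e2
      obtain ⟨p, hp⟩ := h1
      refine card_le_of A0 (fun x => (x.a, decide ((x.i - if x.a then p else 0) = 0))) ?_
      intro a ha b hb e
      simp only [Prod.mk.injEq, decide_eq_decide] at e
      have t1 : a.e = false := ha.2
      have t2 : b.e = false := hb.2
      have hi : a.i = b.i := by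
        have h3 := two_mul_eq_zero (hp a ha)
        have h4 := two_mul_eq_zero (hp b hb)
        have h5 := e.2
        rw [e.1] at h3 h5
        rcases h3 with h3 | h3
        · linear_combination h3 - h5.1 h3
        · rcases h4 with h4 | h4
          · linear_combination h5.2 h4 - h4
          · linear_combination h3 - h4
      have c1 := W.ext_iff.1 (ea_comm hA ha.1 h0)
      have c2 := W.ext_iff.1 (ea_comm hA hb.1 h0)
      simp only [mul_i, mul_j, mul_a, mul_b, t1, t2, he, if_true, Bool.false_eq_true, if_false] at c1 c2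
      have hb' : a.b = b.b := by
        have u1 := c1.2.2.1
        have u2 := c2.2.2.1
        rw [e.1] at u1
        revert u1 u2; cases a.b <;> cases b.b <;> cases b.a <;> cases x0.a <;> simp
      refine W.ext hi ?_ e.1 hb' (t1.trans t2.symm)
      have u1 := c1.1
      have u2 := c2.1
      rw [e.1, hi] at u1
      have : sg m x0.a * (a.j - b.j) = 0 := by linear_combination u2 - u1
      cases hx : x0.a <;> simp [hx] at this <;> first | linear_combination this | linear_combination -this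
    have h2 : A0.relIndex A ≤ 2 := by
      have : A0.relIndex A = (T0 m).relIndex A := inf_relIndex_left _ _
      rw [this, ← index_T0 (m := m)]
      haveI : (T0 m).Normal := normal_of_index_eq_two index_T0
      exact Nat.le_of_dvd (by rw [index_T0]; omega) (relIndex_dvd_index_of_normal _ _)
    have h3 := (A0.subgroupOf A).card_mul_index
    have h4 : Nat.card (A0.subgroupOf A) = Nat.card A0 :=
      Nat.card_congr (subgroupOfEquivOfLe inf_le_left).toEquiv
    rw [h4] at h3
    change Nat.card A0 * A0.relIndex A = _ at h3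
    nlinarith

theorem inj16 {p q : R m} {a b : W m}
    (ha : a.e = false ∧ 2 * (a.i - if a.a then p else 0) = 0 ∧ 2 * (a.j - if a.b then q else 0) = 0)
    (hb : b.e = false ∧ 2 * (b.i - if b.a then p else 0) = 0 ∧ 2 * (b.j - if b.b then q else 0) = 0)
    (e : (a.a, a.b, decide ((a.i - if a.a then p else 0) = 0), decide ((a.j - if a.b then q else 0) = 0)) =
      (b.a, b.b, decide ((b.i - if b.a then p else 0) = 0), decide ((b.j - if b.b then q else 0) = 0))) :
    a = b := by
  simp only [Prod.mk.injEq, decide_eq_decide] at e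
  obtain ⟨e1, e2, e3, e4⟩ := e
  have key : ∀ x y : R m, 2 * x = 0 → 2 * y = 0 → (x = 0 ↔ y = 0) → x = y := fun x y hx hy h => by
    rcases two_mul_eq_zero hx with h1 | h1
    · rw [h1, h.1 h1]
    · rcases two_mul_eq_zero hy with h2 | h2
      · rw [h2, h.2 h2]
      · rw [h1, h2]
  have k1 := key _ _ ha.2.1 hb.2.1 e3
  have k2 := key _ _ ha.2.2 hb.2.2 e4
  rw [e1] at k1; rw [e2] at k2
  exact W.ext (by linear_combination k1) (by linear_combination k2) e1 e2 (ha.1.trans hb.1.symm)

theorem rank_le (A : Subgroup (W m)) (hA : ∀ a ∈ A, a * a = 1) : Nat.card A ≤ 16 := by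
  rcases ea_struct A hA with h | ⟨p, q, h⟩
  · omega
  · exact card_le_of A _ fun a ha b hb e => inj16 (h a ha) (h b hb) e

/-- an `E₁₆` contains every element of the right shape -/
theorem mem16 (A : Subgroup (W m)) (h16 : Nat.card A = 16) {p q : R m}
    (h : ∀ x ∈ A, x.e = false ∧ 2 * (x.i - if x.a then p else 0) = 0 ∧ 2 * (x.j - if x.b then q else 0) = 0) :
    (∀ c : Bool × Bool × Bool × Bool, ∃ x ∈ A, (x.a, x.b, decide ((x.i - if x.a then p else 0) = 0),
      decide ((x.j - if x.b then q else 0) = 0)) = c) ∧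
    ∀ x : W m, x.e = false ∧ 2 * (x.i - if x.a then p else 0) = 0 ∧ 2 * (x.j - if x.b then q else 0) = 0 →
      x ∈ A := by
  have hs : ∀ c : Bool × Bool × Bool × Bool, ∃ x ∈ A, (x.a, x.b, decide ((x.i - if x.a then p else 0) = 0),
      decide ((x.j - if x.b then q else 0) = 0)) = c := by
    have hb : Function.Bijective (fun a : A => ((a : W m).a, (a : W m).b,
        decide (((a : W m).i - if (a : W m).a then p else 0) = 0),
        decide (((a : W m).j - if (a : W m).b then q else 0) = 0))) :=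
      (Nat.bijective_iff_injective_and_card _).2
        ⟨fun a b e => Subtype.ext (inj16 (h _ a.2) (h _ b.2) e), by rw [h16]; simp⟩
    intro c
    obtain ⟨a, ha⟩ := hb.2 c
    exact ⟨a, a.2, ha⟩
  refine ⟨hs, fun x hx => ?_⟩
  obtain ⟨a, ha, e⟩ := hs (x.a, x.b, decide ((x.i - if x.a then p else 0) = 0),
    decide ((x.j - if x.b then q else 0) = 0))
  exact inj16 (h a ha) hx e ▸ ha

theorem self_cent (A : Subgroup (W m)) (hA : ∀ a ∈ A, a * a = 1) (h16 : Nat.card A = 16) {x : W m}
    (hx : ∀ a ∈ A, a * x = x * a) : x ∈ A := by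
  rcases ea_struct A hA with h | ⟨p, q, h⟩
  · omega
  obtain ⟨hs, hm⟩ := mem16 A h16 h
  have hy : y m ∈ A := hm _ (by simp [y, two_hh])
  have he : x.e = false := cent_y.1 (hx _ hy).symm
  obtain ⟨a, ha, e⟩ := hs (true, true, true, true)
  simp only [Prod.mk.injEq, decide_eq_true_eq] at e
  obtain ⟨e1, e2, e3, e4⟩ := e
  simp only [e1, e2, if_true] at e3 e4
  have c := W.ext_iff.1 (hx a ha)
  simp only [mul_i, mul_j, e1, e2, he, (h a ha).1, Bool.false_eq_true, if_false, sg_true] at c
  refine hm x ⟨he, ?_, ?_⟩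
  · have := c.1
    cases hb : x.a <;> simp [hb] at this ⊢
    · linear_combination -this
    · linear_combination -this + 2 * e3
  · have := c.2.1
    cases hb : x.b <;> simp [hb] at this ⊢
    · linear_combination -this
    · linear_combination -this + 2 * e4

theorem EE_unique (A : Subgroup (W 0)) (hA : ∀ a ∈ A, a * a = 1) (h16 : Nat.card A = 16) :
    A = EE 0 := by
  rcases ea_struct A hA with h | ⟨p, q, h⟩
  · omega
  obtain ⟨hs, hm⟩ := mem16 A h16 h
  have ev : ∀ x : R 0, par 0 x = 0 → 2 * x = 0 := by decide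
  have hp : 2 * p = 0 := by
    obtain ⟨a, ha, e⟩ := hs (true, false, true, true)
    simp only [Prod.mk.injEq, decide_eq_true_eq] at e
    obtain ⟨e1, e2, e3, e4⟩ := e
    simp [e1, e2] at e3 e4
    have := a.hp
    rw [e4, map_zero, sub_eq_zero.1 e3] at this
    exact ev _ this
  have hq : 2 * q = 0 := by
    obtain ⟨a, ha, e⟩ := hs (false, true, true, true)
    simp only [Prod.mk.injEq, decide_eq_true_eq] at e
    obtain ⟨e1, e2, e3, e4⟩ := e
    simp [e1, e2] at e3 e4
    have := a.hp
    rw [e3, map_zero, sub_eq_zero.1 e4] at this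
    exact ev _ this.symm
  refine (eq_of_le_of_card_ge (fun x hx => ?_) (by rw [h16, card_EE]))
  obtain ⟨h1, h2, h3⟩ := h x hx
  refine ⟨h1, ?_, ?_⟩
  · cases hb : x.a <;> simp [hb] at h2
    · exact h2
    · linear_combination h2 + hp
  · cases hb : x.b <;> simp [hb] at h3
    · exact h3
    · linear_combination h3 + hq
end W
end PMF

end H20.P4
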