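import Mathlib
import Cfsg.Agent.H20.P0
import Cfsg.Agent.H20.PMF
import Cfsg.Agent.H25.Flat
import Cfsg.Agent.H25.Sig
import Cfsg.Agent.H13.Basic
import Cfsg.Agent.S1225

set_option autoImplicit false
set_option linter.unusedVariables false
set_option linter.unusedSectionVars false

namespace H20.P4

open Cfsg Subgroup
open scoped MatrixGroups

universe u

variable {m : ℕ} {G : Type u} [Group G] [Finite G]

/-! ### PG0 -/
section PG0
theorem OC_odd (a : G) : Odd (Nat.card (OC a)) := by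
  rw [OC, centralizerPPrimeCore, card_map_of_injective (subtype_injective _)]
  exact Nat.coprime_two_right.1 (H2.pPrimeCore_coprime 2 _)
theorem OC_le (a : G) : OC a ≤ centralizer {a} := map_subtype_le _
theorem OC_conj (g : G) {a p : G} : g * p * g⁻¹ ∈ OC (g * a * g⁻¹) ↔ p ∈ OC a := by
  rw [OC, H25.Sg.cpp_conj]
  exact mem_map_iff_mem (f := (MulAut.conj g).toMonoidHom) (MulAut.conj g).injective
theorem OC_norm {a g p : G} (hg : g * a = a * g) (hp : p ∈ OC a) : g * p * g⁻¹ ∈ OC a := by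
  have := (OC_conj g).2 hp
  rwa [hg, mul_inv_cancel_right] at this
theorem le_OC {a : G} {P : Subgroup G} (hP : Odd (Nat.card P)) (hc : P ≤ centralizer {a})
    (hn : ∀ g, g * a = a * g → ∀ p ∈ P, g * p * g⁻¹ ∈ P) : P ≤ OC a := by
  have h1 : (P.subgroupOf (centralizer {a})).Normal :=
    ⟨fun p hp g => hn g (mem_centralizer_singleton_iff.1 g.2) p hp⟩
  have h2 := H2.le_pPrimeCore (p := 2) h1 (by
    rw [Nat.card_congr (subgroupOfEquivOfLe hc).toEquiv]; exact Nat.coprime_two_right.2 hP)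
  exact fun p hp => ⟨⟨p, hc hp⟩, h2 hp, rfl⟩
theorem delta_conj (g : G) (D : Subgroup G) :
    (signalizerDelta 2 D).map (MulAut.conj g).toMonoidHom ≤
      signalizerDelta 2 (D.map (MulAut.conj g).toMonoidHom) := by
  rintro _ ⟨p, hp, rfl⟩
  refine H25.Sg.mem_delta.2 ?_
  rintro _ ⟨d, hd, rfl⟩ h1
  exact (OC_conj g).2 (H25.Sg.mem_delta.1 hp d hd fun e => h1 (by rw [e, map_one]))
theorem WB_conj_le (g : G) (B : Subgroup G) :
    (WB B).map (MulAut.conj g).toMonoidHom ≤ WB (B.map (MulAut.conj g).toMonoidHom) := by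
  rw [WB, Subgroup.map_iSup]
  refine iSup_le fun D => (delta_conj g D.1).trans ?_
  exact le_iSup (fun D : {D : Subgroup G // D ≤ B.map (MulAut.conj g).toMonoidHom ∧ Nat.card ↥D = 4} =>
    signalizerDelta 2 (D : Subgroup G)) ⟨D.1.map (MulAut.conj g).toMonoidHom, map_mono D.2.1, by
      rw [card_map_of_injective (MulAut.conj g).injective]; exact D.2.2⟩
theorem WB_conj (g : G) (B : Subgroup G) :
    WB (B.map (MulAut.conj g).toMonoidHom) = (WB B).map (MulAut.conj g).toMonoidHom := by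
  refine le_antisymm (fun p hp => ?_) (WB_conj_le g B)
  have h := WB_conj_le g⁻¹ _ ⟨p, hp, rfl⟩
  have e : (B.map (MulAut.conj g).toMonoidHom).map (MulAut.conj g⁻¹).toMonoidHom = B := by
    rw [map_map]
    have : (MulAut.conj g⁻¹).toMonoidHom.comp (MulAut.conj g).toMonoidHom = MonoidHom.id G := by
      ext x; simp [mul_assoc]
    rw [this, map_id]
  rw [e] at h
  exact ⟨_, h, by simp [mul_assoc]⟩
namespace Emb
variable (E : Emb m G)
theorem four_dvd (E : Emb m G) : 64 ∣ Nat.card G :=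
  (show 64 ∣ 2 ^ (2 * m + 6) from ⟨2 ^ (2 * m), by ring⟩).trans
    (card_W (m := m) ▸ Subgroup.card_dvd_of_injective E.f E.inj)
theorem no_idx2 (E : Emb m G) [IsSimpleGroup G] (K : Subgroup G) : K.index ≠ 2 := fun h2 => by
  have h4 := E.four_dvd
  rcases (normal_of_index_eq_two h2).eq_bot_or_eq_top with rfl | rfl
  · rw [Subgroup.index_bot] at h2; rw [h2] at h4; omega
  · rw [Subgroup.index_top] at h2; cases h2
theorem not_comm (E : Emb m G) : ¬ IsMulCommutative G := fun h => by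
  have h1 : E.f (W.s m) * E.y = E.y * E.f (W.s m) := h.is_comm.comm _ _
  rw [← map_mul, ← map_mul] at h1
  cases W.cent_y.1 (E.inj h1)
theorem z_sq : E.z * E.z = 1 := by rw [← map_mul, W.z_mul_z, map_one]
theorem z_ne : E.z ≠ 1 := fun e => W.z_ne_one (E.inj (e.trans (map_one _).symm))
theorem Z_sq {a : G} (ha : E.Z a) : a * a = 1 ∧ a ≠ 1 := by
  obtain ⟨c, rfl⟩ := isConj_iff.1 ha
  refine ⟨?_, fun e => E.z_ne (by simpa using e)⟩
  calc c * E.z * c⁻¹ * (c * E.z * c⁻¹) = c * (E.z * E.z) * c⁻¹ := by group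
    _ = 1 := by rw [E.z_sq]; group
theorem orderOf_z : orderOf E.z = 2 := orderOf_eq_prime (by rw [sq, E.z_sq]) E.z_ne
theorem zstar [IsSimpleGroup G] : ∃ x : W m, x ≠ W.z m ∧ E.Z (E.f x) := by
  by_contra hno
  push Not at hno
  obtain ⟨N, hN, hodd, hc⟩ := Cfsg.Agent.S0215.result E.S _ E.orderOf_z (E.mem _) (fun g hg => by
    obtain ⟨x, hx⟩ := E.exists_eq hg
    by_contra h
    exact hno x (fun e => h (by rw [← hx, e])) (hx ▸ isConj_iff.2 ⟨g, rfl⟩))
  rcases hN.eq_bot_or_eq_top with rfl | rfl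
  · have hZ : E.z ∈ Subgroup.center G := Subgroup.mem_center_iff.2 fun g => by
      have := Subgroup.mem_bot.1 (hc g)
      rw [mul_inv_eq_one, mul_inv_eq_iff_eq_mul] at this
      exact this.symm
    rcases (inferInstance : (Subgroup.center G).Normal).eq_bot_or_eq_top with h | h
    · rw [h, Subgroup.mem_bot] at hZ; exact E.z_ne hZ
    · exact E.not_comm ⟨⟨fun a b => Subgroup.mem_center_iff.1 (h ▸ Subgroup.mem_top b) a⟩⟩
  · rw [Subgroup.card_top] at hodd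
    obtain ⟨c, hc⟩ := E.four_dvd
    rw [hc] at hodd
    exact absurd (Nat.odd_mul.1 hodd).1 (by decide)
theorem not_se (h : ∃ x : W m, x * x = 1 ∧ x ≠ 1 ∧ ¬ E.Z (E.f x)) (H : Subgroup G) :
    ¬ IsStronglyEmbedded H := fun hH => by
  obtain ⟨x, hx, hx1, hZ⟩ := h
  have hox : orderOf (E.f x) = 2 := by
    rw [orderOf_injective E.f E.inj]; exact orderOf_eq_prime (by rw [sq, hx]) hx1
  haveI : Fact (Nat.Prime 2) := ⟨Nat.prime_two⟩
  obtain ⟨s, hs⟩ := exists_prime_orderOf_dvd_card' (G := H) 2 (even_iff_two_dvd.1 hH.2.1)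
  have hs' : orderOf (s : G) = 2 := by rw [orderOf_coe, hs]
  obtain ⟨g, hg⟩ : ∃ g, g ∉ H := by
    by_contra hh; push Not at hh; exact hH.1 (eq_top_iff.2 fun g _ => hh g)
  have hu : g * s * g⁻¹ ∉ H := fun hu => by
    have h1 := hH.2.2 g hg
    have h2 : orderOf (⟨g * s * g⁻¹, hu, s, s.2, rfl⟩ : ↥(H ⊓ H.map (MulAut.conj g).toMonoidHom)) = 2 := by
      rw [← orderOf_coe]; exact ((MulAut.conj g).orderOf_eq (s : G)).trans hs'
    exact (Nat.not_even_iff_odd.2 h1) (even_iff_two_dvd.2 (h2 ▸ orderOf_dvd_natCard _))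
  exact hZ ((Cfsg.Agent.S1225.result H hH _ (((MulAut.conj g).orderOf_eq (s : G)).trans hs') hu s s hs' s.2
    hs' s.2).2 _ _ E.orderOf_z hox)
theorem π_eq_one {p : E.C} : E.π p = 1 ↔ (p : G) ∈ OC E.z := by
  rw [QuotientGroup.mk'_apply, QuotientGroup.eq_one_iff]
  exact (mem_map_iff_mem (subtype_injective _)).symm
theorem ker_cop : (Nat.card E.π.ker).Coprime 2 := by
  rw [QuotientGroup.ker_mk']; exact H2.pPrimeCore_coprime 2 _
theorem lift_cent (T : Subgroup E.C) (hT : IsPGroup 2 T) (γ : E.Bar)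
    (hγ : ∀ t ∈ T, γ * E.π t = E.π t * γ) : ∃ c : E.C, E.π c = γ ∧ ∀ t ∈ T, c * t = t * c := by
  have h : γ ∈ centralizer ((T.map E.π : Subgroup _) : Set E.Bar) := by
    rintro _ ⟨t, ht, rfl⟩; exact (hγ t ht).symm
  rw [H13.centralizer_map_of_coprime_ker (QuotientGroup.mk'_surjective _) E.ker_cop hT] at h
  obtain ⟨c, hc, rfl⟩ := h
  exact ⟨c, rfl, fun t ht => (hc t ht).symm⟩
theorem lift_odd (T : Subgroup E.C) (hT : IsPGroup 2 T) (γ : E.Bar) (ho : Odd (orderOf γ))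
    (hγ : ∀ t ∈ T, γ * E.π t = E.π t * γ) :
    ∃ c : E.C, E.π c = γ ∧ Odd (orderOf c) ∧ ∀ t ∈ T, c * t = t * c := by
  obtain ⟨c, rfl, hc⟩ := E.lift_cent T hT γ hγ
  refine ⟨c, rfl, ?_, hc⟩
  have h1 : c ^ orderOf (E.π c) ∈ E.π.ker := by rw [MonoidHom.mem_ker, map_pow, pow_orderOf_eq_one]
  have h2 : (c ^ orderOf (E.π c)) ^ Nat.card E.π.ker = 1 :=
    congrArg Subtype.val (pow_card_eq_one' (x := (⟨_, h1⟩ : E.π.ker)))
  rw [← pow_mul] at h2
  exact (ho.mul (Nat.coprime_two_right.1 E.ker_cop)).of_dvd_nat (orderOf_dvd_of_pow_eq_one h2)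
theorem lift_conj {x x' : W m} (h : IsConj (E.bar.f x) (E.bar.f x')) :
    ∃ g ∈ E.C, g * E.f x * g⁻¹ = E.f x' := by
  obtain ⟨γ, hγ⟩ := isConj_iff.1 h
  obtain ⟨g, rfl⟩ := QuotientGroup.mk'_surjective _ γ
  -- both `a = g x g⁻¹` and `x'` lie in `K = ⟨x'⟩ O`
  let a : E.C := g * E.cen.f x * g⁻¹
  let b : E.C := E.cen.f x'
  have hab : E.π a = E.π b := by simp only [a, b, map_mul, map_inv]; exact hγ
  let K : Subgroup E.C := (zpowers (E.π b)).comap E.π
  have ha : a ∈ K := by show E.π a ∈ zpowers _; rw [hab]; exact mem_zpowers _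
  have hb : b ∈ K := mem_zpowers _
  have hp : ∀ y : W m, IsPGroup 2 (zpowers (E.cen.f y)) := fun y =>
    E.cen.S.isPGroup'.to_le (zpowers_le.2 (E.cen.mem y))
  have hpa : IsPGroup 2 (zpowers a) := by
    have := (hp x).map (MulAut.conj g).toMonoidHom
    rwa [MonoidHom.map_zpowers] at this
  obtain ⟨P, hP⟩ := (show IsPGroup 2 ((zpowers b).subgroupOf K) from (hp x').comap_subtype).exists_le_sylow
  obtain ⟨k, hk⟩ := H24.G2S.exists_conj_le_sylow P _
    (show IsPGroup 2 ((zpowers a).subgroupOf K) from hpa.comap_subtype)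
  have h1 := hk ⟨a, ha⟩ (mem_zpowers a)
  have h2 : (⟨b, hb⟩ : K) ∈ (P : Subgroup K) := hP (mem_zpowers b)
  have h3 := mul_mem h1 (inv_mem h2)
  have h4 : E.π (((k * ⟨a, ha⟩ * k⁻¹ * (⟨b, hb⟩ : K)⁻¹ : K) : E.C)) = 1 := by
    obtain ⟨n, hn⟩ := k.2
    simp only [coe_mul, coe_inv, map_mul, map_inv, hab]
    rw [← show E.π b ^ n = E.π k from hn]; group
  have h5 : k * ⟨a, ha⟩ * k⁻¹ * (⟨b, hb⟩ : K)⁻¹ = 1 := by
    refine H3.eq_one_of_mem_of_coprime P.isPGroup' h3 ?_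
    rw [← orderOf_coe]
    exact H3.orderOf_coprime_of_mem E.ker_cop h4
  rw [mul_inv_eq_one] at h5
  refine ⟨((k : E.C) * g : E.C), ((k : E.C) * g).2, ?_⟩
  have h6 := congrArg (fun t : K => ((t : E.C) : G)) h5
  simp only [coe_mul, coe_inv, a, b, cen_f] at h6
  rw [← h6, coe_mul]; group
/-- extremal conjugates inside a subgroup `H` whose Sylow 2-subgroup is `f(T)` -/
theorem ext_in {H : Subgroup G} {T : Subgroup (W m)} (hT : T.map E.f ≤ H)
    (ho : Odd ((T.map E.f).relIndex H)) {x : W m} (hx : x ∈ T) :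
    ∃ x' ∈ T, (∃ g ∈ H, g * E.f x * g⁻¹ = E.f x') ∧ ∀ x'' ∈ T, (∃ g ∈ H, g * E.f x'' * g⁻¹ = E.f x') →
      ∃ g ∈ H, g * E.f x'' * g⁻¹ = E.f x' ∧
        ∀ d ∈ T, d * x'' = x'' * d → ∃ d' ∈ T, E.f d' = g * E.f d * g⁻¹ := by
  have hp : ∀ U : Subgroup (W m), IsPGroup 2 ((U.map E.f).subgroupOf H) := fun U =>
    ((W_p.to_subgroup U).map E.f).comap_subtype
  let P : Sylow 2 H := (hp T).toSylow (by
    rw [← Nat.not_even_iff_odd, even_iff_two_dvd] at ho; exact ho)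
  have hm : ∀ y ∈ T, E.f y ∈ H := fun y hy => hT ⟨y, hy, rfl⟩
  obtain ⟨a, ⟨x', hx', e⟩, h1, h2⟩ := exists_extremal P (x := ⟨E.f x, hm x hx⟩) ⟨x, hx, rfl⟩
  have e' : E.f x' = a := e
  refine ⟨x', hx', ?_, fun x'' hx'' ⟨g, hg, eg⟩ => ?_⟩
  · obtain ⟨g, hg⟩ := isConj_iff.1 h1
    exact ⟨g, g.2, (congrArg Subtype.val hg).trans e'.symm⟩
  · obtain ⟨c, hc, hc'⟩ := h2 ⟨E.f x'', hm _ hx''⟩ (isConj_iff.2 ⟨⟨g, hg⟩, Subtype.ext (eg.trans e')⟩)
      (((T ⊓ centralizer {x''}).map E.f).subgroupOf H) (hp _) (by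
        rintro t ⟨d, hd, e⟩
        refine Subtype.ext ?_
        have e2 : E.f d = t := e
        simp only [coe_mul, ← e2]
        rw [← map_mul, ← map_mul, mem_centralizer_singleton_iff.1 hd.2])
    refine ⟨c, c.2, (congrArg Subtype.val hc).trans e'.symm, fun d hd hc2 => ?_⟩
    obtain ⟨d', hd', e3⟩ := hc' ⟨E.f d, hm d hd⟩ ⟨d, ⟨hd, mem_centralizer_singleton_iff.2 hc2⟩, rfl⟩
    exact ⟨d', hd', e3⟩
theorem CaseL.of_bar {F : Type} [Field F] [Fintype F] {ψ : SL(2, F) →* E.Bar}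
    (hO : oddCore E.C = ⊥) (h : E.bar.CaseL F ψ) (hc : E.bar.CU ψ) :
    ∃ ψ' : SL(2, F) →* E.C, E.cen.CaseL F ψ' ∧ E.cen.CU ψ' := by
  have hi : Function.Injective E.π := by
    rw [← MonoidHom.ker_eq_bot_iff, QuotientGroup.ker_mk', hO]
  let e : E.C ≃* E.Bar := MulEquiv.ofBijective E.π ⟨hi, QuotientGroup.mk'_surjective _⟩
  let ψ' : SL(2, F) →* E.C := e.symm.toMonoidHom.comp ψ
  have h1 : ∀ a, E.π (ψ' a) = ψ a := fun a => e.apply_symm_apply _
  have hm : ∀ g : E.C, g ∈ ψ'.range ↔ E.π g ∈ ψ.range := fun g =>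
    ⟨by rintro ⟨a, rfl⟩; exact ⟨a, (h1 a).symm⟩, by rintro ⟨a, ha⟩; exact ⟨a, hi ((h1 a).trans ha)⟩⟩
  have hf : ∀ x, E.π (E.cen.f x) = E.bar.f x := fun x => rfl
  refine ⟨ψ', ⟨h.odd, h.five, e.symm.injective.comp h.inj, hi ((h1 _).trans h.neg),
    ⟨E.cen_Cen, hO, fun x => (hm _).trans (h.pn.mem x), fun a ha b hb => hi ?_, fun a ha hu => ?_, fun g => ?_,
      fun g g1 g2 => ?_⟩⟩, fun g => ?_⟩
  · simp only [map_mul, hf]; exact h.pn.comm _ ((hm a).1 ha) _ ((hm b).1 hb)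
  · have := h.pn.inf _ ((hm a).1 ha) (by simpa only [map_mul, hf] using (hm _).1 hu)
    exact this.imp (fun e => hi (e.trans (map_one _).symm)) fun e => hi e
  · refine (h.pn.norm (E.π g)).imp (fun hh a ha => (hm _).2 ?_) fun hh a ha => (hm _).2 ?_
    · simpa only [map_mul, map_inv] using hh _ ((hm a).1 ha)
    · simpa only [map_mul, map_inv, hf] using hh _ ((hm a).1 ha)
  · refine (h.pn.cent (E.π g) ?_ ?_).imp (fun e => hi (e.trans (map_one _).symm)) fun e => hi e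
    · rintro _ ⟨a, rfl⟩
      rw [← h1, ← map_mul, ← map_mul, g1 _ ⟨a, rfl⟩]
    · rintro _ ⟨a, rfl⟩
      have := congrArg E.π (g2 _ ⟨a, rfl⟩)
      simpa only [map_mul, hf, h1] using this
  · obtain ⟨B, hB⟩ := hc (E.π g)
    exact ⟨B, hi (by simpa only [map_mul, map_inv, hf, h1] using hB)⟩
end Emb
end PG0

end H20.P4
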