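import Mathlib
import Cfsg.Agent.H20.P0
import Cfsg.Agent.H20.PG0

set_option autoImplicit false
set_option linter.unusedVariables false
set_option linter.unusedSectionVars false

namespace H20.P4

open Cfsg Subgroup
open scoped MatrixGroups

universe u

variable {m : ℕ} {G : Type u} [Group G] [Finite G]

namespace PF1x

theorem u_not_Q : W.u m ∉ Q m := by simp [mem_Q, W.u]
theorem z_Q : W.z m ∈ Q m := rfl

/-- transvections of `EE / ⟨z⟩` with axis `EE ∩ Q` -/
theorem tv : ∀ q : W 0, (q.e = false ∧ 2 * q.i = 0 ∧ 2 * q.j = 0) → q.a = q.b → ∃ a : W 0,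
    ∀ e : W 0, (e.e = false ∧ 2 * e.i = 0 ∧ 2 * e.j = 0) →
      (e.a = e.b → a * e * a⁻¹ = e ∨ a * e * a⁻¹ = e * W.z 0) ∧
      (e.a ≠ e.b → a * e * a⁻¹ = e * q ∨ a * e * a⁻¹ = e * q * W.z 0) := by
  have key : ∀ q : W 0, (q.e = false ∧ 2 * q.i = 0 ∧ 2 * q.j = 0) → q.a = q.b →
      ∃ a ∈ [1, W.x1 0, W.s 0, W.x1 0 * W.s 0],
      ∀ e : W 0, (e.e = false ∧ 2 * e.i = 0 ∧ 2 * e.j = 0) →
      (e.a = e.b → a * e * a⁻¹ = e ∨ a * e * a⁻¹ = e * W.z 0) ∧
      (e.a ≠ e.b → a * e * a⁻¹ = e * q ∨ a * e * a⁻¹ = e * q * W.z 0) := by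
    decide +kernel
  intro q h1 h2
  obtain ⟨a, -, ha⟩ := key q h1 h2
  exact ⟨a, ha⟩

theorem sq_EE : ∀ w : W 0, (w * w).e = false ∧ 2 * (w * w).i = 0 ∧ 2 * (w * w).j = 0 := by
  decide +kernel

theorem EE_sq {x : W m} (hx : x ∈ EE m) : x * x = 1 := by
  rcases x with ⟨i, j, a, b, e, _⟩
  obtain ⟨rfl, h1, h2⟩ := hx
  simp only at h1 h2
  cases a <;> cases b <;> ext <;> simp <;> first | linear_combination h1 | linear_combination h2

theorem EE_comm {x y : W m} (hx : x ∈ EE m) (hy : y ∈ EE m) : x * y = y * x := by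
  have h1 := EE_sq hx
  have h2 := EE_sq hy
  have h3 := EE_sq (mul_mem hx hy)
  calc x * y = (y * y) * (x * y) * (x * x) := by rw [h1, h2, one_mul, mul_one]
    _ = y * ((y * x) * (y * x)) * x := by group
    _ = y * x := by
      have h4 : (y * x) * (y * x) = 1 := EE_sq (mul_mem hy hx)
      rw [h4, mul_one]

theorem EE_conj : ∀ w e : W 0, e ∈ EE 0 → w * e * w⁻¹ ∈ EE 0 := by
  have key : ∀ w e : W 0, (e.e = false ∧ 2 * e.i = 0 ∧ 2 * e.j = 0) →
      ((w * e * w⁻¹).e = false ∧ 2 * (w * e * w⁻¹).i = 0 ∧ 2 * (w * e * w⁻¹).j = 0) := by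
    decide +kernel
  exact key

theorem u_EE : W.u m ∈ EE m := ⟨rfl, by simp [W.u], two_hh⟩
theorem z_EE : W.z m ∈ EE m := ⟨rfl, two_hh, two_hh⟩
theorem v_EE : W.v m ∈ EE m := ⟨rfl, two_hh, by simp [W.v]⟩
theorem t_EE : W.t m ∈ EE m := ⟨rfl, by simp [W.t], by simp [W.t]⟩

/-- twice an odd power of an element normalizing `f(EE)` centralizes it -/
theorem odd_pow (E : Emb 0 G) {n : G} (hn : n ∈ normalizer (((EE 0).map E.f : Subgroup G) : Set G)) :
    ∃ k, Odd k ∧ (n * n) ^ k ∈ (EE 0).map E.f := by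
  set N := normalizer (((EE 0).map E.f : Subgroup G) : Set G) with hN
  have hS : (E.S : Subgroup G) ≤ N := by
    rintro _ ⟨w, rfl⟩
    refine mem_normalizer_fintype ?_
    rintro _ ⟨e, he, rfl⟩
    exact ⟨_, EE_conj w e he, by simp⟩
  have h0 : orderOf n ≠ 0 := (orderOf_pos n).ne'
  obtain ⟨a, k, hk, hak⟩ := Nat.exists_eq_two_pow_mul_odd h0
  let n' : N := ⟨n, hn⟩
  have hp : IsPGroup 2 (zpowers (n' ^ k)) := by
    refine IsPGroup.iff_card.2 ?_
    rw [Nat.card_zpowers]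
    have : orderOf (n' ^ k) ∣ 2 ^ a := by
      refine orderOf_dvd_of_pow_eq_one (Subtype.ext ?_)
      show (n ^ k) ^ 2 ^ a = 1
      rw [← pow_mul, mul_comm, ← hak, pow_orderOf_eq_one]
    obtain ⟨b, -, hb⟩ := (Nat.dvd_prime_pow Nat.prime_two).1 this
    exact ⟨b, hb⟩
  obtain ⟨c, hc⟩ := H24.G2S.exists_conj_le_sylow (E.S.subtype hS) _ hp
  have h1 := hc _ (mem_zpowers _)
  obtain ⟨w, hw⟩ : ∃ w, E.f w = (c : G) * n ^ k * (c : G)⁻¹ := E.exists_eq h1
  refine ⟨k, hk, ?_⟩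
  have h2 : E.f (w * w) ∈ (EE 0).map E.f := ⟨_, sq_EE w, rfl⟩
  have h3 := (mem_normalizer_iff''.1 c.2 _).1 h2
  rw [map_mul, hw] at h3
  convert h3 using 1
  rw [← sq, ← pow_mul, mul_comm 2 k, pow_mul, sq]
  group

theorem m0 (E : Emb 0 G) (hz : E.Cen) {g : G}
    (hg : ∀ d ∈ EE 0, ∃ d', E.f d' = g * E.f d * g⁻¹) {x' : W 0} (hx' : x' ∈ Q 0)
    (hu : g * E.u * g⁻¹ = E.f x') : False := by
  classical
  -- `g` normalizes `f(EE)`
  have hg1 : ∀ d ∈ EE 0, ∃ d' ∈ EE 0, E.f d' = g * E.f d * g⁻¹ := by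
    let A : Subgroup (W 0) := (((EE 0).map E.f).map (MulAut.conj g).toMonoidHom).comap E.f
    have hA : A.map E.f = ((EE 0).map E.f).map (MulAut.conj g).toMonoidHom := by
      refine map_comap_eq_self ?_
      rintro _ ⟨_, ⟨d, hd, rfl⟩, rfl⟩
      obtain ⟨d', hd'⟩ := hg d hd
      exact ⟨d', hd'⟩
    have hc : Nat.card A = 16 := by
      rw [← card_map_of_injective (f := E.f) E.inj, hA,
        card_map_of_injective (MulAut.conj g).injective, card_map_of_injective E.inj, W.card_EE]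
    have hA2 : A = EE 0 := W.EE_unique A (by
      rintro a ⟨_, ⟨d, hd, rfl⟩, e⟩
      apply E.inj
      rw [map_mul, ← e, ← map_mul, ← map_mul, EE_sq hd, map_one, map_one]) hc
    intro d hd
    obtain ⟨d', hd'⟩ := hg d hd
    refine ⟨d', hA2 ▸ ?_, hd'⟩
    exact ⟨_, ⟨d, hd, rfl⟩, hd'.symm⟩
  have hgN : g ∈ normalizer (((EE 0).map E.f : Subgroup G) : Set G) := by
    refine mem_normalizer_fintype ?_
    rintro _ ⟨e, he, rfl⟩
    obtain ⟨d', hd', e'⟩ := hg1 e he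
    exact ⟨d', hd', e'⟩
  have hS : ∀ w, E.f w ∈ normalizer (((EE 0).map E.f : Subgroup G) : Set G) := by
    intro w
    refine mem_normalizer_fintype ?_
    rintro _ ⟨e, he, rfl⟩
    exact ⟨_, EE_conj w e he, by simp⟩
  have hx'E : x' ∈ EE 0 := by
    obtain ⟨d', hd', e⟩ := hg1 _ u_EE
    rw [← E.inj (e.trans hu)]; exact hd'
  -- a centre in `H ∩ H^g`
  have hq : ∃ q0 ∈ EE 0, q0 ∈ Q 0 ∧ q0 ≠ 1 ∧ q0 ≠ W.z 0 ∧ ∃ q ∈ EE 0, q ∈ Q 0 ∧
      E.f q = g * E.f q0 * g⁻¹ := by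
    obtain ⟨v', hv', ev⟩ := hg1 _ (v_EE (m := 0))
    obtain ⟨t', ht', et⟩ := hg1 _ (t_EE (m := 0))
    by_cases h1 : v' ∈ Q 0
    · exact ⟨_, v_EE, rfl, by decide, by decide, v', hv', h1, ev⟩
    by_cases h2 : t' ∈ Q 0
    · exact ⟨_, t_EE, rfl, by decide, by decide, t', ht', h2, et⟩
    refine ⟨_, mul_mem v_EE t_EE, mul_mem (rfl : W.v 0 ∈ Q 0) (rfl : W.t 0 ∈ Q 0), by decide,
      by decide, v' * t', mul_mem hv' ht', ?_, by rw [map_mul, map_mul, ev, et]; group⟩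
    exact (mul_mem_iff_of_index_two W.index_Q).2 (iff_of_false h1 h2)
  obtain ⟨q0, hq0E, hq0Q, hq1, hqz, q, hqE, hqQ, eq⟩ := hq
  -- an element of `H^g` outside `H`
  have he : ∃ e0 ∈ EE 0, e0 ∈ Q 0 ∧ ∃ e ∈ EE 0, e ∉ Q 0 ∧ E.f e = g * E.f e0 * g⁻¹ := by
    obtain ⟨e0, he0, e1⟩ := (mem_normalizer_iff''.1 hgN _).1 (⟨_, u_EE, rfl⟩ : E.f (W.u 0) ∈ (EE 0).map E.f)
    by_cases h1 : e0 ∈ Q 0
    · exact ⟨e0, he0, h1, _, u_EE, u_not_Q, by rw [e1]; group⟩
    · refine ⟨e0 * W.u 0, mul_mem he0 u_EE,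
        (mul_mem_iff_of_index_two W.index_Q).2 (iff_of_false h1 u_not_Q), W.u 0 * x',
        mul_mem u_EE hx'E, fun h => u_not_Q ((mul_mem_cancel_right hx').1 h), ?_⟩
      rw [map_mul, map_mul, e1, ← hu]; group
  obtain ⟨e0, he0E, he0Q, e, heE, heQ, ee⟩ := he
  obtain ⟨a, ha⟩ := tv x' hx'E hx'
  obtain ⟨b, hb⟩ := tv q0 hq0E hq0Q
  -- modulo `z`
  have hZn : (zpowers E.z).Normal := ⟨fun n hn c => by
    obtain ⟨k, rfl⟩ := hn
    have : Commute c E.z := hz c
    show c * E.z ^ k * c⁻¹ ∈ _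
    rw [(this.zpow_right k).eq, mul_inv_cancel_right]
    exact zpow_mem_zpowers _ _⟩
  let π : G →* G ⧸ zpowers E.z := QuotientGroup.mk' _
  have hπz : π E.z = 1 := (QuotientGroup.eq_one_iff _).2 (mem_zpowers _)
  have hor : ∀ {c d d' : W 0}, (c * d * c⁻¹ = d' ∨ c * d * c⁻¹ = d' * W.z 0) →
      π (E.f c) * π (E.f d) * (π (E.f c))⁻¹ = π (E.f d') := by
    intro c d d' h
    rw [← map_inv, ← map_inv, ← map_mul, ← map_mul, ← map_mul, ← map_mul]
    rcases h with h | h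
    · rw [h]
    · rw [h, map_mul, map_mul, hπz, mul_one]
  set A := π (E.f a) with hA
  set B := π (g * E.f b * g⁻¹) with hB
  set P := π (E.f x') with hP
  set R := π (E.f q) with hR
  set X := π (E.f e) with hX
  have hcj : ∀ {d d' : W 0} {D D' : G}, D = g * E.f d * g⁻¹ → D' = g * E.f d' * g⁻¹ →
      π (E.f b) * π (E.f d) * (π (E.f b))⁻¹ = π (E.f d') → B * π D * B⁻¹ = π D' := by
    intro d d' D D' h1 h2 h3
    rw [h1, h2, hB]
    simp only [map_mul, map_inv]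
    rw [← h3]; group
  have aX : A * X * A⁻¹ = X * P := by
    have := hor ((ha e heE).2 heQ)
    rwa [map_mul E.f e, map_mul π (E.f e)] at this
  have aP : A * P * A⁻¹ = P := hor ((ha x' hx'E).1 hx')
  have aR : A * R * A⁻¹ = R := hor ((ha q hqE).1 hqQ)
  have bX : B * X * B⁻¹ = X := hcj ee ee (hor ((hb e0 he0E).1 he0Q))
  have bR : B * R * B⁻¹ = R := hcj eq eq (hor ((hb q0 hq0E).1 hq0Q))
  have bP : B * P * B⁻¹ = P * R := by
    rw [hP, hR, ← map_mul]
    refine hcj hu.symm (d' := W.u 0 * q0) (by rw [map_mul, ← hu, eq]; group)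
      (hor ((hb _ u_EE).2 u_not_Q))
  have PP : P * P = 1 := by rw [hP, ← map_mul, ← map_mul, EE_sq hx'E, map_one, map_one]
  have RR : R * R = 1 := by rw [hR, ← map_mul, ← map_mul, EE_sq hqE, map_one, map_one]
  have nR : A * B * R * (A * B)⁻¹ = R := by
    calc A * B * R * (A * B)⁻¹ = A * (B * R * B⁻¹) * A⁻¹ := by group
      _ = R := by rw [bR, aR]
  have nX : A * B * X * (A * B)⁻¹ = X * P := by
    calc A * B * X * (A * B)⁻¹ = A * (B * X * B⁻¹) * A⁻¹ := by group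
      _ = X * P := by rw [bX, aX]
  have nP : A * B * P * (A * B)⁻¹ = P * R := by
    calc A * B * P * (A * B)⁻¹ = A * (B * P * B⁻¹) * A⁻¹ := by group
      _ = (A * P * A⁻¹) * (A * R * A⁻¹) := by rw [bP]; group
      _ = P * R := by rw [aP, aR]
  set n := A * B with hn
  have n2X : n * n * X * (n * n)⁻¹ = X * R := by
    calc n * n * X * (n * n)⁻¹ = n * (n * X * n⁻¹) * n⁻¹ := by group
      _ = n * (X * P) * n⁻¹ := by rw [nX]
      _ = (n * X * n⁻¹) * (n * P * n⁻¹) := by group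
      _ = X * (P * P) * R := by rw [nX, nP]; group
      _ = X * R := by rw [PP, mul_one]
  have n2R : n * n * R * (n * n)⁻¹ = R := by
    calc n * n * R * (n * n)⁻¹ = n * (n * R * n⁻¹) * n⁻¹ := by group
      _ = R := by rw [nR, nR]
  have hk : ∀ k : ℕ, (n * n) ^ k * X * ((n * n) ^ k)⁻¹ = X * R ^ k := by
    intro k
    induction k with
    | zero => simp
    | succ k ih =>
      calc (n * n) ^ (k + 1) * X * ((n * n) ^ (k + 1))⁻¹
          = n * n * ((n * n) ^ k * X * ((n * n) ^ k)⁻¹) * (n * n)⁻¹ := by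
            rw [pow_succ', mul_inv_rev]; simp only [mul_assoc]
        _ = (n * n * X * (n * n)⁻¹) * (n * n * R * (n * n)⁻¹) ^ k := by
          rw [ih, conj_pow]; group
        _ = X * R ^ (k + 1) := by rw [n2X, n2R, pow_succ', mul_assoc]
  obtain ⟨k, ⟨j, rfl⟩, d, hd, ed⟩ := odd_pow E
    (mul_mem (hS a) (mul_mem (mul_mem hgN (hS b)) (inv_mem hgN)))
  have h1 : (n * n) ^ (2 * j + 1) = π (E.f d) := by
    rw [ed, map_pow, map_mul, map_mul π (E.f a)]
  have h2 := hk (2 * j + 1)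
  rw [h1, hX, ← map_mul, ← map_mul, EE_comm hd heE, map_mul, map_mul, mul_inv_cancel_right,
    pow_succ, pow_mul, sq R, RR, one_pow, one_mul, left_eq_mul] at h2
  obtain ⟨i, hi⟩ := (QuotientGroup.eq_one_iff _).1 h2
  simp only at hi
  rw [eq] at hi
  have hc : Commute g E.z := hz g
  have h3 : E.f q0 = E.f (W.z 0 ^ i) := by
    rw [map_zpow]
    calc E.f q0 = g⁻¹ * (g * E.f q0 * g⁻¹) * g := by group
      _ = E.z ^ i := by rw [← hi, mul_assoc, ← (hc.zpow_right i).eq, inv_mul_cancel_left]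
  have h4 := E.inj h3
  rcases Int.even_or_odd' i with ⟨l, rfl | rfl⟩
  · apply hq1
    rw [h4, zpow_mul, zpow_two, W.z_mul_z, one_zpow]
  · apply hqz
    rw [h4, zpow_add, zpow_mul, zpow_two, W.z_mul_z, one_zpow, one_mul, zpow_one]

/-- `u` is not fused into `Q` -/
theorem u_not_fused (E : Emb m G) (hz : E.Cen) {x : W m} (hx : x ∈ Q m)
    (h : IsConj E.u (E.f x)) : False := by
  have hT : (⊤ : Subgroup (W m)).map E.f ≤ ⊤ := le_top
  have ho : Odd (((⊤ : Subgroup (W m)).map E.f).relIndex ⊤) := by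
    rw [relIndex_top_right, ← MonoidHom.range_eq_map]; exact E.odd
  obtain ⟨x', -, ⟨g0, -, hg0⟩, hext⟩ := E.ext_in hT ho (mem_top (W.u m))
  obtain ⟨c, hc⟩ := isConj_iff.1 h
  have hcz : ∀ {c : G} {w : W m}, c * E.u * c⁻¹ = E.f w → w * w = 1 ∧ w ≠ 1 ∧ w ≠ W.z m := by
    intro c w hc
    refine ⟨E.inj ?_, ?_, ?_⟩
    · rw [map_mul, ← hc, map_one]
      calc c * E.u * c⁻¹ * (c * E.u * c⁻¹) = c * (E.u * E.u) * c⁻¹ := by group
        _ = 1 := by rw [← map_mul, W.u_mul_u, map_one]; group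
    · rintro rfl
      rw [map_one] at hc
      have : E.u = E.f 1 := by
        rw [map_one]
        calc E.u = c⁻¹ * (c * E.u * c⁻¹) * c := by group
          _ = 1 := by rw [hc]; group
      exact u_not_Q (E.inj this ▸ one_mem _)
    · rintro rfl
      have : E.u = E.z := by
        calc E.u = c⁻¹ * (c * E.u * c⁻¹) * c := by group
          _ = E.z := by rw [hc, hz c⁻¹]; group
      exact u_not_Q (E.inj this ▸ z_Q)
  obtain ⟨h2, h1, h3⟩ := hcz hc
  obtain ⟨h2', h1', h3'⟩ := hcz hg0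
  -- the extremal conjugate lies in `Q`
  have hx' : x' ∈ Q m := by
    by_contra hx'
    obtain ⟨a, ha, b, hb, haa, -, rfl⟩ := W.invol_Q hx h2 h1 h3
    obtain ⟨g, -, hg, hd⟩ := hext (a * b) (mem_top _)
      ⟨g0 * c⁻¹, mem_top _, by rw [← hc, ← hg0]; group⟩
    obtain ⟨d, -, ed⟩ := hd a (mem_top _) (by rw [mul_assoc, ← W.Q1_Q2_comm ha hb])
    refine W.sq_out hx' h2' (d := d) (E.inj ?_) (E.inj ?_)
    · rw [map_mul, map_mul, ed, ← hg]
      have : E.f a * E.f (a * b) = E.f (a * b) * E.f a := by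
        rw [← map_mul, ← map_mul, mul_assoc, ← W.Q1_Q2_comm ha hb]
      calc g * E.f a * g⁻¹ * (g * E.f (a * b) * g⁻¹) = g * (E.f a * E.f (a * b)) * g⁻¹ := by group
        _ = _ := by rw [this]; group
    · rw [map_mul, ed]
      calc g * E.f a * g⁻¹ * (g * E.f a * g⁻¹) = g * (E.f a * E.f a) * g⁻¹ := by group
        _ = _ := by rw [← map_mul, haa, hz g, mul_inv_cancel_right]
  obtain ⟨g, -, hg, hd⟩ := hext (W.u m) (mem_top _) ⟨g0, mem_top _, hg0⟩
  rcases Nat.eq_zero_or_pos m with rfl | hm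
  · exact m0 E hz (fun d hd' => by
      obtain ⟨d', -, e⟩ := hd d (mem_top _) (EE_comm hd' u_EE)
      exact ⟨d', e⟩) hx' hg
  · obtain ⟨t, ht⟩ := exists_half_kk (m := m) hm
    let d : W m := ⟨0, kk m, false, false, false, by rw [ht, par_two_mul, map_zero]⟩
    have hdu : d * W.u m = W.u m * d := by ext <;> simp [d, W.u, add_comm]
    have hdd : d * d = W.y m := by ext <;> simp [d, W.y, ← two_mul, two_kk]
    obtain ⟨d', -, ed⟩ := hd d (mem_top _) hdu
    have e2 : E.f (d' * d') = g * E.y * g⁻¹ := by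
      rw [map_mul, ed]
      show _ = g * E.f (W.y m) * g⁻¹
      rw [← hdd, map_mul]; group
    have hcm : d' * x' = x' * d' := by
      apply E.inj
      rw [map_mul, map_mul, ed, ← hg]
      have : E.f d * E.u = E.u * E.f d := by rw [← map_mul, ← map_mul, hdu]
      calc g * E.f d * g⁻¹ * (g * E.u * g⁻¹) = g * (E.f d * E.u) * g⁻¹ := by group
        _ = _ := by rw [this]; group
    have h4 : d' * d' * (d' * d') = 1 := by
      apply E.inj
      rw [map_mul, e2, map_one]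
      calc g * E.y * g⁻¹ * (g * E.y * g⁻¹) = g * (E.y * E.y) * g⁻¹ := by group
        _ = 1 := by rw [← map_mul, W.y_mul_y, map_one]; group
    have hfin : ∀ w : W m, E.f (d' * d') = g * E.f w * g⁻¹ → W.y m = w := by
      intro w hw
      rw [e2] at hw
      exact E.inj (mul_left_cancel (mul_right_cancel hw))
    rcases W.sq_in hx' h2' h1' h3' hcm h4 with h | h | h | h
    · exact hh_ne (congrArg W.j (hfin 1 (by rw [h]; simp)))
    · exact hh_ne (congrArg W.i (hfin (W.z m) (by rw [h, hz g, mul_inv_cancel_right]))).symm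
    · have := congrArg W.a (hfin (W.u m) (by rw [h, hg]))
      simp [W.y, W.u] at this
    · have := congrArg W.a (hfin (W.u m * W.z m) (by
        rw [h, map_mul, map_mul, ← hg, mul_assoc, hz g⁻¹]; group))
      simp [W.y, W.u, W.z] at this

/-- the sign character with kernel `Q` -/
def χ : W m →* ℤˣ := MonoidHom.mk' (fun x => if x.a = x.b then 1 else -1) (by
  rintro ⟨i, j, a, b, e, _⟩ ⟨i', j', a', b', e', _⟩
  cases e <;> cases a <;> cases b <;> cases a' <;> cases b' <;> simp)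

theorem χ_mem {x : W m} (hx : x ∈ Q m) : χ x = 1 := if_pos hx
theorem χ_not_mem {x : W m} (hx : x ∉ Q m) : χ x = -1 := if_neg hx

end PF1x

/-! ### PF1 -/
section PF1
theorem Emb.exists_C0 (E : Emb m G) (hz : E.Cen) : ∃ C0, E.IsC0 C0 := by
  let φ : E.f.range →* ℤˣ := PF1x.χ.comp (MonoidHom.ofInjective E.inj).symm.toMonoidHom
  have hφ : ∀ (y : G) (hy : y ∈ E.f.range) (x : W m), E.f x = y → φ ⟨y, hy⟩ = PF1x.χ x := by
    rintro _ hy x rfl
    show PF1x.χ ((MonoidHom.ofInjective E.inj).symm ⟨E.f x, hy⟩) = _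
    congr 1
    exact (MonoidHom.ofInjective E.inj).symm_apply_apply x
  let V := MonoidHom.transfer φ
  have hu : V E.u = -1 := by
    rw [H3.transfer_eq_pow_of_forall φ E.u (-1), E.odd.neg_one_pow]
    intro k g hk
    obtain ⟨x, hx⟩ := id hk
    rw [hφ _ hk x hx]
    have h2 : E.u ^ 2 = 1 := by rw [sq, ← map_mul, W.u_mul_u, map_one]
    rcases Nat.even_or_odd' k with ⟨j, rfl | rfl⟩
    · rw [pow_mul, h2, one_pow, mul_one, inv_mul_cancel, ← map_one E.f] at hx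
      rw [E.inj hx, map_one, pow_mul, neg_one_sq, one_pow]
    · rw [pow_succ, pow_mul, h2, one_pow, one_mul] at hx
      rw [pow_succ, pow_mul, neg_one_sq, one_pow, one_mul]
      refine PF1x.χ_not_mem fun hq => PF1x.u_not_fused E hz hq (isConj_iff.2 ⟨g⁻¹, ?_⟩)
      rw [hx, inv_inv]
  have h4 : ∀ a : W m, a * a = W.z m → V (E.f a) = 1 := by
    intro a ha
    rw [H3.transfer_eq_pow_of_forall φ (E.f a) 1, one_pow]
    intro k g hk
    obtain ⟨x, hx⟩ := id hk
    rw [hφ _ hk x hx, one_pow]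
    refine PF1x.χ_mem ?_
    have h2 : E.f a ^ 2 = E.z := by rw [sq, ← map_mul, ha]
    have hc : Commute g⁻¹ E.z := hz g⁻¹
    rcases Nat.even_or_odd' k with ⟨j, rfl | rfl⟩
    · rw [pow_mul, h2, (hc.pow_right j).eq, inv_mul_cancel_right, ← map_pow] at hx
      rw [E.inj hx]
      exact pow_mem PF1x.z_Q j
    · have : x * x = W.z m := by
        apply E.inj
        rw [map_mul, hx]
        calc g⁻¹ * E.f a ^ (2 * j + 1) * g * (g⁻¹ * E.f a ^ (2 * j + 1) * g)
            = g⁻¹ * (E.f a ^ 2) ^ (2 * j + 1) * g := by group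
          _ = E.z := by
            rw [h2, pow_succ, pow_mul, sq, ← map_mul, W.z_mul_z, map_one, one_pow, one_mul, hc.eq,
              inv_mul_cancel_right]
      rcases W.sqrt_z this with h | h
      · exact W.Q1_le h
      · exact W.Q2_le h
  have hQ : Q m ≤ V.ker.comap E.f := by
    intro x hx
    obtain ⟨a, ha, b, hb, rfl⟩ := W.mem_Q_iff.1 hx
    refine mul_mem (W.Q1_gen _ (h4 _ ?_) (h4 _ ?_) ha) (W.Q2_gen _ (h4 _ ?_) (h4 _ ?_) hb) <;>
      ext <;> simp [W.x1, W.y1, W.x2, W.y2, W.z]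
  refine ⟨V.ker, ?_, fun x => ⟨fun hx => ?_, fun hx => hQ hx⟩⟩
  · rw [index_ker]
    have : V.range = ⊤ := by
      rw [eq_top_iff]
      intro t _
      rcases Int.units_eq_one_or t with rfl | rfl
      · exact one_mem _
      · exact ⟨_, hu⟩
    rw [this, card_top, Nat.card_eq_fintype_card, Fintype.card_units_int]
  · by_contra hq
    have h1 : x * W.u m ∈ Q m :=
      (mul_mem_iff_of_index_two W.index_Q).2 (iff_of_false hq PF1x.u_not_Q)
    have h2 : V (E.f (x * W.u m)) = 1 := hQ h1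
    have h3 : V (E.f x) = 1 := hx
    rw [map_mul, map_mul, h3, one_mul] at h2
    have h5 := hu.symm.trans h2
    exact absurd h5 (by decide)
end PF1

end H20.P4
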