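import Mathlib
import Cfsg.Agent.H20.P0
import Cfsg.Agent.H20.PG0
import Cfsg.Agent.H24.Base5

set_option autoImplicit false
set_option linter.unusedVariables false
set_option linter.unusedSectionVars false

namespace H20.P4

open Cfsg Subgroup
open scoped MatrixGroups

universe u

variable {m : ℕ} {G : Type u} [Group G] [Finite G]

/-! ### PF2 -/
namespace PF2x
open H24

theorem op {Γ P M : Subgroup G} {g : G} (hP : Syl 2 Γ P) (hg : g ∈ Γ) (hn : g ∈ N[P]) (hPM : P ≤ M)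
    (h2 : g * g ∈ M) : g ∈ M := by
  obtain ⟨y, w, hy, hw, h3, ⟨k, h4⟩, e⟩ := exists_piElt_decomp {2} g
  have h5 : y ∈ P := hP.le_of_norm hy.isPi (zpowers_le.2 (zpowers_le.2 hg h3))
    (zpowers_le.2 (zpowers_le.2 hn h3)) (mem_zpowers y)
  have h6 : w ^ 2 ∈ M := by
    rw [← h4, ← zpow_natCast, ← zpow_mul, mul_comm, zpow_mul, zpow_natCast, sq]
    exact M.zpow_mem h2 k
  have h7 : w ∈ zpowers (w ^ 2) := mem_zpowers_pow_iff.2
    ((Nat.Prime.coprime_iff_not_dvd Nat.prime_two).2 fun h => hw 2 Nat.prime_two h rfl)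
  exact e ▸ M.mul_mem (hPM h5) (zpowers_le.2 h6 h7)

theorem trf {A : Type} [CommGroup A] {Γ P : Subgroup G} (φ : P →* A) : ∃ V : Γ →* A,
    (∀ g : Γ, (∀ (k : ℕ), ∀ γ ∈ Γ, ∀ h : γ⁻¹ * g ^ k * γ ∈ P, φ ⟨_, h⟩ = 1) → V g = 1) ∧
    ∀ g : Γ, (∀ γ ∈ Γ, g * γ = γ * g) → ∀ h : (g : G) ∈ P, V g = φ ⟨g, h⟩ ^ P.relIndex Γ := by
  classical
  let ψ : P.subgroupOf Γ →* A := φ.comp (((Γ.subtype).comp (P.subgroupOf Γ).subtype).codRestrict P
    fun x => x.2)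
  refine ⟨MonoidHom.transfer ψ, fun g hg => ?_, fun g hg h => ?_⟩
  · have := Fintype.ofFinite (Quotient (MulAction.orbitRel (zpowers g) (Γ ⧸ P.subgroupOf Γ)))
    rw [MonoidHom.transfer_eq_prod_quotient_orbitRel_zpowers_quot]
    exact Finset.prod_eq_one fun q _ => hg _ _ q.out.out.2 _
  · rw [MonoidHom.transfer_eq_pow ψ g fun k γ _ => by
      have : Commute γ g := Subtype.ext (hg γ γ.2).symm
      rw [mul_assoc, ← (this.pow_right k).eq, inv_mul_cancel_left], ← map_pow]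
    rfl

/-- `C_Q(c₁)` -/
def RR (m : ℕ) : Subgroup (W m) where
  carrier := {x | x.a = false ∧ x.b = false}
  one_mem' := ⟨rfl, rfl⟩
  mul_mem' := by rintro x y ⟨h1, h2⟩ ⟨h3, h4⟩; simp [h1, h2, h3, h4]
  inv_mem' := by rintro x ⟨h1, h2⟩; simp [h1, h2]

def φ0 (m : ℕ) : RR m →* Multiplicative (R m) := MonoidHom.mk'
  (fun x => Multiplicative.ofAdd (x.1.i + x.1.j + if x.1.e then hh m else 0)) (by
    rintro ⟨x, h1, h2⟩ ⟨y, h3, h4⟩
    rw [← ofAdd_add]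
    congr 1
    cases he : x.e <;> cases he' : y.e <;> simp [he, he', h1, h2] <;>
      first | ring1 | linear_combination (exp := 1) -two_hh (m := m))

theorem RR_idx : (RR m).relIndex (Q m) = 2 := relIndex_eq_two_iff.2 ⟨W.t m, rfl, by
  rintro ⟨i, j, a, b, e, _⟩ (rfl : a = b)
  change Xor (_ ∧ _) (_ ∧ _)
  cases a <;> cases e <;> simp [W.t]⟩

theorem c1_Q1 : W.c1 m ∈ Q1 m := by simp [mem_Q1, W.c1]
theorem c1_sq : W.c1 m * W.c1 m = W.z m := by
  ext <;> simp [W.c1, W.z] <;> linear_combination (exp := 1) two_kk (m := m)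
theorem y1_Q1 : W.y1 m ∈ Q1 m := by simp [mem_Q1, W.y1]
theorem x1_Q1 : W.x1 m ∈ Q1 m := by simp [mem_Q1, W.x1]
theorem z_Q2 : W.z m ∈ Q2 m := by simp [mem_Q2, W.z]
theorem z_Q1 : W.z m ∈ Q1 m := by simp [mem_Q1, W.z]

theorem sq_e {x : W m} (hx : x ∈ Q1 m) (he : x.e = true) : x * x = W.z m := by
  obtain ⟨h1, h2, h3⟩ := hx
  ext <;> simp [W.z, h1, h2, h3, he]

theorem c1_cent {x : W m} (hx : x ∈ Q m) : x * W.c1 m = W.c1 m * x ↔ x ∈ RR m := by
  obtain ⟨i, j, a, b, e, _⟩ := x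
  obtain rfl : a = b := hx
  change _ ↔ _ ∧ _
  cases a <;> cases e <;> simp [W.ext_iff, W.c1, add_comm] <;> intro h <;>
    exact absurd (by linear_combination -h) (kk_ne_neg (m := m))

theorem norm_c {c : W m} (hc : c ∈ Q1 m) (he : c.e = false) (h2 : c * c = W.z m) :
    ∃ d ∈ Q1 m, d * c * d⁻¹ = W.c1 m := by
  obtain ⟨k1, k2, k3⟩ := hc
  have h3 : 2 * c.i = hh m := by
    have := congrArg W.i h2
    simp [W.z, k1, he] at this
    linear_combination this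
  rcases two_mul_eq_hh h3 with h4 | h4
  · exact ⟨1, one_mem _, by ext <;> simp [W.c1, k1, k2, k3, he, h4]⟩
  · exact ⟨W.y1 m, y1_Q1, by
      ext <;> simp [W.c1, W.y1, k1, k2, k3, he, h4]
      linear_combination two_hh (m := m)⟩

theorem cent4 {a b c : W m} (ha : a ∈ Q1 m) (h2 : a * a = W.z m) (hb : b ∈ Q1 m) (hc : c ∈ Q1 m)
    (h3 : b * a = a * b) (h4 : c * a = a * c) : b * c = c * b := by
  obtain ⟨a1, a2, a3⟩ := ha
  obtain ⟨b1, b2, b3⟩ := hb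
  obtain ⟨c1, c2, c3⟩ := hc
  have k2 := congrArg W.i h2
  have k3 := congrArg W.i h3
  have k4 := congrArg W.i h4
  have h0 := two_hh (m := m)
  have h1 := hh_ne (m := m)
  cases ha : a.e <;> cases hb : b.e <;> cases hc : c.e <;>
    simp [W.z, a1, a3, b1, b2, b3, c1, c2, c3, ha, hb, hc, W.ext_iff] at k2 k3 k4 ⊢ <;> grind

theorem sq_cases {x x' : W m} (hx : x ∈ Q1 m) (he : x.e = false) (hx' : x' ∈ RR m)
    (h : x' * x' = x * x) : x' = x ∨ x' = x * W.z m ∨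
      ∃ q ∈ Q2 m, q * q = W.z m ∧ x' = x * W.c1 m * q := by
  obtain ⟨a1, a2, a3⟩ := hx
  obtain ⟨b1, b2⟩ := hx'
  have k1 := congrArg W.i h
  have k2 := congrArg W.j h
  have h0 := two_hh (m := m)
  have h1 := two_kk (m := m)
  cases he' : x'.e <;> simp [a1, a2, a3, b1, b2, he, he'] at k1 k2
  · rcases two_mul_eq_zero (x := x'.i - x.i) (by linear_combination k1) with c1 | c1 <;>
      rcases two_mul_eq_zero (x := x'.j - x.i) (by linear_combination k2) with c2 | c2 <;>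
      rw [sub_eq_iff_eq_add'] at c1 c2
    · left; ext <;> simp [a1, a2, a3, b1, b2, he, he', c1, c2]
    · refine Or.inr (Or.inr ⟨(W.c2 m)⁻¹, by simp [mem_Q2, W.c2], ?_, ?_⟩) <;> ext <;>
        simp [W.c2, W.c1, W.z, a1, a2, a3, b1, b2, he, he', c1, c2] <;> grind
    · refine Or.inr (Or.inr ⟨W.c2 m, by simp [mem_Q2, W.c2], ?_, ?_⟩) <;> ext <;>
        simp [W.c2, W.c1, W.z, a1, a2, a3, b1, b2, he, he', c1, c2] <;> grind
    · right; left; ext <;> simp [W.z, a1, a2, a3, b1, b2, he, he', c1, c2]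
  · refine Or.inr (Or.inr ⟨_, ?_, ?_, (mul_inv_cancel_left _ _).symm⟩)
    · simp [mem_Q2, W.c1, a1, a2, a3, b1, b2, he, he']; grind
    · ext <;> simp [W.c1, W.z, a1, a2, a3, b1, b2, he, he'] <;> grind

theorem exists_pow {x : W m} (hx : x ∈ Q1 m) (h1 : x ≠ 1) (hz : x ≠ W.z m) :
    ∃ k : ℕ, x ^ 2 ^ k * x ^ 2 ^ k = W.z m := by
  obtain ⟨n, hn⟩ := W_p x
  induction n generalizing x with
  | zero => exact absurd (by simpa using hn) h1
  | succ n ih =>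
    by_cases h : x * x = W.z m
    · exact ⟨0, by simpa using h⟩
    obtain ⟨k, hk⟩ := ih (mul_mem hx hx) (fun e => (W.Q1_invol hx e).elim h1 hz) h
      (by rw [← sq, ← pow_mul, ← pow_succ', hn])
    exact ⟨k + 1, by rwa [pow_succ', pow_mul, sq]⟩

variable {E : Emb m G} {C0 : Subgroup G} {g : G}

theorem pull (hz : E.Cen) {x x' : W m} (e : E.f x' = g * E.f x * g⁻¹) (h : x * x = W.z m) :
    x' * x' = W.z m := E.inj (by
  rw [map_mul, e, conj_mul, ← map_mul, h, hz g, mul_inv_cancel_right])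

theorem pi2 (E : Emb m G) (T : Subgroup (W m)) : IsPi {2} (T.map E.f) :=
  (isPi_of_isPGroup Nat.prime_two (W_p.to_subgroup T)).map _

theorem sylQ (h : E.IsC0 C0) : Syl 2 C0 ((Q m).map E.f) := by
  have := normal_of_index_eq_two h.idx
  have h1 := (syl_top_of_sylow Nat.prime_two E.S).inf_norm (K := C0) le_top le_normalizer_of_normal
  rwa [show (E.S : Subgroup G) ⊓ C0 = (Q m).map E.f from Subgroup.ext fun x =>
    ⟨fun ⟨⟨w, hw⟩, hx⟩ => ⟨w, (h.mem w).1 (hw ▸ hx), hw⟩, by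
      rintro ⟨w, hw, rfl⟩; exact ⟨E.mem w, (h.mem w).2 hw⟩⟩] at h1

theorem core4 (h : E.IsC0 C0) (hz : E.Cen) (hg : g ∈ C0) {a a' : W m} (ha : a ∈ Q2 m)
    (ha' : a' ∈ Q1 m) (h2 : a * a = W.z m) (e : E.f a' = g * E.f a * g⁻¹)
    (hd : ∀ d ∈ Q1 m, ∃ d' ∈ Q m, E.f d' = g * E.f d * g⁻¹) : False := by
  have S := sylQ h
  obtain ⟨b, -, e1⟩ := hd _ y1_Q1
  obtain ⟨c, -, e2⟩ := hd _ (mul_mem x1_Q1 y1_Q1)
  have cm : ∀ {d d' : W m}, d ∈ Q1 m → E.f d' = g * E.f d * g⁻¹ → d' * a' = a' * d' :=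
    fun hd e1 => E.inj (by
      rw [map_mul, map_mul, e, e1, conj_mul, conj_mul, ← map_mul, ← map_mul, W.Q1_Q2_comm hd ha])
  have nc : b * c ≠ c * b := fun h => by
    have h3 := congrArg E.f h
    rw [map_mul, map_mul, e1, e2, conj_mul, conj_mul, mul_left_inj, mul_right_inj, ← map_mul,
      ← map_mul] at h3
    have h4 := congrArg W.i (E.inj h3)
    simp [W.x1, W.y1] at h4
    exact hh_ne (m := m) (by rw [← two_kk]; linear_combination -kk m * h4)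
  have hb := W.sqrt_z (pull hz e1 (sq_e y1_Q1 rfl))
  have hc := W.sqrt_z (pull hz e2 (sq_e (mul_mem x1_Q1 y1_Q1) rfl))
  have hb2 : b ∈ Q2 m := hb.resolve_left fun hb => nc (hc.elim
    (fun hc => cent4 ha' (pull hz e h2) hb hc (cm y1_Q1 e1) (cm (mul_mem x1_Q1 y1_Q1) e2))
    fun hc => W.Q1_Q2_comm hb hc)
  have hc2 : c ∈ Q2 m := hc.resolve_left fun hc => nc (W.Q1_Q2_comm hc hb2).symm
  have c12 : ♯((Q2 m).map E.f) = ♯((Q1 m).map E.f) := by
    have uu : (W.u m)⁻¹ = W.u m := inv_eq_of_mul_eq_one_right W.u_mul_u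
    have : cj E.u ((Q2 m).map E.f) = (Q1 m).map E.f := Subgroup.ext fun y => ⟨fun hy => by
      obtain ⟨x, hx, e⟩ := mem_cj.1 hy
      exact ⟨W.u m * x * (W.u m)⁻¹, by rw [uu]; exact W.u_Q2.2 hx, by
        simp only [map_mul, map_inv, e]; group⟩, by
      rintro ⟨x, hx, rfl⟩
      exact mem_cj.2 ⟨(W.u m)⁻¹ * x * W.u m, by rw [uu]; exact W.u_Q1.2 hx, by
        simp only [map_mul, map_inv]⟩⟩
    rw [← this, card_cj]
  have k1 : cj g ((Q1 m).map E.f) = (Q2 m).map E.f := eq_of_card_eq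
    (cj_le_iff.2 (map_le_iff_le_comap.2 (W.Q1_gen _ (mem_cj.2 ⟨b, hb2, by rw [e1, inv_inv]⟩)
      (mem_cj.2 ⟨c, hc2, by rw [e2, inv_inv]⟩)))) (by rw [card_cj, c12])
  have cc : (Q1 m).map E.f ≤ C[(Q2 m).map E.f] := by
    rintro _ ⟨x, hx, rfl⟩
    refine mem_C'.2 ?_
    rintro _ ⟨y, hy, rfl⟩
    rw [← map_mul, ← map_mul, W.Q1_Q2_comm hx hy]
  have QQ : (Q m).map E.f = (Q1 m).map E.f ⊔ (Q2 m).map E.f := le_antisymm (by
    rintro _ ⟨x, hx, rfl⟩
    obtain ⟨a, ha, b, hb, rfl⟩ := W.mem_Q_iff.1 hx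
    rw [map_mul]
    exact mul_mem (mem_sup_left ⟨a, ha, rfl⟩) (mem_sup_right ⟨b, hb, rfl⟩))
    (sup_le (map_mono W.Q1_le) (map_mono W.Q2_le))
  have l1 : (Q1 m).map E.f ≤ C0 := (map_mono W.Q1_le).trans S.le
  have l2 : (Q2 m).map E.f ≤ C0 := (map_mono W.Q2_le).trans S.le
  have S1 : Syl 2 (C0 ⊓ C[(Q2 m).map E.f]) ((Q1 m).map E.f) :=
    syl_of_max Nat.prime_two (pi2 E _) (le_inf l1 cc) fun X hX h1 h2 x hx => by
      have h3 := S.eq_of_le (hX.sup' (pi2 E (Q2 m)) ((h2.trans inf_le_right).trans (C_le_N _)))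
        (QQ ▸ sup_le_sup_right h1 _) (sup_le (h2.trans inf_le_left) l2)
      obtain ⟨w, -, rfl⟩ := h3.le (mem_sup_left hx)
      exact ⟨w, W.cent_Q2 fun d hd => E.inj (by
        rw [map_mul, map_mul]; exact mem_C.1 (h2 hx).2 _ ⟨d, hd, rfl⟩), rfl⟩
  obtain ⟨γ, hγ, k2⟩ := Sylow_Jsub Nat.prime_two S1 ((pi2 E (Q2 m)).cj g)
    (le_inf (cj_le_of_mem l2 hg) (k1 ▸ cent_cj (cents_symm cc) g))
  rw [← cj_mul] at k2
  replace k2 := eq_of_card_eq k2 (by rw [card_cj, c12])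
  have k3 : cj (γ * g) ((Q1 m).map E.f) = (Q2 m).map E.f := by rw [cj_mul, k1, cj_of_mem_C hγ.2]
  have k4 := op S (mul_mem hγ.1 hg) (mem_N_iff_cj.2 (by rw [QQ, cj_sup, k2, k3, sup_comm]))
    (M := N[(Q1 m).map E.f]) (le_N_iff.2 (by
      rintro _ ⟨d, hd, rfl⟩ _ ⟨x, hx, rfl⟩
      exact ⟨_, W.conj_Q1 hd hx, by simp only [map_mul, map_inv]⟩))
    (mem_N_iff_cj.2 (by rw [cj_mul, k3, k2]))
  rw [cj_of_mem_N k4] at k3
  have := ((mem_map_iff_mem E.inj).1 (k3.le ⟨_, y1_Q1, rfl⟩)).1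
  simp [W.y1] at this

theorem no4 (h : E.IsC0 C0) (hz : E.Cen) (hg : g ∈ C0) {a a' : W m} (ha : a ∈ Q1 m)
    (ha' : a' ∈ Q2 m) (h2 : a * a = W.z m) (e : E.f a' = g * E.f a * g⁻¹) : False := by
  have S := sylQ h
  obtain ⟨x, hx, ⟨γ, hγ, e1⟩, H⟩ := E.ext_in S.le
    (Nat.not_even_iff_odd.1 fun e => S.not_dvd Nat.prime_two e.two_dvd) (W.Q1_le ha)
  rcases W.sqrt_z (pull hz e1.symm h2) with h3 | h3
  · obtain ⟨δ, hδ, e2, H⟩ := H a' (W.Q2_le ha') ⟨γ * g⁻¹, mul_mem hγ (inv_mem hg), by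
      rw [e, ← e1]; group⟩
    exact core4 h hz hδ ha' h3 (pull hz e h2) e2.symm fun d hd =>
      H d (W.Q1_le hd) (W.Q1_Q2_comm hd ha')
  · obtain ⟨δ, hδ, e2, H⟩ := H a (W.Q1_le ha) ⟨γ, hγ, e1⟩
    have := normal_of_index_eq_two h.idx
    have uu : (W.u m)⁻¹ = W.u m := inv_eq_of_mul_eq_one_right W.u_mul_u
    have u1 : ∀ {d : W m}, d ∈ Q1 m → W.u m * d * (W.u m)⁻¹ ∈ Q2 m := fun hd => by
      rw [uu]; exact W.u_Q1.2 hd
    refine core4 h hz (this.conj_mem δ hδ E.u) (u1 ha)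
      (show W.u m * x * (W.u m)⁻¹ ∈ Q1 m by rw [uu]; exact W.u_Q2.2 h3)
      (by rw [conj_mul, h2, W.z_comm, mul_inv_cancel_right])
      (by simp only [map_mul, map_inv, ← e2]; group) fun d hd => ?_
    obtain ⟨d', hd', e3⟩ := H _ (W.Q2_le (u1 hd)) (W.Q1_Q2_comm ha (u1 hd)).symm
    refine ⟨W.u m * d' * (W.u m)⁻¹, (normal_of_index_eq_two W.index_Q).conj_mem _ hd' _, ?_⟩
    have u2 : E.u⁻¹ = E.u := by rw [← map_inv, uu]
    simp only [map_mul, map_inv, e3, mul_inv_rev, u2, mul_assoc]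

theorem cl2 (h : E.IsC0 C0) (hz : E.Cen) (hg : g ∈ C0) {q a : W m} (hq : q ∈ Q2 m)
    (h2 : q * q = W.z m) (k : ℕ) (e : E.f a = g * E.f (q ^ k) * g⁻¹) : a ∈ Q2 m := by
  have zz : ∀ n : ℕ, W.z m ^ n = 1 ∨ W.z m ^ n = W.z m := fun n => by
    induction n with
    | zero => simp
    | succ n ih => rcases ih with h | h <;> simp [pow_succ, h, W.z_mul_z]
  rcases Nat.even_or_odd' k with ⟨n, rfl | rfl⟩
  · rw [pow_mul, sq, h2] at e
    rcases zz n with h | h <;> rw [h] at e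
    · rw [E.inj (e.trans (by simp) : _ = E.f 1)]; exact one_mem _
    · rw [E.inj (e.trans (by rw [hz g, mul_inv_cancel_right]) : _ = E.z)]; exact z_Q2
  · have h3 : q ^ (2 * n + 1) * q ^ (2 * n + 1) = W.z m := by
      rw [← sq, ← pow_mul, mul_comm, pow_mul, sq, h2, pow_succ, pow_mul, sq, W.z_mul_z, one_pow,
        one_mul]
    exact (W.sqrt_z (pull hz e h3)).resolve_left fun ha => no4 h hz (inv_mem hg) ha
      (pow_mem hq (2 * n + 1)) (pull hz e h3) (by rw [e, inv_inv, ← mul_assoc, inv_mul_cancel_right, inv_mul_cancel_left])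

theorem sylR (h : E.IsC0 C0) (hz : E.Cen) :
    Syl 2 (C0 ⊓ C{E.f (W.c1 m)}) ((RR m).map E.f) := by
  have S := sylQ h
  have RQ : RR m ≤ Q m := fun x hx => hx.1.trans hx.2.symm
  have h1 : (RR m).map E.f ≤ C0 ⊓ C{E.f (W.c1 m)} := le_inf ((map_mono RQ).trans S.le) (by
    rintro _ ⟨x, hx, rfl⟩
    exact mem_C1.2 (by rw [← map_mul, ← map_mul, (c1_cent (RQ hx)).2 hx]))
  refine syl_of_max Nat.prime_two (pi2 E _) h1 fun X hX h2 h3 => ?_
  obtain ⟨γ, hγ, h4⟩ := Sylow_Jsub Nat.prime_two S hX (h3.trans inf_le_left)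
  have h5 : cj γ X ≠ (Q m).map E.f := fun e => by
    obtain ⟨c, -, e1⟩ := h4 (conj_mem_cj γ (h2 ⟨W.c1 m, ⟨rfl, rfl⟩, rfl⟩))
    have h6 : (Q m).map E.f ≤ C{E.f c} := by
      rw [← e, e1, ← cj_C1]; exact cj_mono γ (h3.trans inf_le_right)
    have h7 := pull hz e1 c1_sq
    rcases W.cent_Q (x := c) fun d hd => E.inj (by
      rw [map_mul, map_mul]; exact mem_C1.1 (h6 ⟨d, hd, rfl⟩)) with rfl | rfl
    · exact W.z_ne_one (by simpa using h7.symm)
    · exact W.z_ne_one (h7.symm.trans W.z_mul_z)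
  have h6 := card_lt (lt_of_le_of_ne h4 h5)
  have h7 := card_mul_relIndex RQ
  obtain ⟨k, h8⟩ := card_dvd h2
  obtain ⟨l, h9⟩ := card_dvd h4
  rw [card_cj, card_map_of_injective E.inj] at h6 h9
  rw [RR_idx] at h7
  refine (eq_of_card_ge h2 ?_).ge
  rw [card_map_of_injective E.inj] at h8 ⊢
  have h10 := card_pos X
  have : 2 ≤ l := by
    by_contra h
    interval_cases l <;> omega
  nlinarith

theorem claim (h : E.IsC0 C0) (hz : E.Cen) (k : ℕ) : ∀ x ∈ Q1 m, x.e = false →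
    x ^ 2 ^ k = W.c1 m → ∀ g ∈ C0 ⊓ C{E.f (W.c1 m)}, ∀ x', E.f x' = g * E.f x * g⁻¹ → x' = x := by
  have S := sylR h hz
  have cR : W.c1 m ∈ RR m := ⟨rfl, rfl⟩
  induction k with
  | zero =>
    intro x hx he h1 g hg x' e
    rw [pow_zero, pow_one] at h1
    exact E.inj (by rw [e, h1, mem_C1.1 hg.2, mul_inv_cancel_right])
  | succ k ih =>
    intro x hx he h1 g hg x' e
    have xR : x ∈ RR m := ⟨hx.1.trans he, hx.2.1.trans he⟩
    have xΓ := S.le ⟨x, xR, rfl⟩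
    have h2 : E.f x' ∈ C0 ⊓ C{E.f (W.c1 m)} := e ▸ mul_mem (mul_mem hg xΓ) (inv_mem hg)
    have h3 : x' ∈ RR m := (c1_cent ((h.mem _).1 h2.1)).1 (E.inj (by
      rw [map_mul, map_mul]; exact mem_C1.1 h2.2))
    have h4 := ih (x * x) (mul_mem hx hx) (by simp) (by rw [← sq, ← pow_mul, ← pow_succ', h1]) g hg
      (x' * x') (by rw [map_mul, map_mul, e, conj_mul])
    rcases sq_cases hx he h3 h4 with h5 | rfl | ⟨q, hq, q2, rfl⟩
    · exact h5
    · exfalso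
      have cx : (RR m).map E.f ≤ C{E.f x} := by
        rintro _ ⟨⟨i, j, a, b, e, _⟩, ⟨rfl, rfl⟩, rfl⟩
        refine mem_C1.2 (by
          rw [← map_mul, ← map_mul]
          congr 1
          cases e <;> ext <;> simp [xR.1, xR.2, he, hx.2.2, add_comm])
      have zx : ∀ γ : G, γ * E.f x * γ⁻¹ = E.f x * E.z → γ * (E.f x * E.z) * γ⁻¹ = E.f x :=
        fun γ hγ => by
          rw [← conj_mul, hγ, hz γ, mul_inv_cancel_right, mul_assoc, ← map_mul, W.z_mul_z, map_one,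
            mul_one]
      rw [map_mul] at e
      obtain ⟨γ, hγ, k2⟩ := Sylow_Jsub Nat.prime_two (S.of_le (le_inf S.le cx) inf_le_left)
        ((pi2 E (RR m)).cj g) (le_inf (cj_le_of_mem S.le hg) ((cj_mono g cx).trans (by
          rw [cj_C1, ← e]
          exact fun y hy => mem_C1.2 (by
            have := mem_C1.1 hy
            rwa [← mul_assoc, mul_assoc (E.f x), ← hz y, ← mul_assoc, mul_left_inj] at this))))
      rw [← cj_mul] at k2
      have k3 : γ * g * E.f x * (γ * g)⁻¹ = E.f x * E.z := by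
        rw [show γ * g * E.f x * (γ * g)⁻¹ = γ * (g * E.f x * g⁻¹) * γ⁻¹ by group, ← e, ← conj_mul,
          mem_C1_iff_conj.1 hγ.2, hz γ, mul_inv_cancel_right]
      have k4 := mem_C1_iff_conj.1 (op S (mul_mem hγ.1 hg) (mem_N_of_cj_le k2) cx
        (mem_C1_iff_conj.2 (by
          have := zx _ k3
          rw [← k3] at this
          rw [← this]; nth_rewrite 1 [this]; group)))
      rw [k3, mul_eq_left] at k4
      exact W.z_ne_one (E.inj (k4.trans (map_one _).symm))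
    · exfalso
      obtain ⟨V, V1, V2⟩ := trf (Γ := C0 ⊓ C{E.f (W.c1 m)})
        ((φ0 m).comp ((RR m).equivMapOfInjective E.f E.inj).symm.toMonoidHom)
      have ev : ∀ (w : W m) (hw : w ∈ RR m) (h' : E.f w ∈ (RR m).map E.f),
          ((RR m).equivMapOfInjective E.f E.inj).symm ⟨E.f w, h'⟩ = ⟨w, hw⟩ := fun w hw h' =>
        (MulEquiv.symm_apply_eq _).2 (Subtype.ext rfl)
      have qΓ := S.le ⟨q, ⟨hq.1, hq.2.1⟩, rfl⟩
      have cΓ := S.le ⟨_, cR, rfl⟩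
      have a1 := V1 ⟨_, qΓ⟩ fun n γ hγ h' => by
        obtain ⟨w, hw, e1⟩ := id h'
        have := cl2 h hz (inv_mem hγ.1) hq q2 n (a := w) (by rw [e1, inv_inv, map_pow])
        simp only [← e1, MonoidHom.comp_apply, MulEquiv.coe_toMonoidHom, ev w hw]
        change Multiplicative.ofAdd _ = Multiplicative.ofAdd 0
        rw [this.2.2]
        congr 1
        cases w.e <;> simp
      have a2 := V2 ⟨_, cΓ⟩ (fun γ hγ => (mem_C1.1 hγ.2).symm) (mem_map_of_mem _ cR)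
      have a3 : V ⟨_, xΓ⟩ * V ⟨_, cΓ⟩ * V ⟨_, qΓ⟩ = V ⟨g, hg⟩ * V ⟨_, xΓ⟩ * (V ⟨g, hg⟩)⁻¹ := by
        rw [← map_mul, ← map_mul, ← map_inv, ← map_mul, ← map_mul]
        exact congrArg V (Subtype.ext (by rw [map_mul, map_mul] at e; exact e))
      rw [a1, mul_one, mul_inv_cancel_comm, mul_eq_left, a2] at a3
      obtain ⟨j, hj⟩ := Nat.not_even_iff_odd.1 fun e => S.not_dvd Nat.prime_two e.two_dvd
      rw [hj, MonoidHom.comp_apply, MulEquiv.coe_toMonoidHom] at a3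
      erw [ev _ cR] at a3
      have a4 := congrArg Multiplicative.toAdd a3
      simp [φ0, W.c1] at a4
      exact hh_ne (m := m) (by
        linear_combination a4 - (2 * (j : R m) + 1) * two_kk (m := m) - j * two_hh (m := m))

end PF2x
open PF2x H24

section PF2
theorem Emb.IsC0.closed1 {E : Emb m G} {C0 : Subgroup G} (h : E.IsC0 C0) (hz : E.Cen) {g : G}
    (hg : g ∈ C0) {x x' : W m} (hx : x ∈ Q1 m) (e : E.f x' = g * E.f x * g⁻¹) : x' ∈ Q1 m := by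
  have c4 : ∀ {a a' : W m}, a ∈ Q1 m → a * a = W.z m → E.f a' = g * E.f a * g⁻¹ → a' ∈ Q1 m :=
    fun ha h2 e => (W.sqrt_z (pull hz e h2)).resolve_right fun h3 => no4 h hz hg ha h3 h2 e
  by_cases h1 : x = 1
  · rw [E.inj (e.trans (by simp [h1]) : _ = E.f 1)]; exact one_mem _
  by_cases h2 : x = W.z m
  · rw [E.inj (e.trans (by rw [h2, hz g, mul_inv_cancel_right]) : _ = E.z)]; exact z_Q1
  by_cases h3 : x * x = W.z m
  · exact c4 hx h3 e
  have he : x.e = false := by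
    by_contra h4
    exact h3 (sq_e hx (by simpa using h4))
  obtain ⟨k, hk⟩ := exists_pow hx h1 h2
  obtain _ | k := k
  · exact absurd (by simpa using hk) h3
  have e1 : E.f (x' ^ 2 ^ (k + 1)) = g * E.f (x ^ 2 ^ (k + 1)) * g⁻¹ := by
    rw [map_pow, map_pow, e, conj_pow]
  have sqe : ∀ y : W m, (y ^ 2 ^ (k + 1)).e = false := fun y => by
    rw [pow_succ, pow_mul, sq]; simp
  obtain ⟨d, hd, e2⟩ := norm_c (pow_mem hx _) (sqe x) hk
  obtain ⟨d', hd', e3⟩ := norm_c (c4 (pow_mem hx _) hk e1) (sqe x') (pull hz e1 hk)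
  have h4 := claim h hz (k + 1) (d * x * d⁻¹) (W.conj_Q1 (W.Q1_le hd) hx) (by
      cases hde : d.e <;> simp [he, hde]) (by rw [conj_pow, e2]) (E.f d' * g * (E.f d)⁻¹)
    ⟨C0.mul_mem (C0.mul_mem ((h.mem _).2 (W.Q1_le hd')) hg) (C0.inv_mem ((h.mem _).2 (W.Q1_le hd))),
      mem_C1_iff_conj.2 (by
        nth_rewrite 1 [← e2]
        rw [← e3]
        simp only [map_mul, map_inv, e1]; group)⟩ (d' * x' * d'⁻¹) (by
      simp only [map_mul, map_inv, e]; group)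
  have h5 := W.conj_Q1 (W.Q1_le (inv_mem hd')) (h4 ▸ W.conj_Q1 (W.Q1_le hd) hx)
  rwa [show d'⁻¹ * (d' * x' * d'⁻¹) * d'⁻¹⁻¹ = x' by group] at h5
end PF2

end H20.P4
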