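import Mathlib
import Cfsg.Agent.H20.P0
import Cfsg.Agent.H20.PF1
import Cfsg.Agent.H20.PF2
import Cfsg.Agent.H8.PCB

set_option autoImplicit false
set_option linter.unusedVariables false
set_option linter.unusedSectionVars false

namespace H20.P4

open Cfsg Subgroup
open scoped MatrixGroups

universe u

variable {m : ℕ} {G : Type u} [Group G] [Finite G]

/-! ### PF3 -/
namespace PF3x
open scoped commutatorElement

/-- a normal subgroup meeting `S` in `⟨z⟩` lies in `⟨z⟩` -/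
theorem le_Z (S : Sylow 2 G) {z : G} (hz : ∀ g, g * z = z * g) (hO : pPrimeCore 2 G = ⊥)
    (M : Subgroup G) [M.Normal] (hM : ∀ x ∈ (S : Subgroup G), x ∈ M → x = 1 ∨ x = z) :
    ∀ g ∈ M, g = 1 ∨ g = z := by
  obtain ⟨P⟩ : Nonempty (Sylow 2 M) := inferInstance
  have hP : ∀ y ∈ (P : Subgroup M), (y : G) = 1 ∨ (y : G) = z := fun y hy => by
    obtain ⟨g, hg⟩ := H24.G2S.exists_conj_le_sylow S _ (P.isPGroup'.map M.subtype)
    rcases hM _ (hg _ ⟨y, hy, rfl⟩) (Normal.conj_mem inferInstance _ y.2 g) with e | e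
    · left; simpa using e
    · right
      rw [mul_inv_eq_iff_eq_mul, ← hz g] at e
      exact mul_left_cancel e
  have hc : normalizer P ≤ centralizer ((P : Subgroup M) : Set M) := fun g _ =>
    mem_centralizer_iff.2 fun y hy => Subtype.ext (by
      rcases hP y hy with e | e
      · simp [e]
      · simp only [coe_mul, e]; exact (hz g).symm)
  have h1 := MonoidHom.ker_transferSylow_isComplement' P hc
  have h2 : (MonoidHom.transferSylow P hc).ker ≤ pPrimeCore 2 M := H2.le_pPrimeCore inferInstance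
    ((Nat.Prime.coprime_iff_not_dvd Nat.prime_two).2
      (MonoidHom.not_dvd_card_ker_transferSylow P hc)).symm
  rw [H22.pPrimeCore_eq_bot_of_normal hO M, le_bot_iff] at h2
  have h3 := h1.sup_eq_top
  rw [h2, bot_sup_eq] at h3
  exact fun g hg => hP ⟨g, hg⟩ (h3.ge (mem_top _))

/-- the normal closures commute modulo `z` -/
theorem comm_Z (S : Sylow 2 G) {z : G} (hz : ∀ g, g * z = z * g) (hzz : z * z = 1)
    (hO : pPrimeCore 2 G = ⊥) {T U : Subgroup G} (hT : IsStronglyClosed T S)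
    (hU : IsStronglyClosed U S) (zT : z ∈ T) (zU : z ∈ U) (hc : ∀ a ∈ T, ∀ b ∈ U, a * b = b * a)
    (hi : ∀ a ∈ T, a ∈ U → a = 1 ∨ a = z) :
    ∀ g ∈ ⁅normalClosure (T : Set G), normalClosure (U : Set G)⁆, g = 1 ∨ g = z := by
  let Z := zpowers z
  have hZ : ∀ g ∈ Z, g = 1 ∨ g = z := by
    rintro _ ⟨m, rfl⟩
    rcases Int.even_or_odd' m with ⟨m, rfl | rfl⟩
    · left; simp only [zpow_mul, zpow_ofNat, pow_two, hzz, one_zpow]
    · right; simp only [zpow_add, zpow_mul, zpow_ofNat, pow_two, hzz, one_zpow, one_mul, pow_one]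
  haveI : Z.Normal := ⟨fun y hy g => by
    rcases hZ y hy with rfl | rfl
    · simp
    · rw [hz g, mul_inv_cancel_right]; exact hy⟩
  let π := QuotientGroup.mk' Z
  have hπ : Function.Surjective π := QuotientGroup.mk'_surjective Z
  have hker : ∀ {U : Subgroup G}, z ∈ U → ∀ g, π g ∈ U.map π → g ∈ U := fun {U} hU g hg => by
    have : (U.map π).comap π = U :=
      comap_map_eq_self (by rw [QuotientGroup.ker_mk']; exact zpowers_le.2 hU)
    exact this.le hg
  have hcl : ∀ {U : Subgroup G}, z ∈ U → IsStronglyClosed U S →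
      IsStronglyClosed (U.map π) (S.mapSurjective hπ) := fun {U} hU hc => by
    refine ⟨map_mono hc.1, ?_⟩
    rintro _ ⟨x, hx, rfl⟩ g hg
    obtain ⟨g, rfl⟩ := hπ g
    rw [← map_inv, ← map_mul, ← map_mul] at hg ⊢
    exact mem_map_of_mem π (hc.2 x hx g (hker (hc.1 hU) _ hg))
  have key := H8.PC.comm_le_oddCore' (S.mapSurjective hπ) (hcl zT hT) (hcl zU hU) (by
    rintro _ ⟨a, ha, rfl⟩ _ ⟨b, hb, rfl⟩
    rw [← map_mul, ← map_mul, hc a ha b hb]) (by
    refine eq_bot_iff.2 ?_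
    rintro _ ⟨⟨x, hx, rfl⟩, h2⟩
    rcases hi x hx (hker zU _ h2) with rfl | rfl
    · simp
    · exact (QuotientGroup.eq_one_iff _).2 (mem_zpowers _))
  rw [coe_map, coe_map, ← map_normalClosure _ _ hπ, ← map_normalClosure _ _ hπ, ← map_commutator,
    map_le_iff_le_comap] at key
  intro g hg
  refine le_Z S hz hO ((oddCore (G ⧸ Z)).comap π) (fun x hx hx' => ?_) g (key hg)
  exact hZ _ ((QuotientGroup.eq_one_iff _).1 (H3.eq_one_of_mem_of_coprime
    (S.mapSurjective hπ).isPGroup' (mem_map_of_mem π hx)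
    (H3.orderOf_coprime_of_mem (H2.pPrimeCore_coprime 2 _) hx')))

theorem N_le (S : Sylow 2 G) {T : Subgroup G} (hT : IsStronglyClosed T S) :
    normalClosure (T : Set G) ≤ ⁅normalClosure (T : Set G), normalClosure (T : Set G)⁆ ⊔ T := by
  refine (closure_le _).2 fun y hy => ?_
  obtain ⟨x, hx, hxy⟩ := Group.mem_conjugatesOfSet_iff.1 hy
  obtain ⟨g, rfl⟩ := isConj_iff.1 hxy
  have h1 : g * x * g⁻¹ ∈ normalClosure (T : Set G) :=
    Normal.conj_mem inferInstance _ (le_normalClosure hx) g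
  obtain ⟨j, hj⟩ := S.isPGroup' ⟨x, hT.1 hx⟩
  have hj : x ^ 2 ^ j = 1 := congrArg Subtype.val hj
  obtain ⟨m, hm, h2⟩ := H24.G2S.exists_conj_normal S _ h1 (j := j) (by rw [conj_pow, hj]; simp)
  have h3 : m * (g * x * g⁻¹) * m⁻¹ ∈ T := by
    have := hT.2 x hx (m * g) (by convert h2 using 1; group)
    convert this using 1; group
  have h4 : g * x * g⁻¹ = ⁅g * x * g⁻¹, m⁆ * (m * (g * x * g⁻¹) * m⁻¹) := by
    rw [commutatorElement_def]; group
  rw [SetLike.mem_coe, h4]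
  exact mul_mem (mem_sup_left (commutator_mem_commutator h1 hm)) (mem_sup_right h3)

theorem comm_N (S : Sylow 2 G) {z : G} (hz : ∀ g, g * z = z * g) (hzz : z * z = 1)
    (hO : pPrimeCore 2 G = ⊥) {T U : Subgroup G} (hT : IsStronglyClosed T S)
    (hU : IsStronglyClosed U S) (zT : z ∈ T) (zU : z ∈ U) (hc : ∀ a ∈ T, ∀ b ∈ U, a * b = b * a)
    (hi : ∀ a ∈ T, a ∈ U → a = 1 ∨ a = z) :
    normalClosure (T : Set G) ≤ centralizer (normalClosure (U : Set G) : Set G) := by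
  have h1 : ⁅⁅normalClosure (T : Set G), normalClosure (U : Set G)⁆, normalClosure (U : Set G)⁆ = ⊥ :=
    commutator_eq_bot_iff_le_centralizer.2 fun g hg => mem_centralizer_iff.2 fun y _ => by
      rcases comm_Z S hz hzz hO hT hU zT zU hc hi g hg with rfl | rfl
      · simp
      · exact hz y
  have h2 := commutator_commutator_eq_bot_of_rotate (H₁ := normalClosure (U : Set G))
    (by rwa [commutator_comm (normalClosure (U : Set G))]) h1
  rw [commutator_eq_bot_iff_le_centralizer] at h2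
  refine normalClosure_le_normal fun x hx => mem_centralizer_iff.2 fun y hy => ?_
  have h3 : ⁅normalClosure (U : Set G), normalClosure (U : Set G)⁆ ⊔ U ≤ centralizer {x} := sup_le
    (fun g hg => mem_centralizer_singleton_iff.2
      (mem_centralizer_iff.1 (h2 hg) x (le_normalClosure hx)).symm)
    fun g hg => mem_centralizer_singleton_iff.2 (hc x hx g hg).symm
  exact mem_centralizer_singleton_iff.1 (h3 (N_le S hU hy))

variable {E : Emb m G} {C0 : Subgroup G}

theorem uu (E : Emb m G) : E.u * E.u = 1 := by rw [← map_mul, W.u_mul_u, map_one]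
theorem ui (E : Emb m G) : E.u⁻¹ = E.u := inv_eq_of_mul_eq_one_right (uu E)
theorem uxu (E : Emb m G) (a : G) : E.u * (E.u * a * E.u) * E.u = a := by
  rw [show E.u * (E.u * a * E.u) * E.u = E.u * E.u * a * (E.u * E.u) by group, uu, one_mul, mul_one]

theorem closed2 (h : E.IsC0 C0) (hz : E.Cen) {g : G} (hg : g ∈ C0) {x x' : W m} (hx : x ∈ Q2 m)
    (e : E.f x' = g * E.f x * g⁻¹) : x' ∈ Q2 m := by
  haveI := normal_of_index_eq_two h.idx
  refine W.u_Q2.1 (h.closed1 hz (Normal.conj_mem inferInstance _ hg E.u) (W.u_Q2.2 hx) ?_)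
  simp only [map_mul, e]
  change E.u * _ * E.u = E.u * g * E.u⁻¹ * (E.u * _ * E.u) * _
  rw [show E.u * g * E.u⁻¹ * (E.u * E.f x * E.u) * (E.u * g * E.u⁻¹)⁻¹ =
    E.u * (g * E.f x * (E.u * E.u) * g⁻¹) * E.u⁻¹ by group, uu, mul_one, ui]

theorem mem_N1 (E : Emb m G) (C0 : Subgroup G) {x : W m} (hx : x ∈ Q1 m) : E.f x ∈ E.N1 C0 :=
  subset_closure ⟨1, one_mem _, x, hx, by simp⟩

theorem conj_N1 {g a : G} (hg : g ∈ C0) (ha : a ∈ E.N1 C0) : g * a * g⁻¹ ∈ E.N1 C0 := by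
  have : E.N1 C0 ≤ (E.N1 C0).comap (MulAut.conj g).toMonoidHom := (closure_le _).2 (by
    rintro _ ⟨k, hk, x, hx, rfl⟩
    exact subset_closure ⟨g * k, mul_mem hg hk, x, hx, by simp [mul_assoc]⟩)
  exact this ha

theorem comm (h : E.IsC0 C0) (hz : E.Cen) (hO : oddCore G = ⊥) :
    ∀ a ∈ E.N1 C0, ∀ b ∈ E.N1 C0, a * (E.u * b * E.u) = E.u * b * E.u * a := by
  haveI := normal_of_index_eq_two h.idx
  have hs := (H22.sylIn_top E.S).inf_normal (K := C0) le_top le_normalizer_of_normal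
  have cl : ∀ T : Subgroup (W m), T ≤ Q m → (∀ g ∈ C0, ∀ x ∈ T, ∀ x', E.f x' = g * E.f x * g⁻¹ → x' ∈ T) →
      IsStronglyClosed ((T.map E.f).subgroupOf C0) (hs.toSylow : Subgroup C0) := fun T h1 h2 => by
    refine ⟨fun a ha => ?_, fun a ha g hg => ?_⟩
    · obtain ⟨x, -, e⟩ := ha
      exact ⟨⟨x, e⟩, a.2⟩
    · obtain ⟨x, hx, e⟩ := ha
      obtain ⟨x', e'⟩ := E.exists_eq hg.1
      exact ⟨x', h2 g g.2 x hx x' (by rw [e]; exact e'), e'⟩
  have zQ : E.z ∈ C0 := (h.mem _).2 rfl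
  have key := comm_N hs.toSylow (z := ⟨E.z, zQ⟩) (fun g => Subtype.ext (hz g))
    (Subtype.ext (by change E.z * E.z = 1; rw [← map_mul, W.z_mul_z, map_one]))
    (H22.pPrimeCore_eq_bot_of_normal hO C0)
    (cl _ W.Q1_le fun g hg x hx x' e => h.closed1 hz hg hx e)
    (cl _ W.Q2_le fun g hg x hx x' e => closed2 h hz hg hx e)
    ⟨W.z m, by simp [mem_Q1, W.z], rfl⟩ ⟨W.z m, by simp [mem_Q2, W.z], rfl⟩ (by
      rintro a ⟨x, hx, e⟩ b ⟨y, hy, e'⟩
      refine Subtype.ext ?_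
      change C0.subtype a * C0.subtype b = C0.subtype b * C0.subtype a
      rw [← e, ← e', ← map_mul, ← map_mul, W.Q1_Q2_comm hx hy]) (by
      rintro a ⟨x, hx, e⟩ ⟨y, hy, e'⟩
      obtain rfl := E.inj (e.trans e'.symm)
      rcases W.Q1_inf_Q2 hx hy with rfl | rfl
      · exact .inl (Subtype.ext (e.symm.trans (map_one _)))
      · exact .inr (Subtype.ext e.symm))
  have l1 : E.N1 C0 ≤ (normalClosure ((((Q1 m).map E.f).subgroupOf C0 : Subgroup C0) : Set C0)).map
      C0.subtype := (closure_le _).2 (by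
    rintro _ ⟨g, hg, x, hx, rfl⟩
    exact ⟨_, Normal.conj_mem inferInstance _ (le_normalClosure
      (show (⟨E.f x, (h.mem _).2 (W.Q1_le hx)⟩ : C0) ∈ ((Q1 m).map E.f).subgroupOf C0 from
        ⟨x, hx, rfl⟩)) ⟨g, hg⟩, rfl⟩)
  have l2 : E.N1 C0 ≤ ((normalClosure ((((Q2 m).map E.f).subgroupOf C0 : Subgroup C0) : Set C0)).map
      C0.subtype).comap (MulAut.conj E.u).toMonoidHom := (closure_le _).2 (by
    rintro _ ⟨g, hg, x, hx, rfl⟩
    have hx' := W.u_Q1.2 hx
    refine ⟨_, Normal.conj_mem inferInstance _ (le_normalClosure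
      (show (⟨E.f _, (h.mem _).2 (W.Q2_le hx')⟩ : C0) ∈ ((Q2 m).map E.f).subgroupOf C0 from
        ⟨_, hx', rfl⟩))
      ⟨_, Normal.conj_mem inferInstance _ hg E.u⟩, ?_⟩
    change E.u * g * E.u⁻¹ * E.f _ * (E.u * g * E.u⁻¹)⁻¹ = E.u * (g * E.f x * g⁻¹) * E.u⁻¹
    rw [map_mul, map_mul]
    change E.u * g * E.u⁻¹ * (E.u * E.f x * E.u) * _ = _
    nth_rw 4 [← ui E]
    group)
  intro a ha b hb
  obtain ⟨a', h1, rfl⟩ := l1 ha
  obtain ⟨b', h2, e⟩ := l2 hb
  have e' : E.u * b * E.u = C0.subtype b' := by rw [e]; simp [ui]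
  rw [e', ← map_mul, ← map_mul, mem_centralizer_iff.1 (key h1) b' h2]

theorem norm (h : E.IsC0 C0) (g : G) : (∀ a ∈ E.N1 C0, g * a * g⁻¹ ∈ E.N1 C0) ∨
    ∀ a ∈ E.N1 C0, E.u * (g * a * g⁻¹) * E.u ∈ E.N1 C0 := by
  by_cases hg : g ∈ C0
  · exact .inl fun a ha => conj_N1 hg ha
  · have hu : E.u ∉ C0 := fun e => by simpa [mem_Q, W.u] using (h.mem _).1 e
    refine .inr fun a ha => ?_
    have := conj_N1 ((mul_mem_iff_of_index_two h.idx).2 (iff_of_false hu hg)) ha
    rwa [mul_inv_rev, ui, show E.u * g * a * (g⁻¹ * E.u) = E.u * (g * a * g⁻¹) * E.u by group] at this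

theorem cent (h : E.IsC0 C0) (hz : E.Cen) (hO : oddCore G = ⊥) (g : G)
    (h1 : ∀ a ∈ E.N1 C0, g * a = a * g) (h2 : ∀ a ∈ E.N1 C0, g * (E.u * a * E.u) = E.u * a * E.u * g) :
    g = 1 ∨ g = E.z := by
  let X : Set G := {a | a ∈ E.N1 C0 ∨ E.u * a * E.u ∈ E.N1 C0}
  have hX : ∀ k : G, ∀ a ∈ X, k * a * k⁻¹ ∈ X := fun k a ha => by
    rcases ha with ha | ha
    · exact (norm h k).imp (fun e => e a ha) fun e => e a ha
    · have e0 : k * E.u * (E.u * a * E.u) * (k * E.u)⁻¹ = k * a * k⁻¹ := by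
        rw [mul_inv_rev, ui, show k * E.u * (E.u * a * E.u) * (E.u * k⁻¹) =
          k * (E.u * (E.u * a * E.u) * E.u) * k⁻¹ by group, uxu]
      rw [← e0]
      exact (norm h (k * E.u)).imp (fun e => e _ ha) fun e => e _ ha
  haveI : (centralizer X).Normal := ⟨fun c hc k => mem_centralizer_iff.2 fun a ha => by
    have := mem_centralizer_iff.1 hc _ (hX k⁻¹ a ha)
    calc a * (k * c * k⁻¹) = k * (k⁻¹ * a * k⁻¹⁻¹ * c) * k⁻¹ := by group
      _ = _ := by rw [this]; group⟩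
  refine le_Z E.S hz hO (centralizer X) (fun c hc hc' => ?_) g (mem_centralizer_iff.2 fun a ha => ?_)
  · obtain ⟨x, rfl⟩ := E.exists_eq hc
    have : x = 1 ∨ x = W.z m := W.cent_Q fun d hd => by
      obtain ⟨a, ha, b, hb, rfl⟩ := W.mem_Q_iff.1 hd
      have e1 := mem_centralizer_iff.1 hc' _ (.inl (mem_N1 E C0 ha))
      have e2 := mem_centralizer_iff.1 hc' (E.f b) (.inr (by
        have := mem_N1 E C0 (W.u_Q2.2 hb)
        rwa [map_mul, map_mul] at this))
      refine E.inj ?_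
      simp only [map_mul]
      rw [mul_assoc, e2, ← mul_assoc, e1, mul_assoc]
    exact this.imp (fun e => by rw [e, map_one]) fun e => by rw [e]
  · rcases ha with ha | ha
    · exact (h1 a ha).symm
    · have := h2 _ ha
      rw [uxu] at this
      exact this.symm

end PF3x

section PF3
theorem Emb.IsC0.pn {E : Emb m G} {C0 : Subgroup G} (h : E.IsC0 C0) (hz : E.Cen)
    (hO : oddCore G = ⊥) : E.PN (E.N1 C0) where
  cen := hz
  core := hO
  mem x := ⟨fun hx => W.cent_Q2 fun d hd => E.inj (by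
    have := PF3x.comm h hz hO _ hx _ (PF3x.mem_N1 E C0 (W.u_Q2.2 hd))
    rw [map_mul, map_mul, PF3x.uxu] at this
    rw [map_mul, map_mul, this]), PF3x.mem_N1 E C0⟩
  comm := PF3x.comm h hz hO
  inf a ha ha' := PF3x.cent h hz hO a (fun b hb => by
    have := PF3x.comm h hz hO b hb _ ha'
    rw [PF3x.uxu] at this
    exact this.symm) (PF3x.comm h hz hO a ha)
  norm := PF3x.norm h
  cent := PF3x.cent h hz hO
theorem Emb.exists_pn (E : Emb m G) : ∃ N, E.bar.PN N := by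
  obtain ⟨C0, h⟩ := E.bar.exists_C0 E.bar_Cen
  exact ⟨_, h.pn E.bar_Cen (H2.pPrimeCore_quotient_pPrimeCore 2 _)⟩
end PF3

end H20.P4
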