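import Mathlib
import Cfsg.Agent.H20.P0
import Cfsg.Agent.H20.PG0
import Cfsg.Agent.H24.Base2

set_option autoImplicit false
set_option linter.unusedVariables false
set_option linter.unusedSectionVars false

namespace H20.P4

open Cfsg Subgroup
open scoped MatrixGroups

universe u

variable {m : ℕ} {G : Type u} [Group G] [Finite G]

/-! ### PFR -/
namespace PFRx
open scoped IsMulCommutative

theorem odd_of_max {A M : Subgroup G} (hA : IsPGroup 2 A) (hAM : A ≤ M)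
    (h : ∀ Q : Subgroup G, IsPGroup 2 Q → A ≤ Q → Q ≤ M → Nat.card Q ≤ Nat.card A) :
    Odd (A.relIndex M) := by
  have s : H24.Syl 2 M A := H24.syl_of_max Nat.prime_two (H24.isPi_of_isPGroup Nat.prime_two hA) hAM
    fun Q hQ h1 h2 => (eq_of_le_of_card_ge h1 (h Q (hQ.isPGroup Nat.prime_two) h1 h2)).ge
  have := s.not_dvd Nat.prime_two
  exact Nat.odd_iff.2 (by omega)

theorem card_le_of_conj {A B : Subgroup G} (g : G) (h : ∀ a ∈ A, g * a * g⁻¹ ∈ B) :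
    Nat.card A ≤ Nat.card B :=
  Nat.card_le_card_of_injective (fun a : A => (⟨g * a * g⁻¹, h a a.2⟩ : B)) fun a b e => by
    have : g * (a : G) * g⁻¹ = g * b * g⁻¹ := congrArg Subtype.val e
    exact Subtype.ext (by simpa using this)

theorem pgroup_of_sq {A : Subgroup G} (h : ∀ a ∈ A, a * a = 1) : IsPGroup 2 A := fun a =>
  ⟨1, Subtype.ext (by simpa [sq] using h a a.2)⟩

theorem zp_sq {b : G} (hb : b * b = 1) : IsPGroup 2 (zpowers b) := pgroup_of_sq (by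
  rintro _ ⟨n, rfl⟩
  show b ^ n * b ^ n = 1
  rw [← (Commute.refl b).mul_zpow, hb, one_zpow])

theorem perm3 {a b c : Fin 5} (h1 : a ≠ b) (h2 : a ≠ c) (h3 : b ≠ c) {p q r : Fin 5} (k1 : p ≠ q)
    (k2 : p ≠ r) (k3 : q ≠ r) : ∃ σ : Equiv.Perm (Fin 5), σ p = a ∧ σ q = b ∧ σ r = c := by
  obtain ⟨σ, hσ⟩ := Equiv.Perm.exists_extending_pair (f := ![p, q, r]) (g := ![a, b, c])
    (by intro i j; fin_cases i <;> fin_cases j <;> simp [*, eq_comm])
    (by intro i j; fin_cases i <;> fin_cases j <;> simp [*, eq_comm])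
  exact ⟨σ, hσ 0, hσ 1, hσ 2⟩

theorem perm4 {a b c d : Fin 5} (h1 : a ≠ b) (h2 : a ≠ c) (h3 : b ≠ c) (h4 : a ≠ d) (h5 : b ≠ d)
    (h6 : c ≠ d) : ∃ σ : Equiv.Perm (Fin 5), σ 0 = a ∧ σ 1 = b ∧ σ 2 = c ∧ σ 3 = d := by
  obtain ⟨σ, hσ⟩ := Equiv.Perm.exists_extending_pair (f := (![0, 1, 2, 3] : Fin 4 → Fin 5))
    (g := ![a, b, c, d]) (by decide)
    (by intro i j; fin_cases i <;> fin_cases j <;> simp [*, eq_comm])
  exact ⟨σ, hσ 0, hσ 1, hσ 2, hσ 3⟩

/-- `(c, r^j f)` -/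
def uJ (j : R m) (hj : par m j = 0) : W m := ⟨hh m, j, false, true, false, by simp [hj]⟩

/-- frames in `C_S(u)` -/
def frJ (j : R m) (hj : par m j = 0) : Fin 5 → W m :=
  ![W.z m, W.u m, W.u m * W.v m, uJ j hj, uJ j hj * W.y m]

theorem mem_of (j : R m) (hj : par m j = 0) (K : Subgroup (W m)) (hK : ∀ k, frJ j hj k ∈ K) {x : W m}
    (h1 : x.e = false) (h2 : 2 * x.i = 0) (h3 : 2 * (x.j - if x.b then j else 0) = 0) : x ∈ K := by
  have u := hK 1
  have v : W.v m ∈ K := (mul_mem_cancel_left u).1 (hK 2)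
  have w := hK 3
  have y : W.y m ∈ K := (mul_mem_cancel_left w).1 (hK 4)
  have f1 := mul_mem u y
  have f2 := mul_mem w v
  have hi : ∀ (i : R m) (hi : 2 * i = 0) hp, (⟨i, 0, false, false, false, hp⟩ : W m) ∈ K := by
    intro i hi hp
    rcases two_mul_eq_zero hi with rfl | rfl
    exacts [K.one_mem, v]
  have hj' : ∀ (i : R m) (hi : 2 * i = 0) hp, (⟨0, i, false, false, false, hp⟩ : W m) ∈ K := by
    intro i hi hp
    rcases two_mul_eq_zero hi with rfl | rfl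
    exacts [K.one_mem, y]
  have pz : ∀ i : R m, 2 * i = 0 → par m i = 0 := fun i hi => by
    rcases two_mul_eq_zero hi with rfl | rfl <;> simp
  rcases x with ⟨i, j', a, b, e, hp⟩
  simp only at h1 h2 h3
  subst h1
  have a1 := mul_mem (hi i h2 (by simp [pz i h2])) (hj' _ h3 (by simp only [pz _ h3, map_zero]))
  cases a <;> cases b
  · convert a1 using 1; ext <;> simp
  · convert mul_mem a1 f2 using 1; ext <;> simp [frJ, uJ, W.v]
  · convert mul_mem a1 f1 using 1; ext <;> simp [frJ, W.u, W.y]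
  · convert mul_mem (mul_mem a1 f1) f2 using 1; ext <;> simp [frJ, uJ, W.u, W.y, W.v]

theorem frJ_inj (j : R m) (hj : par m j = 0) : Function.Injective (frJ j hj) := by
  have h0 := hh_ne (m := m)
  intro k l e
  rw [W.ext_iff] at e
  fin_cases k <;> fin_cases l <;> first | rfl | simp [frJ, uJ, W.z, W.u, W.v, W.y, h0, h0.symm] at e

theorem frJ_comm (j : R m) (hj : par m j = 0) (k l : Fin 5) :
    frJ j hj k * frJ j hj l = frJ j hj l * frJ j hj k := by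
  fin_cases k <;> fin_cases l <;> ext <;> simp [frJ, uJ, W.z, W.u, W.v, W.y, add_comm]

theorem frJ_prod (j : R m) (hj : par m j = 0) :
    frJ j hj 0 * frJ j hj 1 * frJ j hj 2 * frJ j hj 3 * frJ j hj 4 = 1 := by
  ext <;> simp [frJ, uJ, W.z, W.u, W.v, W.y]
  linear_combination two_hh (m := m)

theorem frJ_cls (j : R m) (hj : par m j = 0) (k : Fin 5) :
    frJ j hj k = W.z m ∨ IsConj (W.u m) (frJ j hj k) := by
  rw [W.conj_u_iff]
  fin_cases k <;> simp [frJ, uJ, W.z, W.u, W.v, W.y]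

theorem frame_J {E : Emb m G} (hW : E.PW) (j : R m) (hj : par m j = 0) :
    E.Frame fun k => E.f (frJ j hj k) :=
  ⟨fun k => (hW _).2 (frJ_cls j hj k), E.inj.comp (frJ_inj j hj),
    fun k l => by rw [← map_mul, frJ_comm, map_mul], by
      simp only [← map_mul, frJ_prod, map_one]⟩

theorem fr0_eq (E : Emb m G) : E.fr0 = fun k => E.f (frJ 0 (map_zero _) k) := by
  funext k; fin_cases k <;> rfl

theorem sq_z {a : W m} (ha : a ∈ Q1 m) (h1 : a * W.u m * a⁻¹ * W.u m = W.u m * (a * W.u m * a⁻¹))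
    (h2 : a * W.u m * a⁻¹ ≠ W.u m) : a * a = W.z m := by
  have uu := W.u_mul_u (m := m)
  have ui : (W.u m)⁻¹ = W.u m := inv_eq_of_mul_eq_one_right uu
  have m2 : W.u m * a * W.u m ∈ Q2 m := W.u_Q1.2 ha
  have c := W.Q1_Q2_comm ha m2
  have e : a * a = W.u m * a * W.u m * (W.u m * a * W.u m) := by
    have e1 : a * (W.u m * a * W.u m)⁻¹ = (W.u m * a * W.u m) * a⁻¹ := by
      rw [mul_inv_rev, mul_inv_rev, ui]
      calc a * (W.u m * (a⁻¹ * W.u m)) = a * W.u m * a⁻¹ * W.u m := by group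
        _ = _ := by rw [h1]; group
    calc a * a = a * (W.u m * a * W.u m)⁻¹ * ((W.u m * a * W.u m) * a) := by group
      _ = (W.u m * a * W.u m) * a⁻¹ * (a * (W.u m * a * W.u m)) := by rw [e1, c]
      _ = _ := by group
  rcases W.Q1_inf_Q2 (mul_mem ha ha) (e ▸ mul_mem m2 m2) with k | k
  · rcases W.Q1_invol ha k with rfl | rfl
    · exact absurd (by simp) h2
    · exact absurd (by rw [← W.z_comm, mul_inv_cancel_right]) h2
  · exact k

/-- `x ^ b` -/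
def pw {A : Type*} [Group A] (b : Bool) (x : A) : A := if b then x else 1

theorem pw_xor {A : Type*} [Group A] {x : A} (h : x * x = 1) (b c : Bool) :
    pw (xor b c) x = pw b x * pw c x := by
  cases b <;> cases c <;> simp [pw, h]

end PFRx

open PFRx

section PFR
namespace Emb
variable {E : Emb m G}
theorem PW.pair_conj (hW : E.PW) {a b : G} (h : E.Pair a b) :
    ∃ g : G, g * a * g⁻¹ = E.z ∧ g * b * g⁻¹ = E.u := by
  obtain ⟨g, h1, h2⟩ := E.ext_z h.za (zpowers b) (zp_sq (E.Z_sq h.zb).1) (by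
    rintro _ ⟨n, rfl⟩
    exact ((show Commute b a from h.comm.symm).zpow_left n))
  obtain ⟨x, hx⟩ := h2 b (mem_zpowers b)
  rcases (hW x).1 (h.zb.trans (isConj_iff.2 ⟨g, hx.symm⟩)) with rfl | k
  · exact absurd (by simpa using h1.trans hx) h.ne
  obtain ⟨c, rfl⟩ := isConj_iff.1 k
  refine ⟨(E.f c)⁻¹ * g, ?_, ?_⟩
  · calc _ = (E.f c)⁻¹ * (g * a * g⁻¹) * E.f c := by group
      _ = _ := by rw [h1, ← map_inv, ← map_mul, ← map_mul, W.z_comm, mul_assoc, inv_mul_cancel, mul_one]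
  · calc _ = (E.f c)⁻¹ * (g * b * g⁻¹) * E.f c := by group
      _ = _ := by rw [← hx, map_mul, map_mul, map_inv]; group

theorem PW.not_Z_mul (hW : E.PW) {a b : G} (h : E.Pair a b) : ¬ E.Z (a * b) := fun k => by
  obtain ⟨g, h1, h2⟩ := hW.pair_conj h
  have : E.Z (E.f (W.u m * W.z m)) := k.trans (isConj_iff.2 ⟨g, by
    rw [W.z_comm, map_mul, ← conj_mul, h1, h2]⟩)
  rcases (hW _).1 this with e | e
  · simpa [W.u, W.z] using congrArg W.a e
  · exact W.not_conj_u e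

theorem PW.not_Z_y (hW : E.PW) : ¬ E.Z E.y := fun k => by
  rcases (hW _).1 k with e | e
  · exact hh_ne (congrArg W.i e).symm
  · simpa [W.y] using W.conj_u_iff.1 e

theorem PW.frame0 (hW : E.PW) : E.Frame E.fr0 := fr0_eq E ▸ frame_J hW _ _

theorem Frame.pair {ζ : Fin 5 → G} (h : E.Frame ζ) {k l : Fin 5} (hkl : k ≠ l) : E.Pair (ζ k) (ζ l) :=
  ⟨h.z k, h.z l, h.inj.ne hkl, h.comm k l⟩

theorem PW.pair_zu (hW : E.PW) : E.Pair E.z E.u := hW.frame0.pair (k := 0) (l := 1) (by decide)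

theorem FG_fr0 : FG E.fr0 = (EE m).map E.f := by
  rw [fr0_eq]
  refine le_antisymm ((closure_le _).2 ?_) ?_
  · rintro _ ⟨k, rfl⟩
    refine ⟨_, ?_, rfl⟩
    have := two_hh (m := m)
    fin_cases k <;> simp [mem_EE, frJ, uJ, W.z, W.u, W.v, W.y, this]
  · rintro _ ⟨x, hx, rfl⟩
    exact mem_of 0 (map_zero _) (comap E.f (FG fun k => E.f (frJ 0 (map_zero _) k)))
      (fun k => Subgroup.subset_closure (Set.mem_range_self k)) hx.1 hx.2.1 (by simpa using hx.2.2)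

/-- `C_S(u)` is a Sylow 2-subgroup of `C(z,u)` -/
theorem PW.syl_X (hW : E.PW) :
    Odd (((centralizer {W.u m}).map E.f).relIndex (centralizer {E.z, E.u})) := by
  refine odd_of_max ((W_p.to_subgroup _).map _) ?_ fun Q hQ h1 h2 => ?_
  · rintro _ ⟨x, hx, rfl⟩ g hg
    rcases hg with rfl | rfl
    · rw [← map_mul, ← map_mul, W.z_comm]
    · rw [← map_mul, ← map_mul, mem_centralizer_singleton_iff.1 hx]
  obtain ⟨g, k1, k2⟩ := E.ext_z (IsConj.refl _) Q hQ fun t ht => (h2 ht _ (.inl rfl)).symm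
  obtain ⟨x, hx⟩ := k2 E.u (h1 ⟨_, mem_centralizer_singleton_iff.2 rfl, rfl⟩)
  rcases (hW x).1 (hW.pair_zu.zb.trans (isConj_iff.2 ⟨g, hx.symm⟩)) with rfl | k
  · exact absurd (by simpa using k1.trans hx) hW.pair_zu.ne
  obtain ⟨c, rfl⟩ := isConj_iff.1 k
  refine card_le_of_conj ((E.f c)⁻¹ * g) fun t ht => ?_
  obtain ⟨d, hd⟩ := k2 t ht
  refine ⟨c⁻¹ * d * c, mem_centralizer_singleton_iff.2 (E.inj ?_), by
    rw [map_mul, map_mul, map_inv, hd]; group⟩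
  have e : E.u = (E.f c)⁻¹ * (g * E.u * g⁻¹) * E.f c := by
    rw [← hx, map_mul, map_mul, map_inv]; group
  have c1 := h2 ht _ (.inr rfl)
  simp only [map_mul, map_inv, hd]
  calc _ = (E.f c)⁻¹ * (g * t * g⁻¹) * E.f c * ((E.f c)⁻¹ * (g * E.u * g⁻¹) * E.f c) := by rw [← e]
    _ = (E.f c)⁻¹ * g * (t * E.u) * g⁻¹ * E.f c := by group
    _ = (E.f c)⁻¹ * (g * E.u * g⁻¹) * E.f c * ((E.f c)⁻¹ * (g * t * g⁻¹) * E.f c) := by
        rw [← c1]; group
    _ = _ := by rw [← e]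

/-- `T₀` is a Sylow 2-subgroup of `C(y)` -/
theorem syl_H (hy : ¬ E.Z E.y) : Odd (((T0 m).map E.f).relIndex (centralizer {E.y})) := by
  refine odd_of_max ((W_p.to_subgroup _).map _) ?_ fun Q hQ h1 h2 => ?_
  · rintro _ ⟨x, hx, rfl⟩
    rw [mem_centralizer_singleton_iff, ← map_mul, ← map_mul, W.cent_y.2 hx]
  by_contra hlt
  obtain ⟨g, hg⟩ := H24.G2S.exists_conj_le_sylow E.S Q hQ
  have c0 : Nat.card ((T0 m).map E.f) * 2 = Nat.card E.f.range := by
    rw [card_map_of_injective E.inj, ← W.index_T0 (m := m), card_mul_index]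
    exact Nat.card_congr (MonoidHom.ofInjective E.inj).toEquiv
  obtain ⟨k, hk⟩ := card_dvd_of_le h1
  have c1 : Nat.card E.f.range ≤ Nat.card (H24.cj g Q) := by
    rw [H24.card_cj, ← c0, hk]
    refine Nat.mul_le_mul_left _ ?_
    rcases k with _ | _ | k
    · exact absurd hk (by simpa using Nat.card_pos.ne')
    · exact absurd (by omega) hlt
    · omega
  have e : H24.cj g Q = E.f.range := eq_of_le_of_card_ge (by
    rintro _ ⟨q, hq, rfl⟩; exact hg q hq) c1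
  obtain ⟨x, hx⟩ := E.exists_eq (hg _ (h1 ⟨W.y m, rfl, rfl⟩))
  rcases W.center_eq (x := x) (fun d => E.inj (by
    obtain ⟨q, hq, e1⟩ := H24.mem_cj'.1 (show E.f d ∈ H24.cj g Q by rw [e]; exact ⟨d, rfl⟩)
    rw [map_mul, map_mul, e1, hx, conj_mul, conj_mul, mem_centralizer_singleton_iff.1 (h2 hq)])) with
    rfl | rfl
  · rw [map_one, eq_comm, conj_eq_one_iff, map_eq_one_iff _ E.inj] at hx
    exact hh_ne (congrArg W.j hx)
  · exact hy (isConj_iff.2 ⟨g, hx.symm⟩ : IsConj _ _).symm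

open scoped IsMulCommutative in
theorem Frame.perm {ζ : Fin 5 → G} (h : E.Frame ζ) (σ : Equiv.Perm (Fin 5)) : E.Frame (ζ ∘ σ) := by
  refine ⟨fun k => h.z _, h.inj.comp σ.injective, fun k l => h.comm _ _, ?_⟩
  have : IsMulCommutative (FG ζ) := isMulCommutative_closure (by
    rintro _ ⟨k, rfl⟩ _ ⟨l, rfl⟩; exact h.comm k l)
  let ζ' : Fin 5 → FG ζ := fun k => ⟨ζ k, subset_closure ⟨k, rfl⟩⟩
  have e1 : ∏ k, ζ' k = 1 := by rw [Fin.prod_univ_five]; exact Subtype.ext h.prod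
  rw [← Equiv.prod_comp σ, Fin.prod_univ_five] at e1
  exact congrArg Subtype.val e1

theorem Frame.conj {ζ : Fin 5 → G} (h : E.Frame ζ) (g : G) : E.Frame fun k => g * ζ k * g⁻¹ :=
  ⟨fun k => (h.z k).trans (isConj_iff.2 ⟨g, rfl⟩), fun k l e => h.inj (by simpa using e),
    fun k l => by rw [conj_mul, conj_mul, h.comm], by
      simp only [conj_mul, h.prod, mul_one, mul_inv_cancel]⟩

theorem Frame.PFR_sq {ζ : Fin 5 → G} (h : E.Frame ζ) (k : Fin 5) : ζ k * ζ k = 1 := (E.Z_sq (h.z k)).1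

theorem Frame.PFR_three {ζ : Fin 5 → G} (h : E.Frame ζ) : ζ 0 * (ζ 1 * ζ 2) = ζ 3 * ζ 4 := by
  have e : ζ 3 * ζ 4 * (ζ 3 * ζ 4) = 1 := by
    rw [mul_assoc, ← mul_assoc (ζ 4), h.comm 4 3, mul_assoc, h.PFR_sq, mul_one, h.PFR_sq]
  calc ζ 0 * (ζ 1 * ζ 2) = ζ 0 * (ζ 1 * ζ 2) * (ζ 3 * ζ 4 * (ζ 3 * ζ 4)) := by rw [e, mul_one]
    _ = ζ 0 * ζ 1 * ζ 2 * ζ 3 * ζ 4 * (ζ 3 * ζ 4) := by group
    _ = _ := by rw [h.prod, one_mul]

theorem Frame.PFR_four {ζ : Fin 5 → G} (h : E.Frame ζ) : ζ 0 * ζ 1 * (ζ 2 * ζ 3) = ζ 4 := by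
  calc ζ 0 * ζ 1 * (ζ 2 * ζ 3) = ζ 0 * ζ 1 * (ζ 2 * ζ 3) * (ζ 4 * ζ 4) := by rw [h.PFR_sq, mul_one]
    _ = ζ 0 * ζ 1 * ζ 2 * ζ 3 * ζ 4 * ζ 4 := by group
    _ = _ := by rw [h.prod, one_mul]

theorem Frame.PFR_ne {ζ : Fin 5 → G} (h : E.Frame ζ) {k l : Fin 5} (hkl : k ≠ l) : ζ k * ζ l ≠ 1 :=
  fun e => hkl (h.inj (mul_right_cancel (e.trans (h.PFR_sq l).symm)))

theorem Frame.mem {ζ : Fin 5 → G} (h : E.Frame ζ) {t : G} (ht : t ∈ FG ζ) :
    t = 1 ∨ (∃ k, t = ζ k) ∨ ∃ k l, k ≠ l ∧ t = ζ k * ζ l := by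
  have step : ∀ j, ∀ t : G, (t = 1 ∨ (∃ k, t = ζ k) ∨ ∃ k l, k ≠ l ∧ t = ζ k * ζ l) →
      (ζ j * t = 1 ∨ (∃ k, ζ j * t = ζ k) ∨ ∃ k l, k ≠ l ∧ ζ j * t = ζ k * ζ l) := by
    rintro j _ (rfl | ⟨k, rfl⟩ | ⟨k, l, hkl, rfl⟩)
    · exact .inr (.inl ⟨j, mul_one _⟩)
    · by_cases e : j = k
      · exact .inl (by rw [e, h.PFR_sq])
      · exact .inr (.inr ⟨j, k, e, rfl⟩)
    · by_cases e : j = k
      · exact .inr (.inl ⟨l, by rw [e, ← mul_assoc, h.PFR_sq, one_mul]⟩)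
      by_cases e' : j = l
      · exact .inr (.inl ⟨k, by rw [e', h.comm k l, ← mul_assoc, h.PFR_sq, one_mul]⟩)
      obtain ⟨σ, rfl, rfl, rfl⟩ := perm3 e e' hkl (p := 0) (q := 1) (r := 2) (by decide) (by decide)
        (by decide)
      exact .inr (.inr ⟨σ 3, σ 4, σ.injective.ne (by decide), (h.perm σ).PFR_three⟩)
  induction ht using closure_induction_left with
  | one => exact .inl rfl
  | mul_left x hx y hy ih => obtain ⟨j, rfl⟩ := hx; exact step j y ih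
  | inv_mul_cancel x hx y hy ih =>
    obtain ⟨j, rfl⟩ := hx
    rw [inv_eq_of_mul_eq_one_right (h.PFR_sq j)]; exact step j y ih

theorem Frame.PFR_el {ζ : Fin 5 → G} (h : E.Frame ζ) {t : G} (ht : t ∈ FG ζ) : t * t = 1 := by
  rcases h.mem ht with rfl | ⟨k, rfl⟩ | ⟨k, l, -, rfl⟩
  · simp
  · exact h.PFR_sq k
  · rw [mul_assoc, ← mul_assoc (ζ l), h.comm l k, mul_assoc, h.PFR_sq, mul_one, h.PFR_sq]

theorem Frame.ea {ζ : Fin 5 → G} (h : E.Frame ζ) : IsElementaryAbelian 2 (FG ζ) :=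
  ⟨isMulCommutative_closure (by rintro _ ⟨k, rfl⟩ _ ⟨l, rfl⟩; exact h.comm k l),
    fun a ha => by rw [sq, h.PFR_el ha]⟩

open scoped IsMulCommutative in
theorem Frame.card (hW : E.PW) {ζ : Fin 5 → G} (h : E.Frame ζ) : Nat.card (FG ζ) = 16 := by
  have := h.ea.1
  let ζ' : Fin 5 → FG ζ := fun k => ⟨ζ k, subset_closure ⟨k, rfl⟩⟩
  have sq : ∀ k, ζ' k * ζ' k = 1 := fun k => Subtype.ext (h.PFR_sq k)
  let ev : Bool × Bool × Bool × Bool → FG ζ := fun c =>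
    pw c.1 (ζ' 0) * pw c.2.1 (ζ' 1) * (pw c.2.2.1 (ζ' 2) * pw c.2.2.2 (ζ' 3))
  let xr : Bool × Bool × Bool × Bool → Bool × Bool × Bool × Bool → Bool × Bool × Bool × Bool :=
    fun c d => (xor c.1 d.1, xor c.2.1 d.2.1, xor c.2.2.1 d.2.2.1, xor c.2.2.2 d.2.2.2)
  have hx : ∀ c d, ev (xr c d) = ev c * ev d := fun c d => by
    simp only [ev, xr, pw_xor (sq _)]
    ac_rfl
  have h3 : ∀ a b c : Fin 5, a ≠ b → a ≠ c → b ≠ c → ζ a * (ζ b * ζ c) ≠ 1 := fun a b c h1 h2 h3 => by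
    obtain ⟨σ, rfl, rfl, rfl⟩ := perm3 h1 h2 h3 (p := 0) (q := 1) (r := 2) (by decide) (by decide)
      (by decide)
    exact fun e => h.PFR_ne (σ.injective.ne (by decide)) ((h.perm σ).PFR_three.symm.trans e)
  have h1 : ∀ k, ζ k ≠ 1 := fun k => (E.Z_sq (h.z k)).2
  have ker : ∀ c, ev c = 1 → c = (false, false, false, false) := by
    rintro ⟨a, b, c, d⟩ e
    have e' : ((ev (a, b, c, d) : FG ζ) : G) = 1 := congrArg Subtype.val e
    cases a <;> cases b <;> cases c <;> cases d <;>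
      simp only [ev, pw, ζ', if_true, Bool.false_eq_true, if_false, one_mul, mul_one, coe_mul] at e' <;>
      first
      | rfl
      | exact absurd e' (h1 _)
      | exact absurd e' (h.PFR_ne (by decide))
      | exact absurd e' (h3 _ _ _ (by decide) (by decide) (by decide))
      | exact absurd (h.PFR_four.symm.trans e') (h1 _)
      | exact absurd ((mul_assoc _ _ _).symm.trans e') (h3 _ _ _ (by decide) (by decide) (by decide))
  have gen : ∀ k, ∃ c, ev c = ζ' k := fun k => by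
    fin_cases k
    · exact ⟨(true, false, false, false), by simp [ev, pw]⟩
    · exact ⟨(false, true, false, false), by simp [ev, pw]⟩
    · exact ⟨(false, false, true, false), by simp [ev, pw]⟩
    · exact ⟨(false, false, false, true), by simp [ev, pw]⟩
    · exact ⟨(true, true, true, true), Subtype.ext h.PFR_four⟩
  rw [← Nat.card_eq_of_bijective ev ⟨fun c d e => ?_, fun t => ?_⟩]
  · simp
  · have := ker (xr c d) (by rw [hx, e]; exact Subtype.ext (h.PFR_el (ev d).2))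
    clear e
    revert c d
    decide
  · rcases h.mem t.2 with e | ⟨k, e⟩ | ⟨k, l, -, e⟩
    · exact ⟨(false, false, false, false), Subtype.ext (by simp [ev, pw, e])⟩
    · obtain ⟨c, hc⟩ := gen k
      exact ⟨c, hc.trans (Subtype.ext e.symm)⟩
    · obtain ⟨c, hc⟩ := gen k
      obtain ⟨d, hd⟩ := gen l
      exact ⟨xr c d, by rw [hx, hc, hd]; exact Subtype.ext e.symm⟩

/-- hyperplanes -/
theorem Frame.hyp (hW : E.PW) {ζ : Fin 5 → G} (h : E.Frame ζ) {B : Subgroup G} (hB : B ≤ FG ζ)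
    (h8 : Nat.card B = 8) : ζ 2 ∈ B ∨ ζ 3 ∈ B ∨ ζ 4 ∈ B ∨ (ζ 0 ∈ B ∧ ζ 1 * ζ 2 ∈ B) ∨
      (ζ 1 ∈ B ∧ ζ 0 * ζ 2 ∈ B) := by
  have i2 : (B.subgroupOf (FG ζ)).index = 2 := by
    have := (B.subgroupOf (FG ζ)).card_mul_index
    rw [h.card hW, Nat.card_congr (subgroupOfEquivOfLe hB).toEquiv, h8] at this
    omega
  have m : ∀ k, ζ k ∈ FG ζ := fun k => subset_closure ⟨k, rfl⟩
  have key : ∀ x ∈ FG ζ, ∀ y ∈ FG ζ, (x * y ∈ B ↔ (x ∈ B ↔ y ∈ B)) := fun x hx y hy =>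
    mul_mem_iff_of_index_two i2 (a := ⟨x, hx⟩) (b := ⟨y, hy⟩)
  have e := key _ (m 3) _ (m 4)
  rw [← h.PFR_three, key _ (m 0) _ (mul_mem (m 1) (m 2)), key _ (m 1) _ (m 2)] at e
  rw [key _ (m 1) _ (m 2), key _ (m 0) _ (m 2)]
  tauto

/-- four-subgroups -/
theorem Frame.four (hW : E.PW) {ζ : Fin 5 → G} (h : E.Frame ζ) {D : Subgroup G} (hD : D ≤ FG ζ)
    (h4 : Nat.card D = 4) : (∃ k, ζ k ∈ D) ∨ ∃ σ : Equiv.Perm (Fin 5),
      ζ (σ 2) * ζ (σ 3) ∈ D ∧ ζ (σ 3) * ζ (σ 4) ∈ D := by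
  by_cases h0 : ∃ k, ζ k ∈ D
  · exact .inl h0
  right
  have ex : ∀ d1 : G, ∃ d ∈ D, d ≠ 1 ∧ d ≠ d1 := fun d1 => by
    by_contra hn
    push Not at hn
    have : (D : Set G) ⊆ {1, d1} := fun d hd => by
      by_cases e : d = 1
      exacts [.inl e, .inr (hn d hd e)]
    have c := (Set.ncard_le_ncard this).trans (Set.ncard_insert_le _ _)
    rw [Set.ncard_singleton, ← Nat.card_coe_set_eq] at c
    have : Nat.card D ≤ 2 := c
    omega
  have form : ∀ d ∈ D, d ≠ 1 → ∃ k l, k ≠ l ∧ d = ζ k * ζ l := fun d hd h1 =>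
    ((h.mem (hD hd)).resolve_left h1).resolve_left fun ⟨k, e⟩ => h0 ⟨k, e ▸ hd⟩
  obtain ⟨d1, m1, n1, -⟩ := ex 1
  obtain ⟨d2, m2, n2, n3⟩ := ex d1
  obtain ⟨k, l, hkl, rfl⟩ := form d1 m1 n1
  obtain ⟨p, q, hpq, rfl⟩ := form d2 m2 n2
  have fin : ∀ a b c : Fin 5, a ≠ b → a ≠ c → b ≠ c → ζ a * ζ b ∈ D → ζ b * ζ c ∈ D →
      ∃ σ : Equiv.Perm (Fin 5), ζ (σ 2) * ζ (σ 3) ∈ D ∧ ζ (σ 3) * ζ (σ 4) ∈ D := by
    intro a b c h1 h2 h3 k1 k2
    obtain ⟨σ, rfl, rfl, rfl⟩ := perm3 h1 h2 h3 (p := 2) (q := 3) (r := 4) (by decide) (by decide)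
      (by decide)
    exact ⟨σ, k1, k2⟩
  have m1' := h.comm k l ▸ m1
  have m2' := h.comm p q ▸ m2
  by_cases e1 : k = p
  · subst e1
    exact fin l k q hkl.symm (fun e => n3 (by rw [e])) hpq m1' m2
  by_cases e2 : k = q
  · subst e2
    exact fin l k p hkl.symm (fun e => n3 (by rw [e, h.comm])) hpq.symm m1' m2'
  by_cases e3 : l = p
  · subst e3
    exact fin k l q hkl e2 hpq m1 m2
  by_cases e4 : l = q
  · subst e4
    exact fin k l p hkl e1 hpq.symm m1 m2'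
  obtain ⟨σ, rfl, rfl, rfl, rfl⟩ := perm4 hkl e1 e3 e2 e4 hpq
  have e5 : ζ (σ 0) * ζ (σ 1) * (ζ (σ 2) * ζ (σ 3)) = ζ (σ 4) := (h.perm σ).PFR_four
  exact absurd ⟨σ 4, e5 ▸ mul_mem m1 m2⟩ h0

/-- standard position -/
theorem Frame.std (hW : E.PW) {ζ : Fin 5 → G} (h : E.Frame ζ) : ∃ g : G, g * ζ 0 * g⁻¹ = E.z ∧
    g * ζ 1 * g⁻¹ = E.u ∧ ∃ a ∈ Q1 m, ∃ b ∈ Q1 m, a * a = W.z m ∧ b * b = W.z m ∧
      a * b = b * a * W.z m ∧ g * ζ 2 * g⁻¹ = E.f (a * W.u m * a⁻¹) ∧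
      g * ζ 3 * g⁻¹ = E.f (b * W.u m * b⁻¹) := by
  have m0 : ∀ k, ζ k ∈ FG ζ := fun k => subset_closure ⟨k, rfl⟩
  obtain ⟨g, k1, k2⟩ := E.ext_z (h.z 0) (FG ζ) (pgroup_of_sq fun a ha => h.PFR_el ha)
    fun t ht => congrArg Subtype.val (h.ea.1.is_comm.comm (⟨t, ht⟩ : FG ζ) ⟨_, m0 0⟩)
  choose x hx using fun k => k2 _ (m0 k)
  have cls : ∀ k ≠ 0, IsConj (W.u m) (x k) := fun k hk =>
    ((hW _).1 ((h.z k).trans (isConj_iff.2 ⟨g, (hx k).symm⟩))).resolve_left fun e =>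
      hk (h.inj (by simpa using (hx k).symm.trans ((congrArg E.f e).trans k1.symm)))
  obtain ⟨c, hc⟩ := isConj_iff.1 (cls 1 (by decide)).symm
  have hx' : ∀ k, E.f c * g * ζ k * (E.f c * g)⁻¹ = E.f (c * x k * c⁻¹) := fun k => by
    rw [map_mul, map_mul, map_inv, hx]; group
  have cls' : ∀ k ≠ 0, ∃ a ∈ Q1 m, c * x k * c⁻¹ = a * W.u m * a⁻¹ := fun k hk =>
    W.conj_u ((cls k hk).trans (isConj_iff.2 ⟨c, rfl⟩))
  have cm : ∀ k l, c * x k * c⁻¹ * (c * x l * c⁻¹) = c * x l * c⁻¹ * (c * x k * c⁻¹) := fun k l =>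
    E.inj (by rw [map_mul, map_mul E.f (c * x l * c⁻¹), ← hx', ← hx', conj_mul, conj_mul, h.comm])
  have ne : ∀ k l, k ≠ l → c * x k * c⁻¹ ≠ c * x l * c⁻¹ := fun k l hkl e =>
    hkl (h.inj (by simpa using (hx' k).trans ((congrArg E.f e).trans (hx' l).symm)))
  obtain ⟨a, ha, ea⟩ := cls' 2 (by decide)
  obtain ⟨b, hb, eb⟩ := cls' 3 (by decide)
  have a2 := sq_z ha (by rw [← ea, ← hc]; exact cm 2 1) (by rw [← ea, ← hc]; exact ne 2 1 (by decide))
  have b2 := sq_z hb (by rw [← eb, ← hc]; exact cm 3 1) (by rw [← eb, ← hc]; exact ne 3 1 (by decide))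
  have c23 := cm 3 2
  have n23 := ne 3 2 (by decide)
  rw [ea, eb] at c23 n23
  have ab := sq_z (mul_mem (inv_mem ha) hb) (by
    calc _ = a⁻¹ * (b * W.u m * b⁻¹ * (a * W.u m * a⁻¹)) * a := by group
      _ = _ := by rw [c23]; group) (fun e => n23 (by
    calc b * W.u m * b⁻¹ = a * (a⁻¹ * b * W.u m * (a⁻¹ * b)⁻¹) * a⁻¹ := by group
      _ = _ := by rw [e]))
  refine ⟨E.f c * g, ?_, by rw [hx', hc], a, ha, b, hb, a2, b2, ?_, by rw [hx', ea], by rw [hx', eb]⟩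
  · calc _ = E.f c * (g * ζ 0 * g⁻¹) * (E.f c)⁻¹ := by group
      _ = _ := by rw [k1, ← map_mul, W.z_comm, map_mul, mul_inv_cancel_right]
  · have zz := W.z_mul_z (m := m)
    calc a * b = a * a * (a⁻¹ * b * (a⁻¹ * b)) * b⁻¹ * a := by group
      _ = (b * b)⁻¹ * (b * a) := by rw [a2, ab, zz]; group
      _ = _ := by rw [b2, inv_eq_of_mul_eq_one_right zz, ← W.z_comm]

/-- an elementary abelian subgroup of order 8 of `C_S(u)` through `z, u` lies with `B0` in a frame group -/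
theorem PW.frame_of (hW : E.PW) {B : Subgroup G} (hB : B ≤ (centralizer {W.u m}).map E.f)
    (h2 : ∀ b ∈ B, b * b = 1) (h8 : Nat.card B = 8) (hz : E.z ∈ B) (hu : E.u ∈ B) :
    ∃ ζ, E.Frame ζ ∧ B ≤ FG ζ ∧ E.B0 ≤ FG ζ := by
  have cu : ∀ x : W m, x ∈ centralizer {W.u m} → x.e = false ∧ 2 * x.i = 0 := by
    rintro ⟨i, j, a, b, e, hp⟩ hx
    rw [mem_centralizer_singleton_iff] at hx
    have ea := congrArg W.a hx
    have ei := congrArg W.i hx
    cases e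
    · refine ⟨rfl, ?_⟩
      simp [W.u] at ei
      linear_combination ei
    · cases a <;> simp [W.u] at ea
  have hBx : ∀ x : W m, E.f x ∈ B → x.e = false ∧ 2 * x.i = 0 := fun x hx => by
    obtain ⟨y, hy, e⟩ := hB hx
    exact E.inj e ▸ cu y hy
  have sqx : ∀ x : W m, E.f x ∈ B → x * x = 1 := fun x hx =>
    E.inj (by rw [map_mul, h2 _ hx, map_one])
  have j0 : ∀ x : W m, E.f x ∈ B → x.b = false → 2 * x.j = 0 := fun x hx hb => by
    have := congrArg W.j (sqx x hx)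
    simp [(hBx x hx).1, hb] at this
    linear_combination this
  obtain ⟨j, hj, hJ⟩ : ∃ j, par m j = 0 ∧ ∀ x : W m, E.f x ∈ B → x.b = true → 2 * (x.j - j) = 0 := by
    by_cases ex : ∃ x : W m, E.f x ∈ B ∧ x.b = true
    · obtain ⟨x, hx, hb⟩ := ex
      refine ⟨x.j, ?_, fun y hy hb' => ?_⟩
      · rw [← x.hp]
        rcases two_mul_eq_zero (hBx x hx).2 with e | e <;> simp [e]
      · have := j0 (y * x) (by rw [map_mul]; exact mul_mem hy hx) (by simp [(hBx y hy).1, hb, hb'])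
        simp only [mul_j, (hBx y hy).1, hb', sg_true, Bool.false_eq_true, if_false] at this
        linear_combination this
    · exact ⟨0, map_zero _, fun x hx hb => absurd ⟨x, hx, hb⟩ ex⟩
  have gen : ∀ k, E.f (frJ j hj k) ∈ FG fun k => E.f (frJ j hj k) := fun k => subset_closure ⟨k, rfl⟩
  refine ⟨_, frame_J hW j hj, fun t ht => ?_, (closure_le _).2 ?_⟩
  · obtain ⟨x, -, rfl⟩ := hB ht
    refine mem_of j hj (comap E.f (FG fun k => E.f (frJ j hj k))) gen (hBx x ht).1 (hBx x ht).2 ?_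
    cases hb : x.b
    · simpa using j0 x ht hb
    · simpa using hJ x ht hb
  · rintro _ (rfl | rfl | rfl)
    exacts [gen 0, gen 1, mem_of (x := W.y m) j hj (comap E.f (FG fun k => E.f (frJ j hj k))) gen rfl
      (by simp [W.y]) (by simp [W.y, two_hh])]

theorem card_B0 : Nat.card E.B0 = 8 := by
  have h2 := two_hh (m := m)
  let K : Subgroup (W m) := closure {W.z m, W.u m, W.y m}
  have e : E.B0 = K.map E.f := by
    rw [MonoidHom.map_closure, Set.image_insert_eq, Set.image_pair]; rfl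
  have le : ∀ x ∈ K, x ∈ EE m ∧ x.b = false := fun x hx => by
    induction hx using closure_induction with
    | mem x hx => rcases hx with rfl | rfl | rfl <;> simp [mem_EE, W.z, W.u, W.y, h2]
    | one => exact ⟨one_mem _, rfl⟩
    | mul x y _ _ a b => exact ⟨mul_mem a.1 b.1, by simp [a.1.1, a.2, b.2]⟩
    | inv x _ a => exact ⟨inv_mem a.1, by simp [a.1.1, a.2]⟩
  have z : W.z m ∈ K := subset_closure (by simp)
  have u : W.u m ∈ K := subset_closure (by simp)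
  have y : W.y m ∈ K := subset_closure (by simp)
  have ge : ∀ x ∈ EE m, x.b = false → x ∈ K := by
    rintro ⟨i, j, a, b, e, hp⟩ ⟨h1, h3, h4⟩ hb
    simp only at h1 h3 h4 hb
    subst h1 hb
    rcases two_mul_eq_zero h3 with rfl | rfl <;> rcases two_mul_eq_zero h4 with rfl | rfl <;> cases a
    · exact K.one_mem
    · convert mul_mem u y using 1; ext <;> simp [W.u, W.y]
    · exact y
    · exact u
    · convert mul_mem z y using 1; ext <;> simp [W.z, W.y]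
    · convert mul_mem z u using 1; ext <;> simp [W.z, W.u]
    · exact z
    · convert mul_mem (mul_mem z u) y using 1; ext <;> simp [W.z, W.u, W.y]
  have u' : W.u' m ∈ EE m := by simp [mem_EE, W.u', h2]
  have i2 : K.relIndex (EE m) = 2 := relIndex_eq_two_iff.2 ⟨_, u', fun x hx => by
    cases hb : x.b
    · exact .inr ⟨ge x hx hb, fun k => by simpa [hx.1, hb, W.u'] using (le _ k).2⟩
    · exact .inl ⟨ge _ (mul_mem hx u') (by simp [hx.1, hb, W.u']), fun k => by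
        simpa [hb] using (le _ k).2⟩⟩
  have := (K.subgroupOf (EE m)).card_mul_index
  rw [W.card_EE, Nat.card_congr (subgroupOfEquivOfLe fun x hx => (le x hx).1).toEquiv] at this
  rw [e, card_map_of_injective E.inj]
  change _ * K.relIndex (EE m) = _ at this
  rw [i2] at this
  omega
end Emb
end PFR

end H20.P4
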