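import Mathlib
import Cfsg.Agent.H20.P0
import Cfsg.Agent.H20.PFR
import Cfsg.Agent.H20.PF3
import Cfsg.Agent.H3.PNil
import Cfsg.Agent.H2.Cores
import Cfsg.Agent.S0215

set_option autoImplicit false
set_option linter.unusedVariables false
set_option linter.unusedSectionVars false

namespace H20.P4

open Cfsg Subgroup
open scoped MatrixGroups

universe u

variable {m : ℕ} {G : Type u} [Group G] [Finite G]

namespace PF9x

section abstract
variable {H : Type*} [Group H] [Finite H]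

/-- the subgroup generated by the elements of odd order -/
abbrev Od (H : Type*) [Group H] : Subgroup H := closure {g : H | Odd (orderOf g)}

instance Od_normal : (Od H).Normal := by
  refine ⟨fun x hx g => ?_⟩
  induction hx using closure_induction with
  | mem x hx =>
    refine subset_closure ?_
    have : orderOf (g * x * g⁻¹) = orderOf x := by
      simpa using (MulAut.conj g).orderOf_eq x
    show Odd (orderOf _)
    rw [this]; exact hx
  | one => simp
  | mul x y _ _ hx hy =>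
    have : g * (x * y) * g⁻¹ = g * x * g⁻¹ * (g * y * g⁻¹) := by group
    rw [this]; exact mul_mem hx hy
  | inv x _ hx =>
    have : g * x⁻¹ * g⁻¹ = (g * x * g⁻¹)⁻¹ := by group
    rw [this]; exact inv_mem hx

theorem transfer_invol {A : Type*} [CommGroup A] {T : Subgroup H} (hT : Odd T.index) (φ : T →* A)
    {x : H} (hx : x ∈ T) (h2 : x * x = 1)
    (hc : ∀ (g : H) (h : g⁻¹ * x * g ∈ T), φ ⟨_, h⟩ = φ ⟨x, hx⟩) :
    MonoidHom.transfer φ x = φ ⟨x, hx⟩ := by
  have ha2 : φ ⟨x, hx⟩ ^ 2 = 1 := by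
    rw [sq, ← map_mul]
    have : (⟨x, hx⟩ : T) * ⟨x, hx⟩ = 1 := Subtype.ext h2
    rw [this, map_one]
  have hx2 : x ^ 2 = 1 := by rw [sq, h2]
  have key : MonoidHom.transfer φ x = φ ⟨x, hx⟩ ^ T.index := by
    refine H3.transfer_eq_pow_of_forall φ x _ fun k g hk => ?_
    rcases Nat.even_or_odd' k with ⟨j, rfl | rfl⟩
    · rw [pow_mul (φ _), ha2, one_pow]
      have : (⟨g⁻¹ * x ^ (2 * j) * g, hk⟩ : T) = 1 := Subtype.ext (by simp [pow_mul, hx2])
      rw [this, map_one]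
    · have e : x ^ (2 * j + 1) = x := by rw [pow_succ, pow_mul, hx2, one_pow, one_mul]
      rw [pow_succ (φ _), pow_mul (φ _), ha2, one_pow, one_mul]
      have hk' : g⁻¹ * x * g ∈ T := e ▸ hk
      have : (⟨g⁻¹ * x ^ (2 * j + 1) * g, hk⟩ : T) = ⟨_, hk'⟩ := Subtype.ext (by simp only [e])
      rw [this, hc g hk']
  obtain ⟨j, hj⟩ := hT
  rw [key, hj, pow_succ, pow_mul, ha2, one_pow, one_mul]

theorem map_odd {A : Type*} [Group A] (hA : IsPGroup 2 A) (V : H →* A) {g : H}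
    (hg : Odd (orderOf g)) : V g = 1 := by
  obtain ⟨k, hk⟩ := hA (V g)
  have h1 : orderOf (V g) ∣ 2 ^ k := orderOf_dvd_of_pow_eq_one hk
  have h2 : orderOf (V g) ∣ orderOf g := orderOf_map_dvd V g
  have h3 : Nat.Coprime (orderOf g) (2 ^ k) := ((Nat.coprime_two_right).2 hg).pow_right k
  exact orderOf_eq_one_iff.1 (Nat.eq_one_of_dvd_coprimes h3 h2 h1)

theorem odd_relIndex {T K : Subgroup H} [K.Normal] (hT : Odd T.index) : Odd (T.relIndex K) := by
  have h1 : T.relIndex K * K.index = (T ⊓ K).index := by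
    rw [← inf_relIndex_right, relIndex_mul_index inf_le_right]
  have h2 : K.relIndex T * T.index = (T ⊓ K).index := by
    rw [← inf_relIndex_right, inf_comm, relIndex_mul_index inf_le_left]
  obtain ⟨c, hc⟩ := relIndex_dvd_index_of_normal K T
  have h3 : K.relIndex T ≠ 0 := FiniteIndex.index_ne_zero
  have h4 : T.relIndex K * c = T.index := by
    apply Nat.eq_of_mul_eq_mul_left (Nat.pos_of_ne_zero h3)
    rw [h2, ← h1, hc]; ring
  exact hT.of_dvd_nat ⟨c, h4.symm⟩

/-- two transfers -/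
theorem two_step {A B : Type*} [CommGroup A] [CommGroup B] (hA : IsPGroup 2 A) (hB : IsPGroup 2 B)
    {T : Subgroup H} (hT : Odd T.index) (β : T →* A) (hβ : ∀ x : T, MonoidHom.transfer β x = β x)
    (γ : T → B) (hγ : ∀ a b : T, β a = 1 → β b = 1 → γ (a * b) = γ a * γ b)
    (y : T) (hy1 : β y = 1) (hy2 : (y : H) * y = 1) (hyc : ∀ g : H, g * y = y * g) (hy : γ y ≠ 1) :
    (y : H) ∉ Od H := by
  let K : Subgroup H := (MonoidHom.transfer β).ker
  let T1 : Subgroup K := T.subgroupOf K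
  have hb : ∀ a : T1, β ⟨((a : K) : H), a.2⟩ = 1 := fun a => by
    rw [← hβ]; exact (a : K).2
  let γ1 : T1 →* B := MonoidHom.mk' (fun a => γ ⟨((a : K) : H), a.2⟩) fun a b =>
    hγ ⟨((a : K) : H), a.2⟩ ⟨((b : K) : H), b.2⟩ (hb a) (hb b)
  have hyK : (y : H) ∈ K := by
    show MonoidHom.transfer β y = 1
    rw [hβ, hy1]
  have hT1 : Odd T1.index := odd_relIndex hT
  have hyT : (⟨y, hyK⟩ : K) ∈ T1 := y.2
  have key : MonoidHom.transfer γ1 ⟨y, hyK⟩ = γ1 ⟨⟨y, hyK⟩, hyT⟩ := by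
    refine transfer_invol hT1 γ1 hyT (Subtype.ext hy2) fun g h => ?_
    congr 2
    apply Subtype.ext
    show (g : H)⁻¹ * y * g = y
    rw [mul_assoc, ← hyc, inv_mul_cancel_left]
  have hle : Od H ≤ (MonoidHom.transfer γ1).ker.map K.subtype := by
    refine (closure_le _).2 fun g hg => ?_
    have hgK : g ∈ K := map_odd hA _ hg
    refine ⟨⟨g, hgK⟩, map_odd hB _ ?_, rfl⟩
    rw [← Subgroup.orderOf_coe]; exact hg
  intro hyO
  obtain ⟨k, hk, e⟩ := hle hyO
  have : k = ⟨y, hyK⟩ := Subtype.ext e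
  subst this
  exact hy (key.symm.trans hk)

/-- Z* in `O²(H)⟨a⟩` -/
theorem zstar_od (S : Sylow 2 H) {a : H} (ha : orderOf a = 2)
    (hiso : ∀ g g' : H, g * a * g⁻¹ ∈ (S : Subgroup H) → g' * a * g'⁻¹ ∈ (S : Subgroup H) →
      g * a * g⁻¹ * (g' * a * g'⁻¹) ∈ Od H → g * a * g⁻¹ = g' * a * g'⁻¹)
    {h : H} (hh : Odd (orderOf h)) : h * a * h⁻¹ * a ∈ oddCore H := by
  have haa : a * a = 1 := by rw [← sq, ← ha, pow_orderOf_eq_one]
  have hai : a⁻¹ = a := inv_eq_of_mul_eq_one_right haa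
  let M : Subgroup H := Od H ⊔ zpowers a
  have haM : a ∈ M := mem_sup_right (mem_zpowers a)
  have hao : orderOf (⟨a, haM⟩ : M) = 2 := by rw [← Subgroup.orderOf_coe]; exact ha
  have hp : IsPGroup 2 (zpowers (⟨a, haM⟩ : M)) :=
    IsPGroup.of_card (n := 1) (by rw [Nat.card_zpowers, hao]; rfl)
  obtain ⟨P, hP⟩ := hp.exists_le_sylow
  have hcomm : ∀ k ∈ M, a * (k * a * k⁻¹) ∈ Od H := fun k hk => by
    let π := QuotientGroup.mk' (Od H)
    have hM : M ≤ (centralizer {π a}).comap π := sup_le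
      (fun l hl => by
        have : π l = 1 := (QuotientGroup.eq_one_iff l).2 hl
        rw [mem_comap, this]; exact one_mem _)
      (zpowers_le.2 (mem_centralizer_singleton_iff.2 rfl))
    have h1 : π k * π a = π a * π k := mem_centralizer_singleton_iff.1 (hM hk)
    refine (QuotientGroup.eq_one_iff _).1 ?_
    show π _ = 1
    rw [map_mul, map_mul, map_mul, h1, map_inv, mul_inv_cancel_right, ← map_mul, haa, map_one]
  obtain ⟨N, hN, hodd, hc⟩ := Cfsg.Agent.S0215.result P ⟨a, haM⟩ hao (hP (mem_zpowers _)) fun k hk => by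
    obtain ⟨g, hg⟩ := H24.G2S.exists_conj_le_sylow S _ (P.isPGroup'.map M.subtype)
    have h1 := hg a ⟨⟨a, haM⟩, hP (mem_zpowers _), rfl⟩
    have h2 := hg ((k : H) * a * (k : H)⁻¹) ⟨_, hk, rfl⟩
    have e : g * ((k : H) * a * (k : H)⁻¹) * g⁻¹ = g * k * a * (g * k)⁻¹ := by group
    rw [e] at h2
    have h3 := hiso g (g * k) h1 h2 (by
      have := (Od_normal (H := H)).conj_mem _ (hcomm k k.2) g
      convert this using 1; group)
    apply Subtype.ext
    show (k : H) * a * (k : H)⁻¹ = a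
    calc (k : H) * a * (k : H)⁻¹ = g⁻¹ * (g * k * a * (g * k)⁻¹) * g := by group
      _ = a := by rw [← h3]; group
  have hle : N.map M.subtype ≤ Od H := by
    rintro _ ⟨x, hx, rfl⟩
    refine subset_closure ?_
    show Odd (orderOf (x : H))
    rw [Subgroup.orderOf_coe]
    exact hodd.of_dvd_nat (Subgroup.orderOf_dvd_natCard N hx)
  have hn : ((N.map M.subtype).subgroupOf (Od H)).Normal := ⟨fun x hx l => by
    obtain ⟨n, hn, e⟩ := hx
    refine ⟨⟨(l : H), mem_sup_left l.2⟩ * n * (⟨(l : H), mem_sup_left l.2⟩ : M)⁻¹, hN.conj_mem _ hn _, ?_⟩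
    show (l : H) * n * (l : H)⁻¹ = l * x * (l : H)⁻¹
    rw [show (n : H) = x from e]⟩
  have hsub : (N.map M.subtype).IsSubnormal :=
    IsSubnormal.step _ (Od H) hle (Od_normal (H := H)).isSubnormal hn
  have hO : N.map M.subtype ≤ oddCore H := H2.le_pPrimeCore_of_isSubnormal hsub (by
    rw [card_map_of_injective M.subtype_injective]
    exact (Nat.coprime_two_right).2 hodd)
  have hhM : h ∈ M := mem_sup_left (subset_closure hh)
  have h1 := hO ⟨_, hc ⟨h, hhM⟩, rfl⟩
  have h2 := inv_mem h1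
  have e : ((M.subtype (⟨a, haM⟩ * ⟨h, hhM⟩ * (⟨a, haM⟩ : M)⁻¹ * (⟨h, hhM⟩ : M)⁻¹))⁻¹ : H) =
      h * a * h⁻¹ * a := by
    show (a * h * a⁻¹ * h⁻¹)⁻¹ = _
    calc (a * h * a⁻¹ * h⁻¹)⁻¹ = h * a * h⁻¹ * a⁻¹ := by group
      _ = _ := by rw [hai]
  rwa [e] at h2

end abstract

/-- the reflection coordinate `b` on `T₀` -/
def bz (x : W m) : Multiplicative (ZMod 2) := Multiplicative.ofAdd (if x.b then 1 else 0)

theorem bz_mul {x y : W m} (hx : x.e = false) : bz (x * y) = bz x * bz y := by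
  unfold bz
  rw [mul_b, hx, if_neg Bool.false_ne_true]
  cases x.b <;> cases y.b <;> decide

theorem bz_eq_one {x : W m} : bz x = 1 ↔ x.b = false := by
  unfold bz; cases x.b <;> decide

/-- the pattern of `Z` on `T₀` -/
def PZ (x : W m) : Prop := x = W.z m ∨ IsConj (W.u m) x

theorem PZ_iff {x : W m} : PZ x ↔ x.e = false ∧ ((x.a = false ∧ x.b = false ∧ x.i = hh m ∧ x.j = hh m) ∨
    (x.a = true ∧ x.b = false ∧ x.j = hh m) ∨ (x.a = false ∧ x.b = true ∧ x.i = hh m)) := by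
  unfold PZ
  rw [W.conj_u_iff, W.ext_iff]
  simp only [W.z]
  tauto

theorem b_false_iff {x : W m} (he : x.e = false) (h2 : x * x = 1) :
    x.b = false ↔ x = 1 ∨ x = W.y m ∨ ¬ (PZ x ↔ PZ (x * W.y m)) := by
  rcases x with ⟨i, j, a, b, e, hp⟩
  simp only at he
  subst he
  have hi := congrArg W.i h2
  have hj := congrArg W.j h2
  have hne := hh_ne (m := m)
  simp only [PZ_iff, W.ext_iff, W.y]
  cases a <;> cases b <;> simp at hi hj ⊢
  · rw [← two_mul] at hi hj
    rcases two_mul_eq_zero hi with rfl | rfl <;> rcases two_mul_eq_zero hj with rfl | rfl <;>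
      simp [hne, hne.symm]
  · rw [← two_mul] at hj
    rcases two_mul_eq_zero hj with rfl | rfl <;> simp [hne, hne.symm]

theorem I2_coord {x : W m} (h1 : PZ x) (h2 : PZ (x * W.y m)) :
    x.e = false ∧ x.a = false ∧ x.b = true ∧ x.i = hh m := by
  rcases x with ⟨i, j, a, b, e, hp⟩
  have hne := hh_ne (m := m)
  simp only [PZ_iff, W.y] at h1 h2
  cases e <;> cases a <;> cases b <;> simp_all

theorem exists_mul_hh {j : R m} (hj : j ≠ 0) : ∃ k : ℕ, (k : R m) * j = hh m := by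
  have hp : IsPGroup 2 (Multiplicative (R m)) := IsPGroup.of_card (n := m + 2) (by simp)
  classical
  obtain ⟨k, hk⟩ := hp (Multiplicative.ofAdd j)
  have hex : ∃ k : ℕ, ((2 ^ k : ℕ) : R m) * j = 0 := ⟨k, by
    have := congrArg Multiplicative.toAdd hk
    simpa [nsmul_eq_mul] using this⟩
  have h0 := Nat.find_spec hex
  have hk0 : Nat.find hex ≠ 0 := fun e => hj (by rw [e] at h0; simpa using h0)
  obtain ⟨l, hl⟩ := Nat.exists_eq_succ_of_ne_zero hk0
  have h1 := Nat.find_min hex (show l < Nat.find hex by omega)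
  rw [hl] at h0
  have h2 : 2 * (((2 ^ l : ℕ) : R m) * j) = 0 := by
    rw [← h0, Nat.pow_succ (n := 2) (m := l)]; push_cast; ring
  exact ⟨2 ^ l, (two_mul_eq_zero h2).resolve_left h1⟩

theorem rot_pow (x : W m) (hi : x.i = 0) (ha : x.a = false) (hb : x.b = false) (he : x.e = false)
    (k : ℕ) : (x ^ k).i = 0 ∧ (x ^ k).j = k * x.j ∧ (x ^ k).a = false ∧ (x ^ k).b = false ∧
      (x ^ k).e = false := by
  induction k with
  | zero => simp
  | succ k ih =>
    obtain ⟨h1, h2, h3, h4, h5⟩ := ih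
    rw [pow_succ]
    simp [h1, h2, h3, h4, h5, hi, ha, hb, he]
    ring

section main
variable {E : Emb m G}

/-- the embedding of `T₀` into `H = C(y)` -/
def fH (E : Emb m G) : T0 m →* centralizer ({E.y} : Set G) :=
  (E.f.comp (T0 m).subtype).codRestrict _ fun x => mem_centralizer_singleton_iff.2 (by
    show E.f x * E.f _ = E.f _ * E.f x
    rw [← map_mul, ← map_mul, W.cent_y.2 x.2])

theorem fH_inj : Function.Injective (fH E) := fun x y h =>
  Subtype.ext (E.inj (congrArg Subtype.val h))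

theorem fH_odd (hW : E.PW) : Odd (fH E).range.index := by
  have h : (fH E).range = ((T0 m).map E.f).subgroupOf (centralizer ({E.y} : Set G)) := by
    ext g; constructor
    · rintro ⟨x, rfl⟩; exact ⟨x, x.2, rfl⟩
    · rintro ⟨x, hx, e⟩; exact ⟨⟨x, hx⟩, Subtype.ext e⟩
  rw [h]; exact Emb.syl_H hW.not_Z_y

theorem Z_conj {a : G} (g : G) : E.Z (g * a * g⁻¹) ↔ E.Z a :=
  ⟨fun h => h.trans (isConj_iff.2 ⟨g, rfl⟩ : IsConj a _).symm,
    fun h => h.trans (isConj_iff.2 ⟨g, rfl⟩ : IsConj a _)⟩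

theorem fuse_pat (hW : E.PW) {g : G} (hg : g * E.y = E.y * g) {x x' : W m}
    (e : E.f x' = g * E.f x * g⁻¹) :
    (PZ x' ↔ PZ x) ∧ (PZ (x' * W.y m) ↔ PZ (x * W.y m)) ∧ (x' = 1 ↔ x = 1) ∧
      (x' = W.y m ↔ x = W.y m) := by
  have hy : g * E.y * g⁻¹ = E.y := by rw [hg, mul_inv_cancel_right]
  refine ⟨?_, ?_, ?_, ?_⟩
  · unfold PZ; rw [← hW, ← hW, e, Z_conj]
  · unfold PZ
    have : E.f (x' * W.y m) = g * E.f (x * W.y m) * g⁻¹ := by
      rw [map_mul, map_mul, e]
      calc g * E.f x * g⁻¹ * E.y = g * E.f x * g⁻¹ * (g * E.y * g⁻¹) := by rw [hy]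
        _ = _ := by group
    rw [← hW, ← hW, this, Z_conj]
  · rw [← E.inj.eq_iff, ← E.inj.eq_iff (a := x), e, map_one, conj_eq_one_iff]
  · rw [← E.inj.eq_iff, ← E.inj.eq_iff (a := x), e]
    constructor
    · intro h
      have : g * E.f x * g⁻¹ = g * E.y * g⁻¹ := h.trans hy.symm
      simpa using this
    · intro h; rw [h]; exact hy

theorem y_not_mem (hW : E.PW) :
    (fH E ⟨W.y m, rfl⟩) ∉ Od (centralizer ({E.y} : Set G)) := by
  let e := MonoidHom.ofInjective (fH_inj (E := E))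
  have he : ∀ x : T0 m, ((e x : (fH E).range) : centralizer ({E.y} : Set G)) = fH E x := fun x => rfl
  let β0 : T0 m →* Multiplicative (ZMod 2) := MonoidHom.mk' (fun x => bz (x : W m)) fun x y => bz_mul x.2
  let β : (fH E).range →* Multiplicative (ZMod 2) := β0.comp e.symm.toMonoidHom
  have hβe : ∀ x : T0 m, β (e x) = bz (x : W m) := fun x => by
    show bz ((e.symm (e x) : T0 m) : W m) = _
    rw [MulEquiv.symm_apply_apply]
  have hinv : ∀ x : T0 m, (x : W m) * x = 1 →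
      MonoidHom.transfer β (e x : (fH E).range) = β (e x) := fun x hx => by
    refine transfer_invol (fH_odd hW) β (e x).2 ?_ fun g h => ?_
    · rw [he, ← map_mul]
      have : x * x = 1 := Subtype.ext hx
      rw [this, map_one]
    · obtain ⟨x', hx'⟩ := e.surjective ⟨_, h⟩
      rw [← hx']
      show β (e x') = β (e x)
      rw [hβe, hβe]
      have e1 : E.f x' = (g : G)⁻¹ * E.f x * (g : G)⁻¹⁻¹ := by
        rw [inv_inv]
        exact congrArg (fun t : (fH E).range => ((t : centralizer ({E.y} : Set G)) : G)) hx'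
      have hx2 : (x' : W m) * x' = 1 := E.inj (by
        rw [map_mul, e1, map_one]
        calc _ = (g : G)⁻¹ * E.f (x * x) * g := by rw [map_mul]; group
          _ = 1 := by rw [hx, map_one]; group)
      obtain ⟨h1, h2, h3, h4⟩ := fuse_pat hW (mem_centralizer_singleton_iff.1 (inv_mem g.2)) e1
      have hb : (x' : W m).b = false ↔ (x : W m).b = false := by
        rw [b_false_iff x'.2 hx2, b_false_iff x.2 hx, h1, h2, h3, h4]
      unfold bz
      cases hb1 : (x' : W m).b <;> cases hb2 : (x : W m).b <;> simp_all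
  have hβ : ∀ t : (fH E).range, MonoidHom.transfer β t = β t := fun t => by
    obtain ⟨x, rfl⟩ := e.surjective t
    let p : T0 m := ⟨⟨(x : W m).i, (x : W m).j, true, true, false, (x : W m).hp⟩, rfl⟩
    let q : T0 m := ⟨⟨0, 0, !(x : W m).a, !(x : W m).b, false, rfl⟩, rfl⟩
    have hx : x = p * q := by
      apply Subtype.ext
      have := mem_T0.1 x.2
      ext <;> simp [p, q, this]
    have hp : (p : W m) * p = 1 := by ext <;> simp [p]
    have hq : (q : W m) * q = 1 := by ext <;> simp [q]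
    rw [hx, map_mul, Subgroup.coe_mul, map_mul, map_mul, hinv p hp, hinv q hq]
  have := two_step (A := Multiplicative (ZMod 2)) (B := Multiplicative (R m))
    (IsPGroup.of_card (n := 1) (by simp)) (IsPGroup.of_card (n := m + 2) (by simp)) (fH_odd hW) β hβ
    (fun t => Multiplicative.ofAdd ((e.symm t : T0 m) : W m).j) (fun a b ha hb => by
      obtain ⟨a, rfl⟩ := e.surjective a
      obtain ⟨b, rfl⟩ := e.surjective b
      rw [hβe, bz_eq_one] at ha
      have := mem_T0.1 a.2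
      rw [← map_mul, MulEquiv.symm_apply_apply, MulEquiv.symm_apply_apply, MulEquiv.symm_apply_apply,
        ← ofAdd_add]
      simp [ha, this])
    (e ⟨W.y m, rfl⟩) (by rw [hβe, bz_eq_one]; rfl)
    (by
      rw [he, ← map_mul]
      have : (⟨W.y m, rfl⟩ : T0 m) * ⟨W.y m, rfl⟩ = 1 := Subtype.ext W.y_mul_y
      rw [this, map_one])
    (fun g => Subtype.ext (mem_centralizer_singleton_iff.1 g.2))
    (by
      rw [MulEquiv.symm_apply_apply]
      exact fun h => hh_ne (m := m) (congrArg Multiplicative.toAdd h))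
  exact this

/-- elements of `I₂` are central in `O²(C(y))⟨a⟩` modulo the core -/
theorem key (hW : E.PW) {a : W m} (h1 : PZ a) (h2 : PZ (a * W.y m)) {h : G}
    (hh : h * E.y = E.y * h) (ho : Odd (orderOf h)) : h * E.f a * h⁻¹ * E.f a ∈ OC E.y := by
  have hc := I2_coord h1 h2
  have hp : IsPGroup 2 (fH E).range :=
    (W_p.to_subgroup (T0 m)).of_surjective _ (fH E).rangeRestrict_surjective
  let S : Sylow 2 (centralizer ({E.y} : Set G)) := hp.toSylow (by
    have := fH_odd hW; rw [← Nat.not_even_iff_odd, even_iff_two_dvd] at this; exact this)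
  have hS : (S : Subgroup _) = (fH E).range := rfl
  have hao : orderOf (fH E ⟨a, hc.1⟩) = 2 := by
    obtain ⟨q1, q2⟩ := E.Z_sq ((hW a).2 h1)
    exact orderOf_eq_prime (by rw [sq]; exact Subtype.ext q1) fun e => q2 (congrArg Subtype.val e)
  have := zstar_od S hao (fun g g' hg hg' hO => by
    obtain ⟨x, hx⟩ := hg
    obtain ⟨x', hx'⟩ := hg'
    have e1 : E.f x = (g : G) * E.f a * (g : G)⁻¹ := congrArg Subtype.val hx
    have e2 : E.f x' = (g' : G) * E.f a * (g' : G)⁻¹ := congrArg Subtype.val hx'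
    obtain ⟨p1, p2, -, -⟩ := fuse_pat hW (mem_centralizer_singleton_iff.1 g.2) e1
    obtain ⟨p1', p2', -, -⟩ := fuse_pat hW (mem_centralizer_singleton_iff.1 g'.2) e2
    obtain ⟨c1, c2, c3, c4⟩ := I2_coord (p1.2 h1) (p2.2 h2)
    obtain ⟨c1', c2', c3', c4'⟩ := I2_coord (p1'.2 h1) (p2'.2 h2)
    rw [← hx, ← hx', ← map_mul] at hO
    rw [← hx, ← hx']
    by_contra hne
    have hj : ((x * x' : T0 m) : W m).j ≠ 0 := fun e => hne (by
      congr 1
      apply Subtype.ext
      have : (x : W m).j = (x' : W m).j := by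
        simp [c1, c3] at e
        linear_combination e
      ext <;> simp [*])
    obtain ⟨k, hk⟩ := exists_mul_hh hj
    obtain ⟨r1, r2, r3, r4, r5⟩ := rot_pow ((x * x' : T0 m) : W m) (by simp [*]) (by simp [*])
      (by simp [*]) (by simp [*]) k
    have : (x * x') ^ k = ⟨W.y m, rfl⟩ := by
      apply Subtype.ext
      rw [Subgroup.coe_pow]
      ext
      · exact r1
      · exact r2.trans hk
      · exact r3
      · exact r4
      · exact r5
    exact y_not_mem hW (by rw [← this, map_pow]; exact pow_mem hO k))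
    (h := ⟨h, mem_centralizer_singleton_iff.2 hh⟩) (by rw [← Subgroup.orderOf_coe]; exact ho)
  exact ⟨_, this, rfl⟩

theorem PZ_refl {j : R m} (hj : par m (hh m) = par m j) :
    PZ (⟨hh m, j, false, true, false, hj⟩ : W m) ∧
      PZ ((⟨hh m, j, false, true, false, hj⟩ : W m) * W.y m) := by
  simp [PZ_iff, W.y]

theorem u'_mul : W.u' m * (W.u' m * W.y m) = W.y m := by ext <;> simp [W.u', W.y]

theorem pair_u' (hW : E.PW) : E.Pair (E.f (W.u' m)) (E.f (W.u' m * W.y m)) := by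
  obtain ⟨h1, h2⟩ := PZ_refl (m := m) (j := 0) (by simp)
  refine ⟨(hW _).2 h1, (hW _).2 h2, fun e => ?_, ?_⟩
  · have := congrArg W.j (E.inj e)
    simp [W.u', W.y] at this
    exact hh_ne this.symm
  · rw [← map_mul, ← map_mul]
    congr 1
    ext <;> simp [W.u', W.y]

theorem odd_conj {h : G} (k : G) (ho : Odd (orderOf h)) : Odd (orderOf (k * h * k⁻¹)) := by
  have : orderOf (k * h * k⁻¹) = orderOf h := by simpa using (MulAut.conj k).orderOf_eq h
  rwa [this]

end main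

end PF9x

open PF9x

/-! ### PF9 -/
section PF9
theorem Emb.PW.zh {E : Emb m G} (hW : E.PW) : E.ZH := by
  intro a b hab h hh ho
  obtain ⟨g, g1, g2⟩ := hW.pair_conj hab
  obtain ⟨g0, g3, g4⟩ := hW.pair_conj (pair_u' hW)
  obtain ⟨h1, h2⟩ := PZ_refl (m := m) (j := 0) (by simp)
  have ka : g0⁻¹ * g * a * (g0⁻¹ * g)⁻¹ = E.f (W.u' m) := by
    calc _ = g0⁻¹ * (g * a * g⁻¹) * g0 := by group
      _ = _ := by rw [g1, ← g3]; group
  have kb : g0⁻¹ * g * b * (g0⁻¹ * g)⁻¹ = E.f (W.u' m * W.y m) := by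
    calc _ = g0⁻¹ * (g * b * g⁻¹) * g0 := by group
      _ = _ := by rw [g2, ← g4]; group
  generalize g0⁻¹ * g = k at ka kb
  have kab : k * (a * b) * k⁻¹ = E.y := by
    calc _ = k * a * k⁻¹ * (k * b * k⁻¹) := by group
      _ = _ := by rw [ka, kb, ← map_mul, u'_mul]
  have := key hW (a := W.u' m) h1 h2 (h := k * h * k⁻¹) (by
    rw [← kab]
    calc _ = k * (h * (a * b)) * k⁻¹ := by group
      _ = _ := by rw [hh]; group) (odd_conj k ho)
  rw [← OC_conj k, kab]
  convert this using 1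
  rw [← ka]; group
theorem Emb.PW.zh_c {E : Emb m G} (hW : E.PW) (hm : 1 ≤ m) : ∃ c : G, c * E.z * c⁻¹ = E.u ∧
    c * E.u * c⁻¹ = E.z ∧ ∀ h : G, h * (E.z * E.u) = E.z * E.u * h → Odd (orderOf h) →
      h * c * h⁻¹ * c⁻¹ ∈ OC (E.z * E.u) := by
  obtain ⟨g0, g3, g4⟩ := hW.pair_conj (pair_u' hW)
  obtain ⟨h1, h2⟩ := PZ_refl (m := m) (j := 0) (by simp)
  have hk : par m (hh m) = par m (kk m) := by
    obtain ⟨t, ht⟩ := exists_half_kk hm
    rw [ht, par_two_mul, par_hh]
  obtain ⟨h3, h4⟩ := PZ_refl (m := m) hk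
  set a1 : W m := ⟨hh m, kk m, false, true, false, hk⟩ with ha1
  have hk2 : kk m + kk m = hh m := by rw [← two_mul, two_kk]
  have c1 : a1 * W.u' m * W.u' m * (a1 * W.u' m)⁻¹ = W.u' m * W.y m := by
    ext <;> simp [ha1, W.u', W.y, hk2]
  have c2 : a1 * W.u' m * (W.u' m * W.y m) * (a1 * W.u' m)⁻¹ = W.u' m := by
    ext <;> simp [ha1, W.u', W.y]
    linear_combination hk2 + two_hh (m := m)
  have hy : g0 * E.y * g0⁻¹ = E.z * E.u := by
    rw [← g3, ← g4]
    calc _ = g0 * E.f (W.u' m * (W.u' m * W.y m)) * g0⁻¹ := by rw [u'_mul]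
      _ = _ := by rw [map_mul]; group
  refine ⟨g0 * E.f (a1 * W.u' m) * g0⁻¹, ?_, ?_, fun h hh ho => ?_⟩
  · rw [← g3, ← g4, ← c1, map_mul E.f _ (a1 * W.u' m)⁻¹, map_mul E.f (a1 * W.u' m), map_inv]; group
  · rw [← g4]
    conv_rhs => rw [← g3, ← c2]
    rw [map_mul E.f _ (a1 * W.u' m)⁻¹, map_mul E.f (a1 * W.u' m), map_inv]; group
  · have hh' : g0⁻¹ * h * g0⁻¹⁻¹ * E.y = E.y * (g0⁻¹ * h * g0⁻¹⁻¹) := by
      calc _ = g0⁻¹ * (h * (g0 * E.y * g0⁻¹)) * g0 := by group
        _ = g0⁻¹ * (g0 * E.y * g0⁻¹ * h) * g0 := by rw [hy, hh]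
        _ = _ := by group
    have k1 := key hW h3 h4 hh' (odd_conj g0⁻¹ ho)
    have k2 := key hW (a := W.u' m) h1 h2 hh' (odd_conj g0⁻¹ ho)
    have ay : E.f a1 * E.y = E.y * E.f a1 := by
      rw [← map_mul, ← map_mul, W.cent_y.2 (show a1 ∈ T0 m from rfl)]
    have k3 := mul_mem k1 (OC_norm ay k2)
    have a2 : (E.f a1)⁻¹ = E.f a1 := inv_eq_of_mul_eq_one_right (E.Z_sq ((hW _).2 h3)).1
    have u2 : (E.f (W.u' m))⁻¹ = E.f (W.u' m) := inv_eq_of_mul_eq_one_right (E.Z_sq ((hW _).2 h1)).1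
    rw [← hy]
    have := (OC_conj g0).2 k3
    convert this using 1
    rw [map_mul]
    calc _ = h * g0 * E.f a1 * E.f (W.u' m) * g0⁻¹ * h⁻¹ * g0 * (E.f (W.u' m))⁻¹ * (E.f a1)⁻¹ * g0⁻¹ := by
          group
      _ = h * g0 * E.f a1 * g0⁻¹ * h⁻¹ * g0 * ((E.f a1)⁻¹ * E.f a1) * g0⁻¹ * h * g0 * E.f (W.u' m) *
            g0⁻¹ * h⁻¹ * g0 * (E.f (W.u' m))⁻¹ * (E.f a1)⁻¹ * g0⁻¹ := by group
      _ = _ := by rw [u2, a2]; group
end PF9


end H20.P4
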