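import Mathlib
import Cfsg.Agent.H20.P0
import Cfsg.Agent.H20.PF9
import Cfsg.Agent.H20.PF3
import Cfsg.Agent.H22.Cov3

set_option autoImplicit false
set_option linter.unusedVariables false
set_option linter.unusedSectionVars false

namespace H20.P4

open Cfsg Subgroup
open scoped MatrixGroups

universe u

variable {m : ℕ} {G : Type u} [Group G] [Finite G]

/-! ### PA7 -/
namespace PA7x

abbrev A7 := alternatingGroup (Fin 7)

theorem card7 : Nat.card A7 = 2520 := by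
  have := two_mul_nat_card_alternatingGroup (α := Fin 7)
  rw [Nat.card_perm, Nat.card_fin, show Nat.factorial 7 = 5040 by decide] at this
  change 2 * Nat.card A7 = 5040 at this
  omega

theorem eqv {A B C : Type*} [Group A] [Group B] [Group C] (f : A →* B) (g : A →* C)
    (h : ∀ x, f x = 1 ↔ g x = 1) : Nonempty (f.range ≃* g.range) :=
  ⟨(QuotientGroup.quotientKerEquivRange f).symm.trans ((QuotientGroup.quotientMulEquivOfEq
    (by ext x; simp [h])).trans (QuotientGroup.quotientKerEquivRange g))⟩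

/-- the subgroup generated by the elements of odd order -/
def O2 (G : Type*) [Group G] : Subgroup G := closure {x | Odd (orderOf x)}

theorem odd_conj {x : G} (h : Odd (orderOf x)) (g : G) : Odd (orderOf (g * x * g⁻¹)) := by
  rwa [← MulAut.conj_apply, MulEquiv.orderOf_eq]

instance : (O2 G).Normal := ⟨fun x hx g => by
  have : O2 G ≤ (O2 G).comap (MulAut.conj g).toMonoidHom :=
    (closure_le _).2 fun y hy => subset_closure (odd_conj hy g)
  exact this hx⟩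

theorem odd_of {P : Subgroup G} (hP : Odd (Nat.card P)) {x : G} (hx : x ∈ P) : Odd (orderOf x) :=
  hP.of_dvd_nat (orderOf_dvd_natCard P hx)

theorem one_of {x : G} (h : Odd (orderOf x)) (xx : x * x = 1) : x = 1 :=
  orderOf_eq_one_iff.1 (Nat.Coprime.eq_one_of_dvd (Nat.coprime_two_right.2 h)
    (orderOf_dvd_of_pow_eq_one ((pow_two x).trans xx)))

theorem lemA (hO : oddCore G = ⊥) {Y P : Subgroup G} (hY : ∀ x, Odd (orderOf x) → x ∈ Y)
    (hP : ∀ p ∈ P, Odd (orderOf p)) (hn : ∀ y ∈ Y, ∀ p ∈ P, y * p * y⁻¹ ∈ P) : P = ⊥ := by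
  have h1 : O2 G ≤ Y := (closure_le _).2 hY
  have h2 : P.subgroupOf (O2 G) ≤ pPrimeCore 2 (O2 G) :=
    H2.le_pPrimeCore ⟨fun p hp y => hn y (h1 y.2) p hp⟩
      ((Nat.Prime.coprime_iff_not_dvd Nat.prime_two).2 fun hd => by
        obtain ⟨x, hx⟩ := exists_prime_orderOf_dvd_card' 2 hd
        have := hP x.1.1 x.2
        rw [orderOf_coe, orderOf_coe, hx] at this
        exact absurd this (by decide)).symm
  rw [H22.pPrimeCore_eq_bot_of_normal hO] at h2
  exact eq_bot_iff.2 fun p hp => congrArg Subtype.val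
    (mem_bot.1 (h2 (show (⟨p, subset_closure (hP p hp)⟩ : O2 G) ∈ P.subgroupOf _ from hp)))

theorem simple {A : Subgroup G} (e : A ≃* A7) (B : Subgroup G)
    (hn : ∀ a ∈ A, ∀ b ∈ A, b ∈ B → a * b * a⁻¹ ∈ B) {x : G} (hA : x ∈ A) (hB : x ∈ B) (h1 : x ≠ 1) :
    A ≤ B := by
  haveI : IsSimpleGroup A7 := alternatingGroup.isSimpleGroup (by simp)
  haveI : IsSimpleGroup A := e.isSimpleGroup
  rcases IsSimpleGroup.eq_bot_or_eq_top_of_normal (B.subgroupOf A)
    ⟨fun b hb a => hn a a.2 b b.2 hb⟩ with h | h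
  · exact (h1 (congrArg Subtype.val (mem_bot.1 (h.le (show (⟨x, hA⟩ : A) ∈ B.subgroupOf A from hB))))).elim
  · exact subgroupOf_eq_top.1 h

theorem ex_ord {A : Subgroup G} (e : A ≃* A7) (p : ℕ) [Fact p.Prime] (h : p ∣ 2520) :
    ∃ x ∈ A, orderOf x = p := by
  obtain ⟨x, hx⟩ := exists_prime_orderOf_dvd_card' (G := A) p (by rwa [Nat.card_congr e.toEquiv, card7])
  exact ⟨x, x.2, by rw [orderOf_coe, hx]⟩

theorem lemB {Y A : Subgroup G} (e : A ≃* A7) (hY : ∀ x, Odd (orderOf x) → x ∈ Y)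
    (hn : ∀ y ∈ Y, ∀ p ∈ A, y * p * y⁻¹ ∈ A) {ξ a q : G} (ha : a ∈ A) (hq : q ∈ A) (h4 : a ^ 4 = 1)
    (h2 : a ^ 2 ≠ 1) (qq : q * q = 1) (hqa : q * a * q = a⁻¹) (e1 : ξ * a * ξ⁻¹ = a)
    (e2 : ξ * q * ξ⁻¹ = a * q) : False := by
  haveI : Fact (Nat.Prime 3) := ⟨Nat.prime_three⟩
  obtain ⟨x, hx, h3⟩ := ex_ord e 3 (by decide)
  have h1 : A ≤ O2 G := simple e _ (fun a _ b _ hb => Normal.conj_mem inferInstance _ hb a) hx
    (subset_closure (show Odd (orderOf x) by rw [h3]; decide)) (by rintro rfl; simp at h3)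
  have h5 : A ≤ A.comap (MulAut.conj ξ).toMonoidHom := simple e _ (fun c hc b _ hb => by
    have := hn _ ((closure_le _).2 hY (Normal.conj_mem inferInstance _ (h1 hc) ξ)) _ hb
    change ξ * (c * b * c⁻¹) * ξ⁻¹ ∈ A
    convert this using 1
    simp [mul_assoc]) ha (show ξ * a * ξ⁻¹ ∈ A by rwa [e1]) (by rintro rfl; simp at h2)
  have hξ : ξ ∈ normalizer (A : Set G) := mem_normalizer_fintype fun b hb => h5 hb
  let α := A.normalizerMonoidHom ⟨ξ, hξ⟩
  refine H22.A7.no_swap (e.symm.trans (α.trans e)) (a := e ⟨a, ha⟩) (q := e ⟨q, hq⟩) ?_ ?_ ?_ ?_ ?_ ?_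
  · rw [← map_pow, ← map_one e]; exact congrArg e (Subtype.ext h4)
  · rw [← map_pow, ← map_one e]; exact fun h => h2 (congrArg Subtype.val (e.injective h))
  · rw [← map_mul, ← map_one e]; exact congrArg e (Subtype.ext qq)
  · rw [← map_mul, ← map_mul, ← map_inv]; exact congrArg e (Subtype.ext hqa)
  · simp only [MulEquiv.trans_apply, MulEquiv.symm_apply_apply]
    exact congrArg e (Subtype.ext e1)
  · simp only [MulEquiv.trans_apply, MulEquiv.symm_apply_apply]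
    rw [← map_mul]
    exact congrArg e (Subtype.ext e2)

variable {E : Emb m G} {N : Subgroup G}

/-- the diagonal -/
def δ (h : E.PN N) : N →* G := MonoidHom.mk' (fun a => a * (E.u * a * E.u)) (fun a b => by
  have h1 := h.comm _ b.2 _ a.2
  calc ((a * b : N) : G) * (E.u * (a * b : N) * E.u)
      = a * (b * (E.u * a * (E.u * E.u) * b * E.u)) := by rw [PF3x.uu, coe_mul]; group
    _ = a * (b * (E.u * a * E.u)) * (E.u * b * E.u) := by group
    _ = _ := by rw [h1]; group)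

theorem δ_norm (h : E.PN N) {g k : G} (hg : g * E.u = E.u * g) (hk : k ∈ (δ h).range) :
    g * k * g⁻¹ ∈ (δ h).range := by
  obtain ⟨a, rfl⟩ := hk
  have e : g * δ h a * g⁻¹ = g * a * g⁻¹ * (E.u * (g * a * g⁻¹) * E.u) := by
    change g * (a * (E.u * a * E.u)) * g⁻¹ = _
    rw [show g * (a * (E.u * a * E.u)) * g⁻¹ = g * a * g⁻¹ * (g * E.u * a * g⁻¹ * (g * E.u) * g⁻¹) by
      group, hg]
    group
  rw [e]
  rcases h.norm g with h1 | h1
  · exact ⟨⟨_, h1 a a.2⟩, rfl⟩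
  · refine ⟨⟨_, h1 a a.2⟩, ?_⟩
    change _ * (E.u * (E.u * _ * E.u) * E.u) = _
    have := h.comm _ (h1 a a.2) _ (h1 a a.2)
    rwa [PF3x.uxu] at this ⊢

theorem δ_u (h : E.PN N) {k : G} (hk : k ∈ (δ h).range) : k * E.u = E.u * k := by
  obtain ⟨a, rfl⟩ := hk
  change a * (E.u * a * E.u) * E.u = E.u * (a * (E.u * a * E.u))
  rw [h.comm _ a.2 _ a.2]
  nth_rw 1 [← h.comm _ a.2 _ a.2]
  simp only [← mul_assoc, PF3x.uu, one_mul]
  rw [mul_assoc _ E.u E.u, PF3x.uu, mul_one]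

theorem δ_eqv (h : E.PN N) (hz : E.z ∈ N) (p : N →* A7) (hp : H22.DCover p ⟨E.z, hz⟩) :
    Nonempty ((δ h).range ≃* A7) := by
  obtain ⟨e⟩ := eqv (δ h) p fun a => ⟨fun e => by
    have e' : E.u * a * E.u = (a : G)⁻¹ := eq_inv_of_mul_eq_one_right e
    rcases h.inf a a.2 (e' ▸ inv_mem a.2) with e | e
    · rw [show a = 1 from Subtype.ext e, map_one]
    · rw [show a = ⟨E.z, hz⟩ from Subtype.ext e, hp.map], fun e => by
    rcases hp.ker a e with rfl | rfl
    · exact map_one _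
    · change E.z * (E.u * E.z * E.u) = 1
      rw [h.cen, mul_assoc E.z, PF3x.uu, mul_one, ← map_mul, W.z_mul_z, map_one]⟩
  exact ⟨e.trans ((MulEquiv.subgroupCongr (MonoidHom.range_eq_top.2 hp.surj)).trans topEquiv)⟩

theorem m_pos (E : Emb 0 G) (hz : E.z ∈ N) (p : N →* A7) (hp : H22.DCover p ⟨E.z, hz⟩) : False := by
  let a : A7 := ⟨Equiv.swap 0 1 * Equiv.swap 1 2 * Equiv.swap 2 3 * Equiv.swap 4 5,
    Equiv.Perm.mem_alternatingGroup.2 (by decide)⟩
  obtain ⟨n, hn⟩ := hp.surj a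
  have h4 : n ^ 4 ≠ 1 := fun e => by
    have : p (n * n) = 1 := by
      rcases hp.uniq (n * n) (by rw [← e]; simp only [pow_succ, pow_zero, one_mul, mul_assoc]) with h | h
      · rw [h, map_one]
      · rw [h, hp.map]
    rw [map_mul, hn] at this
    exact absurd this (by decide)
  have h8 : n ^ 2 ^ 3 = 1 := by
    rw [show n ^ 2 ^ 3 = n ^ 4 * n ^ 4 by rw [← pow_add]; rfl]
    rcases hp.ker (n ^ 4) (by rw [map_pow, hn]; decide) with h | h
    · rw [h, one_mul]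
    · rw [h, hp.sq]
  obtain ⟨g, hg⟩ := H22.sylow_exists_conj_mem E.S (a := (n : G)) (k := 3) (congrArg Subtype.val h8)
  obtain ⟨x, hx⟩ := E.exists_eq hg
  have := congrArg E.f ((by decide +kernel : ∀ x : W 0, x ^ 4 = 1) x)
  rw [map_pow, hx, conj_pow, map_one, mul_inv_eq_one, mul_eq_left] at this
  exact h4 (Subtype.ext this)

theorem mem_X {a b x : G} : x ∈ centralizer ({a, b} : Set G) ↔ x * a = a * x ∧ x * b = b * x := by
  rw [mem_centralizer_iff]
  exact ⟨fun h => ⟨(h a (.inl rfl)).symm, (h b (.inr rfl)).symm⟩, by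
    rintro h _ (rfl | rfl)
    exacts [h.1.symm, h.2.symm]⟩

theorem wz {x : W m} (h : IsConj (W.u m) x) (hc : x * W.u m = W.u m * x) (h1 : x ≠ W.u m) :
    ∃ a ∈ Q1 m, x * (W.z m * W.u m) = a * (W.u m * a * W.u m) := by
  obtain ⟨a, ha, rfl⟩ := W.conj_u h
  have hb := W.u_Q1.2 ha
  have ui : (W.u m)⁻¹ = W.u m := inv_eq_of_mul_eq_one_right W.u_mul_u
  have c := W.Q1_Q2_comm ha hb
  have e0 : a * W.u m * a⁻¹ * W.u m = a * (W.u m * a * W.u m)⁻¹ := by
    simp only [mul_inv_rev, ui, mul_assoc]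
  rw [e0, show W.u m * (a * W.u m * a⁻¹) = W.u m * a * W.u m * a⁻¹ by group] at hc
  refine ⟨a, ha, ?_⟩
  rw [← W.z_comm, ← mul_assoc, e0]
  generalize W.u m * a * W.u m = b at hb c hc
  have e1 : a * a = b * b := by
    calc a * a = a * b⁻¹ * (b * a) := by group
      _ = _ := by rw [hc, ← c]; group
  rcases W.Q1_inf_Q2 (mul_mem ha ha) (e1 ▸ mul_mem hb hb) with e | e
  · refine (h1 ?_).elim
    rcases W.Q1_invol ha e with rfl | rfl
    · simp
    · rw [← W.z_comm, mul_inv_cancel_right]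
  · rw [← e, e1]; group

/-- `ζ z u` lies in the diagonal -/
theorem zeta (hW : E.PW) {N : Subgroup E.Bar} (h : E.bar.PN N) {ζ : E.C} (hZ : E.Z ζ)
    (hu : (ζ : G) * E.u = E.u * ζ) (h1 : (ζ : G) ≠ E.z) (h2 : (ζ : G) ≠ E.u) :
    E.π ζ * (E.bar.z * E.bar.u) ∈ (δ h).range := by
  have hζ : (ζ : G) ∈ centralizer {E.z, E.u} := mem_X.2 ⟨mem_centralizer_singleton_iff.1 ζ.2, hu⟩
  have hp : IsPGroup 2 (((centralizer {W.u m}).map E.f).subgroupOf (centralizer {E.z, E.u})) :=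
    ((W_p.to_subgroup _).map E.f).comap_subtype
  obtain ⟨g, x, hx, e⟩ := H22.sylow_exists_conj_mem (hp.toSylow (by
    have := hW.syl_X
    rw [← Nat.not_even_iff_odd, even_iff_two_dvd] at this
    exact this)) (a := ⟨ζ, hζ⟩) (k := 1) (Subtype.ext ((pow_two _).trans (E.Z_sq hZ).1))
  have e : E.f x = g * ζ * (g : G)⁻¹ := e
  obtain ⟨gz, gu⟩ := mem_X.1 g.2
  have hx : x * W.u m = W.u m * x := mem_centralizer_singleton_iff.1 hx
  have n1 : ∀ w, (g : G) * E.f w = E.f w * g → (ζ : G) ≠ E.f w → x ≠ w := fun w hw hn e' => hn (by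
    rw [e', eq_mul_inv_iff_mul_eq, ← hw] at e
    exact (mul_left_cancel e).symm)
  obtain ⟨a, ha, e1⟩ := wz (((hW x).1 (hZ.trans (isConj_iff.2 ⟨g, e.symm⟩))).resolve_left
    (n1 _ gz h1)) hx (n1 _ gu h2)
  let g' : E.C := ⟨g, mem_centralizer_singleton_iff.2 gz⟩
  have k1 : E.bar.f (x * (W.z m * W.u m)) ∈ (δ h).range :=
    ⟨⟨E.bar.f a, (h.mem a).2 ha⟩, by rw [e1, map_mul, map_mul, map_mul]; rfl⟩
  have k2 := δ_norm h (g := E.π g'⁻¹) (by
    change E.π _ * E.π _ = E.π _ * E.π _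
    rw [← map_mul, ← map_mul]
    exact congrArg E.π (Subtype.ext (show (g : G)⁻¹ * E.u = E.u * (g : G)⁻¹ by
      rw [inv_mul_eq_iff_eq_mul, ← mul_assoc, gu, mul_inv_cancel_right]))) k1
  suffices ζ * (E.cen.z * E.cen.u) = g'⁻¹ * E.cen.f (x * (W.z m * W.u m)) * g'⁻¹⁻¹ by
    change E.π _ * (E.π E.cen.z * E.π E.cen.u) ∈ _
    rw [← map_mul, ← map_mul, this, map_mul, map_mul, map_inv E.π g'⁻¹]
    exact k2
  refine Subtype.ext ?_
  change (ζ : G) * (E.z * E.u) = (g : G)⁻¹ * E.f (x * (W.z m * W.u m)) * (g : G)⁻¹⁻¹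
  rw [map_mul, map_mul, e, inv_inv, show (g : G)⁻¹ * (g * ζ * (g : G)⁻¹ * (E.z * E.u)) * g =
    ζ * ((g : G)⁻¹ * E.z * (E.u * g)) by group, ← gu, ← mul_assoc _ (g : G), mul_assoc _ _ (g : G), ← gz]
  group

/-- odd elements of `C(zu)` lie in `O(C(zu)) X` -/
theorem odd_H (hW : E.PW) {h : G} (hh : h * (E.z * E.u) = E.z * E.u * h) (ho : Odd (orderOf h)) :
    ∃ s ∈ OC (E.z * E.u), s⁻¹ * h ∈ centralizer ({E.z, E.u} : Set G) := by
  have hw := hW.zh _ _ hW.pair_zu h hh ho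
  have zz : E.z * E.z = 1 := by rw [← map_mul, W.z_mul_z, map_one]
  have zi : E.z⁻¹ = E.z := inv_eq_of_mul_eq_one_right zz
  obtain ⟨k, hk⟩ := odd_of (OC_odd _) hw
  generalize hw' : h * E.z * h⁻¹ * E.z = w at hw hk
  have e1 : E.z * w * E.z⁻¹ = w⁻¹ := by
    rw [← hw']; simp only [mul_inv_rev, inv_inv, zi, mul_assoc, zz, mul_one]
  have e2 : w ^ (k + 1) * w ^ (k + 1) = w := by
    rw [← pow_add, show k + 1 + (k + 1) = orderOf w + 1 by omega, pow_succ, pow_orderOf_eq_one, one_mul]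
  have e3 : E.z * w ^ (k + 1) * E.z⁻¹ = (w ^ (k + 1))⁻¹ := by rw [← conj_pow, e1, inv_pow]
  have hs := pow_mem hw (k + 1)
  generalize w ^ (k + 1) = s at e2 e3 hs
  have e4 : s⁻¹ * h * E.z = E.z * (s⁻¹ * h) := by
    have : h * E.z = s * s * E.z * h := by
      rw [e2, ← hw', mul_assoc _ E.z E.z, zz]; group
    rw [mul_assoc, this, show s⁻¹ * (s * s * E.z * h) = s * E.z * h by group, ← e3,
      show E.z * (E.z * s * E.z⁻¹ * h) = E.z * E.z * s * E.z⁻¹ * h by group, zz, zi, one_mul]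
  refine ⟨s, hs, mem_X.2 ⟨e4, ?_⟩⟩
  have e5 : s⁻¹ * h * (E.z * E.u) = E.z * E.u * (s⁻¹ * h) := mem_centralizer_singleton_iff.1
    (mul_mem (inv_mem (OC_le _ hs)) (mem_centralizer_singleton_iff.2 hh))
  rw [← mul_assoc, e4, mul_assoc, mul_assoc E.z, mul_right_inj] at e5
  exact e5

end PA7x

section PA7
open PA7x in
theorem Emb.PW.not_A {E : Emb m G} (hW : E.PW) : ¬ E.bar.CaseA := by
  rintro ⟨N, hN, hz, p, hp⟩
  rcases Nat.eq_zero_or_pos m with rfl | hm
  · exact m_pos E.bar hz p hp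
  obtain ⟨eK⟩ := δ_eqv hN hz p hp
  let X := centralizer ({E.z, E.u} : Set G)
  let H := centralizer ({E.z * E.u} : Set G)
  have hXC : X ≤ E.C := fun x hx => mem_centralizer_singleton_iff.2 (mem_X.1 hx).1
  have hXH : X ≤ H := fun x hx => mem_centralizer_singleton_iff.2 (by
    rw [← mul_assoc, (mem_X.1 hx).1, mul_assoc, (mem_X.1 hx).2, mul_assoc])
  let f0 : X →* E.Bar := E.π.comp (inclusion hXC)
  let φ : H →* H ⧸ oddCore H := QuotientGroup.mk' _
  let g0 : X →* H ⧸ oddCore H := φ.comp (inclusion hXH)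
  have hφ : ∀ h : H, φ h = 1 ↔ (h : G) ∈ OC (E.z * E.u) := fun h =>
    (QuotientGroup.eq_one_iff _).trans (mem_map_iff_mem H.subtype_injective).symm
  let X1 := (δ hN).range.comap f0
  have f0u : ∀ x, f0 x * E.bar.u = E.bar.u * f0 x := fun x => by
    change E.π _ * E.π _ = E.π _ * E.π _
    rw [← map_mul, ← map_mul]
    exact congrArg E.π (Subtype.ext (mem_X.1 x.2).2)
  have X1n : ∀ y x : X, x ∈ X1 → y * x * y⁻¹ ∈ X1 := fun y x hx => by
    change f0 _ ∈ (δ hN).range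
    rw [map_mul, map_mul, map_inv]
    exact δ_norm hN (f0u y) hx
  have lift : ∀ k ∈ (δ hN).range, ∃ x : X, f0 x = k := fun k hk => by
    obtain ⟨c, e, hc⟩ := E.lift_cent (zpowers (E.cen.f (W.u m))) (H22.isPGroup_zpowers (k := 1)
      ((pow_two _).trans (PF3x.uu E.cen))) k fun t ht =>
        (mem_centralizer_singleton_iff.1 ((zpowers_le (H := (centralizer {k}).comap E.π)).2
          (mem_centralizer_singleton_iff.2 (δ_u hN hk).symm) ht)).symm
    exact ⟨⟨c, mem_X.2 ⟨mem_centralizer_singleton_iff.1 c.2,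
      congrArg Subtype.val (hc _ (mem_zpowers _))⟩⟩, e⟩
  have hY : ∀ γ, Odd (orderOf γ) → γ ∈ g0.range := fun γ hγ => by
    obtain ⟨h, rfl⟩ := QuotientGroup.mk'_surjective _ γ
    have h1 : ((h ^ orderOf (φ h) : H) : G) ∈ OC (E.z * E.u) :=
      (hφ _).1 (by rw [map_pow, pow_orderOf_eq_one])
    obtain ⟨s, hs, hx⟩ := odd_H hW (mem_centralizer_singleton_iff.1 h.2)
      ((hγ.mul (odd_of (OC_odd _) h1)).of_dvd_nat (orderOf_dvd_of_pow_eq_one (by
        rw [pow_mul]; exact pow_orderOf_eq_one _)))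
    refine ⟨⟨_, hx⟩, ?_⟩
    change φ ((⟨s, OC_le _ hs⟩ : H)⁻¹ * h) = φ h
    rw [map_mul, map_inv, (hφ _).2 hs, inv_one, one_mul]
  have k1 : f0.ker.map g0 = ⊥ := lemA (H2.pPrimeCore_quotient_pPrimeCore 2 _) hY (by
      rintro _ ⟨x, hx, rfl⟩
      have := odd_of (OC_odd _) (E.π_eq_one.1 hx)
      exact (show Odd (orderOf x) by rw [← orderOf_coe]; exact this).of_dvd_nat (orderOf_map_dvd _ _)) (by
      rintro _ ⟨y, rfl⟩ _ ⟨x, hx, rfl⟩
      rw [← map_inv, ← map_mul, ← map_mul]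
      exact mem_map_of_mem _ (Normal.conj_mem inferInstance _ hx y))
  have k2 : ∀ x ∈ X1, g0 x = 1 → f0 x = 1 := fun x hx e => by
    by_contra hn
    obtain ⟨t, ht, h2⟩ := ex_ord eK 2 (by decide)
    obtain ⟨y, hy, rfl⟩ := simple eK (g0.ker.map f0) (fun a ha b _ hb => by
      obtain ⟨y, rfl⟩ := lift a ha
      obtain ⟨x, hx, rfl⟩ := hb
      rw [← map_inv, ← map_mul, ← map_mul]
      exact mem_map_of_mem _ (Normal.conj_mem inferInstance _ hx y)) hx ⟨x, e, rfl⟩ hn ht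
    have := odd_of (OC_odd _) ((hφ _).1 hy)
    have := (show Odd (orderOf y) by rw [← orderOf_coe]; exact this).of_dvd_nat (orderOf_map_dvd f0 _)
    rw [h2] at this
    exact absurd this (by decide)
  obtain ⟨e1⟩ := eqv (g0.comp X1.subtype) (f0.comp X1.subtype) fun x =>
    ⟨k2 x x.2, fun e => mem_bot.1 (k1.le ⟨x, e, rfl⟩)⟩
  have hr : (f0.comp X1.subtype).range = (δ hN).range := le_antisymm
    (by rintro _ ⟨x, rfl⟩; exact x.2) fun k hk => by
      obtain ⟨x, rfl⟩ := lift k hk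
      exact ⟨⟨x, hk⟩, rfl⟩
  obtain ⟨j, hj⟩ := exists_half_kk hm
  have pk : par m (kk m) = par m 0 := by rw [hj, par_two_mul, map_zero]
  let a : W m := ⟨kk m, 0, false, false, false, pk⟩
  let ξ : W m := ⟨j, j, false, false, false, rfl⟩
  have hZ : ∀ x, IsConj (W.u m) x → E.Z (E.f x) := fun x hx => (hW x).2 (.inr hx)
  obtain ⟨g, gz, gu⟩ := hW.pair_conj (a := E.f (W.u' m)) (b := E.f (W.u' m * W.y m))
    ⟨hZ _ (W.conj_u_iff.2 (by simp [W.u'])), hZ _ (W.conj_u_iff.2 (by simp [W.u', W.y])),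
      fun e => hh_ne (by simpa [W.u', W.y] using (congrArg W.j (E.inj e)).symm), by
        rw [← map_mul, ← map_mul]; congr 1; ext <;> simp [W.u', W.y]⟩
  let ψ : W m →* G := (MulAut.conj g).toMonoidHom.comp E.f
  have ψi : Function.Injective ψ := (MulAut.conj g).injective.comp E.inj
  have ψz : ψ (W.u' m) = E.z := gz
  have ψu : ψ (W.u' m * W.y m) = E.u := gu
  have ψy : ψ (W.y m) = E.z * E.u := by
    rw [← ψz, ← ψu, ← map_mul]; congr 1; ext <;> simp [W.u', W.y]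
  have mH : ∀ x ∈ T0 m, ψ x ∈ H := fun x hx => mem_centralizer_singleton_iff.2 (by
    rw [← ψy, ← map_mul, ← map_mul, W.cent_y.2 hx])
  let χ : T0 m →* H ⧸ oddCore H := φ.comp ((ψ.comp (T0 m).subtype).codRestrict H fun x => mH x x.2)
  have key : ∀ i (hp : par m i = par m 0),
      χ ⟨⟨i, 0, true, false, false, hp⟩, rfl⟩ ∈ (g0.comp X1.subtype).range := fun i hp => by
    let w : W m := ⟨i, hh m, true, false, false, by simpa using hp⟩
    have c1 : ψ w * E.z = E.z * ψ w := by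
      rw [← ψz, ← map_mul, ← map_mul]; congr 1; ext <;> simp [w, W.u', add_comm]
    have c2 : ψ w * E.u = E.u * ψ w := by
      rw [← ψu, ← map_mul, ← map_mul]; congr 1; ext <;> simp [w, W.u', W.y, add_comm]
    have := zeta hW hN (ζ := ⟨ψ w, mem_centralizer_singleton_iff.2 c1⟩)
      ((hZ w (W.conj_u_iff.2 (by simp [w]))).trans (isConj_iff.2 ⟨g, rfl⟩)) c2
      (fun e => by simpa [w, W.u'] using congrArg W.a (ψi (e.trans ψz.symm)))
      (fun e => by simpa [w, W.u', W.y] using congrArg W.a (ψi (e.trans ψu.symm)))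
    have zX : E.z ∈ X := mem_X.2 ⟨rfl, hW.pair_zu.comm⟩
    have uX : E.u ∈ X := mem_X.2 ⟨hW.pair_zu.comm.symm, rfl⟩
    refine ⟨⟨⟨ψ w, mem_X.2 ⟨c1, c2⟩⟩ * (⟨_, zX⟩ * ⟨_, uX⟩), ?_⟩, congrArg φ (Subtype.ext ?_)⟩
    · change f0 _ ∈ (δ hN).range
      rw [map_mul, map_mul]
      exact this
    · change ψ w * (E.z * E.u) = ψ _
      rw [← ψy, ← map_mul]; congr 1; ext <;> simp [w, W.y]
  let q : T0 m := ⟨⟨0, 0, true, false, false, rfl⟩, rfl⟩
  let a' : T0 m := ⟨a, rfl⟩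
  have hq : χ q ∈ _ := key 0 rfl
  have haq : χ a' * χ q ∈ (g0.comp X1.subtype).range := by
    convert key _ pk using 1
    rw [← map_mul]; congr 1
    ext <;> simp [a', a, q]
  refine lemB (e1.trans ((MulEquiv.subgroupCongr hr).trans eK)) hY ?_ (ξ := χ ⟨ξ, rfl⟩)
    ((mul_mem_cancel_right hq).1 haq) hq ?_ ?_ ?_ ?_ ?_ ?_
  · rintro _ ⟨y, rfl⟩ _ ⟨x, rfl⟩
    exact ⟨⟨_, X1n y x x.2⟩, by simp⟩
  · rw [← map_pow, ← map_one χ]; congr 1
    ext <;> simp [a', a, pow_succ]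
    linear_combination 2 * two_kk (m := m) + two_hh (m := m)
  · rw [← map_pow]
    intro e
    have h1 := one_of (odd_of (OC_odd _) ((hφ _).1 e)) (by
      change ψ _ * ψ _ = 1
      rw [← map_mul, ← map_one ψ]; congr 1
      ext <;> simp [a', a, pow_succ]
      linear_combination 2 * two_kk (m := m) + two_hh (m := m))
    have h2 := congrArg W.i (ψi (h1.trans (map_one ψ).symm))
    refine hh_ne (m := m) ?_
    simp [a', a, pow_succ] at h2
    linear_combination h2 - two_kk (m := m)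
  · rw [← map_mul, ← map_one χ]; congr 1
    ext <;> simp [q]
  · rw [← map_mul, ← map_mul, ← map_inv]; congr 1
    ext <;> simp [q, a', a]
  · rw [← map_inv, ← map_mul, ← map_mul]; congr 1
    ext <;> simp [ξ, a', a]
  · rw [← map_inv, ← map_mul, ← map_mul, ← map_mul]; congr 1
    ext <;> simp [ξ, a', a, q]
    linear_combination -hj
end PA7

end H20.P4
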