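import Mathlib
import Cfsg.Agent.H20.PI0
import Cfsg.Agent.H22.Cov2
import Cfsg.Agent.H16.PGamma

set_option autoImplicit false
set_option linter.unusedVariables false
set_option linter.unusedSectionVars false

namespace H20.P4

open Cfsg Subgroup
open scoped MatrixGroups

universe u v w

namespace PAUx

open Matrix

variable {F : Type*} [Field F]

theorem ch (A : Matrix (Fin 2) (Fin 2) F) : A * A = A.trace • A - A.det • (1 : Matrix (Fin 2) (Fin 2) F) := by
  ext i j
  fin_cases i <;> fin_cases j <;> simp [Matrix.mul_apply, det_fin_two, trace_fin_two] <;> ring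

theorem neg_val (a : SL(2, F)) : (-a).1 = -a.1 := rfl

theorem sq_val {a : SL(2, F)} (ha : a * a = -1) : a.1 * a.1 = -1 := congrArg Subtype.val ha

theorem ne_zero (a : SL(2, F)) : a.1 ≠ 0 := fun h => by
  have := a.2
  rw [h] at this
  simp at this

theorem tr_zero {a : SL(2, F)} (ha : a * a = -1) : a.1.trace = 0 := by
  have h := sq_val ha
  rw [ch, a.2, one_smul, sub_eq_iff_eq_add, neg_add_cancel, smul_eq_zero] at h
  exact h.resolve_right (ne_zero a)

theorem form {a : SL(2, F)} (ha : a * a = -1) :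
    ∃ x y z : F, a.1 = !![x, y; z, -x] ∧ x * x + y * z = -1 := by
  have h := tr_zero ha
  have h' := a.2
  rw [trace_fin_two] at h
  rw [det_fin_two] at h'
  refine ⟨a.1 0 0, a.1 0 1, a.1 1 0, ?_, by linear_combination (a.1 0 0) * h - h'⟩
  ext i j
  fin_cases i <;> fin_cases j <;> simp
  linear_combination h

theorem inv_eq {a : SL(2, F)} (ha : a * a = 1) (h2 : (2 : F) ≠ 0) : a = 1 ∨ a = -1 := by
  have h : a.1 * a.1 = 1 := congrArg Subtype.val ha
  rw [ch, a.2, one_smul, sub_eq_iff_eq_add] at h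
  have e00 := congrFun (congrFun h 0) 0
  have e01 := congrFun (congrFun h 0) 1
  have e10 := congrFun (congrFun h 1) 0
  have e11 := congrFun (congrFun h 1) 1
  have hd := a.2
  rw [det_fin_two] at hd
  simp at e00 e01 e10 e11
  have ht : a.1.trace ≠ 0 := fun h0 => h2 (by rw [h0] at e00; linear_combination -e00)
  have f01 := e01.resolve_left ht
  have f10 := e10.resolve_left ht
  have f : a.1 1 1 = a.1 0 0 := mul_left_cancel₀ ht (e11.trans e00.symm)
  have : a.1 0 0 * a.1 0 0 = 1 := by rw [f, f01] at hd; linear_combination hd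
  rcases mul_self_eq_one_iff.1 this with h1 | h1
  · left
    refine Subtype.ext ?_
    ext i j
    fin_cases i <;> fin_cases j <;> simp [f, f01, f10, h1]
  · right
    refine Subtype.ext ?_
    rw [neg_val]
    ext i j
    fin_cases i <;> fin_cases j <;> simp [f, f01, f10, h1]

theorem comm_form {k : SL(2, F)} (hk : k * k = -1) (h2 : (2 : F) ≠ 0)
    {h : Matrix (Fin 2) (Fin 2) F} (hc : k.1 * h = h * k.1) :
    ∃ x y : F, h = x • (1 : Matrix (Fin 2) (Fin 2) F) + y • k.1 := by
  obtain ⟨a, b, c, e, hd⟩ := form hk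
  rw [e] at hc ⊢
  have e00 := congrFun (congrFun hc 0) 0
  have e01 := congrFun (congrFun hc 0) 1
  have e10 := congrFun (congrFun hc 1) 0
  simp [Matrix.mul_apply] at e00 e01 e10
  refine ⟨(h 0 0 + h 1 1) / 2, -(a * (h 0 0 - h 1 1) / 2 + b * h 1 0), ?_⟩
  ext i j
  fin_cases i <;> fin_cases j <;> simp <;> field_simp
  · linear_combination (h 0 0 - h 1 1) * hd - b * e10
  · linear_combination 2 * h 0 1 * hd - a * e01 + 2 * b * e00
  · linear_combination 2 * h 1 0 * hd + a * e10
  · linear_combination -(h 0 0 - h 1 1) * hd + b * e10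

theorem det_comb {k : SL(2, F)} (hk : k * k = -1) (x y : F) :
    (x • (1 : Matrix (Fin 2) (Fin 2) F) + y • k.1).det = x * x + y * y := by
  obtain ⟨a, b, c, e, hd⟩ := form hk
  rw [e]
  simp [det_fin_two]
  linear_combination -(y * y) * hd

theorem sq_mul {K : Type*} [Field K] [Finite K] {a b : K} (ha : ¬ IsSquare a) (hb : ¬ IsSquare b) :
    IsSquare (a * b) := by
  classical
  have := Fintype.ofFinite K
  have ha0 : a ≠ 0 := fun h => ha (h ▸ IsSquare.zero)
  have hb0 : b ≠ 0 := fun h => hb (h ▸ IsSquare.zero)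
  rw [← quadraticChar_one_iff_isSquare (mul_ne_zero ha0 hb0), map_mul,
    quadraticChar_neg_one_iff_not_isSquare.2 ha, quadraticChar_neg_one_iff_not_isSquare.2 hb]
  norm_num

theorem sq_of_inv [Finite F] (h2 : (2 : F) ≠ 0) (τ : F ≃+* F) (h1 : τ * τ = 1) (hne : τ ≠ 1) :
    IsSquare (2 : F) := by
  by_contra hs
  obtain ⟨x, hx⟩ : ∃ x, τ x ≠ x := by
    by_contra h
    push Not at h
    exact hne (RingEquiv.ext h)
  have hτ : ∀ y, τ (τ y) = y := fun y => congrArg (fun s : F ≃+* F => s y) h1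
  let K : Subfield F := (τ : F →+* F).eqLocusField (RingHom.id F)
  have hK : ∀ y, y ∈ K ↔ τ y = y := fun y => Iff.rfl
  have hd : τ (x - τ x) = -(x - τ x) := by rw [map_sub, hτ]; ring
  have hd0 : x - τ x ≠ 0 := sub_ne_zero.2 hx.symm
  have m1 : (x - τ x) * (x - τ x) ∈ K := by rw [hK, map_mul, hd]; ring
  have n1 : ¬ IsSquare (⟨_, m1⟩ : K) := by
    rintro ⟨c, hc⟩
    have hc' : (x - τ x) * (x - τ x) = c.1 * c.1 := congrArg Subtype.val hc
    have hc2 : τ c.1 = c.1 := (hK _).1 c.2
    have : τ (x - τ x) = x - τ x := by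
      rcases mul_self_eq_mul_self_iff.1 hc' with h | h
      · rw [h, hc2]
      · rw [h, map_neg, hc2]
    rw [hd] at this
    exact mul_ne_zero h2 hd0 (by linear_combination -this)
  have n2 : ¬ IsSquare (2 : K) := by
    rintro ⟨c, hc⟩
    exact hs ⟨c.1, congrArg Subtype.val hc⟩
  obtain ⟨c, hc⟩ := sq_mul n2 n1
  have hc' : 2 * ((x - τ x) * (x - τ x)) = c.1 * c.1 := congrArg Subtype.val hc
  exact hs ⟨c.1 / (x - τ x), by field_simp; linear_combination hc'⟩

theorem eq_one_of_pow {G : Type*} [Group G] (h : ∀ τ : G, τ * τ = 1 → τ = 1) (σ : G) (e : ℕ)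
    (he : σ ^ 2 ^ e = 1) : σ = 1 := by
  induction e with
  | zero => simpa using he
  | succ e ih => exact ih (h _ (by rw [← pow_add, ← two_mul, ← pow_succ', he]))

theorem tr_aut {α : MulAut SL(2, F)} {h : GL (Fin 2) F} {σ : F ≃+* F}
    (H : ∀ a : SL(2, F), (α a).1 * h.1 = h.1 * a.1.map σ) (a : SL(2, F)) :
    (α a).1.trace = σ a.1.trace := by
  have : (α a).1 = h.1 * a.1.map σ * (h⁻¹).1 := by
    rw [← H, mul_assoc, ← Units.val_mul, mul_inv_cancel, Units.val_one, mul_one]
  rw [this, trace_mul_comm, ← mul_assoc, ← Units.val_mul, inv_mul_cancel, Units.val_one, one_mul]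
  simp [trace_fin_two]

theorem eq_one_of_scalar {α : MulAut SL(2, F)} {h : Matrix (Fin 2) (Fin 2) F} {x : F} (hx : x ≠ 0)
    (H : ∀ a : SL(2, F), (α a).1 * h = h * a.1) (e : h = x • (1 : Matrix (Fin 2) (Fin 2) F)) :
    α = 1 := by
  refine MulEquiv.ext fun a => Subtype.ext ?_
  have := H a
  rw [e, mul_smul_comm, smul_mul_assoc, mul_one, one_mul] at this
  exact smul_right_injective _ hx this

theorem pow_rel {α : MulAut SL(2, F)} {h : Matrix (Fin 2) (Fin 2) F}
    (H : ∀ a : SL(2, F), (α a).1 * h = h * a.1) (n : ℕ) (a : SL(2, F)) :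
    ((α ^ n) a).1 * h ^ n = h ^ n * a.1 := by
  induction n with
  | zero => simp
  | succ n ih => rw [pow_succ', MulAut.mul_apply, pow_succ', ← mul_assoc, H, mul_assoc, ih, mul_assoc]

theorem center_iff (a : SL(2, F)) : a ∈ center SL(2, F) ↔ a = 1 ∨ a = -1 := by
  constructor
  · intro h
    obtain ⟨r, hr, e⟩ := Matrix.SpecialLinearGroup.mem_center_iff.1 h
    rw [Fintype.card_fin, sq] at hr
    rcases mul_self_eq_one_iff.1 hr with rfl | rfl
    · left
      exact Subtype.ext (by rw [← e]; simp)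
    · right
      exact Subtype.ext (by rw [← e, neg_val, map_neg, map_one]; rfl)
  · rintro (rfl | rfl)
    · exact one_mem _
    · exact mem_center_iff.2 fun g => by simp

end PAUx

open PAUx Matrix

/-! ### PAU -/
section PAU
variable {F : Type*} [Field F] [Fintype F]
/-- automorphisms of `SL₂(F)` are semilinear -/
theorem aut_sl2 (hF : Odd (Fintype.card F)) (h5 : 5 ≤ Fintype.card F) (α : MulAut SL(2, F)) :
    ∃ (h : GL (Fin 2) F) (σ : F ≃+* F), ∀ a : SL(2, F), (α a).1 * h.1 = h.1 * a.1.map σ := by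
  have h2 := H7.two_ne_zero_of_odd_card hF
  obtain ⟨g, h1, h1'⟩ := H22.SL2Aut.exists_stab α
  obtain ⟨c, σ, hc, e1, e2⟩ := H22.SL2Aut.exists_std h2 _ h1 h1'
  let d : GL (Fin 2) F := GeneralLinearGroup.mkOfDetNeZero !![c, 0; 0, 1] (by simpa [det_fin_two] using hc)
  have hd : d.1 = !![c, 0; 0, 1] := rfl
  have key : (Matrix.SpecialLinearGroup.toGL.comp (MulAut.conj g * α).toMonoidHom : SL(2, F) →* GL (Fin 2) F) =
      (MulAut.conj d).toMonoidHom.comp (Matrix.SpecialLinearGroup.toGL.comp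
        (Matrix.SpecialLinearGroup.map (σ : F →+* F))) := by
    refine H22.SL2Aut.hom_ext (fun x => ?_) (fun x => ?_)
    · change Matrix.SpecialLinearGroup.toGL ((MulAut.conj g * α) _) = d * _ * d⁻¹
      rw [e1, eq_mul_inv_iff_mul_eq]
      refine Units.ext ?_
      change (H22.SL2Aut.uu (c * σ x)).1 * d.1 = d.1 * (H22.SL2Aut.uu x).1.map σ
      rw [hd, H22.SL2Aut.uu_val, H22.SL2Aut.uu_val]
      ext i j
      fin_cases i <;> fin_cases j <;> simp [Matrix.mul_apply]
    · change Matrix.SpecialLinearGroup.toGL ((MulAut.conj g * α) _) = d * _ * d⁻¹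
      rw [e2, eq_mul_inv_iff_mul_eq]
      refine Units.ext ?_
      change (H22.SL2Aut.ll (σ x / c)).1 * d.1 = d.1 * (H22.SL2Aut.ll x).1.map σ
      rw [hd, H22.SL2Aut.ll_val, H22.SL2Aut.ll_val]
      ext i j
      fin_cases i <;> fin_cases j <;> simp [Matrix.mul_apply, hc]
  refine ⟨(Matrix.SpecialLinearGroup.toGL g)⁻¹ * d, σ, fun a => ?_⟩
  have h3 : Matrix.SpecialLinearGroup.toGL (g * α a * g⁻¹) =
      d * Matrix.SpecialLinearGroup.toGL (Matrix.SpecialLinearGroup.map (σ : F →+* F) a) * d⁻¹ :=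
    DFunLike.congr_fun key a
  have h4 : Matrix.SpecialLinearGroup.toGL (α a) * ((Matrix.SpecialLinearGroup.toGL g)⁻¹ * d) =
      (Matrix.SpecialLinearGroup.toGL g)⁻¹ * d *
        Matrix.SpecialLinearGroup.toGL (Matrix.SpecialLinearGroup.map (σ : F →+* F) a) := by
    rw [map_mul, map_mul, map_inv, eq_mul_inv_iff_mul_eq] at h3
    rw [mul_assoc, ← h3]
    group
  exact congrArg Units.val h4
/-- automorphisms of `L₂(F)` lift -/
theorem aut_lift (hF : Odd (Fintype.card F)) (h5 : 5 ≤ Fintype.card F) {G : Type*} [Group G]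
    (δ : SL(2, F) →* G) (hδ : ∀ a, δ a = 1 ↔ a = 1 ∨ a = -1) (g : G)
    (hg : ∀ a, ∃ b, g * δ a * g⁻¹ = δ b) :
    ∃ α : MulAut SL(2, F), ∀ a, g * δ a * g⁻¹ = δ (α a) := by
  classical
  have hker : δ.ker = center SL(2, F) := Subgroup.ext fun a => by
    rw [MonoidHom.mem_ker, hδ, center_iff]
  have hfin : Finite δ.range := Finite.of_surjective _ δ.rangeRestrict_surjective
  have hn : g ∈ normalizer (δ.range : Set G) := by
    refine mem_normalizer_fintype ?_
    rintro _ ⟨a, rfl⟩
    obtain ⟨b, hb⟩ := hg a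
    exact ⟨b, hb.symm⟩
  let e : δ.range ≃* H16.PH F := (QuotientGroup.quotientKerEquivRange δ).symm.trans
    ((QuotientGroup.quotientMulEquivOfEq hker).trans (H16.pslPH F))
  have he : ∀ a : SL(2, F), (e (δ.rangeRestrict a)).1 = SemidirectProduct.inl
      (ProjGenLinGroup.mk (Matrix.SpecialLinearGroup.toGL a)) := fun a => by
    have : (QuotientGroup.quotientKerEquivRange δ).symm (δ.rangeRestrict a) = (a : _ ⧸ δ.ker) := by
      rw [MulEquiv.symm_apply_eq]; rfl
    simp only [e, MulEquiv.trans_apply, this]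
    rfl
  obtain ⟨x, hx⟩ := (H16.conjNormal_bijective (F := F)).2
    (MulAut.congr e (δ.range.normalizerMonoidHom ⟨g, hn⟩))
  obtain ⟨h, hh⟩ := ProjGenLinGroup.mk_surjective x.left
  let φ : SL(2, F) →* SL(2, F) := MonoidHom.mk' (fun a => ⟨h.1 * a.1.map x.right * (h⁻¹).1, by
      have : (a.1.map x.right).det = 1 := by
        have := (RingHom.map_det (x.right : F →+* F) a.1).symm
        rw [a.2, map_one] at this
        exact this
      rw [det_units_conj, this]⟩) fun a b => Subtype.ext (by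
    change h.1 * (a.1 * b.1).map x.right * (h⁻¹).1 =
      h.1 * a.1.map x.right * (h⁻¹).1 * (h.1 * b.1.map x.right * (h⁻¹).1)
    rw [Matrix.map_mul]
    simp [mul_assoc])
  have hφ : ∀ a, Matrix.SpecialLinearGroup.toGL (φ a) = h * GeneralLinearGroup.map
      (x.right : F →+* F) (Matrix.SpecialLinearGroup.toGL a) * h⁻¹ := fun a => Units.ext rfl
  have hinj : Function.Injective φ := fun a b hab => by
    have h1 := congrArg Matrix.SpecialLinearGroup.toGL hab
    rw [hφ, hφ, mul_left_inj, mul_right_inj] at h1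
    have h2 : a.1.map x.right = b.1.map x.right := congrArg Units.val h1
    exact Subtype.ext (Matrix.map_injective x.right.injective h2)
  refine ⟨MulEquiv.ofBijective φ (Finite.injective_iff_bijective.1 hinj), fun a => ?_⟩
  obtain ⟨b, hb⟩ := hg a
  change _ = δ (φ a)
  rw [hb]
  have h1 := congrArg (fun s : MulAut (H16.PH F) => (s (e (δ.rangeRestrict a))).1) hx
  simp only [MulAut.congr_apply, MulEquiv.trans_apply, MulEquiv.symm_apply_apply] at h1
  have h2 : δ.range.normalizerMonoidHom ⟨g, hn⟩ (δ.rangeRestrict a) = δ.rangeRestrict b :=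
    Subtype.ext hb
  rw [h2, he] at h1
  change x * (e (δ.rangeRestrict a)).1 * x⁻¹ = _ at h1
  rw [he, H16.conj_inl] at h1
  have h3 := SemidirectProduct.inl_injective h1
  rw [H16.gaAct_apply, H16.fldAut_apply, ← hh, ProjGenLinGroup.map_mk, ← map_inv, ← map_mul,
    ← map_mul, ← hφ] at h3
  have h4 : (φ a : PSL(2, F)) = b := ProjectiveSpecialLinearGroup.toPGL_injective h3
  have h6 := QuotientGroup.eq.1 h4
  rw [← hker, MonoidHom.mem_ker, map_mul, map_inv, inv_mul_eq_one] at h6
  exact h6.symm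
theorem aut_fix (hF : Odd (Fintype.card F)) (h5 : 5 ≤ Fintype.card F) (α : MulAut SL(2, F))
    {i k : SL(2, F)} (hi : i * i = -1) (hk : k * k = -1) (hik : i * k = -(k * i)) (h1 : α i = i)
    (h2 : ∀ t, t * k = k * t → α t = t) : α = 1 := by
  have h0 := H7.two_ne_zero_of_odd_card hF
  obtain ⟨h, σ, H⟩ := aut_sl2 hF h5 α
  have hx : ∀ x y : F, x * x + y * y = 1 → σ x = x := fun x y hxy => by
    let t : SL(2, F) := ⟨x • (1 : Matrix (Fin 2) (Fin 2) F) + y • k.1, by rw [det_comb hk, hxy]⟩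
    have ht : t * k = k * t := Subtype.ext (by
      change (x • (1 : Matrix (Fin 2) (Fin 2) F) + y • k.1) * k.1 =
        k.1 * (x • (1 : Matrix (Fin 2) (Fin 2) F) + y • k.1)
      simp [mul_add, add_mul])
    have h3 := tr_aut H t
    rw [h2 t ht] at h3
    have h4 : t.1.trace = 2 * x := by
      change (x • (1 : Matrix (Fin 2) (Fin 2) F) + y • k.1).trace = _
      rw [trace_add, trace_smul, trace_smul, tr_zero hk]
      simp [mul_comm]
    rw [h4, map_mul, map_ofNat] at h3
    exact (mul_left_cancel₀ h0 h3).symm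
  have hm : ∀ m : F, 1 + m * m ≠ 0 → σ m = m := fun m hm => by
    obtain ⟨r, hr⟩ : ∃ r, (1 + m * m) * r = 1 := ⟨_, mul_inv_cancel₀ hm⟩
    have e : (1 - m * m) * r * ((1 - m * m) * r) + 2 * m * r * (2 * m * r) = 1 := by
      linear_combination ((1 + m * m) * r + 1) * hr
    have e1 := hx _ _ e
    have e2 := hx _ _ ((add_comm _ _).trans e)
    have e3 : σ (2 * r) = 2 * r := by
      have : 2 * r = 1 + (1 - m * m) * r := by linear_combination hr
      rw [this, map_add, map_one, e1]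
    have hr0 : 2 * r ≠ 0 := mul_ne_zero h0 (right_ne_zero_of_mul_eq_one hr)
    rw [show 2 * m * r = m * (2 * r) by ring, map_mul, e3] at e2
    exact mul_right_cancel₀ hr0 e2
  have hσ : ∀ m, σ m = m := fun m => by
    by_cases c0 : 1 + m * m = 0
    · by_cases c1 : 1 + (m + 1) * (m + 1) = 0
      · have c2 : 1 + (m - 1) * (m - 1) ≠ 0 := fun c2 => h0 (by linear_combination c1 + c2 - 2 * c0)
        have := hm _ c2
        rw [map_sub, map_one] at this
        linear_combination this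
      · have := hm _ c1
        rw [map_add, map_one] at this
        linear_combination this
    · exact hm m c0
  have H' : ∀ a : SL(2, F), (α a).1 * h.1 = h.1 * a.1 := fun a => by
    rw [H]; congr 1; ext i j; exact hσ _
  have hk' := H' k
  have hi' := H' i
  rw [h2 k rfl] at hk'
  rw [h1] at hi'
  obtain ⟨x, y, e⟩ := comm_form hk h0 hk'
  have hik' : i.1 * k.1 = -(k.1 * i.1) := congrArg Subtype.val hik
  have hy : y = 0 := by
    rw [e, mul_add, add_mul, mul_smul_comm, smul_mul_assoc, mul_smul_comm, smul_mul_assoc, mul_one,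
      one_mul, add_right_inj, hik', smul_neg, neg_eq_iff_add_eq_zero, ← add_smul, smul_eq_zero] at hi'
    have := hi'.resolve_right (ne_zero (k * i))
    exact (mul_eq_zero.1 (by linear_combination this : 2 * y = 0)).resolve_left h0
  rw [hy, zero_smul, add_zero] at e
  exact eq_one_of_scalar (fun hx0 => h.ne_zero (by rw [e, hx0, zero_smul])) H' e
theorem aut_fix5 (h5 : Fintype.card F = 5) (α : MulAut SL(2, F)) (ho : Odd (orderOf α))
    {k : SL(2, F)} (hk : k * k = -1) (h1 : α k = k) : α = 1 := by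
  have hF : Odd (Fintype.card F) := by rw [h5]; decide
  have h0 := H7.two_ne_zero_of_odd_card hF
  obtain ⟨h, σ, H⟩ := aut_sl2 hF h5.ge α
  have f5 : (5 : F) = 0 := by
    have := FiniteField.cast_card_eq_zero F
    rw [h5] at this
    exact_mod_cast this
  have p5 : ∀ x : F, x ^ 5 = x := fun x => by
    have := FiniteField.pow_card x
    rwa [h5] at this
  have hσ : ∀ m, σ m = m := fun m => by
    have : m * (m - 1) * (m + 1) * (m - 2) * (m + 2) = 0 := by
      linear_combination p5 m - (m ^ 3 - m) * f5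
    simp only [mul_eq_zero, sub_eq_zero, add_eq_zero_iff_eq_neg] at this
    rcases this with (((rfl | rfl) | rfl) | rfl) | rfl <;> simp [map_ofNat]
  have H' : ∀ a : SL(2, F), (α a).1 * h.1 = h.1 * a.1 := fun a => by
    rw [H]; congr 1; ext i j; exact hσ _
  have hk' := H' k
  rw [h1] at hk'
  obtain ⟨x, y, e⟩ := comm_form hk h0 hk'
  have hd : x * x + y * y ≠ 0 := by
    rw [← det_comb hk, ← e]
    exact h.det_ne_zero
  have hxy : x * y * (x * x - y * y) = 0 :=
    (mul_eq_zero.1 (by linear_combination y * p5 x - x * p5 y :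
      x * y * (x * x - y * y) * (x * x + y * y) = 0)).resolve_right hd
  have e2 : h.1 * h.1 = (x * x - y * y) • (1 : Matrix (Fin 2) (Fin 2) F) + (2 * x * y) • k.1 := by
    rw [e]
    simp only [mul_add, add_mul, mul_smul_comm, smul_mul_assoc, mul_one, one_mul, sq_val hk]
    module
  have e4 : h.1 ^ 4 = ((x * x - y * y) ^ 2 - (2 * x * y) ^ 2) • (1 : Matrix (Fin 2) (Fin 2) F) := by
    rw [show h.1 ^ 4 = h.1 * h.1 * (h.1 * h.1) by noncomm_ring, e2]
    simp only [mul_add, add_mul, mul_smul_comm, smul_mul_assoc, mul_one, one_mul, sq_val hk]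
    linear_combination (norm := module) (4 * hxy) • k.1
  have h4 : α ^ 4 = 1 := eq_one_of_scalar (fun hx0 => (h ^ 4).ne_zero (by
    rw [Units.val_pow_eq_pow_val, e4, hx0, zero_smul])) (pow_rel H' 4) e4
  have h6 := orderOf_dvd_of_pow_eq_one h4
  have h7 : Nat.Coprime (orderOf α) (2 ^ 2) := (Nat.coprime_two_right.2 ho).pow_right 2
  exact orderOf_eq_one_iff.1 (h7.eq_one_of_dvd h6)
/-- `q ≡ ±3 (8)`: a 2-element of `Aut SL₂(q)` that is not inner is an outer diagonal one -/
theorem aut_outer (hF : Odd (Fintype.card F)) (h5 : 5 ≤ Fintype.card F) (h2 : ¬ IsSquare (2 : F))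
    (α : MulAut SL(2, F))
    {e : ℕ} (hα : α ^ 2 ^ e = 1) (hn : ∀ c : SL(2, F), α ≠ MulAut.conj c)
    (g : Matrix (Fin 2) (Fin 2) F) (hg : g.det = 2) :
    ∃ c : SL(2, F), ∀ a : SL(2, F), g * a.1 = (c * α a * c⁻¹).1 * g := by
  have h0 := H7.two_ne_zero_of_odd_card hF
  obtain ⟨h, σ, H⟩ := aut_sl2 hF h5 α
  have ht : ∀ (n : ℕ) (a : SL(2, F)), ((α ^ n) a).1.trace = (σ ^ n) a.1.trace := fun n a => by
    induction n with
    | zero => rfl
    | succ n ih => rw [pow_succ', MulAut.mul_apply, tr_aut H, ih, pow_succ']; rfl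
  have hσe : σ ^ 2 ^ e = 1 := RingEquiv.ext fun m => by
    let c : SL(2, F) := ⟨!![m, -1; 1, 0], by simp [det_fin_two]⟩
    have hc : c.1.trace = m := by
      change (!![m, -1; 1, 0] : Matrix (Fin 2) (Fin 2) F).trace = m
      simp [trace_fin_two]
    have := ht (2 ^ e) c
    rw [hα, MulAut.one_apply, hc] at this
    exact this.symm
  have hσ : σ = 1 := eq_one_of_pow (fun τ hτ => by_contra fun hne => h2 (sq_of_inv h0 τ hτ hne))
    σ e hσe
  have H' : ∀ a : SL(2, F), (α a).1 * h.1 = h.1 * a.1 := fun a => by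
    rw [H, hσ]; rfl
  have hd := h.det_ne_zero
  have hns : ¬ IsSquare h.1.det := by
    rintro ⟨s, hs⟩
    have hs0 : s ≠ 0 := fun h' => hd (by rw [hs, h', mul_zero])
    let c : SL(2, F) := ⟨s⁻¹ • h.1, by rw [det_smul, hs, Fintype.card_fin]; field_simp⟩
    refine hn c (MulEquiv.ext fun a => ?_)
    rw [MulAut.conj_apply, eq_mul_inv_iff_mul_eq]
    refine Subtype.ext ?_
    change (α a).1 * (s⁻¹ • h.1) = (s⁻¹ • h.1) * a.1
    rw [mul_smul_comm, smul_mul_assoc, H']
  obtain ⟨s, hs⟩ := sq_mul h2 hns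
  have hs0 : s ≠ 0 := fun h' => mul_ne_zero h0 hd (by rw [hs, h', mul_zero])
  have hdi : (h⁻¹).1.det = h.1.det⁻¹ := by
    refine eq_inv_of_mul_eq_one_left ?_
    rw [← det_mul, ← Units.val_mul, inv_mul_cancel, Units.val_one, det_one]
  let c : SL(2, F) := ⟨(h.1.det / s) • (g * (h⁻¹).1), by
    rw [det_smul, det_mul, hg, hdi, Fintype.card_fin]
    field_simp
    linear_combination hs⟩
  have hc : c.1 * h.1 = (h.1.det / s) • g := by
    change ((h.1.det / s) • (g * (h⁻¹).1)) * h.1 = _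
    rw [smul_mul_assoc, mul_assoc, ← Units.val_mul, inv_mul_cancel, Units.val_one, mul_one]
  refine ⟨c, fun a => smul_right_injective _ (div_ne_zero hd hs0) ?_⟩
  change (h.1.det / s) • (g * a.1) = (h.1.det / s) • ((c * α a * c⁻¹).1 * g)
  rw [← smul_mul_assoc, ← mul_smul_comm, ← hc, ← mul_assoc]
  change _ = (c * α a * c⁻¹ * c).1 * h.1
  rw [inv_mul_cancel_right]
  change _ = c.1 * (α a).1 * h.1
  rw [mul_assoc, mul_assoc, H']
theorem sq_two_iff (hF : Odd (Fintype.card F)) :
    IsSquare (2 : F) ↔ ∃ c : SL(2, F), orderOf c = 8 := by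
  have h0 := H7.two_ne_zero_of_odd_card hF
  have hne : (-1 : SL(2, F)) ≠ 1 := fun h => by
    have := congrArg (fun a : SL(2, F) => a.1 0 0) h
    simp [neg_val] at this
    exact h0 (by linear_combination -this)
  constructor
  · rintro ⟨s, hs⟩
    let c : SL(2, F) := ⟨!![s, -1; 1, 0], by simp [det_fin_two]⟩
    have h4 : c * c * (c * c) = -1 := Subtype.ext (by
      change !![s, -1; 1, 0] * !![s, -1; 1, 0] * (!![s, -1; 1, 0] * !![s, -1; 1, 0]) = -1
      ext i j
      fin_cases i <;> fin_cases j <;> simp [Matrix.mul_apply]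
      · linear_combination (1 - s * s) * hs
      · linear_combination s * hs
      · linear_combination -s * hs
      · linear_combination hs)
    have h4' : c ^ 2 ^ 2 = -1 := by rw [← h4, ← sq, ← sq, ← pow_mul]; rfl
    refine ⟨c, orderOf_eq_prime_pow (p := 2) (n := 2) (by rw [h4']; exact hne) ?_⟩
    rw [pow_succ, pow_mul, h4']
    simp
  · rintro ⟨c, hc⟩
    have h8 : c ^ 4 * c ^ 4 = 1 := by rw [← pow_add, show 4 + 4 = 8 from rfl, ← hc]; exact pow_orderOf_eq_one c
    have h4 : c ^ 4 ≠ 1 := pow_ne_one_of_lt_orderOf (by norm_num) (by rw [hc]; norm_num)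
    have h5 : c * c * (c * c) = -1 := by
      rw [← (inv_eq h8 h0).resolve_left h4, ← sq, ← sq, ← pow_mul]
    have h6 := tr_zero h5
    change (c.1 * c.1).trace = 0 at h6
    rw [ch, c.2, trace_sub, trace_smul, trace_smul, trace_one] at h6
    simp at h6
    exact ⟨c.1.trace, by linear_combination -h6⟩
theorem conj_four (hF : Odd (Fintype.card F)) {a b : SL(2, F)} (ha : a * a = -1) (hb : b * b = -1) :
    IsConj a b := by
  have h0 := H7.two_ne_zero_of_odd_card hF
  have key : ∀ a : SL(2, F), a * a = -1 → IsConj (H22.SL2Aut.ww : SL(2, F)) a := fun a ha => by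
    obtain ⟨x, y, z, e, hd⟩ := form ha
    obtain ⟨s, t, hst⟩ : ∃ s t : F, z * s * s - 2 * x * s * t - y * t * t = 1 := by
      by_cases hz : z = 0
      · have hx : x ≠ 0 := fun hx => by rw [hx, hz] at hd; simp at hd
        exact ⟨(-1 - y) / (2 * x), 1, by rw [hz]; field_simp; ring⟩
      · obtain ⟨A, B, hAB⟩ := H16.exists_sq_add_sq' z
        refine ⟨(A + x * B) / z, B, ?_⟩
        field_simp
        linear_combination hAB - B ^ 2 * hd
    let c : SL(2, F) := ⟨!![s, x * s + y * t; t, z * s - x * t], by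
      rw [det_fin_two_of]; linear_combination hst⟩
    refine isConj_iff.2 ⟨c, ?_⟩
    rw [mul_inv_eq_iff_eq_mul]
    refine Subtype.ext ?_
    change !![s, x * s + y * t; t, z * s - x * t] * !![0, -1; 1, 0] =
      a.1 * !![s, x * s + y * t; t, z * s - x * t]
    rw [e]
    ext i j
    fin_cases i <;> fin_cases j <;> simp [Matrix.mul_apply]
    · linear_combination -s * hd
    · ring
    · linear_combination -t * hd
  exact (key a ha).symm.trans (key b hb)
theorem exists_omega (hF : Odd (Fintype.card F)) {i j : SL(2, F)} (hi : i * i = -1)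
    (hj : j * j = -1) (hij : i * j = -(j * i)) :
    ∃ ω : SL(2, F), ω ^ 3 = 1 ∧ ω * i * ω⁻¹ = j ∧ ω * j * ω⁻¹ = i * j := by
  have h0 := H7.two_ne_zero_of_odd_card hF
  have hI := sq_val hi
  have hJ := sq_val hj
  have hJI : j.1 * i.1 = -(i.1 * j.1) := by
    have : i.1 * j.1 = -(j.1 * i.1) := congrArg Subtype.val hij
    rw [this, neg_neg]
  have hI' : ∀ X : Matrix (Fin 2) (Fin 2) F, i.1 * (i.1 * X) = -X := fun X => by
    rw [← mul_assoc, hI, neg_one_mul]
  have hJ' : ∀ X : Matrix (Fin 2) (Fin 2) F, j.1 * (j.1 * X) = -X := fun X => by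
    rw [← mul_assoc, hJ, neg_one_mul]
  have hJI' : ∀ X : Matrix (Fin 2) (Fin 2) F, j.1 * (i.1 * X) = -(i.1 * (j.1 * X)) := fun X => by
    rw [← mul_assoc, hJI, neg_mul, mul_assoc]
  have d1 : ∀ a : SL(2, F), a * a = -1 → (1 + a.1).det = 2 := fun a ha => by
    have := det_comb ha 1 1
    rw [one_smul, one_smul] at this
    rw [this]; ring
  let P : Matrix (Fin 2) (Fin 2) F := 1 + i.1 + j.1 + i.1 * j.1
  have hP : P = (1 + i.1) * (1 + j.1) := by simp only [P]; noncomm_ring
  let ω : SL(2, F) := ⟨(-2⁻¹ : F) • P, by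
    rw [det_smul, hP, det_mul, d1 i hi, d1 j hj, Fintype.card_fin]; field_simp⟩
  have hω : ω.1 = (-2⁻¹ : F) • P := rfl
  have P3 : P * P * P = (-8 : F) • (1 : Matrix (Fin 2) (Fin 2) F) := by
    simp only [P, mul_add, add_mul, mul_assoc, mul_one, one_mul, hI, hJ, hJI, hI', hJ', hJI',
      mul_neg, neg_mul, neg_neg]
    module
  refine ⟨ω, Subtype.ext ?_, ?_, ?_⟩
  · rw [pow_succ, sq]
    change ω.1 * ω.1 * ω.1 = 1
    rw [hω]
    simp only [smul_mul_assoc, mul_smul_comm, P3, smul_smul]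
    rw [show (-2⁻¹ * (-2⁻¹ * -2⁻¹ * -8) : F) = 1 by field_simp; norm_num, one_smul]
  · rw [mul_inv_eq_iff_eq_mul]
    refine Subtype.ext ?_
    change ω.1 * i.1 = j.1 * ω.1
    rw [hω, smul_mul_assoc, mul_smul_comm]
    congr 1
    simp only [P, mul_add, add_mul, mul_assoc, mul_one, one_mul, hI, hJ, hJI, hI', hJ', hJI',
      mul_neg, neg_mul, neg_neg]
    abel
  · rw [mul_inv_eq_iff_eq_mul]
    refine Subtype.ext ?_
    change ω.1 * j.1 = i.1 * j.1 * ω.1
    rw [hω, smul_mul_assoc, mul_smul_comm]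
    congr 1
    simp only [P, mul_add, add_mul, mul_assoc, mul_one, one_mul, hI, hJ, hJI, hI', hJ', hJI',
      mul_neg, neg_mul, neg_neg]
    abel
end PAU


end H20.P4
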