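import Mathlib
import Cfsg.Agent.H20.PI0

set_option autoImplicit false
set_option linter.unusedVariables false
set_option linter.unusedSectionVars false

namespace H20.P4

open Cfsg Subgroup
open scoped MatrixGroups

universe u v w

namespace PIMx

open Matrix

variable {F : Type*} [Field F]

def sw : Fin 2 ⊕ Fin 2 ≃ Fin 2 ⊕ Fin 2 := Equiv.swap (.inl 1) (.inr 0)

abbrev M2 (F : Type*) := Matrix (Fin 2) (Fin 2) F
abbrev M4 (F : Type*) := Matrix (Fin 2 ⊕ Fin 2) (Fin 2 ⊕ Fin 2) F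

/-- block matrices for the decomposition into two hyperbolic planes -/
def bl (P Q R S : M2 F) : M4 F := (fromBlocks P Q R S).submatrix sw sw

def om : M2 F := !![0, -1; 1, 0]

theorem bl_mul (P Q R S P' Q' R' S' : M2 F) : bl P Q R S * bl P' Q' R' S' =
    bl (P * P' + Q * R') (P * Q' + Q * S') (R * P' + S * R') (R * Q' + S * S') := by
  rw [bl, bl, submatrix_mul_equiv, fromBlocks_multiply, bl]

theorem bl_inj {P Q R S P' Q' R' S' : M2 F} :
    bl P Q R S = bl P' Q' R' S' ↔ P = P' ∧ Q = Q' ∧ R = R' ∧ S = S' := by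
  rw [← fromBlocks_inj]
  exact (reindex sw.symm sw.symm).injective.eq_iff

theorem bl_surj (X : M4 F) : ∃ P Q R S, X = bl P Q R S :=
  ⟨_, _, _, _, by rw [bl, fromBlocks_toBlocks (X.submatrix sw.symm sw.symm)]; simp⟩

theorem bl_T (P Q R S : M2 F) : (bl P Q R S)ᵀ = bl Pᵀ Rᵀ Qᵀ Sᵀ := by
  rw [bl, transpose_submatrix, fromBlocks_transpose, bl]

theorem bl_add (P Q R S P' Q' R' S' : M2 F) : bl P Q R S + bl P' Q' R' S' =
    bl (P + P') (Q + Q') (R + R') (S + S') := by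
  rw [bl, bl, bl, ← fromBlocks_add]; rfl

theorem bl_smul (c : F) : c • (1 : M4 F) = bl (c • 1) 0 0 (c • 1) := by
  rw [bl, ← smul_zero c, ← fromBlocks_smul, fromBlocks_one, submatrix_smul]
  simp

theorem bl_one : (1 : M4 F) = bl 1 0 0 1 := by simpa using bl_smul (1 : F)

theorem bl_J : J (Fin 2) F = bl om 0 0 om := by
  ext a b
  rcases a with a | a <;> rcases b with b | b <;> fin_cases a <;> fin_cases b <;>
    simp [bl, J, om, sw, Equiv.swap_apply_def]

theorem bl_tr (P Q R S : M2 F) : trace (bl P Q R S) = trace P + trace S := by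
  simp [bl, trace, sw, Equiv.swap_apply_def]; ring

theorem adj_om (A : M2 F) : adjugate A * om = om * Aᵀ := by
  ext a b; fin_cases a <;> fin_cases b <;> simp [adjugate_fin_two, om, mul_apply]

theorem om_det (A : M2 F) : A * om * Aᵀ = A.det • om := by
  rw [Matrix.mul_assoc, ← adj_om, ← Matrix.mul_assoc, mul_adjugate, smul_mul_assoc, Matrix.one_mul]

theorem om_inj {A B : M2 F} (h : A * om = B * om) : A = B := by
  have : (om : M2 F) * om = -1 := by
    ext a b; fin_cases a <;> fin_cases b <;> simp [om, mul_apply]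
  have k := congrArg (· * (om : M2 F)) h
  simp only [Matrix.mul_assoc, this] at k
  simpa using k

theorem adj_eq (A : M2 F) : adjugate A = trace A • (1 : M2 F) - A := by
  ext a b; fin_cases a <;> fin_cases b <;> simp [adjugate_fin_two, trace]

/-- a quaternion basis -/
structure Qt (I K : M2 F) : Prop where
  two : (2 : F) ≠ 0
  i : I * I = -1
  j : K * K = -1
  ji : K * I = -(I * K)

variable {I K : M2 F}

def Bm (I K : M2 F) (x : Fin 5 → F) : M2 F := x 1 • (1 : M2 F) + x 2 • I + x 3 • K + x 4 • (I * K)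
def Cm (I K : M2 F) (x : Fin 5 → F) : M2 F := x 1 • (1 : M2 F) - x 2 • I - x 3 • K - x 4 • (I * K)
def Mx (I K : M2 F) (x : Fin 5 → F) : M4 F := bl (x 0 • 1) (Bm I K x) (Cm I K x) (-(x 0 • 1))

namespace Qt
variable (h : Qt I K)
include h

theorem i' (A : M2 F) : I * (I * A) = -A := by rw [← mul_assoc, h.i, neg_one_mul]
theorem j' (A : M2 F) : K * (K * A) = -A := by rw [← mul_assoc, h.j, neg_one_mul]
theorem ji' (A : M2 F) : K * (I * A) = -(I * (K * A)) := by rw [← mul_assoc, h.ji, neg_mul, mul_assoc]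

theorem tr0 {A B : M2 F} (e : B * A = -(A * B)) : trace (A * B) = 0 := by
  have := trace_mul_comm A B
  rw [e, trace_neg, eq_neg_iff_add_eq_zero, ← two_mul] at this
  exact (mul_eq_zero.1 this).resolve_left h.two

theorem adjB (x : Fin 5 → F) : adjugate (Bm I K x) = Cm I K x := by
  have a1 := h.tr0 h.ji
  have a2 := h.tr0 (A := I) (B := I * K) (by simp [mul_assoc, h.ji, h.i'])
  have a3 := h.tr0 (A := I * K) (B := K) (by simp [mul_assoc, h.ji', h.j])
  rw [h.i', trace_neg, neg_eq_zero] at a2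
  rw [mul_assoc, h.j, mul_neg, mul_one, trace_neg, neg_eq_zero] at a3
  rw [adj_eq, Bm, Cm]
  simp only [trace_add, trace_smul, a1, a2, a3, trace_one, Fintype.card_fin, smul_eq_mul]
  module

theorem pol (x y : Fin 5 → F) : Mx I K x * Mx I K y + Mx I K y * Mx I K x = (2 * x ⬝ᵥ y) • (1 : M4 F) := by
  rw [Mx, Mx, bl_mul, bl_mul, bl_add, bl_smul, bl_inj]
  simp only [Bm, Cm, mul_add, add_mul, mul_sub, sub_mul, mul_assoc, smul_mul_assoc, mul_smul_comm,
    mul_one, one_mul, h.i, h.j, h.ji, h.i', h.ji', mul_neg, neg_mul, neg_neg, dotProduct,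
    Fin.sum_univ_five]
  refine ⟨?_, ?_, ?_, ?_⟩ <;> module

theorem dot {x y : Fin 5 → F} {c : F} :
    Mx I K x * Mx I K y + Mx I K y * Mx I K x = (2 * c) • (1 : M4 F) ↔ x ⬝ᵥ y = c := by
  rw [h.pol, (smul_left_injective F (one_ne_zero (α := M4 F))).eq_iff, mul_right_inj' h.two]

theorem inj {x y : Fin 5 → F} (e : Mx I K x = Mx I K y) : x = y :=
  dotProduct_eq _ _ fun z => h.dot.1 (by rw [e, h.pol])

theorem surB [Fintype F] (s : F) (B : M2 F) : ∃ x : Fin 5 → F, x 0 = s ∧ Bm I K x = B := by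
  classical
  obtain ⟨x, e⟩ := ((Fintype.bijective_iff_injective_and_card
    (fun x : Fin 5 → F => (x 0, Bm I K x))).2 ⟨fun x y e => h.inj (by
      obtain ⟨e1, e2⟩ := Prod.mk.inj e
      rw [Mx, Mx, ← h.adjB, ← h.adjB, e1, e2]), by simp [Matrix, ← pow_mul, ← pow_succ']⟩).2 (s, B)
  exact ⟨x, Prod.mk.inj e⟩

theorem sa (x : Fin 5 → F) : Mx I K x * J (Fin 2) F = J (Fin 2) F * (Mx I K x)ᵀ := by
  rw [Mx, bl_J, bl_T, bl_mul, bl_mul, ← h.adjB]
  simp [← adj_om, adjugate_adjugate]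

theorem sur [Fintype F] {X : M4 F} (e : X * J (Fin 2) F = J (Fin 2) F * Xᵀ) (t : trace X = 0) :
    ∃ x, X = Mx I K x := by
  obtain ⟨P, Q, R, S, rfl⟩ := bl_surj X
  rw [bl_J, bl_T, bl_mul, bl_mul, bl_inj] at e
  simp only [mul_zero, zero_mul, add_zero, zero_add, ← adj_om] at e
  obtain ⟨x, x0, x1⟩ := h.surB (trace P / 2) Q
  have k : ∀ {A : M2 F}, A * om = adjugate A * om → A = (trace A / 2) • (1 : M2 F) := fun {A} e => by
    have := (om_inj e).trans (adj_eq A)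
    rw [div_eq_inv_mul, mul_smul, eq_inv_smul_iff₀ h.two, two_smul, ← eq_sub_iff_add_eq, ← this]
  rw [bl_tr, add_eq_zero_iff_eq_neg'] at t
  refine ⟨x, bl_inj.2 ⟨x0 ▸ k e.1, x1.symm, by rw [← h.adjB, x1, om_inj e.2.2.1], ?_⟩⟩
  rw [k e.2.2.2, t, x0, neg_div, neg_smul]

theorem ex [Fintype F] (g : symplecticGroup (Fin 2) F) (x : Sph F) :
    ∃ y : Sph F, g.1 * Mx I K x.1 = Mx I K y.1 * g.1 := by
  have a : g⁻¹.1 * g.1 = 1 := congrArg Subtype.val (inv_mul_cancel g)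
  have b : g.1 * g⁻¹.1 = 1 := congrArg Subtype.val (mul_inv_cancel g)
  have c : g⁻¹.1 * J (Fin 2) F = J (Fin 2) F * g.1ᵀ := by
    conv_lhs => rw [← SymplecticGroup.mem_iff.1 g.2]
    rw [← mul_assoc, ← mul_assoc, a, one_mul]
  have d : g.1 * J (Fin 2) F = J (Fin 2) F * g⁻¹.1ᵀ := by
    conv_lhs => rw [← SymplecticGroup.mem_iff.1 g⁻¹.2]
    rw [← mul_assoc, ← mul_assoc, b, one_mul]
  obtain ⟨y, e⟩ := h.sur (X := g.1 * Mx I K x.1 * g⁻¹.1) (by
    rw [mul_assoc, c, ← mul_assoc, mul_assoc g.1, h.sa, ← mul_assoc, d]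
    simp only [transpose_mul, mul_assoc]) (by
    rw [trace_mul_cycle, a, one_mul, Mx, bl_tr, trace_neg, add_neg_cancel])
  refine ⟨⟨y, h.dot.1 ?_⟩, by rw [← e, mul_assoc, a, mul_one]⟩
  have := h.dot.2 x.2
  rw [← e, mul_assoc _ g⁻¹.1, ← mul_assoc g⁻¹.1, ← mul_assoc g⁻¹.1, a, one_mul, ← mul_assoc,
    mul_assoc g.1, ← add_mul, ← mul_add, this, mul_smul_comm, smul_mul_assoc, mul_one g.1, b]

end Qt

/-- the diagonal embedding -/
def io : SL(2, F) × SL(2, F) →* symplecticGroup (Fin 2) F where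
  toFun a := ⟨bl a.1.1 0 0 a.2.1, by
    rw [SymplecticGroup.mem_iff, bl_J, bl_T, bl_mul, bl_mul]; simp [om_det]⟩
  map_one' := Subtype.ext bl_one.symm
  map_mul' a b := Subtype.ext (by
    change bl _ _ _ _ = bl _ _ _ _ * bl _ _ _ _
    rw [bl_mul]; simp)

theorem std [Fintype F] (hF : Odd (Fintype.card F)) (h2 : (2 : F) ≠ 0) {A : M2 F}
    (h : adjugate A = -A) (d : A.det = 1) : ∃ P : SL(2, F), A * P.1 = P.1 * om := by
  have t : A 1 1 = -A 0 0 := by simpa [adjugate_fin_two] using congrFun₂ h 0 0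
  rw [det_fin_two, t] at d
  obtain ⟨x, y, e⟩ : ∃ x y, A 1 0 * x ^ 2 - 2 * A 0 0 * x * y - A 0 1 * y ^ 2 = 1 := by
    by_cases c : A 1 0 = 0
    · have a : A 0 0 ≠ 0 := fun e => by simp [c, e] at d
      exact ⟨-(1 + A 0 1) / (2 * A 0 0), 1, by rw [c]; field_simp; ring⟩
    · obtain ⟨u, y, e⟩ := FiniteField.exists_root_sum_quadratic
        (f := Polynomial.X ^ 2 - Polynomial.C (A 1 0)) (g := Polynomial.X ^ 2)
        (Polynomial.degree_X_pow_sub_C (by norm_num) _) (Polynomial.degree_X_pow 2) (Nat.odd_iff.1 hF)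
      simp only [Polynomial.eval_sub, Polynomial.eval_pow, Polynomial.eval_X, Polynomial.eval_C] at e
      exact ⟨(u + A 0 0 * y) / A 1 0, y, by field_simp; linear_combination e + y ^ 2 * d⟩
  refine ⟨⟨!![x, A 0 0 * x + A 0 1 * y; y, A 1 0 * x - A 0 0 * y], by
    rw [det_fin_two_of]; linear_combination e⟩, ?_⟩
  ext a b
  fin_cases a <;> fin_cases b <;> simp [mul_apply, om, t]
  · linear_combination (-x) * d
  · ring
  · linear_combination (-y) * d

end PIMx

/-! ### PIM -/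
section PIM
variable {F : Type*} [Field F] [Fintype F]
/-- the model: a group `H ≅ Sp₄(F)` acting on the unit vectors -/
theorem model (hF : Odd (Fintype.card F)) (i j : SL(2, F)) (hi : i * i = -1) (hj : j * j = -1)
    (hij : i * j = -(j * i)) :
    ∃ (_ : MulAction (Matrix.symplecticGroup (Fin 2) F) (Sph F)) (v0 v1 v2 : Sph F)
      (ι : SL(2, F) × SL(2, F) →* Matrix.symplecticGroup (Fin 2) F)
      (σ : Matrix.symplecticGroup (Fin 2) F),
      (∀ (h : Matrix.symplecticGroup (Fin 2) F) (x y : Sph F), x.adj y → (h • x).adj (h • y)) ∧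
      v0.adj v1 ∧ v0.adj v2 ∧ v1.adj v2 ∧ Function.Injective ι ∧
      ι.range = MulAction.stabilizer _ v0 ∧
      (∀ a b, ι (a, b) • v1 = v1 → a = b) ∧
      σ • v0 = v1 ∧ σ • v1 = v0 ∧ σ • v2 = v2 ∧
      ι (i * j, j) • v1 = v2 ∧ ι (i * j, j) • v2 = v1 ∧
      (∀ x, v0.adj x → ∃ a b, ι (a, b) • v1 = x) ∧
      (∀ x, v0.adj x → v1.adj x → ∃ a, ι (a, a) • v1 = v1 ∧ ι (a, a) • v2 = x) ∧
      (∀ a : SL(2, F), ∃ b : SL(2, F), (j.1 - (i * j).1) * a.1 = b.1 * (j.1 - (i * j).1) ∧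
        σ * ι (a, a) * σ⁻¹ = ι (b, b)) ∧
      (σ * σ = 1 ∨ σ * σ = ι (-1, -1)) ∧
      ((σ * ι (i * j, j)) ^ 3 = 1 ∨ (σ * ι (i * j, j)) ^ 3 = ι (-1, -1)) ∧
      ι (-1, -1) ∈ center _ := by
  open PIMx Matrix in
  have h2 : (2 : F) ≠ 0 := Ring.two_ne_zero fun e => by
    have := FiniteField.even_card_of_char_two e
    have := Nat.odd_iff.1 hF
    omega
  have h : Qt i.1 j.1 := ⟨h2, congrArg Subtype.val hi, congrArg Subtype.val hj,
    (neg_eq_iff_eq_neg.2 (congrArg Subtype.val hij)).symm⟩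
  choose act hact using h.ex
  have iff : ∀ {g x y}, act g x = y ↔ g.1 * Mx i.1 j.1 x.1 = Mx i.1 j.1 y.1 * g.1 := fun {g x y} =>
    ⟨fun e => e ▸ hact g x, fun e => Subtype.ext (h.inj (by
      have := congrArg (· * g⁻¹.1) ((hact g x).symm.trans e)
      simpa only [mul_assoc, show g.1 * g⁻¹.1 = 1 from congrArg Subtype.val (mul_inv_cancel g),
        mul_one] using this))⟩
  let A : MulAction (symplecticGroup (Fin 2) F) (Sph F) :=
    { smul := act
      one_smul := fun x => iff.2 ((one_mul _).trans (mul_one _).symm)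
      mul_smul := fun g k x => iff.2 (by
        change g.1 * k.1 * _ = Mx _ _ (act g (act k x)).1 * (g.1 * k.1)
        rw [mul_assoc, hact, ← mul_assoc, hact, mul_assoc]) }
  have iff' : ∀ {g : symplecticGroup (Fin 2) F} {x y : Sph F},
    g • x = y ↔ g.1 * Mx i.1 j.1 x.1 = Mx i.1 j.1 y.1 * g.1 := iff
  let v0 : Sph F := ⟨![1, 0, 0, 0, 0], by simp⟩
  let v1 : Sph F := ⟨![0, 1, 0, 0, 0], by simp⟩
  let v2 : Sph F := ⟨![0, 0, 1, 0, 0], by simp⟩
  have m0 : Mx i.1 j.1 v0.1 = bl 1 0 0 (-1) := by simp [Mx, Bm, Cm, v0]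
  have m1 : Mx i.1 j.1 v1.1 = bl 0 1 1 0 := by simp [Mx, Bm, Cm, v1]
  have m2 : Mx i.1 j.1 v2.1 = bl 0 i.1 (-i.1) 0 := by simp [Mx, Bm, Cm, v2]
  have io1 : ∀ a b : SL(2, F), (io (a, b)).1 = bl a.1 0 0 b.1 := fun _ _ => rfl
  have cm : ∀ a b : SL(2, F), (a * b).1 = a.1 * b.1 := fun _ _ => rfl
  have cn : (-1 : SL(2, F)).1 = -1 := rfl
  have ad : ∀ a : SL(2, F), a.1 * adjugate a.1 = 1 := fun a => by rw [mul_adjugate, a.2, one_smul]
  have ad' : ∀ a : SL(2, F), adjugate a.1 * a.1 = 1 := fun a => by rw [adjugate_mul, a.2, one_smul]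
  have ac : ∀ {a b : SL(2, F)} {x y : Sph F}, x.1 0 = y.1 0 →
      a.1 * Bm i.1 j.1 x.1 = Bm i.1 j.1 y.1 * b.1 → io (a, b) • x = y := fun {a b x y} e0 e => by
    have := congrArg (fun z => b.1 * adjugate z * a.1) e
    simp only [adjugate_mul_distrib, h.adjB, ← mul_assoc, ad, one_mul] at this
    rw [mul_assoc, ad', mul_one] at this
    rw [iff', io1, Mx, Mx, bl_mul, bl_mul]
    simp [e0, e, this]
  have b1 : Bm i.1 j.1 v1.1 = 1 := by simp [Bm, v1]
  have b2 : Bm i.1 j.1 v2.1 = i.1 := by simp [Bm, v2]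
  have dt : ∀ x : Sph F, v0.adj x → x.1 0 = 0 ∧ (Bm i.1 j.1 x.1).det = 1 := fun x e => by
    have e0 : x.1 0 = 0 := by simpa [Sph.adj, v0, dotProduct, Fin.sum_univ_five] using e
    have := h.dot.2 x.2
    rw [Mx, bl_mul, bl_add, bl_smul, bl_inj, e0, ← h.adjB, mul_adjugate] at this
    have := congrFun₂ this.1 0 0
    simp only [zero_smul, zero_add, mul_zero, Matrix.add_apply, Matrix.smul_apply, one_apply_eq,
      smul_eq_mul, mul_one, ← two_mul] at this
    exact ⟨e0, mul_left_cancel₀ h2 (this.trans (mul_one _).symm)⟩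
  let g : M2 F := (2 : F)⁻¹ • (j.1 - i.1 * j.1)
  have gB : j.1 - i.1 * j.1 = Bm i.1 j.1 ![0, 0, 0, 1, -1] := by simp [Bm, sub_eq_add_neg]
  have gA : adjugate (j.1 - i.1 * j.1) = -(j.1 - i.1 * j.1) := by
    rw [gB, h.adjB]; simp [Bm, Cm]; abel
  have g2 : (j.1 - i.1 * j.1) * (j.1 - i.1 * j.1) = (-2 : F) • 1 := by
    simp only [mul_sub, sub_mul, mul_assoc, h.i, h.j, h.ji', mul_neg, neg_neg, mul_one]
    module
  have gd : (j.1 - i.1 * j.1).det = 2 := by
    have := mul_adjugate (j.1 - i.1 * j.1)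
    rw [gA, mul_neg, g2, ← neg_smul, neg_neg] at this
    exact (smul_left_injective F one_ne_zero this).symm
  have gd' : g * om * gᵀ = (2 : F)⁻¹ • om := by
    rw [om_det, det_smul, gd, Fintype.card_fin, pow_two, mul_assoc, inv_mul_cancel₀ h2, mul_one]
  let σ : symplecticGroup (Fin 2) F := ⟨bl g g g (-g), by
    rw [SymplecticGroup.mem_iff, bl_J, bl_T, bl_mul, bl_mul]
    simp only [mul_zero, add_zero, zero_add, transpose_neg, mul_neg, neg_mul, neg_neg, gd',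
      add_neg_cancel, ← two_smul F, smul_inv_smul₀ h2]⟩
  have σ1 : σ.1 = bl g g g (-g) := rfl
  refine ⟨A, v0, v1, v2, io, σ, fun k x y e => h.dot.1 ?_, by simp [Sph.adj, v0, v1],
    by simp [Sph.adj, v0, v2], by simp [Sph.adj, v1, v2], fun a b e => ?_, Subgroup.ext fun k => ?_,
    fun a b e => ?_, iff'.2 ?_, iff'.2 ?_, iff'.2 ?_, ac rfl ?_, ac rfl ?_, fun x e => ?_,
    fun x e e' => ?_, fun a => ?_, .inr (Subtype.ext ?_), .inr (Subtype.ext ?_),
    mem_center_iff.2 fun k => Subtype.ext ?_⟩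
  · have := congrArg (· * k⁻¹.1) (congrArg (k.1 * ·) (h.dot.2 e))
    have b : k.1 * k⁻¹.1 = 1 := congrArg Subtype.val (mul_inv_cancel k)
    simp only [mul_add, ← mul_assoc, iff'.1 (rfl : k • x = _), iff'.1 (rfl : k • y = _)] at this
    simp only [mul_assoc, iff'.1 (rfl : k • x = _), iff'.1 (rfl : k • y = _), add_mul, b, mul_one,
      mul_smul_comm, smul_mul_assoc] at this
    exact this
  · obtain ⟨e1, -, -, e2⟩ := bl_inj.1 (congrArg Subtype.val e)
    exact Prod.ext (Subtype.ext e1) (Subtype.ext e2)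
  · refine ⟨?_, fun e => ?_⟩
    · rintro ⟨⟨a, b⟩, rfl⟩
      exact ac rfl (by simp [Bm, v0])
    obtain ⟨P, Q, R, S, e1⟩ := bl_surj k.1
    have e2 := iff'.1 e
    have e3 := SymplecticGroup.mem_iff.1 k.2
    have z : ∀ {Q : M2 F}, -Q = Q → Q = 0 := fun e => by
      rwa [neg_eq_iff_add_eq_zero, ← two_smul F, smul_eq_zero_iff_right h2] at e
    rw [m0, e1, bl_mul, bl_mul, bl_inj] at e2
    obtain rfl : Q = 0 := z (by simpa using e2.2.1)
    obtain rfl : R = 0 := z (by simpa using e2.2.2.1.symm)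
    rw [e1, bl_J, bl_T, bl_mul, bl_mul, bl_inj] at e3
    have d : ∀ {P : M2 F}, P * om * Pᵀ = om → P.det = 1 := fun e => by
      simpa [om] using congrFun₂ ((om_det _).symm.trans e) 1 0
    exact ⟨(⟨P, d (by simpa using e3.1)⟩, ⟨S, d (by simpa using e3.2.2.2)⟩), Subtype.ext e1.symm⟩
  · rw [iff', io1, m1, bl_mul, bl_mul, bl_inj] at e
    exact Subtype.ext (by simpa using e.2.1)
  · rw [σ1, m0, m1, bl_mul, bl_mul]; simp
  · rw [σ1, m0, m1, bl_mul, bl_mul]; simp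
  · have : g * i.1 = -(i.1 * g) := by
      simp only [g, mul_sub, sub_mul, mul_assoc, h.ji, h.i', mul_neg, neg_neg, smul_mul_assoc,
        mul_smul_comm]
      module
    rw [σ1, m2, bl_mul, bl_mul]; simp [this]
  · rw [b1, b2, mul_one]; rfl
  · rw [b1, b2, one_mul, cm, mul_assoc, h.ji, mul_neg, h.i', neg_neg]
  · exact ⟨⟨_, (dt x e).2⟩, 1, ac (dt x e).1.symm (by simp [b1])⟩
  · have e1 : x.1 1 = 0 := by simpa [Sph.adj, v1, dotProduct, Fin.sum_univ_five] using e'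
    obtain ⟨P, hP⟩ := std hF h2 (A := i.1) (by rw [← b2, h.adjB, b2]; simp [Cm, v2]) i.2
    obtain ⟨Q, hQ⟩ := std hF h2 (A := Bm i.1 j.1 x.1) (by
      rw [h.adjB, Bm, Cm, e1]; module) (dt x e).2
    refine ⟨Q * P⁻¹, ac rfl (by simp [b1]), ac (dt x e).1.symm ?_⟩
    have a1 : P⁻¹.1 * P.1 = 1 := congrArg Subtype.val (inv_mul_cancel P)
    have a2 : P.1 * P⁻¹.1 = 1 := congrArg Subtype.val (mul_inv_cancel P)
    rw [b2, cm, ← mul_assoc, hQ, ← mul_one i.1, ← a2, ← mul_assoc i.1, hP]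
    simp only [← mul_assoc]
    rw [mul_assoc Q.1, a1, mul_one]
  · have k : (j.1 - i.1 * j.1) * a.1 =
        (-(2 : F)⁻¹) • ((j.1 - i.1 * j.1) * a.1 * (j.1 - i.1 * j.1)) * (j.1 - i.1 * j.1) := by
      rw [smul_mul_assoc, mul_assoc, g2, mul_smul_comm, mul_one, smul_smul, neg_mul_neg,
        inv_mul_cancel₀ h2, one_smul]
    refine ⟨⟨_, ?_⟩, k, mul_inv_eq_iff_eq_mul.2 (Subtype.ext ?_)⟩
    · rw [det_smul, det_mul, det_mul, gd, a.2, Fintype.card_fin]; field_simp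
    · have k' := (smul_mul_assoc (2 : F)⁻¹ _ _).trans
        ((congrArg ((2 : F)⁻¹ • ·) k).trans (mul_smul_comm _ _ _).symm)
      change bl g g g (-g) * bl _ 0 0 _ = bl _ 0 0 _ * bl g g g (-g)
      rw [bl_mul, bl_mul]
      simp only [mul_zero, zero_mul, add_zero, zero_add, neg_mul, mul_neg, neg_zero, g, k']
  · have : g * g + g * g = -1 := by
      rw [← two_smul F, smul_mul_assoc, mul_smul_comm, g2, smul_inv_smul₀ h2, smul_smul, mul_neg,
        inv_mul_cancel₀ h2, neg_smul, one_smul]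
    rw [Submonoid.coe_mul, σ1, io1, bl_mul]
    simp [this]
  · have e1 : g * (i.1 * j.1) = (2 : F)⁻¹ • (1 + i.1) := by
      simp only [g, sub_mul, mul_assoc, h.j, h.ji', h.i, mul_neg, neg_neg, smul_mul_assoc, mul_one]
      module
    have e2 : g * j.1 = (2 : F)⁻¹ • (i.1 - 1) := by
      simp only [g, sub_mul, mul_assoc, h.j, mul_neg, smul_mul_assoc, mul_one]
      module
    rw [pow_succ, pow_two, Submonoid.coe_mul, Submonoid.coe_mul, Submonoid.coe_mul, σ1, io1, io1, bl_mul,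
      cm]
    simp only [mul_zero, add_zero, zero_add, neg_mul, e1, e2]
    rw [bl_mul, bl_mul, bl_inj]
    simp only [mul_add, add_mul, mul_sub, sub_mul, h.i, mul_neg, neg_mul,
      smul_mul_assoc, mul_smul_comm, mul_one, one_mul, cn]
    refine ⟨?_, ?_, ?_, ?_⟩ <;> match_scalars <;> field_simp <;> ring
  · obtain ⟨P, Q, R, S, e1⟩ := bl_surj k.1
    rw [Submonoid.coe_mul, Submonoid.coe_mul, e1, io1, bl_mul, bl_mul]
    simp
end PIM

end H20.P4
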