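import Mathlib
import Cfsg.Agent.H20.P0
import Cfsg.Agent.H20.PIM
import Cfsg.Agent.H24.G2Syl
import Cfsg.Agent.S0245
import Cfsg.Agent.S0246

set_option autoImplicit false
set_option linter.unusedVariables false
set_option linter.unusedSectionVars false

namespace H20.P4

open Cfsg Subgroup
open scoped MatrixGroups

universe u

variable {m : ℕ} {G : Type u} [Group G] [Finite G]

namespace PEMx

open H24.G2S (pw pw_add pw_zero pw_neg pw_h)

variable {Γ : Type*} [Group Γ]

/-- the defining relations of `W m` on `(r,r), (r²,1), (f,1), (1,f), s` -/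
structure Rel (m : ℕ) (A B F1 F2 S : Γ) : Prop where
  hA : A ^ 2 ^ (m + 2) = 1
  hB : B ^ 2 ^ (m + 1) = 1
  AB : Commute A B
  f1A : F1 * A = A * B⁻¹ * F1
  f1B : F1 * B = B⁻¹ * F1
  f2A : F2 * A = A⁻¹ * B * F2
  f2B : F2 * B = B * F2
  sA : S * A = A * S
  sB : S * B = A * A * B⁻¹ * S
  f1 : F1 * F1 = 1
  f2 : F2 * F2 = 1
  s : S * S = 1
  f12 : F2 * F1 = F1 * F2
  sf : S * F1 = F2 * S

open Classical in
noncomputable def hf (x : R m) : R m := if h : ∃ t, x = 2 * t then h.choose else 0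

noncomputable def ρ (A B : Γ) (i j : R m) : Γ := pw A j * pw B (hf (i - j))

def gg (F1 F2 S : Γ) (a b e : Bool) : Γ :=
  (if a then F1 else 1) * ((if b then F2 else 1) * (if e then S else 1))

theorem half {i j : R m} (h : par m i = par m j) : ∃ t, i = j + 2 * t := by
  obtain ⟨t, ht⟩ := exists_half (x := i - j) (by rw [map_sub, h, sub_self])
  exact ⟨t, by linear_combination ht⟩

theorem cent {x : W m} (hx : ∀ d, d * x = x * d) : x = 1 ∨ x = W.z m := by
  obtain ⟨i, j, a, b, e, hp⟩ := x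
  have h1 := hx (W.x1 m)
  have h2 := hx ⟨0, 0, true, false, false, rfl⟩
  have h3 := hx (W.s m)
  have h20 : (2 : R m) ≠ 0 := fun e0 => hh_ne (m := m) (by rw [← two_kk, e0, zero_mul])
  cases a <;> cases b <;> cases e <;> simp [W.ext_iff, W.x1, W.s] at h1 h2 h3
  · obtain ⟨rfl, -⟩ := h3
    rcases two_mul_eq_zero (x := j) (by linear_combination -h2) with rfl | rfl
    · exact .inl rfl
    · exact .inr rfl
  · exact absurd (by linear_combination h1.1) h20

namespace Rel
variable {A B F1 F2 S : Γ} (h : Rel m A B F1 F2 S)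
include h

theorem hB' : B ^ 2 ^ (m + 2) = 1 := by rw [pow_succ, pow_mul, h.hB, one_pow]

theorem ρ_eq {i j : R m} (t : R m) (e : i = j + 2 * t) : ρ A B i j = pw A j * pw B t := by
  have h1 : ∃ t, i - j = 2 * t := ⟨t, by linear_combination e⟩
  have h2 : i - j = 2 * hf (i - j) := by rw [hf, dif_pos h1]; exact h1.choose_spec
  rcases two_mul_eq_zero (x := hf (i - j) - t) (by linear_combination e - h2) with e' | e'
  · rw [ρ, sub_eq_zero.1 e']
  · rw [ρ, show hf (i - j) = t + hh m by linear_combination e', pw_add h.hB', hh, pw_h (by omega)]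
    exact congrArg _ (by rw [show m + 2 - 1 = m + 1 from rfl, h.hB, mul_one])

theorem cm (i j : R m) : Commute (pw A i) (pw B j) := h.AB.pow_pow _ _

theorem ρ_add {i j i' j' : R m} (e : par m i = par m j) (e' : par m i' = par m j') :
    ρ A B (i + i') (j + j') = ρ A B i j * ρ A B i' j' := by
  obtain ⟨t, ht⟩ := half e
  obtain ⟨t', ht'⟩ := half e'
  rw [h.ρ_eq (t + t') (by linear_combination ht + ht'), h.ρ_eq t ht, h.ρ_eq t' ht', pw_add h.hA, pw_add h.hB',
    (h.cm j' t).mul_mul_mul_comm]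

theorem f1ρ {i j : R m} (e : par m i = par m j) : F1 * ρ A B i j = ρ A B (-i) j * F1 := by
  obtain ⟨t, ht⟩ := half e
  have a1 : F1 * pw A j = pw A j * pw B (-j) * F1 := by
    rw [pw_neg h.hB', pw, pw, ← inv_pow, ← h.AB.inv_right.mul_pow]
    exact SemiconjBy.pow_right (a := F1) h.f1A _
  have a2 : F1 * pw B t = pw B (-t) * F1 := by
    rw [pw_neg h.hB', pw, ← inv_pow]
    exact SemiconjBy.pow_right (a := F1) h.f1B _
  rw [h.ρ_eq t ht, h.ρ_eq (-j + -t) (by linear_combination -ht), pw_add h.hB', ← mul_assoc, a1, mul_assoc, a2]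
  simp only [mul_assoc]

theorem f2ρ {i j : R m} (e : par m i = par m j) : F2 * ρ A B i j = ρ A B i (-j) * F2 := by
  obtain ⟨t, ht⟩ := half e
  have a1 : F2 * pw A j = pw A (-j) * pw B j * F2 := by
    rw [pw_neg h.hA, pw, pw, ← inv_pow, ← h.AB.inv_left.mul_pow]
    exact SemiconjBy.pow_right (a := F2) h.f2A _
  have a2 : F2 * pw B t = pw B t * F2 := SemiconjBy.pow_right (a := F2) h.f2B _
  rw [h.ρ_eq t ht, h.ρ_eq (j + t) (by linear_combination ht), pw_add h.hB', ← mul_assoc, a1, mul_assoc, a2]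
  simp only [mul_assoc]

theorem sρ {i j : R m} (e : par m i = par m j) : S * ρ A B i j = ρ A B j i * S := by
  obtain ⟨t, ht⟩ := half e
  have a1 : S * pw A j = pw A j * S := SemiconjBy.pow_right (a := S) h.sA _
  have a2 : S * pw B t = pw A t * pw A t * pw B (-t) * S := by
    rw [pw_neg h.hB', pw, pw, ← inv_pow, ← (Commute.refl A).mul_pow,
      ← (h.AB.inv_right.mul_left h.AB.inv_right).mul_pow]
    exact SemiconjBy.pow_right (a := S) h.sB _
  rw [h.ρ_eq t ht, h.ρ_eq (-t) (by linear_combination -ht), ← mul_assoc, a1, mul_assoc, a2,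
    show i = j + (t + t) by linear_combination ht, pw_add h.hA, pw_add h.hA]
  simp only [mul_assoc]

theorem gρ (a b e : Bool) {i j : R m} (hp : par m i = par m j) : gg F1 F2 S a b e * ρ A B i j =
    ρ A B (sg m a * if e then j else i) (sg m b * if e then i else j) * gg F1 F2 S a b e := by
  have a1 : ∀ {i j : R m}, par m i = par m j →
      (if a then F1 else 1) * ρ A B i j = ρ A B (sg m a * i) j * (if a then F1 else 1) := fun hp => by
    cases a <;> simp [h.f1ρ hp]
  have a2 : ∀ {i j : R m}, par m i = par m j →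
      (if b then F2 else 1) * ρ A B i j = ρ A B i (sg m b * j) * (if b then F2 else 1) := fun hp => by
    cases b <;> simp [h.f2ρ hp]
  have a3 : (if e then S else 1) * ρ A B i j =
      ρ A B (if e then j else i) (if e then i else j) * (if e then S else 1) := by
    cases e <;> simp [h.sρ hp]
  have hp' : par m (if e then j else i) = par m (if e then i else j) := by cases e <;> simp [hp]
  rw [gg, mul_assoc, mul_assoc, a3, ← mul_assoc (if b then F2 else 1), a2 hp', ← mul_assoc, ← mul_assoc,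
    a1 (by rw [par_sg, hp'])]
  simp only [mul_assoc]

theorem g_mul (a b e a' b' e' : Bool) :
    gg F1 F2 S (xor a (if e then b' else a')) (xor b (if e then a' else b')) (xor e e') =
      gg F1 F2 S a b e * gg F1 F2 S a' b' e' := by
  have s2 : S * F2 = F1 * S := by
    calc S * F2 = S * (F2 * S) * S := by rw [mul_assoc, mul_assoc, h.s, mul_one]
      _ = _ := by rw [← h.sf, ← mul_assoc, h.s, one_mul]
  have b1 : ∀ r, F1 * (F1 * r) = r := fun r => by rw [← mul_assoc, h.f1, one_mul]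
  have b2 : ∀ r, F2 * (F2 * r) = r := fun r => by rw [← mul_assoc, h.f2, one_mul]
  have b3 : ∀ r, F2 * (F1 * r) = F1 * (F2 * r) := fun r => by rw [← mul_assoc, h.f12, mul_assoc]
  have b4 : ∀ r, S * (F1 * r) = F2 * (S * r) := fun r => by rw [← mul_assoc, h.sf, mul_assoc]
  have b5 : ∀ r, S * (F2 * r) = F1 * (S * r) := fun r => by rw [← mul_assoc, s2, mul_assoc]
  cases a <;> cases b <;> cases e <;> cases a' <;> cases b' <;> cases e' <;>
    simp [gg, mul_assoc, b1, b2, b3, b4, b5, s2, h.f1, h.f2, h.s, h.f12, h.sf]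

/-- the homomorphism -/
noncomputable def lift : W m →* Γ := MonoidHom.mk' (fun x => ρ A B x.i x.j * gg F1 F2 S x.a x.b x.e) fun x y => by
  rw [mul_i, mul_j, mul_a, mul_b, mul_e, h.g_mul, h.ρ_add x.hp (by rw [par_sg, par_sg]; cases x.e <;> simp [y.hp]),
    mul_assoc, ← mul_assoc (ρ A B (sg m x.a * _) _), ← h.gρ _ _ _ y.hp]
  simp only [mul_assoc]

theorem lift_inj (hz : A ^ 2 ^ (m + 1) ≠ 1) : Function.Injective h.lift := by
  rw [← MonoidHom.ker_eq_bot_iff]
  by_contra hne
  obtain ⟨x, hx, hc, h1⟩ := H24.G2S.exists_center_mem W_p _ hne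
  obtain rfl := (cent (mem_center_iff.1 hc)).resolve_left h1
  have : ρ A B (hh m) (hh m) * gg F1 F2 S false false false = 1 := hx
  rw [h.ρ_eq 0 (by simp), pw_zero, hh, pw_h (by omega)] at this
  exact hz (by simpa [gg] using this)

end Rel

theorem exists_hom {K : Type*} [Group K] [HasDistribNeg K] (φ : K × K →* Γ) (T : Γ) (hT : T * T = 1)
    (hφ : ∀ p, T * φ p.swap = φ p * T) (h1 : φ (-1, -1) = 1) (h2 : φ (-1, 1) ≠ 1) (x ι k : K)
    (hx : x ^ 2 ^ (m + 1) = -1) (hι : ι * x = x * ι) (hk : k * x = x⁻¹ * k) (ι2 : ι * ι = -1)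
    (k2 : k * k = -1) (kι : k * ι = -(ι * k)) : ∃ f : W m →* Γ, Function.Injective f := by
  have c1 : ∀ p q q' : K × K, p * q = q'.swap * p → T * φ p * φ q = φ q' * (T * φ p) := fun p q q' e => by
    rw [mul_assoc, ← map_mul, e, map_mul, ← mul_assoc, hφ, mul_assoc]
  have c2 : ∀ p q : K × K, T * φ p * (T * φ q) = φ (p.swap * q) := fun p q => by
    rw [← mul_assoc, mul_assoc T, ← hφ, ← mul_assoc, hT, one_mul, map_mul]
  have hι' : ι * x⁻¹ = x⁻¹ * ι := (Commute.inv_right hι).eq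
  have hk' : k * x⁻¹ = x * k := by simpa using (SemiconjBy.inv_right hk).eq
  have R : Rel m (φ (x, 1)) (φ (x, x⁻¹)) (T * φ (ι, ι)) (T * φ (k, k)) (φ (ι, k)) :=
    { hA := by rw [← map_pow, Prod.pow_mk, pow_succ, pow_mul, hx]; simp [← Prod.one_eq_mk]
      hB := by rw [← map_pow, Prod.pow_mk, inv_pow, hx, ← h1]; simp
      AB := Commute.map (show (x, 1) * (x, x⁻¹) = (x, x⁻¹) * (x, 1) by simp) φ
      f1A := by rw [← map_inv, ← map_mul]; exact c1 _ _ _ (by simp [hι])
      f1B := by rw [← map_inv]; exact c1 _ _ _ (by simp [hι, hι'])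
      f2A := by rw [← map_inv, ← map_mul]; exact c1 _ _ _ (by simp [hk])
      f2B := c1 _ _ _ (by simp [hk, hk'])
      sA := by rw [← map_mul, ← map_mul]; simp [hι]
      sB := by rw [← map_inv, ← map_mul, ← map_mul, ← map_mul, ← map_mul]; simp [hι, hk']
      f1 := by rw [c2, ← h1]; simp [ι2]
      f2 := by rw [c2, ← h1]; simp [k2]
      s := by rw [← map_mul, ← h1]; simp [ι2, k2]
      f12 := by rw [c2, c2, ← one_mul (φ (_ * (k, k))), ← h1, ← map_mul]; simp [kι]
      sf := by rw [← mul_assoc, ← hφ, mul_assoc, mul_assoc, ← map_mul, ← map_mul]; simp [ι2, k2] }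
  exact ⟨R.lift, R.lift_inj (by rw [← map_pow, Prod.pow_mk, hx, one_pow]; exact h2)⟩

open PIMx Matrix in
theorem exists_psp {F : Type*} [Field F] [Fintype F] (hF : Odd (Fintype.card F)) :
    ∃ m r : ℕ, Odd r ∧ Fintype.card F ^ 2 - 1 = 2 ^ (m + 3) * r ∧
      ∃ f : W m →* Cfsg.PSp 2 F, Function.Injective f := by
  have h2 : (2 : F) ≠ 0 := by
    refine Ring.two_ne_zero fun e => ?_
    have := FiniteField.even_card_of_char_two e
    rw [Nat.odd_iff] at hF
    omega
  obtain ⟨n, r, hn, hr, hq, c, u, j, h0, h1, h2', h3, h4, h5, h6, h7, h8⟩ := H24.G2S.exists_mats hF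
  obtain ⟨m, rfl⟩ := Nat.exists_eq_add_of_le' hn
  refine ⟨m, r, hr, hq, ?_⟩
  let T : symplecticGroup (Fin 2) F := ⟨bl 0 1 1 0, by
    rw [SymplecticGroup.mem_iff, bl_J, bl_T, bl_mul, bl_mul]; simp⟩
  have mv : ∀ a b : symplecticGroup (Fin 2) F, (a * b).1 = a.1 * b.1 := fun _ _ => rfl
  have iv : ∀ p : SL(2, F) × SL(2, F), (io p).1 = bl p.1.1 0 0 p.2.1 := fun _ => rfl
  have Tv : T.1 = bl 0 1 1 0 := rfl
  have n1 : (-1 : SL(2, F)).1 = -1 := rfl
  have o1 : (1 : SL(2, F)).1 = 1 := rfl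
  let x : SL(2, F) := ⟨c.det⁻¹ • (c * c), by rw [det_smul, det_mul, Fintype.card_fin]; field_simp⟩
  refine exists_hom ((QuotientGroup.mk' _).comp io) (QuotientGroup.mk' _ T) ?_ (fun p => ?_) ?_ ?_ x ⟨j, h2'⟩ ⟨u, h1⟩
    (Subtype.ext ?_) (Subtype.ext ?_) ?_ (Subtype.ext h4) (Subtype.ext h3) (Subtype.ext h5)
  · rw [← map_mul, show T * T = 1 from Subtype.ext (by rw [mv, Tv, bl_mul]; simpa using bl_one.symm), map_one]
  · rw [MonoidHom.comp_apply, MonoidHom.comp_apply, ← map_mul, ← map_mul]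
    exact congrArg _ (Subtype.ext (by rw [mv, mv, iv, iv, Tv, bl_mul, bl_mul]; simp))
  · refine (QuotientGroup.eq_one_iff _).2 (mem_center_iff.2 fun g => Subtype.ext ?_)
    obtain ⟨P, Q, R, S, e⟩ := bl_surj g.1
    rw [mv, mv, iv, e, bl_mul, bl_mul]; simp [n1]
  · intro e
    have := congrArg Subtype.val (mem_center_iff.1 ((QuotientGroup.eq_one_iff _).1 e) T)
    rw [mv, mv, iv, Tv, bl_mul, bl_mul, bl_inj] at this
    have := congrFun (congrFun this.2.1 0) 0
    simp [n1, o1] at this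
    exact h2 (by linear_combination this)
  · change (c.det⁻¹ • (c * c)) ^ 2 ^ (m + 1) = -1
    rw [smul_pow, ← pow_two, ← pow_mul, ← pow_succ', h8, smul_smul]
    simp [h0]
  · change j * (c.det⁻¹ • (c * c)) = c.det⁻¹ • (c * c) * j
    rw [mul_smul_comm, smul_mul_assoc, mul_assoc, h6, ← mul_assoc, ← h6, mul_assoc, ← h6, h6]
  · refine eq_inv_mul_iff_mul_eq.2 (Subtype.ext ?_)
    change c.det⁻¹ • (c * c) * (u * (c.det⁻¹ • (c * c))) = u
    have : c * c * (u * (c * c)) = (c.det * c.det) • u := by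
      calc c * c * (u * (c * c)) = c * (c * u * c) * c := by simp only [mul_assoc]
        _ = _ := by rw [h7, mul_smul_comm, smul_mul_assoc, h7, smul_smul]
    simp only [mul_smul_comm, smul_mul_assoc, this, smul_smul]
    rw [show c.det⁻¹ * (c.det⁻¹ * (c.det * c.det)) = 1 by field_simp, one_smul]

end PEMx

/-! ### PEM -/
section PEM
theorem exists_emb {F : Type*} [Field F] [Fintype F] (hF : Odd (Fintype.card F)) (S : Sylow 2 G)
    (P : Sylow 2 (Cfsg.PSp 2 F))
    (hS : Nonempty ((S : Subgroup G) ≃* (P : Subgroup (Cfsg.PSp 2 F)))) :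
    ∃ m, Nonempty (Emb m G) := by
  obtain ⟨m, r, hr, hq, f, hf⟩ := PEMx.exists_psp hF
  have c1 := Cfsg.Agent.S0245.result (F := F) rfl 2
  have c2 := Cfsg.Agent.S0246.result (F := F) rfl 2 (by norm_num)
  set q := Fintype.card F
  obtain ⟨n, hn⟩ := hF
  have h4 : q ^ 4 - 1 = (q ^ 2 - 1) * (2 * (2 * (n * n + n) + 1)) := by
    have h1 : ∀ k, 1 ≤ q ^ k := fun k => Nat.one_le_pow _ _ (by omega)
    zify [h1]; rw [hn]; push_cast; ring
  rw [hn, Nat.add_sub_cancel, Nat.gcd_mul_right_right] at c2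
  have hc : Nat.card (Cfsg.PSp 2 F) = 2 ^ (2 * m + 6) * (q ^ 4 * r * r * (2 * (n * n + n) + 1)) := by
    rw [card_eq_card_quotient_mul_card_subgroup (center _), c2, Finset.prod_range_succ, Finset.prod_range_one,
      h4, hq] at c1
    refine Nat.eq_of_mul_eq_mul_right two_pos (c1.trans ?_)
    ring
  have ho : Odd (q ^ 4 * r * r * (2 * (n * n + n) + 1)) :=
    (((Odd.pow ⟨n, hn⟩).mul hr).mul hr).mul ⟨_, rfl⟩
  haveI : Finite (Cfsg.PSp 2 F) := Nat.finite_of_card_ne_zero (by rw [hc]; exact (mul_pos (by positivity) ho.pos).ne')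
  have hr : Nat.card f.range = 2 ^ (Nat.card (Cfsg.PSp 2 F)).factorization 2 := by
    rw [← Nat.card_congr (MonoidHom.ofInjective hf).toEquiv, card_W, hc,
      Nat.factorization_mul (by positivity) ho.pos.ne', Nat.prime_two.factorization_pow, Finsupp.add_apply,
      Finsupp.single_eq_same, Nat.factorization_eq_zero_of_not_dvd ho.not_two_dvd_nat, add_zero]
  obtain ⟨e⟩ := hS
  let e' : W m ≃* (S : Subgroup G) :=
    ((MonoidHom.ofInjective hf).trans ((Sylow.ofCard _ hr).equiv P)).trans e.symm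
  refine ⟨m, ⟨⟨(S : Subgroup G).subtype.comp e'.toMonoidHom, Subtype.val_injective.comp e'.injective, ?_⟩⟩⟩
  rw [MonoidHom.range_comp, MonoidHom.range_eq_top.2 e'.surjective, ← MonoidHom.range_eq_map, range_subtype,
    ← Nat.not_even_iff_odd, even_iff_two_dvd]
  exact S.not_dvd_index
end PEM

end H20.P4
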