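import Mathlib
import Cfsg.Agent.H20.P0
import Cfsg.Agent.H20.PF3
import Cfsg.Agent.H20.PAU
import Cfsg.Agent.H23.Rel
import Cfsg.Agent.H6.SmallSylow
import Cfsg.Agent.H6.DoubleCover
import Cfsg.Agent.S0483

set_option autoImplicit false
set_option linter.unusedVariables false
set_option linter.unusedSectionVars false

namespace H20.P4

open Cfsg Subgroup
open scoped MatrixGroups

universe u

variable {m : ℕ} {G : Type u} [Group G] [Finite G]

namespace PF4x
open H22 (SylIn cj)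
open scoped commutatorElement

theorem c1_mem : W.c1 m ∈ Q1 m := by simp [mem_Q1, W.c1]
theorem y1_mem : W.y1 m ∈ Q1 m := by simp [mem_Q1, W.y1]
theorem z_mem : W.z m ∈ Q1 m := by simp [mem_Q1, W.z]
theorem c1_sq : W.c1 m * W.c1 m = W.z m := by
  ext <;> simp [W.c1, W.z] <;> linear_combination two_kk (m := m)
theorem c1_y1 : W.y1 m * (W.c1 m * W.z m) * (W.y1 m)⁻¹ = W.c1 m := by
  ext <;> simp [W.c1, W.z, W.y1] <;>
    first | ring1 | linear_combination two_kk (m := m) | linear_combination -two_kk (m := m) | linear_combination two_kk (m := m) + two_hh (m := m) | linear_combination -two_kk (m := m) - two_hh (m := m) | linear_combination two_kk (m := m) - two_hh (m := m) | linear_combination -two_kk (m := m) + two_hh (m := m) | linear_combination two_hh (m := m) | linear_combination -two_hh (m := m)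
theorem y_eq : W.c1 m * (W.u m * W.c1 m * W.u m) = W.y m := by
  ext <;> simp [W.c1, W.u, W.y] <;>
    first | linear_combination two_kk (m := m) + two_hh (m := m) | linear_combination two_kk (m := m)
theorem u_y : W.u m * W.y m * (W.u m)⁻¹ = W.y m := by
  ext <;> simp [W.u, W.y]
theorem s_eq : W.c1 m * (W.u m * ((W.c1 m)⁻¹ * W.y1 m) * W.u m) = W.s m := by
  ext <;> simp [W.c1, W.u, W.y1, W.s] <;>
    first | ring1 | linear_combination two_kk (m := m) | linear_combination -two_kk (m := m) | linear_combination two_kk (m := m) + two_hh (m := m) | linear_combination -two_kk (m := m) - two_hh (m := m) | linear_combination two_kk (m := m) - two_hh (m := m) | linear_combination -two_kk (m := m) + two_hh (m := m) | linear_combination two_hh (m := m) | linear_combination -two_hh (m := m)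
theorem s'_eq : W.c1 m * (W.u m * ((W.c1 m)⁻¹ * ((W.x1 m)⁻¹ * W.y1 m)) * W.u m) = W.s' m := by
  ext <;> simp [W.c1, W.u, W.y1, W.x1, W.s'] <;>
    first | ring1 | linear_combination two_kk (m := m) | linear_combination -two_kk (m := m) | linear_combination two_kk (m := m) + two_hh (m := m) | linear_combination -two_kk (m := m) - two_hh (m := m) | linear_combination two_kk (m := m) - two_hh (m := m) | linear_combination -two_kk (m := m) + two_hh (m := m) | linear_combination two_hh (m := m) | linear_combination -two_hh (m := m)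
theorem c1_comm (hm : 1 ≤ m) : ∃ x ∈ Q1 m, W.c1 m = x * W.y1 m * x⁻¹ * (W.y1 m)⁻¹ := by
  obtain ⟨t, ht⟩ := exists_half_kk hm
  refine ⟨⟨t, t, false, false, false, rfl⟩, by simp [mem_Q1], ?_⟩
  ext <;> simp [W.c1, W.y1, ht] <;> first | ring1 | linear_combination -two_hh (m := m) | linear_combination two_hh (m := m)

instance : DecidablePred (· ∈ Q1 0) := fun x => decidable_of_iff _ (mem_Q1 (x := x)).symm

theorem q8 : ∀ a : W 0, a ∈ Q1 0 → a * a ≠ 1 → ∀ x : W 0, x ∈ Q1 0 →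
    (x = 1 ∨ x = a ∨ x = a * a ∨ x = a * a * a) ∨ ∀ c : W 0, c ∈ Q1 0 →
      (c = 1 ∨ c = a ∨ c = a * a ∨ c = a * a * a) ∨
        (c = x ∨ c = a * x ∨ c = a * a * x ∨ c = a * a * a * x) := by
  decide +kernel

theorem cyc (K : Subgroup (W 0)) (hK : K ≤ Q1 0) (h : ¬ Q1 0 ≤ K) : ∃ a, K ≤ zpowers a := by
  by_cases h1 : ∃ a ∈ K, a * a ≠ 1
  · obtain ⟨a, ha, h2⟩ := h1
    refine ⟨a, fun x hx => ?_⟩
    have ha' := mem_zpowers a
    rcases q8 a (hK ha) h2 x (hK hx) with (rfl | rfl | rfl | rfl) | h3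
    · exact one_mem _
    · exact ha'
    · exact mul_mem ha' ha'
    · exact mul_mem (mul_mem ha' ha') ha'
    · refine absurd (fun c hc => ?_) h
      rcases h3 c hc with (rfl | rfl | rfl | rfl) | (rfl | rfl | rfl | rfl)
      · exact one_mem _
      · exact ha
      · exact mul_mem ha ha
      · exact mul_mem (mul_mem ha ha) ha
      · exact hx
      · exact mul_mem ha hx
      · exact mul_mem (mul_mem ha ha) hx
      · exact mul_mem (mul_mem (mul_mem ha ha) ha) hx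
  · push Not at h1
    refine ⟨W.z 0, fun x hx => ?_⟩
    rcases W.Q1_invol (hK hx) (h1 x hx) with rfl | rfl
    · exact one_mem _
    · exact mem_zpowers _

variable {E : Emb m G} {C0 : Subgroup G}

theorem nC (h : E.IsC0 C0) : C0.Normal := normal_of_index_eq_two h.idx

theorem N_le (h : E.IsC0 C0) : E.N1 C0 ≤ C0 := by
  refine (closure_le _).2 ?_
  rintro _ ⟨g, hg, x, hx, rfl⟩
  exact mul_mem (mul_mem hg ((h.mem x).2 (W.Q1_le hx))) (inv_mem hg)

theorem N_norm (h : E.IsC0 C0) : C0 ≤ normalizer (E.N1 C0 : Set G) := by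
  intro c hc
  refine H13.mem_normalizer_of_finite fun a ha => ?_
  have : E.N1 C0 ≤ (E.N1 C0).comap (MulAut.conj c).toMonoidHom := by
    refine (closure_le _).2 ?_
    rintro _ ⟨g, hg, x, hx, rfl⟩
    refine subset_closure ⟨c * g, mul_mem hc hg, x, hx, ?_⟩
    simp [mul_assoc]
  exact this ha

theorem N_le_of (h : E.IsC0 C0) {K : Subgroup G} (hK : C0 ≤ normalizer (K : Set G))
    (h1 : ∀ x ∈ Q1 m, E.f x ∈ K) : E.N1 C0 ≤ K := by
  refine (closure_le _).2 ?_
  rintro _ ⟨g, hg, x, hx, rfl⟩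
  exact H23.conj_mem hK hg (h1 x hx)

theorem core (h : E.IsC0 C0) (hO : oddCore G = ⊥) {K : Subgroup G} (hK : K ≤ C0)
    (hn : C0 ≤ normalizer (K : Set G)) : pPrimeCore 2 K = ⊥ := by
  haveI := nC h
  have h1 := (H23.opp_mono (p := 2) hK hn).trans
    (H23.opp_mono (p := 2) (le_top (a := C0)) le_normalizer_of_normal)
  rw [H23.opp_top, show pPrimeCore 2 G = ⊥ from hO, le_bot_iff] at h1
  exact (map_eq_bot_iff_of_injective _ K.subtype_injective).1 h1

theorem syl (h : E.IsC0 C0) {K : Subgroup G} (hK : K ≤ C0)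
    (hn : C0 ≤ normalizer (K : Set G)) : SylIn 2 ((E.S : Subgroup G) ⊓ K) K := by
  haveI := nC h
  have h1 := ((H22.sylIn_top E.S).inf_normal le_top (le_normalizer_of_normal (H := C0))).inf_normal hK hn
  rwa [inf_assoc, inf_eq_right.2 hK] at h1

theorem inf_eq {N : Subgroup G} (hN : E.PN N) : (E.S : Subgroup G) ⊓ N = (Q1 m).map E.f := by
  ext g
  constructor
  · rintro ⟨⟨x, rfl⟩, h2⟩
    exact ⟨x, (hN.mem x).1 h2, rfl⟩
  · rintro ⟨x, hx, rfl⟩
    exact ⟨E.mem x, (hN.mem x).2 hx⟩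

theorem comm_norm (h : E.IsC0 C0) :
    C0 ≤ normalizer ((⁅E.N1 C0, E.N1 C0⁆ : Subgroup G) : Set G) :=
  H23.le_normalizer_commutator (N_norm h) (N_norm h)

theorem uu : E.u * E.u = 1 := by rw [← map_mul, W.u_mul_u, map_one]

/-- the case `m ≥ 1` -/
theorem step (h : E.IsC0 C0) (hN : E.PN (E.N1 C0)) (hm : 1 ≤ m) :
    E.f (W.c1 m) ∈ ⁅E.N1 C0, E.N1 C0⁆ ∧ ∀ p ∈ Q1 m,
      IsConj (E.f (W.c1 m * (W.u m * p * W.u m))) E.y → E.f p ∈ ⁅E.N1 C0, E.N1 C0⁆ := by
  haveI := nC h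
  have hc : E.f (W.c1 m) ∈ ⁅E.N1 C0, E.N1 C0⁆ := by
    obtain ⟨x, hx, e⟩ := c1_comm hm
    rw [e, map_mul, map_mul, map_mul, map_inv, map_inv]
    exact commutator_mem_commutator ((hN.mem _).2 hx) ((hN.mem _).2 y1_mem)
  refine ⟨hc, fun p hp hconj => ?_⟩
  have hu : E.u ∉ C0 := fun e => by
    have := (h.mem _).1 e
    simp [mem_Q, W.u] at this
  have hui : E.u⁻¹ = E.u := inv_eq_of_mul_eq_one_right uu
  obtain ⟨g, hg, e⟩ : ∃ g ∈ C0, g * E.f (W.c1 m * (W.u m * p * W.u m)) * g⁻¹ = E.y := by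
    obtain ⟨g, e⟩ := isConj_iff.1 hconj
    by_cases hg : g ∈ C0
    · exact ⟨g, hg, e⟩
    · refine ⟨E.u * g, (mul_mem_iff_of_index_two h.idx).2 (by tauto), ?_⟩
      have : E.u * E.y * E.u⁻¹ = E.y := by rw [← map_inv, ← map_mul, ← map_mul, u_y]
      rw [← this, ← e]; group
  have e0 : E.f (W.c1 m * (W.u m * p * W.u m)) = E.f (W.c1 m) * (E.u * E.f p * E.u) := by
    rw [map_mul, map_mul, map_mul]
  have e2 : E.y = E.f (W.c1 m) * (E.u * E.f (W.c1 m) * E.u) := by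
    rw [← map_mul, ← map_mul, ← map_mul, y_eq]
  have e5 : E.f (W.c1 m) * E.f (W.c1 m) = E.z := by rw [← map_mul, c1_sq]
  have hcN : E.f (W.c1 m) ∈ E.N1 C0 := (hN.mem _).2 c1_mem
  have hpN : E.f p ∈ E.N1 C0 := (hN.mem _).2 hp
  have hkC : E.u * g * E.u ∈ C0 := by
    have := Normal.conj_mem inferInstance g hg E.u
    rwa [hui] at this
  rw [e0, e2] at e
  have hinf := hN.inf
  have huu := uu (E := E)
  generalize E.f (W.c1 m) = c at *
  generalize E.f p = q at *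
  generalize E.u = u at *
  obtain ⟨k, hk⟩ : ∃ k, k = u * g * u := ⟨_, rfl⟩
  rw [← hk] at hkC
  obtain ⟨n, hn⟩ : ∃ n, n = k * q * k⁻¹ := ⟨_, rfl⟩
  have e1 : g * c * g⁻¹ * (u * n * u) = c * (u * c * u) := by
    rw [← e, hn, hk, mul_inv_rev, mul_inv_rev, hui]
    calc _ = g * c * g⁻¹ * ((u * u) * g * u * q * u * g⁻¹ * (u * u)) := by group
      _ = _ := by rw [huu]; group
  have hnN : n ∈ E.N1 C0 := hn ▸ H23.conj_mem (N_norm h) hkC hpN
  have e3 : u * (c * n⁻¹) * u = c⁻¹ * (g * c * g⁻¹) := by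
    have : g * c * g⁻¹ = c * (u * c * u) * (u * n * u)⁻¹ := by rw [← e1]; group
    rw [this, mul_inv_rev, mul_inv_rev, hui]
    calc _ = u * c * 1 * n⁻¹ * u := by group
      _ = _ := by rw [← huu]; group
  have h4 := hinf (c * n⁻¹) (mul_mem hcN (inv_mem hnN))
    (e3 ▸ mul_mem (inv_mem hcN) (H23.conj_mem (N_norm h) hg hcN))
  have h5 : n ∈ ⁅E.N1 C0, E.N1 C0⁆ := by
    rcases h4 with e4 | e4
    · rw [mul_inv_eq_one] at e4
      exact e4 ▸ hc
    · have : n = (c * c)⁻¹ * c := by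
        rw [e5, ← e4]; group
      rw [this]
      exact mul_mem (inv_mem (mul_mem hc hc)) hc
  have := H23.conj_mem (comm_norm h) (inv_mem hkC) h5
  rwa [hn, show k⁻¹ * (k * q * k⁻¹) * k⁻¹⁻¹ = q by group] at this

theorem gen1 (h : E.IsC0 C0) (hN : E.PN (E.N1 C0)) (hm : 1 ≤ m)
    (hf : IsConj (E.f (W.s m)) E.y ∧ IsConj (E.f (W.s' m)) E.y) :
    Q1 m ≤ ⁅E.N1 C0, E.N1 C0⁆.comap E.f := by
  obtain ⟨hc, h1⟩ := step h hN hm
  have hx : W.x1 m ∈ Q1 m := by simp [mem_Q1, W.x1]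
  have h2 := h1 _ (mul_mem (inv_mem c1_mem) y1_mem) (by rw [s_eq]; exact hf.1)
  have h3 := h1 _ (mul_mem (inv_mem c1_mem) (mul_mem (inv_mem hx) y1_mem)) (by rw [s'_eq]; exact hf.2)
  set K := ⁅E.N1 C0, E.N1 C0⁆.comap E.f
  have k0 : W.c1 m ∈ K := hc
  have k1 : W.y1 m ∈ K := by simpa using mul_mem k0 (show _ ∈ K from h2)
  have k2 : (W.x1 m)⁻¹ * W.y1 m ∈ K := by simpa using mul_mem k0 (show _ ∈ K from h3)
  have k3 : W.x1 m ∈ K := by simpa using mul_mem k1 (inv_mem k2)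
  exact W.Q1_gen K k1 (mul_mem k3 k1)

/-- the case `m = 0` -/
theorem caseS {E : Emb 0 G} (h : E.IsC0 C0) (hO : oddCore G = ⊥) (hN : E.PN (E.N1 C0))
    (h1 : ¬ Q1 0 ≤ ⁅E.N1 C0, E.N1 C0⁆.comap E.f) : E.N1 C0 = (Q1 0).map E.f := by
  set N := E.N1 C0 with hNd
  have hD : ⁅N, N⁆ ≤ N := commutator_le_self N
  obtain ⟨a, ha⟩ := cyc (⁅N, N⁆.comap E.f) (fun x hx => (hN.mem x).1 (hD hx)) h1
  have hs := syl h (hD.trans (N_le h)) (comm_norm h)
  have hcyc : IsCyclic (hs.toSylow : Subgroup ↥⁅N, N⁆) := by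
    have h2 : (E.S : Subgroup G) ⊓ ⁅N, N⁆ ≤ zpowers (E.f a) := by
      rintro _ ⟨⟨x, rfl⟩, hx⟩
      obtain ⟨i, rfl⟩ := ha hx
      exact ⟨i, (map_zpow _ _ _).symm⟩
    haveI := Subgroup.isCyclic_of_le h2
    exact isCyclic_of_surjective _ (subgroupOfEquivOfLe hs.le).symm.surjective
  obtain ⟨M, hM, hc⟩ := H6.exists_normal_complement_of_cyclic _ hcyc
  have hM1 : M = ⊥ := by
    rw [← le_bot_iff, ← core h hO (hD.trans (N_le h)) (comm_norm h)]
    refine H2.le_pPrimeCore hM (H23.cop_iff_not_dvd.2 ?_)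
    rw [← hc.index_eq_card]
    exact hs.toSylow.not_dvd_index
  subst hM1
  have h3 : ⁅N, N⁆ ≤ (Q1 0).map E.f := by
    intro g hg
    have h4 : (⟨g, hg⟩ : ↥⁅N, N⁆) ∈ (hs.toSylow : Subgroup ↥⁅N, N⁆) := by
      rw [isComplement'_bot_left.1 hc]; exact mem_top _
    rw [← inf_eq hN]
    exact ⟨h4.1, hD hg⟩
  have hQ := syl h (N_le h) (N_norm h)
  rw [inf_eq hN] at hQ
  have hnQ : N ≤ normalizer (((Q1 0).map E.f : Subgroup G) : Set G) := fun n hn =>
    H13.mem_normalizer_of_finite fun x hx => by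
      have : n * x * n⁻¹ = ⁅n, x⁆ * x := by simp [commutatorElement_def]
      rw [this]
      exact mul_mem (h3 (commutator_mem_commutator hn (hQ.le hx))) hx
  refine le_antisymm ((closure_le _).2 ?_) hQ.le
  rintro _ ⟨g, hg, x, hx, rfl⟩
  have hR : cj g ((Q1 0).map E.f) ≤ N := H22.cj_le_iff.2 fun a ha => H23.conj_mem (N_norm h) hg (hQ.le ha)
  obtain ⟨n, hn, h5⟩ := hQ.exists_cj_le hR (H22.isPGroup_cj hQ.isPGroup g)
  have h6 := H23.conj_mem hnQ (inv_mem hn) (h5 (H22.conj_mem_cj (H22.conj_mem_cj ⟨x, hx, rfl⟩)))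
  rwa [show n⁻¹ * (n * (g * E.f x * g⁻¹) * n⁻¹) * n⁻¹⁻¹ = g * E.f x * g⁻¹ by group] at h6

theorem perfect (h : E.IsC0 C0) (hO : oddCore G = ⊥) (hN : E.PN (E.N1 C0))
    (h1 : Q1 m ≤ ⁅E.N1 C0, E.N1 C0⁆.comap E.f) :
    ((∃ N, E.PN N ∧ E.Conj4 N) ∧
      ((∃ (F : Type) (_ : Field F) (_ : Fintype F) (ψ : SL(2, F) →* G), E.CaseL F ψ) ∨ E.CaseA)) := by
  set N := E.N1 C0 with hNd
  have hp : N ≤ ⁅N, N⁆ := N_le_of h (comm_norm h) h1
  have hX : commutator N = ⊤ := by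
    apply map_injective N.subtype_injective
    rw [commutator_def, map_commutator, ← MonoidHom.range_eq_map, range_subtype]
    exact le_antisymm (commutator_le_self N) hp
  have hQ := syl h (N_le h) (N_norm h)
  rw [inf_eq hN] at hQ
  have hzN : E.z ∈ N := (hN.mem _).2 z_mem
  have hz : H22.UInv (⟨E.z, hzN⟩ : N) := by
    refine ⟨fun e => W.z_ne_one (E.inj ((congrArg Subtype.val e).trans (map_one _).symm)),
      Subtype.ext (show E.f _ * E.f _ = 1 by rw [← map_mul, W.z_mul_z, map_one]), fun g hg => ?_⟩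
    have hg2 : (g : G) * g = 1 := congrArg Subtype.val hg
    obtain ⟨n, hn, h5⟩ := hQ.exists_cj_le (zpowers_le.2 g.2)
      (H22.isPGroup_zpowers (k := 1) (by rw [pow_one, pow_two, hg2]))
    obtain ⟨x, hx, e⟩ := h5 (H22.conj_mem_cj (mem_zpowers (g : G)))
    have hx2 : x * x = 1 := E.inj (by
      rw [map_mul, e, map_one]
      calc _ = n * ((g : G) * g) * n⁻¹ := by group
        _ = 1 := by rw [hg2]; group)
    have e' : (g : G) = n⁻¹ * E.f x * n := by rw [e]; group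
    rcases W.Q1_invol hx hx2 with rfl | rfl
    · left; exact Subtype.ext (by rw [e', map_one]; simp)
    · right; exact Subtype.ext (by rw [e', hN.cen n⁻¹]; simp)
  obtain ⟨e0⟩ := W.Q1_equiv (m := m)
  have e : (hQ.toSylow : Subgroup N) ≃* QuaternionGroup (2 ^ (m + 1)) :=
    (subgroupOfEquivOfLe hQ.le).trans (((Q1 m).equivMapOfInjective E.f E.inj).symm.trans e0)
  have sq : ∀ x (hx : x ∈ Q1 m), x * x = W.z m →
      (⟨E.f x, (hN.mem x).2 hx⟩ : N) * ⟨E.f x, (hN.mem x).2 hx⟩ = ⟨E.z, hzN⟩ := fun x hx h2 =>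
    Subtype.ext (show E.f _ * E.f _ = E.f _ by rw [← map_mul, h2])
  rcases H22.perfect_cases (@Cfsg.Agent.S0483.result) hX hz (core h hO (N_le h) (N_norm h)) _ e with
    ⟨F, _, _, hF, h3, ⟨g⟩, -⟩ | ⟨p, d⟩
  · have h2 := H7.two_ne_zero_of_odd_card hF
    have hneg : g ⟨E.z, hzN⟩ = -1 := by
      rcases hz.uniq (g.symm (-1)) (by rw [← map_mul]; simp) with e1 | e1
      · exfalso
        rw [map_eq_one_iff _ g.symm.injective] at e1
        have := congrFun (congrFun (congrArg Subtype.val e1) 0) 0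
        simp at this
        exact h2 (by linear_combination -this)
      · rw [← e1, MulEquiv.apply_symm_apply]
    have hr : (N.subtype.comp g.symm.toMonoidHom).range = N := by
      ext a
      constructor
      · rintro ⟨b, rfl⟩; exact (g.symm b).2
      · intro ha; exact ⟨g ⟨a, ha⟩, by simp⟩
    refine ⟨⟨N, hN, fun x hx h4 => ?_⟩, Or.inl ⟨F, _, _, N.subtype.comp g.symm.toMonoidHom, hF, ?_,
      N.subtype_injective.comp g.symm.injective, ?_, by rw [hr]; exact hN⟩⟩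
    · obtain ⟨b, hb⟩ := isConj_iff.1 (conj_four hF (a := g ⟨_, (hN.mem x).2 hx⟩)
        (b := g ⟨_, (hN.mem _).2 c1_mem⟩) (by rw [← map_mul, sq x hx h4, hneg])
        (by rw [← map_mul, sq _ c1_mem c1_sq, hneg]))
      obtain ⟨b, rfl⟩ := g.surjective b
      rw [← map_inv, ← map_mul, ← map_mul] at hb
      exact ⟨b, b.2, congrArg Subtype.val (g.injective hb)⟩
    · obtain ⟨k, hk⟩ := hF
      omega
    · rw [← hneg]; simp
  · refine ⟨⟨N, hN, fun x hx h4 => ?_⟩, Or.inr ⟨N, hN, hzN, p, d⟩⟩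
    have ord : ∀ x (hx : x ∈ Q1 m), x * x = W.z m → orderOf (p ⟨E.f x, (hN.mem x).2 hx⟩) = 2 :=
      fun x hx h2 => orderOf_eq_prime (by rw [pow_two, ← map_mul, sq x hx h2, d.map]) fun e1 =>
        d.ne ((sq x hx h2).symm.trans (d.sq_eq_one e1))
    obtain ⟨b, hb⟩ := isConj_iff.1 (H6.isConj_alt_of_involution le_rfl (ord x hx h4) (ord _ c1_mem c1_sq))
    obtain ⟨b, rfl⟩ := d.surj b
    rw [← mul_inv_eq_one, ← map_inv, ← map_inv, ← map_mul, ← map_mul, ← map_mul] at hb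
    rcases d.ker _ hb with e1 | e1
    · exact ⟨b, b.2, congrArg Subtype.val (mul_inv_eq_one.1 e1)⟩
    · have e2 : (b : G) * E.f x * (b : G)⁻¹ = E.z * E.f (W.c1 m) :=
        congrArg Subtype.val (mul_inv_eq_iff_eq_mul.1 e1)
      refine ⟨E.f (W.y1 m) * b, mul_mem ((hN.mem _).2 y1_mem) b.2, ?_⟩
      rw [← c1_y1, map_mul, map_mul, map_mul, map_inv, hN.cen, ← e2]
      group

end PF4x

/-! ### PF4 -/
section PF4
theorem Emb.tri (E : Emb m G) (hz : E.Cen) (hO : oddCore G = ⊥)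
    (hf : 1 ≤ m → IsConj (E.f (W.s m)) E.y ∧ IsConj (E.f (W.s' m)) E.y) :
    E.CaseS ∨ ((∃ N, E.PN N ∧ E.Conj4 N) ∧
      ((∃ (F : Type) (_ : Field F) (_ : Fintype F) (ψ : SL(2, F) →* G), E.CaseL F ψ) ∨ E.CaseA)) := by
  obtain ⟨C0, h⟩ := E.exists_C0 hz
  have hN := h.pn hz hO
  by_cases h1 : Q1 m ≤ ⁅E.N1 C0, E.N1 C0⁆.comap E.f
  · exact Or.inr (PF4x.perfect h hO hN h1)
  · obtain rfl : m = 0 := by
      by_contra hm
      exact h1 (PF4x.gen1 h hN (by omega) (hf (by omega)))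
    exact Or.inl ⟨rfl, PF4x.caseS h hO hN h1 ▸ hN⟩
end PF4


end H20.P4
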