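import Mathlib
import Cfsg.Agent.H20.P0
import Cfsg.Agent.H20.PFR
import Cfsg.Agent.H6.XT

set_option autoImplicit false
set_option linter.unusedVariables false
set_option linter.unusedSectionVars false

namespace H20.P4

open Cfsg Subgroup
open scoped MatrixGroups

universe u

variable {m : ℕ} {G : Type u} [Group G] [Finite G]

/-! ### PF5 -/
namespace PF5x

theorem pow_i {w : W m} (he : w.e = false) (ha : w.a = false) (k : ℕ) :
    (w ^ k).e = false ∧ (w ^ k).a = false ∧ (w ^ k).i = k * w.i := by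
  induction k with
  | zero => simp
  | succ k ih => simp [pow_succ, ih, he, ha, add_mul]

theorem pow_j {w : W m} (he : w.e = false) (ha : w.b = false) (k : ℕ) :
    (w ^ k).e = false ∧ (w ^ k).b = false ∧ (w ^ k).j = k * w.j := by
  induction k with
  | zero => simp
  | succ k ih => simp [pow_succ, ih, he, ha, add_mul]

theorem cast_h : ((2 ^ (m + 1) : ℕ) : R m) = hh m := by simp [hh, H24.G2S.h]
theorem cast_k : ((2 ^ m : ℕ) : R m) = kk m := by simp [kk, H24.G2S.k]

theorem kk_mul (hm : 1 ≤ m) {t : R m} (h : 2 * t = 0) : kk m * t = 0 := by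
  obtain ⟨c, e⟩ := exists_half_kk hm
  rw [e]; linear_combination c * h

theorem hh_mul (t : R m) : par m t = 0 ∧ hh m * t = 0 ∨ par m t = 1 ∧ hh m * t = hh m := by
  refine (par_cases t).imp (fun h => ⟨h, ?_⟩) fun h => ⟨h, ?_⟩
  · obtain ⟨c, rfl⟩ := exists_half h
    linear_combination c * two_hh (m := m)
  · obtain ⟨c, e⟩ := exists_half (x := t - 1) (by simp [h])
    linear_combination hh m * e + c * two_hh (m := m)

theorem four (hm : 1 ≤ m) (d : W m) : ∃ c : ℕ, 2 * (c : R m) = kk m ∧ d ^ 2 ^ (m + 1) = (d * d * (d * d)) ^ c := by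
  obtain ⟨m, rfl⟩ := Nat.exists_eq_add_of_le' hm
  refine ⟨2 ^ m, by rw [← cast_k]; push_cast; ring, ?_⟩
  rw [← pow_two, ← pow_two, ← pow_mul, ← pow_mul]
  congr 1
  ring

/-- the `2^(m+1)`-th powers -/
theorem pwN (hm : 1 ≤ m) (d : W m) : d ^ 2 ^ (m + 1) = 1 ∨ d ^ 2 ^ (m + 1) = W.z m ∨
    (d.e = false ∧ d.a = true ∧ d ^ 2 ^ (m + 1) = W.y m) ∨
    (d.e = false ∧ d.b = true ∧ d ^ 2 ^ (m + 1) = W.v m) := by
  obtain ⟨c, hc, e⟩ := four hm d
  have e1 : (d * d * (d * d)).e = false := by simp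
  obtain ⟨f1, f2, f3⟩ := pow_i e1 (by simp) c
  obtain ⟨-, f4, f5⟩ := pow_j e1 (by simp) c
  have k : 4 * (c : R m) = hh m := by linear_combination 2 * hc + two_kk (m := m)
  rw [e, W.ext_iff, W.ext_iff, W.ext_iff, W.ext_iff, f1, f2, f3, f4, f5]
  clear f1 f2 f3 f4 f5 e e1
  obtain ⟨i, j, a, b, e, hp⟩ := d
  have h1 := hh_mul i
  have h2 := hh_mul j
  obtain ⟨t, ht⟩ := exists_half (x := i + j) (by rw [map_add, hp]; exact CharTwo.add_self_eq_zero _)
  obtain ⟨t', ht'⟩ := exists_half (x := i - j) (by rw [map_sub, hp, sub_self])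
  have h3 := hh_mul t
  have h4 := hh_mul t'
  have a1 : (c : R m) * (i + i + (i + i)) = hh m * i := by linear_combination i * k
  have a2 : (c : R m) * (j + j + (j + j)) = hh m * j := by linear_combination j * k
  have a3 : (c : R m) * (i + j + (i + j)) = hh m * t := by linear_combination 2 * c * ht + t * k
  have a4 : (c : R m) * (j + i + (j + i)) = hh m * t := by linear_combination a3
  have a5 : (c : R m) * (i + -j + (i + -j)) = hh m * t' := by linear_combination 2 * c * ht' + t' * k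
  have a6 : (c : R m) * (j + -i + (j + -i)) = hh m * t' := by linear_combination -a5 - t' * two_hh (m := m)
  cases e <;> cases a <;> cases b <;> simp [W.z, W.y, W.v, a1, a2, a3, a4, a5, a6] <;> grind

theorem comm_i (hm : 1 ≤ m) {d x : W m} (h : d * x = x * d) (he : x.e = false) (ha : x.a = true) :
    (d ^ 2 ^ (m + 1)).i = 0 := by
  have h2 : d * d * x = x * (d * d) := by rw [mul_assoc, h, ← mul_assoc, h, mul_assoc]
  have e : (d * d).e = false := by simp
  cases a : (d * d).a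
  · rw [pow_succ', pow_mul, pow_two, (pow_i e a _).2.2, cast_k]
    have := congrArg W.i h2
    rw [mul_i, mul_i x] at this
    simp only [e, a, he, ha, sg_false, sg_true, Bool.false_eq_true, if_false] at this
    exact kk_mul hm (by linear_combination this)
  · obtain ⟨c, -, e1⟩ := four hm d
    rw [e1, (pow_i (by simp) (by simp) _).2.2, mul_i]
    simp only [e, a, sg_true, Bool.false_eq_true, if_false]
    ring

theorem comm_j (hm : 1 ≤ m) {d x : W m} (h : d * x = x * d) (he : x.e = false) (ha : x.b = true) :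
    (d ^ 2 ^ (m + 1)).j = 0 := by
  have h2 : d * d * x = x * (d * d) := by rw [mul_assoc, h, ← mul_assoc, h, mul_assoc]
  have e : (d * d).e = false := by simp
  cases a : (d * d).b
  · rw [pow_succ', pow_mul, pow_two, (pow_j e a _).2.2, cast_k]
    have := congrArg W.j h2
    rw [mul_j, mul_j x] at this
    simp only [e, a, he, ha, sg_false, sg_true, Bool.false_eq_true, if_false] at this
    exact kk_mul hm (by linear_combination this)
  · obtain ⟨c, -, e1⟩ := four hm d
    rw [e1, (pow_j (by simp) (by simp) _).2.2, mul_j]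
    simp only [e, a, sg_true, Bool.false_eq_true, if_false]
    ring

theorem rot {w : W m} (he : w.e = false) (ha : w.a = false) (hb : w.b = false) (k : ℕ) (x : W m)
    (h1 : x.e = false) (h2 : x.a = false) (h3 : x.b = false) (h4 : k * w.i = x.i) (h5 : k * w.j = x.j) :
    w ^ k = x := by
  obtain ⟨f1, f2, f3⟩ := pow_i he ha k
  obtain ⟨-, f4, f5⟩ := pow_j he hb k
  ext <;> simp [*]

theorem x1_pow : W.x1 m ^ 2 ^ (m + 1) = W.z m :=
  rot rfl rfl rfl _ _ rfl rfl rfl (by rw [cast_h]; simp [W.x1, W.z]) (by rw [cast_h]; simp [W.x1, W.z])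
theorem x2_pow : W.x2 m ^ 2 ^ (m + 1) = W.z m :=
  rot rfl rfl rfl _ _ rfl rfl rfl (by rw [cast_h]; simp [W.x2, W.z]) (by rw [cast_h]; simp [W.x2, W.z])
theorem x12_pow : (W.x1 m * (W.x2 m)⁻¹) ^ 2 ^ m = W.y m :=
  rot rfl rfl rfl _ _ rfl rfl rfl (by simp [W.x1, W.x2, W.y])
    (by rw [cast_k, show (W.y m).j = 2 * kk m from two_kk.symm]; simp [W.x1, W.x2]; ring)
theorem s_v : W.s m * W.v m * (W.s m)⁻¹ = W.y m := by ext <;> simp [W.s, W.v, W.y]
theorem y_ne_z : W.y m ≠ W.z m := fun e => hh_ne (congrArg W.i e).symm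
theorem y_ne_v : W.y m ≠ W.v m := fun e => hh_ne (congrArg W.i e).symm

end PF5x

open PF5x
section PF5
theorem Emb.y_not_Z (E : Emb m G) (hm : 1 ≤ m) : ¬ E.Z E.y := fun h => by
  obtain ⟨g, hg, k⟩ := E.ext_z h ((T0 m).map E.f) ((W_p.to_subgroup _).map _) (by
    rintro _ ⟨x, hx, rfl⟩
    rw [← map_mul, ← map_mul, W.cent_y.2 hx])
  obtain ⟨d, e⟩ := k _ ⟨W.x1 m, rfl, rfl⟩
  obtain ⟨d', e'⟩ := k _ ⟨W.x2 m, rfl, rfl⟩
  have c : d * d' = d' * d := E.inj (by
    rw [map_mul, map_mul, e, e', conj_mul, conj_mul, ← map_mul, ← map_mul]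
    congr 3
    ext <;> simp [W.x1, W.x2])
  have p : E.f (d ^ 2 ^ (m + 1)) = g * E.z * g⁻¹ := by rw [map_pow, e, conj_pow, ← map_pow, x1_pow]
  have p' : d' ^ 2 ^ (m + 1) = d ^ 2 ^ (m + 1) :=
    E.inj (by rw [p, map_pow, e', conj_pow, ← map_pow, x2_pow])
  have q : (d * d'⁻¹) ^ 2 ^ m = W.z m := E.inj (by
    rw [map_pow, map_mul, map_inv, e, e', conj_inv, conj_mul, conj_pow, ← map_inv, ← map_mul, ← map_pow,
      x12_pow, hg])
  have n1 : d ^ 2 ^ (m + 1) ≠ 1 := fun l => W.z_ne_one (E.inj (by simpa [l] using p.symm))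
  have n2 : d ^ 2 ^ (m + 1) ≠ W.z m := fun l => y_ne_z (E.inj (by
    rw [l] at p
    simpa using hg.trans p))
  have r' := pwN hm d'
  rw [p'] at r'
  rcases ((pwN hm d).resolve_left n1).resolve_left n2 with ⟨l1, l2, l⟩ | ⟨l1, l2, l⟩ <;>
    rcases (r'.resolve_left n1).resolve_left n2 with ⟨l3, l4, l'⟩ | ⟨l3, l4, l'⟩
  · have e1 := congrArg W.i c
    have e2 := congrArg W.i q
    rw [(pow_i (by simp [l1, l3]) (by simp [l1, l2, l3, l4]) _).2.2, cast_k, kk_mul hm] at e2
    · exact hh_ne e2.symm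
    · simp only [mul_i, inv_i, l1, l2, l3, l4, sg_true, Bool.false_eq_true, if_false] at e1 ⊢
      linear_combination e1
  · exact y_ne_v (l.symm.trans l')
  · exact y_ne_v (l'.symm.trans l)
  · have e1 := congrArg W.j c
    have e2 := congrArg W.j q
    rw [(pow_j (by simp [l1, l3]) (by simp [l1, l2, l3, l4]) _).2.2, cast_k, kk_mul hm] at e2
    · exact hh_ne e2.symm
    · simp only [mul_j, inv_j, l1, l2, l3, l4, sg_true, Bool.false_eq_true, if_false] at e1 ⊢
      linear_combination e1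

theorem Emb.PF5_fuse [IsSimpleGroup G] (E : Emb m G) (hm : 1 ≤ m) {s : W m} (he : s.e = true)
    (ss : s * s = 1) (hc : W.x1 m * s = s * W.x1 m) : ∃ g ∈ E.C, g * E.f s * g⁻¹ = E.y := by
  have ss' : E.f s * E.f s = 1 := by rw [← map_mul, ss, map_one]
  obtain ⟨g, ⟨x, hx, e⟩, k⟩ := H6.XS.transfer_fix E.no_idx2 (M := E.f.range) (M0 := (T0 m).map E.f)
    (T := (zpowers (W.x1 m)).map E.f) E.odd (map_le_range _ _)
    (by rw [MonoidHom.range_eq_map, relIndex_map_map_of_injective _ _ E.inj, relIndex_top_right, W.index_T0])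
    (x := E.f s) ⟨s, rfl⟩ (by
      rintro ⟨x, hx, e⟩
      rw [E.inj e, SetLike.mem_coe, mem_T0, he] at hx
      exact absurd hx (by simp))
    (by rw [show 4 = 2 * 2 from rfl, pow_mul, pow_two (E.f s), ss', one_pow])
    (fun g _ => by simp [ss']) ((W_p.to_subgroup _).map _) (by
      rw [MonoidHom.map_zpowers, zpowers_le, mem_centralizer_singleton_iff, ← map_mul, hc, map_mul])
  obtain ⟨d, e'⟩ := k (H24.conj_mem_cj g ⟨W.x1 m, mem_zpowers _, rfl⟩)
  have c : d * x = x * d := E.inj (by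
    rw [map_mul, map_mul, e, e', conj_mul, conj_mul, ← map_mul, ← map_mul, hc])
  have p : E.f (d ^ 2 ^ (m + 1)) = g * E.z * g⁻¹ := by rw [map_pow, e', conj_pow, ← map_pow, x1_pow]
  have sv : E.f (W.s m) * E.f (W.v m) * (E.f (W.s m))⁻¹ = E.y := by rw [← map_inv, ← map_mul, ← map_mul, s_v]
  have l : d ^ 2 ^ (m + 1) = W.z m := by
    rcases pwN hm d with l | l | ⟨-, -, l⟩ | ⟨-, -, l⟩
    · exact absurd (E.inj (by simpa [l] using p.symm)) W.z_ne_one
    · exact l
    · exact absurd (isConj_iff.2 ⟨g, by rw [← p, l]⟩) (E.y_not_Z hm)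
    · exact absurd (isConj_iff.2 ⟨E.f (W.s m) * g, by rw [← sv, ← l, p]; group⟩) (E.y_not_Z hm)
  rw [l] at p
  have gC : g ∈ E.C := mem_centralizer_singleton_iff.2 (eq_mul_of_mul_inv_eq p.symm |>.trans rfl)
  have a : x.a = false := Bool.eq_false_iff.2 fun a => hh_ne ((congrArg W.i l).symm.trans (comm_i hm c hx a))
  have b : x.b = false := Bool.eq_false_iff.2 fun a => hh_ne ((congrArg W.j l).symm.trans (comm_j hm c hx a))
  have xx : x * x = 1 := E.inj (by rw [map_mul, e, conj_mul, ss']; simp)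
  have hx' : x.e = false := hx
  have i := two_mul_eq_zero (x := x.i) (by simpa [a, hx', two_mul] using congrArg W.i xx)
  have j := two_mul_eq_zero (x := x.j) (by simpa [b, hx', two_mul] using congrArg W.j xx)
  rcases i with i | i <;> rcases j with j | j
  · obtain rfl : x = 1 := by ext <;> simp [*]
    obtain rfl : s = 1 := E.inj (by simpa using e.symm)
    simp at he
  · exact ⟨g, gC, by rw [← e]; congr 1; ext <;> simp [W.y, *]⟩
  · obtain rfl : x = W.v m := by ext <;> simp [W.v, *]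
    exact ⟨E.f (W.s m) * g, mul_mem (E.mem_C _) gC, by rw [← sv, e]; group⟩
  · obtain rfl : x = W.z m := by ext <;> simp [W.z, *]
    obtain rfl : W.z m = s := E.inj (by simpa using p.symm.trans e)
    simp [W.z] at he

theorem Emb.s_fuse [IsSimpleGroup G] (E : Emb m G) (hm : 1 ≤ m) :
    (∃ g ∈ E.C, g * E.f (W.s m) * g⁻¹ = E.y) ∧ ∃ g ∈ E.C, g * E.f (W.s' m) * g⁻¹ = E.y :=
  ⟨E.PF5_fuse hm rfl (by ext <;> simp [W.s]) (by ext <;> simp [W.s, W.x1]),
    E.PF5_fuse hm rfl (by ext <;> simp [W.s']) (by ext <;> simp [W.s', W.x1])⟩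
end PF5

end H20.P4
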