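import Mathlib
import Cfsg.Agent.H20.P0
import Cfsg.Agent.H20.PF1
import Cfsg.Agent.S1169

set_option autoImplicit false
set_option linter.unusedVariables false
set_option linter.unusedSectionVars false

namespace H20.P4

open Cfsg Subgroup
open scoped MatrixGroups

universe u

variable {m : ℕ} {G : Type u} [Group G] [Finite G]

namespace PF6x

instance decQ (x : W 0) : Decidable (x ∈ Q 0) := decidable_of_iff (x.a = x.b) mem_Q.symm
instance decEE (x : W 0) : Decidable (x ∈ EE 0) :=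
  decidable_of_iff (x.e = false ∧ 2 * x.i = 0 ∧ 2 * x.j = 0) mem_EE.symm

theorem factA : ∀ x d : W 0, x * x = 1 → x * d * x⁻¹ * d⁻¹ = W.z 0 → x ∈ Q 0 := by decide +kernel
theorem factB : ∀ x : W 0, x ∈ Q 0 → x * x = 1 → ∃ d : W 0, d * x = x * d ∧ d * d = W.z 0 := by
  decide +kernel
theorem factC : ∀ x : W 0, x * x = 1 → x ∉ Q 0 → x ∈ EE 0 := by decide +kernel
theorem factD : ∀ d : W 0, d * d ∈ EE 0 := by decide +kernel
theorem EE_sq : ∀ x : W 0, x ∈ EE 0 → x * x = 1 := by decide +kernel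
theorem EE_comm : ∀ x : W 0, x ∈ EE 0 → ∀ y : W 0, y ∈ EE 0 → x * y = y * x := by decide +kernel
theorem u_mem : W.u 0 ∈ EE 0 := by decide +kernel
theorem u_not : W.u 0 ∉ Q 0 := by decide +kernel
theorem u_ne : W.u 0 ≠ 1 := by decide +kernel
theorem z_mem : W.z 0 ∈ EE 0 := by decide +kernel
theorem nc : W.x1 0 * W.y1 0 ≠ W.y1 0 * W.x1 0 := by decide +kernel

/-- the commutator with `u` -/
def cu (d : W 0) : W 0 := W.u 0 * d * (W.u 0)⁻¹ * d⁻¹

theorem factE : ∀ d : W 0, d = W.x1 0 ∨ d = W.y1 0 ∨ d = W.x1 0 * W.y1 0 →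
    cu d ∈ EE 0 ∧ cu d ∈ Q 0 ∧ cu d ≠ 1 ∧ d * cu d = cu d * d := by
  rintro d (rfl | rfl | rfl) <;> decide +kernel
theorem factF : cu (W.x1 0) * cu (W.y1 0) * cu (W.x1 0 * W.y1 0) = W.z 0 := by decide +kernel

variable (E : Emb 0 G)

/-- a conjugate of `EE` inside `S` is `EE` -/
theorem conj_EE (g : G) (h : ∀ e ∈ EE 0, ∃ x, E.f x = g * E.f e * g⁻¹) {e x : W 0} (he : e ∈ EE 0)
    (hx : E.f x = g * E.f e * g⁻¹) : x ∈ EE 0 := by
  let φ : W 0 →* G := (MulAut.conj g).toMonoidHom.comp E.f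
  have hφ : Function.Injective φ := (MulAut.conj g).injective.comp E.inj
  let A : Subgroup (W 0) := ((EE 0).map φ).comap E.f
  have h1 : A.map E.f = (EE 0).map φ := by
    apply map_comap_eq_self
    rintro _ ⟨e, he, rfl⟩
    obtain ⟨x, hx⟩ := h e he
    exact ⟨x, hx⟩
  have h2 : Nat.card A = 16 := by
    rw [← card_map_of_injective (K := A) E.inj, h1, card_map_of_injective hφ, W.card_EE]
  have h3 : ∀ a ∈ A, a * a = 1 := by
    rintro a ⟨e, he, ha⟩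
    apply E.inj
    rw [map_mul, ← ha, ← map_mul, EE_sq e he, map_one, map_one]
  rw [← W.EE_unique A h3 h2]
  exact ⟨e, he, hx.symm⟩

theorem p_map (T : Subgroup (W 0)) : IsPGroup 2 (T.map E.f) := (W_p.to_subgroup T).map _

/-- conjugating an element of `Z` in `EE` onto `z` -/
theorem ext_E {a : W 0} (ha : E.Z (E.f a)) (haE : a ∈ EE 0) :
    ∃ g : G, g * E.f a * g⁻¹ = E.z ∧ (∀ d, d * a = a * d → ∃ x, E.f x = g * E.f d * g⁻¹) ∧
      ∀ e ∈ EE 0, ∃ x ∈ EE 0, E.f x = g * E.f e * g⁻¹ := by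
  obtain ⟨g, hg, hg'⟩ := E.ext_z ha ((centralizer {a}).map E.f) (p_map E _) (by
    rintro _ ⟨d, hd, rfl⟩
    rw [← map_mul, ← map_mul, mem_centralizer_singleton_iff.1 hd])
  have h1 : ∀ d, d * a = a * d → ∃ x, E.f x = g * E.f d * g⁻¹ := fun d hd =>
    hg' _ ⟨d, mem_centralizer_singleton_iff.2 hd, rfl⟩
  have h2 : ∀ e ∈ EE 0, ∃ x, E.f x = g * E.f e * g⁻¹ := fun e he => h1 e (EE_comm e he a haE)
  refine ⟨g, hg, h1, fun e he => ?_⟩
  obtain ⟨x, hx⟩ := h2 e he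
  exact ⟨x, conj_EE E g h2 he hx, hx⟩

/-- the index 2 subgroup of `C` -/
structure IsK (K : Subgroup G) : Prop where
  le : ∀ k ∈ K, k * E.z = E.z * k
  conj : ∀ c, c * E.z = E.z * c → ∀ k ∈ K, c * k * c⁻¹ ∈ K
  sq : ∀ c, c * E.z = E.z * c → c * c ∈ K
  mem : ∀ x, E.f x ∈ K ↔ x ∈ Q 0

theorem exists_K : ∃ K, IsK E K := by
  obtain ⟨C0, h⟩ := E.cen.exists_C0 E.cen_Cen
  have hn : C0.Normal := normal_of_index_eq_two h.idx
  refine ⟨C0.map E.C.subtype, ?_, ?_, ?_, ?_⟩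
  · rintro _ ⟨k, hk, rfl⟩
    exact mem_centralizer_singleton_iff.1 k.2
  · rintro c hc _ ⟨k, hk, rfl⟩
    exact ⟨_, hn.conj_mem k hk ⟨c, mem_centralizer_singleton_iff.2 hc⟩, rfl⟩
  · intro c hc
    exact ⟨_, mul_self_mem_of_index_two h.idx ⟨c, mem_centralizer_singleton_iff.2 hc⟩, rfl⟩
  · intro x
    rw [← h.mem x]
    constructor
    · rintro ⟨k, hk, e⟩
      have : k = E.cen.f x := Subtype.ext e
      rwa [← this]
    · intro hx
      exact ⟨_, hx, rfl⟩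

/-- `b` lies in the index 2 subgroup of `C(a)` -/
def D (K : Subgroup G) (a b : G) : Prop := ∃ g : G, g * a * g⁻¹ = E.z ∧ g * b * g⁻¹ ∈ K

variable {E} {K : Subgroup G}

theorem D_iff (hK : IsK E K) {a b g : G} (hg : g * a * g⁻¹ = E.z) : D E K a b ↔ g * b * g⁻¹ ∈ K := by
  refine ⟨?_, fun h => ⟨g, hg, h⟩⟩
  rintro ⟨g', hg', h⟩
  have h1 : g * g'⁻¹ * E.z = E.z * (g * g'⁻¹) := by
    conv_lhs => rw [← hg']
    conv_rhs => rw [← hg]
    group
  have := hK.conj _ h1 _ h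
  convert this using 1; group

theorem D_mul (hK : IsK E K) {a b b' : G} (h : D E K a b) (h' : D E K a b') : D E K a (b * b') := by
  obtain ⟨g, hg, h1⟩ := h
  refine ⟨g, hg, ?_⟩
  have := K.mul_mem h1 ((D_iff hK hg).1 h')
  convert this using 1; group

theorem D_sq (hK : IsK E K) {a d : G} (ha : E.Z a) (hd : d * a = a * d) : D E K a (d * d) := by
  obtain ⟨g, hg⟩ := isConj_iff.1 ha.symm
  refine ⟨g, hg, ?_⟩
  have h1 : g * d * g⁻¹ * E.z = E.z * (g * d * g⁻¹) := by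
    rw [← hg]
    calc g * d * g⁻¹ * (g * a * g⁻¹) = g * (d * a) * g⁻¹ := by group
      _ = _ := by rw [hd]; group
  have := hK.sq _ h1
  convert this using 1; group

theorem D_symm (hK : IsK E K) {a b : G} (hb : E.Z b) (h : D E K a b) : D E K b a := by
  have hb2 := (E.Z_sq hb).1
  obtain ⟨g0, hg0, h0⟩ := id h
  have ha : E.Z a := (isConj_iff.2 ⟨g0, hg0⟩ : IsConj a E.z).symm
  have hab : b * a = a * b := by
    have h1 := hK.le _ h0
    rw [← hg0] at h1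
    calc b * a = g0⁻¹ * (g0 * b * g0⁻¹ * (g0 * a * g0⁻¹)) * g0 := by group
      _ = _ := by rw [h1]; group
  have hp : IsPGroup 2 (zpowers b) := by
    apply IsPGroup.of_card (n := 1)
    rw [Nat.card_zpowers, pow_one]
    exact orderOf_eq_prime (by rw [pow_two, hb2]) (E.Z_sq hb).2
  obtain ⟨g, hg, hg'⟩ := E.ext_z ha (zpowers b) hp (by
    rintro _ ⟨n, rfl⟩
    exact ((show Commute b a from hab).zpow_left n).eq)
  obtain ⟨x, hx⟩ := hg' b (mem_zpowers b)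
  have hxQ : x ∈ Q 0 := (hK.mem x).1 (hx ▸ (D_iff hK hg).1 h)
  have hx2 : x * x = 1 := by
    apply E.inj
    rw [map_mul, hx, map_one]
    calc g * b * g⁻¹ * (g * b * g⁻¹) = g * (b * b) * g⁻¹ := by group
      _ = 1 := by rw [hb2]; group
  obtain ⟨d, hd, hd2⟩ := factB x hxQ hx2
  have h1 : g⁻¹ * E.f d * g * b = b * (g⁻¹ * E.f d * g) := by
    have h2 : E.f d * E.f x = E.f x * E.f d := by rw [← map_mul, ← map_mul, hd]
    rw [hx] at h2
    calc g⁻¹ * E.f d * g * b = g⁻¹ * (E.f d * (g * b * g⁻¹)) * g := by group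
      _ = _ := by rw [h2]; group
  have h3 : g⁻¹ * E.f d * g * (g⁻¹ * E.f d * g) = a := by
    have h2 : E.f d * E.f d = g * a * g⁻¹ := by rw [← map_mul, hd2, hg]
    calc g⁻¹ * E.f d * g * (g⁻¹ * E.f d * g) = g⁻¹ * (E.f d * E.f d) * g := by group
      _ = a := by rw [h2]; group
  have := D_sq hK hb h1
  rwa [h3] at this

theorem key (hK : IsK E K) (hH : ∀ x ∈ EE 0, x ∈ Q 0 → x ≠ 1 → E.Z (E.f x)) (d : W 0)
    (hd : d = W.x1 0 ∨ d = W.y1 0 ∨ d = W.x1 0 * W.y1 0) : E.Z E.u ∧ D E K E.u (E.f (cu d)) := by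
  obtain ⟨h1, h2, h3, h4⟩ := factE d hd
  obtain ⟨g, hg, hg1, hg2⟩ := ext_E E (hH _ h1 h2 h3) h1
  obtain ⟨x, hxE, hx⟩ := hg2 _ u_mem
  obtain ⟨d', hd'⟩ := hg1 d h4
  have h5 : x * d' * x⁻¹ * d'⁻¹ = W.z 0 := by
    apply E.inj
    change _ = E.z
    rw [← hg, cu]
    simp only [map_mul, map_inv, hx, hd']
    group
  have hxQ := factA x d' (EE_sq x hxE) h5
  have hx1 : x ≠ 1 := by
    rintro rfl
    apply u_ne
    apply E.inj
    rw [map_one] at hx ⊢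
    calc E.f (W.u 0) = g⁻¹ * (g * E.f (W.u 0) * g⁻¹) * g := by group
      _ = 1 := by rw [← hx]; group
  have hu : E.Z E.u := (hH x hxE hxQ hx1).trans (isConj_iff.2 ⟨g, hx.symm⟩ : IsConj E.u (E.f x)).symm
  exact ⟨hu, D_symm hK hu ⟨g, hg, hx ▸ (hK.mem x).2 hxQ⟩⟩

end PF6x

open PF6x

/-! ### PF6 -/
section PF6
theorem Emb.n15 (E : Emb 0 G) : ∃ x ∈ EE 0, x ∈ Q 0 ∧ x ≠ 1 ∧ ¬ E.Z (E.f x) := by
  by_contra hne
  push Not at hne
  obtain ⟨K, hK⟩ := exists_K E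
  obtain ⟨hu, h1⟩ := key hK hne _ (Or.inl rfl)
  obtain ⟨-, h2⟩ := key hK hne _ (Or.inr (Or.inl rfl))
  obtain ⟨-, h3⟩ := key hK hne _ (Or.inr (Or.inr rfl))
  have h4 := D_mul hK (D_mul hK h1 h2) h3
  rw [← map_mul, ← map_mul, factF] at h4
  have h5 := D_symm hK (IsConj.refl _) h4
  have h6 := (D_iff hK (g := 1) (by group)).1 h5
  rw [one_mul, inv_one, mul_one] at h6
  exact u_not ((hK.mem _).1 h6)
theorem Emb.tau [IsSimpleGroup G] (E : Emb 0 G) :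
    ∃ x ∈ Q 0, x * x = 1 ∧ x ∉ EE 0 ∧ ∃ g ∈ E.C, ∃ x' ∈ EE 0, E.f x' = g * E.f x * g⁻¹ := by
  by_contra hne
  have hsc : IsStronglyClosed ((EE 0).map E.f) (E.S : Subgroup G) := by
    refine ⟨?_, ?_⟩
    · rintro _ ⟨x, -, rfl⟩; exact E.mem x
    rintro _ ⟨x', hx', rfl⟩ g0 hg0
    obtain ⟨x, hx⟩ := E.exists_eq hg0
    rw [← hx]
    refine mem_map_of_mem _ ?_
    by_contra hxE
    have hx2 : x * x = 1 := by
      apply E.inj
      rw [map_mul, hx, map_one]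
      calc g0 * E.f x' * g0⁻¹ * (g0 * E.f x' * g0⁻¹) = g0 * E.f (x' * x') * g0⁻¹ := by
            rw [map_mul]; group
        _ = 1 := by rw [EE_sq x' hx', map_one]; group
    have hxQ : x ∈ Q 0 := by
      by_contra h; exact hxE (factC x hx2 h)
    obtain ⟨y, hyS, hxy, hext⟩ := exists_extremal E.S (E.mem x)
    obtain ⟨x'', rfl⟩ := E.exists_eq hyS
    obtain ⟨g1, hg1, hg1'⟩ := hext (E.f x') ((isConj_iff.2 ⟨g0, hx.symm⟩ : IsConj (E.f x') (E.f x)).trans hxy)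
      ((EE 0).map E.f) (p_map E _) (by
        rintro _ ⟨e, he, rfl⟩
        rw [← map_mul, ← map_mul, EE_comm e he x' hx'])
    have hx'' : x'' ∈ EE 0 :=
      conj_EE E g1 (fun e he => E.exists_eq (hg1' _ ⟨e, he, rfl⟩)) hx' hg1.symm
    obtain ⟨g2, hg2, hg2'⟩ := hext (E.f x) hxy ((centralizer {x}).map E.f) (p_map E _) (by
      rintro _ ⟨d, hd, rfl⟩
      rw [← map_mul, ← map_mul, mem_centralizer_singleton_iff.1 hd])
    obtain ⟨d, hd, hd2⟩ := factB x hxQ hx2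
    obtain ⟨d', hd'⟩ := E.exists_eq (hg2' _ ⟨d, mem_centralizer_singleton_iff.2 hd, rfl⟩)
    have ha : E.f (d' * d') = g2 * E.z * g2⁻¹ := by
      change _ = g2 * E.f (W.z 0) * g2⁻¹
      rw [map_mul, hd', ← hd2, map_mul]; group
    obtain ⟨h, hh, -, hh2⟩ := ext_E E (a := d' * d') (isConj_iff.2 ⟨g2, ha.symm⟩) (factD d')
    obtain ⟨x3, hx3, e3⟩ := hh2 x'' hx''
    refine hne ⟨x, hxQ, hx2, hxE, h * g2, mem_centralizer_singleton_iff.2 ?_, x3, hx3, ?_⟩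
    · rw [ha] at hh
      calc h * g2 * E.z = h * (g2 * E.z * g2⁻¹) * h⁻¹ * (h * g2) := by group
        _ = _ := by rw [hh]
    · rw [e3, ← hg2]; group
  have hne' : (EE 0).map E.f ≠ ⊥ := by
    intro h
    have : E.f (W.z 0) ∈ (EE 0).map E.f := mem_map_of_mem _ z_mem
    rw [h, mem_bot] at this
    exact W.z_ne_one (E.inj (this.trans (map_one _).symm))
  have hcomm : IsMulCommutative ((EE 0).map E.f) := ⟨⟨by
    rintro ⟨_, x, hx, rfl⟩ ⟨_, y, hy, rfl⟩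
    apply Subtype.ext
    change E.f x * E.f y = E.f y * E.f x
    rw [← map_mul, ← map_mul, EE_comm x hx y hy]⟩⟩
  rcases Cfsg.Agent.S1169.result E.S _ hne' hcomm hsc with h | ⟨H, hH⟩
  · apply nc
    apply E.inj
    have := h.is_comm.comm ⟨_, E.mem (W.x1 0)⟩ ⟨_, E.mem (W.y1 0)⟩
    rw [map_mul, map_mul]
    exact congrArg Subtype.val this
  · obtain ⟨x, hxE, -, h1, h2⟩ := E.n15
    exact E.not_se ⟨x, EE_sq x hxE, h1, h2⟩ H hH
end PF6


end H20.P4
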