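import Mathlib
import Cfsg.Agent.H20.P0
import Cfsg.Agent.H20.PF1
import Cfsg.Agent.S1169

set_option autoImplicit false
set_option linter.unusedVariables false
set_option linter.unusedSectionVars false

namespace H20.P4

open Cfsg Subgroup
open scoped MatrixGroups

universe u

variable {G : Type u} [Group G] [Finite G]

namespace PF6t

theorem normE (E : Emb 0 G) {g : G} (hg : ∀ d ∈ EE 0, ∃ d', E.f d' = g * E.f d * g⁻¹) :
    ∀ d ∈ EE 0, ∃ d' ∈ EE 0, E.f d' = g * E.f d * g⁻¹ := by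
  let A : Subgroup (W 0) := (((EE 0).map E.f).map (MulAut.conj g).toMonoidHom).comap E.f
  have hA : A.map E.f = ((EE 0).map E.f).map (MulAut.conj g).toMonoidHom := by
    refine map_comap_eq_self ?_
    rintro _ ⟨_, ⟨d, hd, rfl⟩, rfl⟩
    obtain ⟨d', hd'⟩ := hg d hd
    exact ⟨d', hd'⟩
  have hc : Nat.card A = 16 := by
    rw [← card_map_of_injective (f := E.f) E.inj, hA,
      card_map_of_injective (MulAut.conj g).injective, card_map_of_injective E.inj, W.card_EE]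
  have hA2 : A = EE 0 := W.EE_unique A (by
    rintro a ⟨_, ⟨d, hd, rfl⟩, e⟩
    apply E.inj
    rw [map_mul, ← e, ← map_mul, ← map_mul, PF1x.EE_sq hd, map_one, map_one]) hc
  intro d hd
  obtain ⟨d', hd'⟩ := hg d hd
  refine ⟨d', hA2 ▸ ?_, hd'⟩
  exact ⟨_, ⟨d, hd, rfl⟩, hd'.symm⟩

theorem out : ∀ x : W 0, x * x = 1 → ¬ (x.e = false ∧ 2 * x.i = 0 ∧ 2 * x.j = 0) →
    x.a = x.b ∧ ∃ d : W 0, d * x = x * d ∧ d * d = W.z 0 := by
  decide +kernel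

theorem pE (E : Emb 0 G) (T : Subgroup (W 0)) : IsPGroup 2 (T.map E.f) :=
  (W_p.to_subgroup T).map E.f

end PF6t

open PF6t in
theorem Emb.tau_of [IsSimpleGroup G] (E : Emb 0 G)
    (hn : ∃ x ∈ EE 0, x ∈ Q 0 ∧ x ≠ 1 ∧ ¬ E.Z (E.f x)) :
    ∃ x ∈ Q 0, x * x = 1 ∧ x ∉ EE 0 ∧ ∃ g ∈ E.C, ∃ x' ∈ EE 0, E.f x' = g * E.f x * g⁻¹ := by
  by_contra hcon
  have hsc : IsStronglyClosed ((EE 0).map E.f) (E.S : Subgroup G) := by
    refine ⟨by rintro _ ⟨x, -, rfl⟩; exact E.mem x, ?_⟩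
    rintro _ ⟨e, he, rfl⟩ g0 ⟨x, hx⟩
    by_contra hxe
    have hxE : x ∉ EE 0 := fun h => hxe ⟨x, h, hx⟩
    have hx2 : x * x = 1 := E.inj (by
      rw [map_mul, hx, map_one]
      calc g0 * E.f e * g0⁻¹ * (g0 * E.f e * g0⁻¹) = g0 * E.f (e * e) * g0⁻¹ := by rw [map_mul]; group
        _ = 1 := by rw [PF1x.EE_sq he]; simp)
    obtain ⟨hxQ, d, hd, hdz⟩ := out x hx2 hxE
    obtain ⟨x', hx', hc, hext⟩ := exists_extremal E.S (E.mem x)
    -- `x'` lies in `E`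
    obtain ⟨g1, hg1, hg1'⟩ := hext (E.f e) ((isConj_iff.2 ⟨g0, hx.symm⟩ : IsConj (E.f e) (E.f x)).trans hc)
      ((EE 0).map E.f) (pE E _) (by
        rintro _ ⟨t, ht, rfl⟩; rw [← map_mul, ← map_mul, PF1x.EE_comm ht he])
    obtain ⟨x2, hx2E, ex2⟩ := normE E (g := g1) (fun t ht => hg1' _ ⟨t, ht, rfl⟩) e he
    obtain ⟨g, hg, hg'⟩ := hext (E.f x) hc ((zpowers d).map E.f) (pE E _) (by
      rintro _ ⟨t, ⟨k, rfl⟩, rfl⟩
      rw [← map_mul, ← map_mul]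
      exact congrArg E.f ((show Commute d x from hd).zpow_left k))
    obtain ⟨d', hd'⟩ := hg' _ ⟨d, mem_zpowers d, rfl⟩
    have ea : E.f (d' * d') = g * E.z * g⁻¹ := by
      rw [map_mul, hd', Emb.z, ← hdz, map_mul]; group
    have haE : d' * d' ∈ EE 0 := PF1x.sq_EE d'
    obtain ⟨h, hh, hh'⟩ := E.ext_z (a := E.f (d' * d')) (isConj_iff.2 ⟨g, ea.symm⟩) ((EE 0).map E.f) (pE E _) (by
      rintro _ ⟨t, ht, rfl⟩; rw [← map_mul, ← map_mul, PF1x.EE_comm ht haE])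
    obtain ⟨x3, hx3, ex3⟩ := normE E (g := h) (fun t ht => hh' _ ⟨t, ht, rfl⟩) x2 hx2E
    refine hcon ⟨x, hxQ, hx2, hxE, h * g, mem_centralizer_singleton_iff.2 ?_, x3, hx3, ?_⟩
    · rw [ea] at hh
      calc h * g * E.z = h * (g * E.z * g⁻¹) * h⁻¹ * (h * g) := by group
        _ = E.z * (h * g) := by rw [hh]
    · rw [ex3, ex2, hg1, ← hg]; group
  have hne : (EE 0).map E.f ≠ ⊥ := fun h => E.z_ne (by
    have : E.z ∈ (EE 0).map E.f := ⟨_, PF1x.z_EE, rfl⟩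
    rwa [h, mem_bot] at this)
  have hcm : IsMulCommutative ((EE 0).map E.f) := ⟨⟨by
    rintro ⟨_, a, ha, rfl⟩ ⟨_, b, hb, rfl⟩
    exact Subtype.ext (by
      show E.f a * E.f b = E.f b * E.f a
      rw [← map_mul, ← map_mul, PF1x.EE_comm ha hb])⟩⟩
  rcases Cfsg.Agent.S1169.result E.S _ hne hcm hsc with h | ⟨H, hH⟩
  · have h1 := congrArg Subtype.val (h.is_comm.comm ⟨_, E.mem (W.x1 0)⟩ ⟨_, E.mem (W.u 0)⟩)
    change E.f _ * E.f _ = E.f _ * E.f _ at h1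
    rw [← map_mul, ← map_mul] at h1
    exact absurd (E.inj h1) (by decide +kernel)
  · obtain ⟨x, hx, -, h1, hz⟩ := hn
    exact E.not_se ⟨x, PF1x.EE_sq hx, h1, hz⟩ H hH

end H20.P4
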