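import Mathlib
import Cfsg.Agent.H20.P0
import Cfsg.Agent.H20.PF5
import Cfsg.Agent.H20.PF6

set_option autoImplicit false
set_option linter.unusedVariables false
set_option linter.unusedSectionVars false

namespace H20.P4

open Cfsg Subgroup
open scoped MatrixGroups

universe u

variable {m : ℕ} {G : Type u} [Group G] [Finite G]

/-! ### PF7 -/
section PF7
namespace PF7x

theorem cy : W.c1 m * (W.u m * W.c1 m * W.u m) = W.y m := by
  ext <;> simp [W.c1, W.u, W.y]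
  linear_combination two_kk (m := m) + two_hh (m := m)

theorem fuse {E : Emb m G} {N : Subgroup G} (h : E.PN N) (h4 : E.Conj4 N)
    {x : W m} (hx : x ∈ Q m) (h2 : x * x = 1) (h1 : x ≠ 1) (hz : x ≠ W.z m) : IsConj (E.f x) E.y := by
  obtain ⟨a, ha, b, hb, e1, e2, rfl⟩ := W.invol_Q hx h2 h1 hz
  have uu : E.u * E.u = 1 := by rw [← map_mul, W.u_mul_u, map_one]
  have ui : E.u⁻¹ = E.u := inv_eq_of_mul_eq_one_right uu
  obtain ⟨g, hg, e3⟩ := h4 a ha e1
  obtain ⟨g', hg', e4⟩ := h4 _ (W.u_Q2.2 hb) (by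
    calc W.u m * b * W.u m * (W.u m * b * W.u m) = W.u m * b * (W.u m * W.u m) * b * W.u m := by group
      _ = W.u m * W.z m * W.u m := by rw [W.u_mul_u, ← e2]; group
      _ = _ := by rw [W.z_comm, mul_assoc, W.u_mul_u, mul_one])
  have c1 := h.comm _ ((h.mem a).2 ha) g' hg'
  have c2 := h.comm g hg _ ((h.mem (W.c1 m)).2 (by simp [mem_Q1, W.c1]))
  rw [map_mul, map_mul] at e4
  refine isConj_iff.2 ⟨g * (E.u * g' * E.u), ?_⟩
  rw [Emb.y, ← cy, map_mul, map_mul, map_mul, map_mul]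
  calc g * (E.u * g' * E.u) * (E.f a * E.f b) * (g * (E.u * g' * E.u))⁻¹
      = g * (E.u * g' * E.u * E.f a) * E.f b * E.u⁻¹ * g'⁻¹ * E.u⁻¹ * g⁻¹ := by group
    _ = g * E.f a * (E.u * (g' * (E.u * E.f b * E.u) * g'⁻¹) * E.u) * g⁻¹ := by rw [← c1, ui]; group
    _ = g * E.f a * g⁻¹ * (g * (E.u * E.f (W.c1 m) * E.u)) * g⁻¹ := by rw [e4]; group
    _ = _ := by rw [e3, c2]; group

theorem sq {E : Emb m G} {x : W m} (h : E.Z (E.f x)) : x * x = 1 ∧ x ≠ 1 :=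
  ⟨E.inj (by rw [map_mul, (E.Z_sq h).1, map_one]), fun e => (E.Z_sq h).2 (by rw [e, map_one])⟩

end PF7x
open PF7x

theorem Emb.fuse_y (E : Emb m G) {N : Subgroup E.Bar} (h : E.bar.PN N) (h4 : E.bar.Conj4 N)
    {x : W m} (hx : x ∈ Q m) (h2 : x * x = 1) (h1 : x ≠ 1) (hz : x ≠ W.z m) : IsConj (E.f x) E.y := by
  obtain ⟨g, -, e⟩ := E.lift_conj (fuse h h4 hx h2 h1 hz)
  exact isConj_iff.2 ⟨g, e⟩

theorem Emb.zq (E : Emb m G) {N : Subgroup E.Bar} (h : E.bar.PN N) (h4 : E.bar.Conj4 N) :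
    ∀ x ∈ Q m, E.Z (E.f x) → x = W.z m := fun x hx hZ => by
  by_contra hz
  have hy : E.Z E.y := hZ.trans (E.fuse_y h h4 hx (sq hZ).1 (sq hZ).2 hz)
  rcases Nat.eq_zero_or_pos m with rfl | hm
  · obtain ⟨x0, ⟨e0, e1, e2⟩, h2, h3, h5⟩ := E.n15
    refine h5 (hy.trans (E.fuse_y h h4 h2 ?_ h3 fun e => h5 (e ▸ IsConj.refl _)).symm)
    obtain ⟨i, j, a, b, e, hp⟩ := x0
    simp only at e0 e1 e2
    subst e0
    cases a <;> cases b <;> ext <;> simp [← two_mul, e1, e2]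
  · exact E.y_not_Z hm hy

theorem Emb.pw [IsSimpleGroup G] (E : Emb m G) (h : ∀ x ∈ Q m, E.Z (E.f x) → x = W.z m) :
    E.PW ∨ E.tw.PW := by
  have uQ : W.u m ∉ Q m := by simp [mem_Q, W.u]
  have cj : ∀ {x x' : W m}, IsConj x x' → E.Z (E.f x) → E.Z (E.f x') := fun h1 h2 =>
    h2.trans (E.f.map_isConj h1)
  have nb : E.Z E.u → E.Z (E.f (W.u m * W.z m)) → False := fun h1 h2 => by
    obtain ⟨g, e, hg⟩ := E.ext_z h1 ((centralizer {W.u m}).map E.f) ((W_p.to_subgroup _).map E.f) (by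
      rintro _ ⟨d, hd, rfl⟩
      rw [← map_mul, ← map_mul, mem_centralizer_singleton_iff.1 hd])
    have key : ∀ d ∈ Q m, d * W.u m = W.u m * d → d * d = 1 → d ≠ W.z m →
        ∃ d' ∈ Q m, E.f d' = g * E.f d * g⁻¹ := fun d hd e1 e2 e3 => by
      obtain ⟨d', e4⟩ := hg _ ⟨d, mem_centralizer_singleton_iff.2 e1, rfl⟩
      refine ⟨d', by_contra fun hn => e3 (h d hd ?_), e4⟩
      have e5 : d' * d' = 1 := E.inj (by rw [map_mul, e4, conj_mul, ← map_mul, e2]; simp)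
      refine IsConj.trans ?_ (isConj_iff.2 ⟨g, e4.symm⟩ : IsConj (E.f d) (E.f d')).symm
      rcases W.invol_out hn e5 with e6 | e6
      exacts [cj e6 h1, cj e6 h2]
    obtain ⟨v', h3, e3⟩ := key (W.v m) rfl (by ext <;> simp [W.v, W.u]) (by ext <;> simp [W.v])
      fun e => hh_ne (congrArg W.j e).symm
    obtain ⟨y', h4, e4⟩ := key (W.y m) rfl (by ext <;> simp [W.y, W.u]) W.y_mul_y
      fun e => hh_ne (congrArg W.i e).symm
    have e5 : E.f (v' * y') = g * E.z * g⁻¹ := by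
      rw [map_mul, e3, e4, conj_mul, ← map_mul, show W.v m * W.y m = W.z m by ext <;> simp [W.v, W.y, W.z]]
    rw [h _ (mul_mem h3 h4) (isConj_iff.2 ⟨g, e5.symm⟩)] at e5
    have e6 := E.inj (mul_left_cancel (mul_right_cancel (e.trans e5)))
    exact uQ (e6 ▸ rfl)
  by_cases hu : E.Z E.u
  · refine Or.inl fun x => ⟨fun hx => ?_, ?_⟩
    · by_cases hQ : x ∈ Q m
      · exact Or.inl (h x hQ hx)
      · exact Or.inr ((W.invol_out hQ (sq hx).1).resolve_right fun e => nb hu (cj e.symm hx))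
    · rintro (rfl | e)
      exacts [IsConj.refl _, cj e hu]
  · have huz : E.Z (E.f (W.u m * W.z m)) := by
      obtain ⟨x, h1, h2⟩ := E.zstar
      rcases W.invol_out (fun hQ => h1 (h x hQ h2)) (sq h2).1 with e | e
      exacts [absurd (cj e.symm h2) hu, cj e.symm h2]
    refine Or.inr fun x => ?_
    change IsConj E.tw.z (E.f (κ x)) ↔ _
    rw [E.tw_z]
    refine ⟨fun hx => ?_, ?_⟩
    · by_cases hQ : x ∈ Q m
      · exact Or.inl (h x hQ (κ_of_mem hQ ▸ hx))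
      · rw [κ_of_not_mem hQ] at hx
        have hQ' : x * W.z m ∉ Q m := fun e => hQ ((mul_mem_cancel_right (h := show W.z m ∈ Q m from rfl)).1 e)
        obtain ⟨c, hc⟩ := isConj_iff.1 ((W.invol_out hQ' (sq hx).1).resolve_left fun e => hu (cj e.symm hx))
        refine Or.inr (isConj_iff.2 ⟨c, mul_right_cancel (b := W.z m) ?_⟩)
        rw [← hc, mul_assoc _ c⁻¹, W.z_comm]
        group
    · rintro (rfl | e)
      · rw [κ_of_mem (x := W.z m) rfl]
      · exact cj (κ_of_not_mem uQ ▸ κ.map_isConj e) huz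
end PF7

end H20.P4
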