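import Mathlib
import Cfsg.Agent.H20.P0
import Cfsg.Agent.H20.PFR

set_option autoImplicit false
set_option linter.unusedVariables false
set_option linter.unusedSectionVars false

namespace H20.P4

open Cfsg Subgroup
open scoped MatrixGroups

universe u

variable {m : ℕ} {G : Type u} [Group G] [Finite G]

/-! ### PF8 -/
section PF8
open H24

namespace PF8x

theorem cy : W.c1 m * (W.u m * W.c1 m * W.u m) = W.y m := by
  ext <;> simp [W.c1, W.u, W.y]
  linear_combination two_kk (m := m) + two_hh (m := m)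

theorem c1_Q1 : W.c1 m ∈ Q1 m := by simp [mem_Q1, W.c1]

theorem y_Q1 : W.y m ∉ Q1 m := by simpa [mem_Q1, W.y] using hh_ne

theorem t_cz : W.t m * (W.c1 m * W.z m) * (W.t m)⁻¹ = W.c1 m := by
  ext <;> simp [W.c1, W.t, W.z] <;> linear_combination -two_kk (m := m)

theorem conj_c {d : W m} (hd : d ∈ T0 m) : d * W.c1 m * d⁻¹ = W.c1 m ∨
    d * W.c1 m * d⁻¹ = W.c1 m * W.z m ∨ d * W.c1 m * d⁻¹ = W.c1 m * W.y m ∨
    d * W.c1 m * d⁻¹ = W.c1 m * W.y m * W.z m := by
  obtain ⟨i, j, a, b, e, hp⟩ := d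
  obtain rfl : e = false := hd
  cases a <;> cases b
  · left; ext <;> simp [W.c1]
  · right; right; left
    ext <;> simp [W.c1, W.y]
    linear_combination -two_kk (m := m) - two_hh (m := m)
  · right; right; right
    ext <;> simp [W.c1, W.y, W.z, add_assoc]
    linear_combination -two_kk (m := m) - two_hh (m := m)
  · right; left
    ext <;> simp [W.c1, W.z] <;> linear_combination -two_kk (m := m) - two_hh (m := m)

theorem of_c {d : W m} (hd : d ∈ T0 m) (h : d * W.c1 m = W.c1 m * d) : d.a = false ∧ d.b = false := by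
  obtain ⟨i, j, a, b, e, hp⟩ := d
  obtain rfl : e = false := hd
  have h1 := congrArg W.i h
  have h2 := congrArg W.j h
  cases a <;> cases b <;> simp [W.c1] at h1 h2 ⊢
  · exact kk_ne_neg (m := m) (by linear_combination -h2)
  · exact kk_ne_neg (m := m) (by linear_combination -h1)
  · exact kk_ne_neg (m := m) (by linear_combination -h1)

theorem abl {d d' : W m} (hd : d ∈ T0 m) (h : d.a = false ∧ d.b = false) (hd' : d' ∈ T0 m)
    (h' : d'.a = false ∧ d'.b = false) : d * d' = d' * d := by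
  have e : d.e = false := hd
  have e' : d'.e = false := hd'
  ext <;> simp [e, e', h.1, h.2, h'.1, h'.2, add_comm]

theorem om {d : W m} (hd : d ∈ T0 m) (h : d.a = false ∧ d.b = false) (h2 : d * d = 1) :
    d = 1 ∨ d = W.z m ∨ d = W.y m ∨ d = W.y m * W.z m := by
  have e : d.e = false := hd
  have h3 := congrArg W.i h2
  have h4 := congrArg W.j h2
  simp only [mul_i, mul_j, e, h.1, h.2, sg_false, one_mul, one_i, one_j, Bool.false_eq_true,
    if_false, ← two_mul] at h3 h4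
  rcases two_mul_eq_zero h3 with h3 | h3 <;> rcases two_mul_eq_zero h4 with h4 | h4
  · left; ext <;> simp [*]
  · right; right; left; ext <;> simp [*, W.y]
  · right; right; right; ext <;> simp [*, W.y, W.z]
  · right; left; ext <;> simp [*, W.z]

theorem odd_comm {n a : G} (hn : PiElt {2}ᶜ n) (h : n * n * a = a * (n * n)) : n * a = a * n := by
  have ho : Odd (orderOf n) := by
    have := (piNat_compl_singleton Nat.prime_two).1 hn
    exact Nat.odd_iff.2 (by omega)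
  obtain ⟨k, hk⟩ := ho
  have e : n = (n * n) ^ (k + 1) := by
    rw [← pow_two, ← pow_mul, show 2 * (k + 1) = orderOf n + 1 by omega, pow_succ, pow_orderOf_eq_one,
      one_mul]
  rw [e]
  exact (Commute.pow_left h _).eq

variable {E : Emb m G} {N : Subgroup G}

theorem step (h : E.PN N) {g : G} (hg : g * E.y = E.y * g) (hN : ∀ a ∈ N, g * a * g⁻¹ ∈ N) :
    ∃ d ∈ T0 m, E.f d * g ∈ C{E.f (W.c1 m)} := by
  have uu : E.u * E.u = 1 := by rw [← map_mul, W.u_mul_u, map_one]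
  have ui : E.u⁻¹ = E.u := inv_eq_of_mul_eq_one_right uu
  have hc := (h.mem _).2 (c1_Q1 (m := m))
  have e : E.f (W.c1 m) * (E.u * E.f (W.c1 m) * E.u) = E.y := by
    rw [← map_mul, ← map_mul, ← map_mul, cy]
  have tz : E.f (W.t m) * (E.f (W.c1 m) * E.z) * (E.f (W.t m))⁻¹ = E.f (W.c1 m) := by
    rw [← map_mul, ← map_mul, ← map_inv, ← map_mul, t_cz]
  generalize E.f (W.c1 m) = c at hc e tz ⊢
  have e1 : g * c * g⁻¹ * (g * (E.u * c * E.u) * g⁻¹) = E.y := by
    rw [conj_mul, e, hg, mul_inv_cancel_right]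
  have h2 : E.u * (g * (E.u * c * E.u) * g⁻¹) * E.u ∈ N := by
    rcases h.norm (E.u * g * E.u) with h1 | h1
    · have := h1 c hc
      rwa [show E.u * g * E.u * c * (E.u * g * E.u)⁻¹ =
        E.u * (g * (E.u * c * E.u⁻¹) * g⁻¹) * E.u⁻¹ by group, ui] at this
    · have := h1 c hc
      rw [show E.u * (E.u * g * E.u * c * (E.u * g * E.u)⁻¹) * E.u =
        E.u * E.u * (g * (E.u * c * E.u⁻¹) * g⁻¹) by group, uu, one_mul, ui] at this
      have h3 := mul_mem (hN c hc) this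
      rw [e1] at h3
      exact absurd ((h.mem _).1 h3) y_Q1
  have h3 : E.u * (c⁻¹ * (g * c * g⁻¹)) * E.u ∈ N := by
    have e2 : c⁻¹ * (g * c * g⁻¹) = E.u * c * E.u * (g * (E.u * c * E.u) * g⁻¹)⁻¹ := by
      rw [eq_mul_inv_iff_mul_eq, mul_assoc, e1, ← e, inv_mul_cancel_left]
    have := mul_mem hc (inv_mem h2)
    generalize g * (E.u * c * E.u) * g⁻¹ = b at this e2
    rwa [e2, show E.u * (E.u * c * E.u * b⁻¹) * E.u =
      E.u * E.u * c * (E.u⁻¹ * b * E.u⁻¹)⁻¹ by group, uu, one_mul, ui]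
  rcases h.inf _ (mul_mem (inv_mem hc) (hN c hc)) h3 with e2 | e2
  · exact ⟨1, one_mem _, mem_C1_iff_conj.2 (by rw [map_one, one_mul, ← inv_mul_eq_one.1 e2])⟩
  · refine ⟨W.t m, rfl, mem_C1_iff_conj.2 ?_⟩
    refine Eq.trans ?_ tz
    rw [← e2]
    group

end PF8x
open PF8x

theorem Emb.PN.yn {E : Emb m G} {N : Subgroup G} (h : E.PN N) {g : G} (hg : g * E.y = E.y * g)
    {x x' : W m} (hx : x ∈ T0 m) (e : E.f x' = g * E.f x * g⁻¹) : ∃ d ∈ T0 m, x' = d * x * d⁻¹ := by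
  have hT : ∀ d ∈ T0 m, E.f d ∈ C{E.y} := fun d hd => mem_C1.2 (by
    rw [← map_mul, ← map_mul, W.cent_y.2 hd])
  have dec : ∀ g ∈ C{E.y}, ∃ d ∈ T0 m, E.f d * g ∈ C{E.f (W.c1 m)} ⊓ C{E.y} := fun g hg => by
    rcases h.norm g with h1 | h1
    · obtain ⟨d, hd, e⟩ := step h (mem_C1.1 hg) h1
      exact ⟨d, hd, e, mul_mem (hT d hd) hg⟩
    · have hu := mul_mem (hT (W.u m) rfl) hg
      obtain ⟨d, hd, e⟩ := step h (mem_C1.1 hu) fun a ha => by
        have := h1 a ha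
        rwa [show E.u * (g * a * g⁻¹) * E.u = E.u * g * a * (E.u * g)⁻¹ * (E.u * E.u) by group,
          ← map_mul, W.u_mul_u, map_one, mul_one] at this
      refine ⟨d * W.u m, mul_mem hd rfl, ?_⟩
      rw [map_mul, mul_assoc]
      exact ⟨e, mul_mem (hT d hd) hu⟩
  have TM : ∀ d ∈ T0 m, E.f d ∈ N[C{E.f (W.c1 m)} ⊓ C{E.y}] := fun d hd =>
    mem_N_of_finite fun k hk => ⟨mem_C1.2 (by
      have c1 : Commute k (E.f (W.c1 m)) := mem_C1.1 hk.1
      have c2 : Commute k E.y := mem_C1.1 hk.2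
      have c3 : Commute k E.z := h.cen k
      have c4 : Commute k (E.f (d⁻¹ * W.c1 m * d⁻¹⁻¹)) := by
        rcases conj_c (inv_mem hd) with e | e | e | e <;> simp only [e, map_mul]
        exacts [c1, c1.mul_right c3, c1.mul_right c2, (c1.mul_right c2).mul_right c3]
      rw [map_mul, map_mul, inv_inv, map_inv] at c4
      calc E.f d * k * (E.f d)⁻¹ * E.f (W.c1 m)
          = E.f d * (k * ((E.f d)⁻¹ * E.f (W.c1 m) * E.f d)) * (E.f d)⁻¹ := by group
        _ = _ := by rw [c4.eq]; group),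
      (C{E.y}).mul_mem (mul_mem (hT d hd) hk.2) (inv_mem (hT d hd))⟩
  have hy : ¬ E.Z E.y := fun hz => by
    obtain ⟨c, hc⟩ := isConj_iff.1 hz
    rw [h.cen, mul_inv_cancel_right] at hc
    exact hh_ne (congrArg W.i (E.inj hc))
  have piT : IsPi {2} ((T0 m).map E.f) :=
    isPi_of_isPGroup Nat.prime_two ((W_p.to_subgroup _).map E.f)
  have TY : (T0 m).map E.f ≤ C{E.y} := by
    rintro _ ⟨d, hd, rfl⟩
    exact hT d hd
  have sY : Syl 2 C{E.y} ((T0 m).map E.f) := Syl.mk' Nat.prime_two TY piT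
    (Nat.two_dvd_ne_zero.2 (Nat.odd_iff.1 (Emb.syl_H hy)))
  generalize hM : C{E.f (W.c1 m)} ⊓ C{E.y} = M at dec TM
  have MY : M ≤ C{E.y} := hM ▸ inf_le_right
  have sM : Syl 2 M ((T0 m).map E.f ⊓ M) := sY.inf_of_isProd (L := C{E.y}) ⟨TY, MY, fun g hg => by
    obtain ⟨d, hd, e⟩ := dec g hg
    exact ⟨_, inv_mem ⟨d, hd, rfl⟩, _, e, (inv_mul_cancel_left _ _).symm⟩⟩ le_rfl
  have mA : ∀ a ∈ (T0 m).map E.f ⊓ M, ∃ d ∈ T0 m, (d.a = false ∧ d.b = false) ∧ E.f d = a := by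
    rintro _ ⟨⟨d, hd, rfl⟩, h2⟩
    refine ⟨d, hd, of_c hd (E.inj ?_), rfl⟩
    rw [map_mul, map_mul]
    exact mem_C1.1 ((hM.ge.trans inf_le_left) h2)
  generalize (T0 m).map E.f ⊓ M = A at sM mA
  have ab : ∀ a ∈ A, ∀ b ∈ A, a * b = b * a := fun a ha b hb => by
    obtain ⟨d, hd, h1, rfl⟩ := mA a ha
    obtain ⟨d', hd', h1', rfl⟩ := mA b hb
    rw [← map_mul, ← map_mul, abl hd h1 hd' h1']
  have odd : ∀ n ∈ M ⊓ N[A], PiElt {2}ᶜ n → ∀ k : ℕ, ∀ a ∈ A, a ^ 2 ^ k = 1 → n * a = a * n := by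
    intro n hn ho k
    induction k with
    | zero => intro a ha e; rw [pow_zero, pow_one] at e; rw [e, mul_one, one_mul]
    | succ k ih =>
      intro a ha e
      have e1 := ih (a * a) (mul_mem ha ha) (by rw [← pow_two, ← pow_mul, ← pow_succ', e])
      have m1 := conj_mem hn.2 ha
      have m2 := mul_mem (inv_mem ha) m1
      have e2 : a⁻¹ * (n * a * n⁻¹) * (a⁻¹ * (n * a * n⁻¹)) = 1 :=
        calc a⁻¹ * (n * a * n⁻¹) * (a⁻¹ * (n * a * n⁻¹))
            = a⁻¹ * (n * a * n⁻¹ * a⁻¹) * (n * a * n⁻¹) := by group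
          _ = a⁻¹ * a⁻¹ * (n * (a * a)) * n⁻¹ := by rw [ab _ m1 _ (inv_mem ha)]; group
          _ = 1 := by rw [e1]; group
      have e3 : Commute n (a⁻¹ * (n * a * n⁻¹)) := by
        obtain ⟨d, hd, h1, e4⟩ := mA _ m2
        have c2 : Commute n E.y := mem_C1.1 (MY hn.1)
        have c3 : Commute n E.z := h.cen n
        rw [← e4, ← map_mul, ← map_one E.f] at e2
        rw [← e4]
        rcases om hd h1 (E.inj e2) with e | e | e | e <;> rw [e]
        exacts [map_one E.f ▸ Commute.one_right n, c3, c2, map_mul E.f _ _ ▸ c2.mul_right c3]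
      refine odd_comm ho ?_
      calc n * n * a = n * a * n⁻¹ * (n * (a⁻¹ * (n * a * n⁻¹))) * n := by group
        _ = a * (a⁻¹ * (n * a * n⁻¹) * (a⁻¹ * (n * a * n⁻¹))) * (n * n) := by rw [e3.eq]; group
        _ = _ := by rw [e2, mul_one]
  have sd := H26.Burnside_normal_complement Nat.prime_two sM fun n hn => by
    obtain ⟨y, w, h1, h2, h3, h4, rfl⟩ := exists_piElt_decomp {2} n
    refine mul_mem (mem_C'.2 (ab y (sM.subnorm.mem_of_nml inf_le_right h1
      (zpowers_le.2 hn h3)))) (mem_C'.2 fun a ha => ?_)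
    obtain ⟨k, hk⟩ := (sM.pi.piElt ha).exists_pow Nat.prime_two
    exact odd w (zpowers_le.2 hn h4) h2 k a ha (hk ▸ pow_orderOf_eq_one a)
  obtain ⟨d, hd, e1⟩ := dec g (mem_C1.2 hg)
  obtain ⟨k, hk, a0, ha0, e2⟩ := (mem_sup_of_norm sd.norm).1 (sd.sup.ge e1)
  obtain ⟨a, ha, -, rfl⟩ := mA a0 ha0
  have m1 : a * x * a⁻¹ ∈ T0 m := mul_mem (mul_mem ha hx) (inv_mem ha)
  have e3 : E.f (d * x' * d⁻¹ * (a * x * a⁻¹)⁻¹) =
      k * (E.f (a * x * a⁻¹) * k⁻¹ * (E.f (a * x * a⁻¹))⁻¹) := by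
    simp only [map_mul, map_inv, e, eq_mul_inv_iff_mul_eq.2 e2.symm]
    group
  have e4 : E.f (d * x' * d⁻¹ * (a * x * a⁻¹)⁻¹) = 1 :=
    ((isPi_of_isPGroup Nat.prime_two E.S.isPGroup').piElt (E.mem _)).eq_one
      ((pcore_pi _ M).piElt (e3 ▸ mul_mem hk
        (conj_mem (norm_pcore _ le_rfl (TM _ m1)) (inv_mem hk))))
  refine ⟨d⁻¹ * a, mul_mem (inv_mem hd) ha, ?_⟩
  have := mul_inv_eq_one.1 (E.inj (e4.trans (map_one _).symm))
  calc x' = d⁻¹ * (d * x' * d⁻¹) * d := by group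
    _ = _ := by rw [this]; group
end PF8

end H20.P4
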