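import Mathlib
import Cfsg.Agent.H20.P0
import Cfsg.Agent.H20.PG0
import Cfsg.Agent.H22.HoQ

set_option autoImplicit false
set_option linter.unusedVariables false
set_option linter.unusedSectionVars false

namespace H20.P4

open Cfsg Subgroup
open scoped MatrixGroups

universe u

variable {m : ℕ} {G : Type u} [Group G] [Finite G]

/-! ### PHO -/
section PHO

namespace PHOx

/-- translations of three copies of the four-group -/
def tr : Multiplicative (Fin 3 → ZMod 2 × ZMod 2) →* Equiv.Perm (Fin 3 × ZMod 2 × ZMod 2) :=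
  MonoidHom.mk' (fun v => Equiv.prodCongrRight fun k => Equiv.addRight (v.toAdd k)) fun v w => by
    ext1 ⟨k, x⟩
    simp [add_comm, add_left_comm]

theorem tr_inj : Function.Injective tr := fun v w h => funext fun k => by
  have := Equiv.ext_iff.1 h (k, 0)
  simp [tr] at this
  exact this

theorem tr_sign (v : Multiplicative (Fin 3 → ZMod 2 × ZMod 2)) : Equiv.Perm.sign (tr v) = 1 := by
  have h : ∀ a : ZMod 2 × ZMod 2, Equiv.Perm.sign (Equiv.addRight a) = 1 := by decide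
  exact (Equiv.Perm.sign_prodCongrRight _).trans (Finset.prod_eq_one fun k _ => h _)

theorem exists_hom {n : ℕ} (hn : 12 ≤ n) : ∃ ρ : Multiplicative (Fin 3 → ZMod 2 × ZMod 2) →*
    alternatingGroup (Fin n), Function.Injective ρ := by
  classical
  obtain ⟨e⟩ : Nonempty (Fin 3 × ZMod 2 × ZMod 2 ↪ Fin n) :=
    Function.Embedding.nonempty_of_card_le (by simpa using hn)
  refine ⟨((Equiv.Perm.extendDomainHom (Equiv.ofInjective e.1 e.2)).comp tr).codRestrict _
    fun v => Equiv.Perm.mem_alternatingGroup.2 ((Equiv.Perm.sign_extendDomain _ _).trans (tr_sign v)),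
    fun v w h => tr_inj (Equiv.Perm.extendDomainHom_injective _ (congrArg Subtype.val h))⟩

theorem no_big (E : Emb m G) (ρ : Multiplicative (Fin 3 → ZMod 2 × ZMod 2) →* G)
    (h : Function.Injective ρ) : False := by
  have sq : ∀ v : Multiplicative (Fin 3 → ZMod 2 × ZMod 2), v * v = 1 := by decide
  obtain ⟨g, hg⟩ := H24.G2S.exists_conj_le_sylow E.S ρ.range (by
    rintro ⟨_, v, rfl⟩
    exact ⟨1, Subtype.ext (by simp [pow_two, ← map_mul, sq])⟩)
  choose x hx using fun v => E.exists_eq (hg _ ⟨v, rfl⟩)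
  have h1 := W.rank_le ((ρ.range.map (MulAut.conj g).toMonoidHom).comap E.f) fun a ha => E.inj (by
    obtain ⟨_, ⟨v, rfl⟩, e⟩ := ha
    rw [map_mul, ← e, ← map_mul, ← map_mul, sq, map_one, map_one, map_one])
  have h2 := Nat.card_le_card_of_injective (β := (ρ.range.map (MulAut.conj g).toMonoidHom).comap E.f)
    (fun v => ⟨x v, _, ⟨v, rfl⟩, (hx v).symm⟩) fun v w e => h (by
      have := congrArg (fun a => E.f a.1) e
      simpa [hx] using this)
  have h3 : Nat.card (Multiplicative (Fin 3 → ZMod 2 × ZMod 2)) = 64 := by simp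
  omega

end PHOx

theorem Emb.holt [IsSimpleGroup G] (E : Emb m G) {M : Subgroup G} (hM : M ≠ ⊤) (hC : E.C ≤ M)
    (hf : ∀ x : W m, E.Z (E.f x) → ∃ g ∈ M, g * E.f x * g⁻¹ = E.z)
    (h2 : ∃ x : W m, x * x = 1 ∧ x ≠ 1 ∧ ¬ E.Z (E.f x)) :
    Nonempty (G ≃* alternatingGroup (Fin 9)) := by
  have hS : ∀ x, E.f x ∈ M := fun x => hC (E.mem_C x)
  have z2 := E.Z_sq (IsConj.refl E.z)
  have o2 : orderOf E.z = 2 := orderOf_eq_prime (by rw [pow_two, z2.1]) z2.2
  have hu : ∀ x : G, x⁻¹ * E.z * x ∈ M → x ∈ M := fun x hx => by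
    have hSM : (E.S : Subgroup G) ≤ M := by rintro _ ⟨x, rfl⟩; exact hS x
    obtain ⟨g, hg⟩ := H24.G2S.exists_conj_le_sylow (E.S.subtype hSM) (zpowers ⟨_, hx⟩)
      (by
        rintro ⟨_, i, rfl⟩
        refine ⟨1, Subtype.ext (Subtype.ext ?_)⟩
        have : (x⁻¹ * E.z * x) ^ 2 = 1 := by
          rw [pow_two, show x⁻¹ * E.z * x * (x⁻¹ * E.z * x) = x⁻¹ * (E.z * E.z) * x by group, z2.1]
          group
        show ((x⁻¹ * E.z * x) ^ i) ^ (2 ^ 1) = 1
        rw [← zpow_natCast, ← zpow_mul, mul_comm, zpow_mul, zpow_natCast, pow_one, this, one_zpow])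
    obtain ⟨y, hy⟩ := E.exists_eq (hg _ (mem_zpowers _))
    have hy' : E.f y = g * x⁻¹ * E.z * (g * x⁻¹)⁻¹ := hy.trans (by simp [mul_assoc])
    obtain ⟨k, hk, e⟩ := hf y (isConj_iff.2 ⟨_, hy'.symm⟩)
    have : k * g * x⁻¹ ∈ M := hC (mem_centralizer_singleton_iff.2 (by
      rw [← mul_inv_eq_iff_eq_mul]; rw [hy'] at e; exact Eq.trans (by group) e))
    rwa [mul_mem_cancel_left (mul_mem hk g.2), inv_mem_iff] at this
  rcases H22.Ho.holt_cosets E.not_comm hM (z := E.z) ⟨o2,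
    E.S, E.mem _, fun _ ⟨x, e⟩ => e ▸ mem_centralizer_singleton_iff.1 (E.mem_C x)⟩ (hS _)
    hu with h | ⟨n, h1, h7, ⟨e⟩⟩
  · exact absurd h (E.not_se h2 M)
  by_cases c : 12 ≤ n
  · obtain ⟨ρ, hρ⟩ := PHOx.exists_hom c
    exact (PHOx.no_big E (e.symm.toMonoidHom.comp ρ) (e.symm.injective.comp hρ)).elim
  have : Nontrivial (Fin n) := Fin.nontrivial_iff_two_le.2 (by omega)
  have hc := E.f.range.card_mul_index
  rw [← Nat.card_congr (E.f.ofInjective E.inj).toEquiv, card_W, Nat.card_congr e.toEquiv,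
    nat_card_alternatingGroup, Nat.card_fin] at hc
  obtain ⟨k, hk⟩ := E.odd
  obtain ⟨j, rfl⟩ := h1
  rw [hk] at hc
  obtain rfl | rfl | rfl : j = 3 ∨ j = 4 ∨ j = 5 := by omega
  · rw [pow_add, mul_comm (2 ^ _), mul_assoc] at hc
    norm_num [Nat.factorial] at hc
    omega
  · exact ⟨e⟩
  · rcases m with _ | m
    · norm_num [Nat.factorial] at hc
      omega
    · rw [show 2 * (m + 1) + 6 = 8 + 2 * m by ring, pow_add, mul_assoc] at hc
      norm_num [Nat.factorial] at hc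
      omega
end PHO


end H20.P4
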