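import Mathlib
import Cfsg.Agent.H20.P0
import Cfsg.Agent.H20.PG0
import Cfsg.Agent.H20.PAU

set_option autoImplicit false
set_option linter.unusedVariables false
set_option linter.unusedSectionVars false

namespace H20.P4

open Cfsg Subgroup
open scoped MatrixGroups

universe u

variable {m : ℕ} {G : Type u} [Group G] [Finite G]

namespace PO1x

open scoped commutatorElement

variable {F : Type} [Field F] [Fintype F]

theorem normal_cases (hF : Odd (Fintype.card F)) (h5 : 5 ≤ Fintype.card F) (K : Subgroup SL(2, F))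
    [K.Normal] : K = ⊤ ∨ ∀ g ∈ K, g = 1 ∨ g = -1 := by
  have h2 := H7.two_ne_zero_of_odd_card hF
  have : IsSimpleGroup (SL(2, F) ⧸ center SL(2, F)) :=
    Matrix.ProjectiveSpecialLinearGroup.rank_two_simple (by rw [Nat.card_eq_fintype_card]; omega)
  obtain ⟨z, hz⟩ := H22.sl2_dcover h2
  have h3 : z = -1 := ((PAUx.center_iff z).1 ((QuotientGroup.eq_one_iff z).1 hz.map)).resolve_left hz.ne
  subst h3
  exact hz.normal_cases (H22.sl2_perfect (by omega)) K

theorem pm_eq (h5 : 5 ≤ Fintype.card F) (α : SL(2, F) →* SL(2, F)) (hα : ∀ a, α a = a ∨ α a = -a)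
    (a : SL(2, F)) : α a = a := by
  have : commutator SL(2, F) ≤ α.eqLocus (MonoidHom.id _) := commutator_le.2 fun x _ y _ => by
    change α ⁅x, y⁆ = ⁅x, y⁆
    rw [map_commutatorElement]
    rcases hα x with h1 | h1 <;> rcases hα y with h2 | h2 <;>
      simp [h1, h2, commutatorElement_def, inv_neg]
  exact this ((H22.sl2_perfect (by omega)).ge (mem_top a))

theorem neg_ne (hF : Odd (Fintype.card F)) : (-1 : SL(2, F)) ≠ 1 := fun h => by
  have := congrArg (fun a : SL(2, F) => a.1 0 0) h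
  simp [PAUx.neg_val] at this
  exact H7.two_ne_zero_of_odd_card hF (by linear_combination -this)

theorem eq_one_of_odd {P : Subgroup G} (hP : Odd (Nat.card P)) {p : G} (hp : p ∈ P) (h2 : p * p = 1) :
    p = 1 := by
  have h1 : orderOf p ∣ 2 := orderOf_dvd_of_pow_eq_one (by rw [sq, h2])
  have h3 : Odd (orderOf p) := hP.of_dvd_nat (orderOf_dvd_natCard P hp)
  rcases (Nat.dvd_prime Nat.prime_two).1 h1 with h | h
  · exact orderOf_eq_one_iff.1 h
  · rw [h] at h3; exact absurd h3 (by decide)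

theorem exp4 : ∀ x : W 0, x * x * (x * x) = 1 := by decide +kernel

variable {E : Emb m G}

theorem uu (E : Emb m G) : E.u * E.u = 1 := by rw [← map_mul, W.u_mul_u, map_one]
theorem uu' (E : Emb m G) (x : G) : E.u * (E.u * x) = x := by rw [← mul_assoc, uu, one_mul]
theorem u_inv (E : Emb m G) : E.u⁻¹ = E.u := inv_eq_of_mul_eq_one_right (uu E)
theorem zz (E : Emb m G) : E.z * E.z = 1 := by rw [← map_mul, W.z_mul_z, map_one]

variable {ψ : SL(2, F) →* G} (h : E.CaseL F ψ)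
include h

theorem comm (a b : SL(2, F)) : ψ a * (E.u * ψ b * E.u) = E.u * ψ b * E.u * ψ a :=
  h.pn.comm _ ⟨a, rfl⟩ _ ⟨b, rfl⟩

theorem ψ_neg (a : SL(2, F)) : ψ (-a) = ψ a * E.z := by rw [← mul_neg_one, map_mul, h.neg]

theorem uzu : E.u * E.z * E.u = E.z := by rw [h.pn.cen, mul_assoc, uu, mul_one]

theorem sep {a b c d : SL(2, F)} (e : ψ a * (E.u * ψ b * E.u) = ψ c * (E.u * ψ d * E.u)) :
    (a = c ∧ b = d) ∨ (a = -c ∧ b = -d) := by
  have e1 : E.u * ψ (d * b⁻¹) * E.u = ψ (c⁻¹ * a) := by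
    rw [map_mul, map_mul, map_inv, map_inv]
    calc _ = (ψ c)⁻¹ * (ψ c * (E.u * ψ d * E.u)) * (E.u * ψ b * E.u)⁻¹ := by
          simp only [mul_inv_rev, u_inv, mul_assoc, uu', inv_mul_cancel_left]
      _ = _ := by rw [← e]; group
  rcases h.pn.inf _ ⟨d * b⁻¹, rfl⟩ ⟨_, e1.symm⟩ with h1 | h1
  · rw [h1, mul_one, uu, eq_comm, ← map_one ψ] at e1
    rw [← map_one ψ] at h1
    exact Or.inl ⟨(inv_mul_eq_one.1 (h.inj e1)).symm, (mul_inv_eq_one.1 (h.inj h1)).symm⟩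
  · rw [h1, uzu h, eq_comm, ← h.neg] at e1
    rw [← h.neg] at h1
    have h2 := h.inj e1
    have h3 := h.inj h1
    rw [inv_mul_eq_iff_eq_mul, mul_neg_one] at h2
    rw [mul_inv_eq_iff_eq_mul, neg_one_mul] at h3
    exact Or.inr ⟨h2, by rw [h3, neg_neg]⟩

theorem mem_norm {g : G} (hg : ∀ a ∈ ψ.range, g * a * g⁻¹ ∈ ψ.range) :
    g ∈ normalizer (ψ.range : Set G) := mem_normalizer_fintype hg

theorem aut_of_norm {g : G} (hg : g ∈ normalizer (ψ.range : Set G)) :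
    ∃ α : MulAut SL(2, F), ∀ a, g * ψ a * g⁻¹ = ψ (α a) := by
  let e : SL(2, F) ≃* ψ.range := MonoidHom.ofInjective h.inj
  refine ⟨MulAut.congr e.symm (ψ.range.normalizerMonoidHom ⟨g, hg⟩), fun a => ?_⟩
  have : ∀ x : ψ.range, ψ (e.symm x) = x := fun x => congrArg Subtype.val (e.apply_symm_apply x)
  simp only [MulAut.congr_apply, MulEquiv.trans_apply, MulEquiv.symm_symm, this]
  rfl

theorem norm_or (g : G) : g ∈ normalizer (ψ.range : Set G) ∨ E.u * g ∈ normalizer (ψ.range : Set G) := by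
  rcases h.pn.norm g with h1 | h1
  · exact Or.inl (mem_norm h h1)
  · refine Or.inr (mem_norm h fun a ha => ?_)
    have := h1 a ha
    rwa [show E.u * (g * a * g⁻¹) * E.u = E.u * g * a * (E.u * g)⁻¹ by
      rw [mul_inv_rev, u_inv]; group] at this

theorem conj_δ {g : G} (hg : g * E.u = E.u * g) {α : MulAut SL(2, F)}
    (hα : ∀ a, g * ψ a * g⁻¹ = ψ (α a)) (a : SL(2, F)) : g * h.δ a * g⁻¹ = h.δ (α a) := by
  rw [h.δ_apply, h.δ_apply, ← hα]
  have : E.u = g * E.u * g⁻¹ := by rw [hg, mul_inv_cancel_right]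
  conv_rhs => rw [this]
  group

theorem cent_aux {g : G} (hg : g * E.u = E.u * g) (hn : g ∈ normalizer (ψ.range : Set G))
    (hc : ∀ a, g * h.δ a = h.δ a * g) : g = 1 ∨ g = E.z := by
  obtain ⟨α, hα⟩ := aut_of_norm h hn
  have h1 : ∀ a, α a = a := pm_eq h.five α.toMonoidHom fun a => by
    have := conj_δ h hg hα a
    rw [hc, mul_inv_cancel_right, h.δ_apply, h.δ_apply, eq_comm] at this
    exact (sep h this).imp And.left And.left
  have h2 : ∀ a, g * ψ a = ψ a * g := fun a => by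
    rw [← mul_inv_eq_iff_eq_mul, hα, h1]
  refine h.pn.cent g ?_ ?_
  · rintro _ ⟨a, rfl⟩
    exact h2 a
  · rintro _ ⟨a, rfl⟩
    rw [← mul_assoc, ← mul_assoc, hg, mul_assoc E.u, h2, mul_assoc, mul_assoc, hg]
    group

theorem syl_aux {x : W m} (hQ : x ∈ Q m) (hx : x * W.u m = W.u m * x) :
    ∃ a, E.f x = h.δ a ∨ E.f x = h.δ a * E.z := by
  obtain ⟨a, ha, b, hb, rfl⟩ := W.mem_Q_iff.1 hQ
  obtain ⟨A, hA⟩ := (h.pn.mem _).2 ha
  obtain ⟨B, hB⟩ := (h.pn.mem _).2 (W.u_Q2.2 hb)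
  have e1 : E.f (a * b) = ψ A * (E.u * ψ B * E.u) := by
    rw [hA, hB, map_mul, map_mul, map_mul]
    simp only [mul_assoc, uu', uu, mul_one]
  have e2 : E.f (a * b) = ψ B * (E.u * ψ A * E.u) := by
    have : E.f (a * b) = E.u * E.f (a * b) * E.u := by
      rw [← map_mul, ← hx, map_mul _ _ (W.u m), mul_assoc, uu, mul_one]
    rw [this, e1, comm h A B]
    simp only [mul_assoc, uu', uu, mul_one]
  refine ⟨A, ?_⟩
  rcases sep h (e1.symm.trans e2) with ⟨h1, -⟩ | ⟨-, h1⟩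
  · left
    rw [e1, h.δ_apply, h1]
  · right
    rw [e1, h.δ_apply, h1, ψ_neg h, mul_assoc (ψ A), mul_assoc _ E.u E.z, h.pn.cen E.u]
    group

end PO1x

open PO1x

/-! ### PO1 -/
section PO1
namespace Emb.CaseL
variable {E : Emb m G} {F : Type} [Field F] [Fintype F] {ψ : SL(2, F) →* G} (h : E.CaseL F ψ)
include h
theorem δ_eq_one (a : SL(2, F)) : h.δ a = 1 ↔ a = 1 ∨ a = -1 := by
  constructor
  · intro e
    have : ψ a * (E.u * ψ a * E.u) = ψ 1 * (E.u * ψ 1 * E.u) := by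
      rw [← h.δ_apply, e, map_one, mul_one, uu, mul_one]
    exact (sep h this).imp And.left And.left
  · rintro (rfl | rfl)
    · exact map_one _
    · rw [h.δ_apply, h.neg, uzu h, zz]
theorem δ_u (a : SL(2, F)) : h.δ a * E.u = E.u * h.δ a := by
  rw [h.δ_apply]
  calc _ = E.u * (E.u * ψ a * E.u * ψ a) := by
        simp only [mul_assoc, uu', uu, mul_one]
    _ = _ := by rw [← comm h]
theorem norm_δ {g : G} (hg : g * E.u = E.u * g) (a : SL(2, F)) : ∃ b, g * h.δ a * g⁻¹ = h.δ b := by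
  rcases norm_or h g with h1 | h1
  · obtain ⟨α, hα⟩ := aut_of_norm h h1
    exact ⟨_, conj_δ h hg hα a⟩
  · obtain ⟨α, hα⟩ := aut_of_norm h h1
    refine ⟨α a, ?_⟩
    have := conj_δ h (g := E.u * g) (by rw [mul_assoc, hg]) hα a
    calc _ = E.u * (E.u * g * h.δ a * (E.u * g)⁻¹) * E.u := by
          simp only [mul_inv_rev, u_inv, mul_assoc, uu', uu, mul_one]
      _ = _ := by rw [this, ← h.δ_u, mul_assoc, uu, mul_one]
theorem cent_δ {g : G} (hg : g * E.u = E.u * g) (hc : ∀ a, g * h.δ a = h.δ a * g) :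
    g = 1 ∨ g = E.z ∨ g = E.u ∨ g = E.z * E.u := by
  rcases norm_or h g with h1 | h1
  · rcases cent_aux h hg h1 hc with h2 | h2
    · exact Or.inl h2
    · exact Or.inr (Or.inl h2)
  · rcases cent_aux h (g := E.u * g) (by rw [mul_assoc, hg]) h1
      (fun a => by rw [mul_assoc, hc, ← mul_assoc, ← h.δ_u, mul_assoc]) with h2 | h2
    · exact Or.inr (Or.inr (Or.inl (by rw [← uu' E g, h2, mul_one])))
    · exact Or.inr (Or.inr (Or.inr (by rw [← uu' E g, h2, h.pn.cen])))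
theorem syl_δ {x : W m} (hx : x * W.u m = W.u m * x) : ∃ a, E.f x = h.δ a ∨ E.f x = h.δ a * E.z ∨
    E.f x = h.δ a * E.u ∨ E.f x = h.δ a * (E.z * E.u) := by
  by_cases hQ : x ∈ Q m
  · obtain ⟨a, ha | ha⟩ := syl_aux h hQ hx
    · exact ⟨a, Or.inl ha⟩
    · exact ⟨a, Or.inr (Or.inl ha)⟩
  · have hQ' : x * W.u m ∈ Q m := by
      rw [mem_Q] at hQ ⊢
      revert hQ
      simp only [mul_a, mul_b, W.u]
      cases x.a <;> cases x.b <;> cases x.e <;> simp
    have e : E.f x = E.f (x * W.u m) * E.u := by rw [map_mul, mul_assoc, uu, mul_one]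
    obtain ⟨a, ha | ha⟩ := syl_aux h hQ' (by rw [← mul_assoc, ← hx])
    · exact ⟨a, Or.inr (Or.inr (Or.inl (by rw [e, ha])))⟩
    · exact ⟨a, Or.inr (Or.inr (Or.inr (by rw [e, ha, mul_assoc])))⟩
theorem odd_δ (P : Subgroup G) (hP : Odd (Nat.card P)) (hn : ∀ a, ∀ p ∈ P, h.δ a * p * (h.δ a)⁻¹ ∈ P)
    {a : SL(2, F)} (ha : h.δ a ∈ P) : h.δ a = 1 := by
  have : (P.comap h.δ).Normal := ⟨fun b hb c => by
    rw [mem_comap, map_mul, map_mul, map_inv]; exact hn c _ hb⟩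
  rcases normal_cases h.odd h.five (P.comap h.δ) with h1 | h1
  · exfalso
    have hw : (H22.SL2Aut.ww : SL(2, F)) * H22.SL2Aut.ww = -1 := Subtype.ext (by
      rw [H22.SL2Aut.mul_val, H22.SL2Aut.ww_val, PAUx.neg_val]
      ext i j
      fin_cases i <;> fin_cases j <;> simp [Matrix.mul_apply])
    have h2 := eq_one_of_odd hP (h1.ge (mem_top H22.SL2Aut.ww))
      (by rw [← map_mul, hw]; exact (h.δ_eq_one _).2 (Or.inr rfl))
    rcases (h.δ_eq_one _).1 h2 with h3 | h3 <;> rw [h3] at hw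
    · exact neg_ne h.odd (by simpa using hw.symm)
    · exact neg_ne h.odd (by simpa using hw.symm)
  · exact (h.δ_eq_one a).2 (h1 a ha)
theorem core_X (P : Subgroup G) (hP : Odd (Nat.card P)) (hc : P ≤ centralizer {E.u})
    (hn : ∀ a, ∀ p ∈ P, h.δ a * p * (h.δ a)⁻¹ ∈ P) : P = ⊥ := by
  refine (eq_bot_iff_forall _).2 fun p hp => eq_one_of_odd hP hp ?_
  have hu := mem_centralizer_singleton_iff.1 (hc hp)
  have h1 : ∀ a, p * h.δ a = h.δ a * p := fun a => by
    obtain ⟨b, hb⟩ := h.norm_δ hu a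
    have h2 : h.δ (b * a⁻¹) ∈ P := by
      rw [map_mul, map_inv, ← hb, show p * h.δ a * p⁻¹ * (h.δ a)⁻¹ =
        p * (h.δ a * p⁻¹ * (h.δ a)⁻¹) by group]
      exact mul_mem hp (hn a _ (inv_mem hp))
    have h3 := h.odd_δ P hP hn h2
    rw [map_mul, map_inv, mul_inv_eq_one] at h3
    rw [← mul_inv_eq_iff_eq_mul, hb, h3]
  rcases h.cent_δ hu h1 with rfl | rfl | rfl | rfl
  · exact mul_one 1
  · exact zz E
  · exact uu E
  · rw [mul_assoc, ← mul_assoc E.u, uzu h, zz]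
theorem gen_L (M : Subgroup G) {i : SL(2, F)} (hi : i * i = -1) (h1 : ∀ a, h.δ a ∈ M)
    (h2 : ∀ a, ψ i * h.δ a * (ψ i)⁻¹ ∈ M) (a : SL(2, F)) : ψ a ∈ M ∧ E.u * ψ a * E.u ∈ M := by
  have e : ∀ a b, h.δ a * ψ b * (h.δ a)⁻¹ = ψ (a * b * a⁻¹) := fun a b => by
    rw [h.δ_apply, mul_assoc (ψ a), ← comm h, map_mul, map_mul, map_inv]
    group
  have : (M.comap ψ).Normal := ⟨fun b hb c => by
    rw [mem_comap, ← e]; exact mul_mem (mul_mem (h1 c) hb) (inv_mem (h1 c))⟩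
  have h3 : ∀ a, i * a * i⁻¹ * a⁻¹ ∈ M.comap ψ := fun a => by
    have h4 := mul_mem (h2 a) (inv_mem (h1 a))
    rw [h.δ_apply, mul_assoc (ψ i), mul_assoc (ψ a), ← map_inv, ← comm h] at h4
    rw [mem_comap]
    simp only [map_mul, map_inv] at h4 ⊢
    convert h4 using 1
    group
  have h5 : ψ a ∈ M := by
    rcases normal_cases h.odd h.five (M.comap ψ) with h4 | h4
    · exact h4.ge (mem_top a)
    · exfalso
      have h6 := pm_eq h.five (MulAut.conj i).toMonoidHom fun a => by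
        rcases h4 _ (h3 a) with h7 | h7 <;> rw [mul_inv_eq_iff_eq_mul] at h7
        · exact Or.inl (h7.trans (one_mul a))
        · exact Or.inr (h7.trans (neg_one_mul a))
      have h7 : i ∈ center SL(2, F) := mem_center_iff.2 fun g =>
        (mul_inv_eq_iff_eq_mul.1 (h6 g)).symm
      rcases (PAUx.center_iff i).1 h7 with rfl | rfl
      · exact neg_ne h.odd (by simpa using hi.symm)
      · exact neg_ne h.odd (by simpa using hi.symm)
  refine ⟨h5, ?_⟩
  have := mul_mem (inv_mem h5) (h1 a)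
  rwa [h.δ_apply, inv_mul_cancel_left] at this
/-- an element of odd order acts on `N₁` -/
theorem aut_of_odd {g : G} (hg : Odd (orderOf g)) :
    ∃ α : MulAut SL(2, F), Odd (orderOf α) ∧ ∀ a, g * ψ a * g⁻¹ = ψ (α a) := by
  have h2 : g * g ∈ normalizer (ψ.range : Set G) := by
    rcases norm_or h g with h1 | h1
    · exact mul_mem h1 h1
    · rcases norm_or h g⁻¹ with h3 | h3
      · exact mul_mem (inv_mem_iff.1 h3) (inv_mem_iff.1 h3)
      · have := mul_mem (inv_mem h3) h1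
        rwa [mul_inv_rev, inv_inv, mul_assoc, inv_mul_cancel_left] at this
  have h3 : g ∈ normalizer (ψ.range : Set G) := by
    obtain ⟨k, hk⟩ := hg
    have : g = (g * g) ^ (k + 1) := by
      rw [← sq, ← pow_mul, show 2 * (k + 1) = 2 * k + 1 + 1 by ring, ← hk, pow_succ,
        pow_orderOf_eq_one, one_mul]
    rw [this]
    exact pow_mem h2 _
  obtain ⟨α, hα⟩ := aut_of_norm h h3
  have h4 : ∀ (n : ℕ) a, g ^ n * ψ a * (g ^ n)⁻¹ = ψ ((α ^ n) a) := fun n a => by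
    induction n with
    | zero => simp
    | succ n ih => rw [pow_succ', pow_succ', MulAut.mul_apply, ← hα, ← ih]; group
  refine ⟨α, hg.of_dvd_nat (orderOf_dvd_of_pow_eq_one (MulEquiv.ext fun a => h.inj ?_)), hα⟩
  rw [← h4, pow_orderOf_eq_one]
  simp
theorem exists_ij : ∃ i j : SL(2, F), i * i = -1 ∧ j * j = -1 ∧ i * j = -(j * i) ∧
    ψ i = E.f (W.c1 m) ∧ ψ j = E.f (W.y1 m) ∧ E.fr0 2 = ψ i * E.u * (ψ i)⁻¹ ∧
    E.fr0 3 = ψ j * E.u * (ψ j)⁻¹ ∧ E.fr0 4 = ψ (i * j) * E.u * (ψ (i * j))⁻¹ := by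
  obtain ⟨i, hi⟩ := (h.pn.mem (W.c1 m)).2 (by simp [mem_Q1, W.c1])
  obtain ⟨j, hj⟩ := (h.pn.mem (W.y1 m)).2 (by simp [mem_Q1, W.y1])
  have k2 : kk m + kk m = hh m := by rw [← two_mul, two_kk]
  have e1 : W.c1 m * W.c1 m = W.z m := by ext <;> simp [W.c1, W.z, k2]
  have e2 : W.y1 m * W.y1 m = W.z m := by ext <;> simp [W.y1, W.z]
  have e3 : W.c1 m * W.y1 m = W.y1 m * W.c1 m * W.z m := by
    ext <;> simp [W.c1, W.y1, W.z] <;>
      first | linear_combination k2 | linear_combination k2 + hh_add_hh (m := m)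
  have e4 : W.u m * W.v m = W.c1 m * W.u m * (W.c1 m)⁻¹ := by
    ext <;> simp [W.c1, W.u, W.v, k2]
  have e5 : W.u' m = W.y1 m * W.u m * (W.y1 m)⁻¹ := by
    ext <;> simp [W.y1, W.u, W.u']
  have e6 : W.u' m * W.y m = W.c1 m * W.y1 m * W.u m * (W.c1 m * W.y1 m)⁻¹ := by
    ext <;> simp [W.c1, W.y1, W.u, W.u', W.y] <;>
      first | linear_combination -k2 | linear_combination -k2 - hh_add_hh (m := m)
  refine ⟨i, j, h.inj ?_, h.inj ?_, h.inj ?_, hi, hj, ?_, ?_, ?_⟩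
  · rw [map_mul, hi, ← map_mul, e1, h.neg]
  · rw [map_mul, hj, ← map_mul, e2, h.neg]
  · rw [ψ_neg h, map_mul, map_mul, hi, hj, ← map_mul, ← map_mul, ← map_mul, e3]
  · rw [hi, ← map_inv, ← map_mul, ← map_mul, ← e4]; rfl
  · rw [hj, ← map_inv, ← map_mul, ← map_mul, ← e5]; rfl
  · rw [map_mul, hi, hj, ← map_mul, ← map_inv, ← map_mul, ← map_mul, ← e6]; rfl
theorem sq_two : IsSquare (2 : F) ↔ 1 ≤ m := by
  rw [sq_two_iff h.odd]
  constructor
  · rintro ⟨c, hc⟩
    by_contra hm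
    obtain rfl : m = 0 := by omega
    have hp : IsPGroup 2 (zpowers (ψ c)) := IsPGroup.of_card (n := 3) (by
      rw [Nat.card_zpowers, orderOf_injective ψ h.inj, hc]; rfl)
    obtain ⟨g, hg⟩ := H24.G2S.exists_conj_le_sylow E.S _ hp
    obtain ⟨x, hx⟩ := E.exists_eq (hg _ (mem_zpowers _))
    have h1 := congrArg E.f (exp4 x)
    rw [map_mul, map_mul, hx, map_one] at h1
    have h2 : ψ (c ^ 4) = ψ 1 := by
      rw [map_pow, map_one]
      calc _ = g⁻¹ * (g * ψ c * g⁻¹ * (g * ψ c * g⁻¹) * (g * ψ c * g⁻¹ * (g * ψ c * g⁻¹))) * g := by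
            simp only [pow_succ, pow_zero]; group
        _ = 1 := by rw [h1]; group
    exact pow_ne_one_of_lt_orderOf (by norm_num) (by rw [hc]; norm_num) (h.inj h2)
  · intro hm
    obtain ⟨t, ht⟩ := exists_half_kk hm
    let d : W m := ⟨t, t, false, false, false, rfl⟩
    obtain ⟨c, hc⟩ := (h.pn.mem d).2 (by simp [mem_Q1, d])
    have e : d * d * (d * d) = W.z m := by
      ext <;> simp [d, W.z] <;> linear_combination two_kk (m := m) - 2 * ht
    have h4 : c ^ 2 ^ 2 = -1 := h.inj (by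
      rw [h.neg, show c ^ 2 ^ 2 = c * c * (c * c) by rw [← sq, ← sq, ← pow_mul]; rfl, map_mul,
        map_mul, hc, ← map_mul, ← map_mul, e])
    refine ⟨c, orderOf_eq_prime_pow (p := 2) (n := 2) (by rw [h4]; exact neg_ne h.odd) ?_⟩
    rw [pow_succ, pow_mul, h4]
    simp
end Emb.CaseL
end PO1


end H20.P4
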