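import Mathlib
import Cfsg.Agent.H20.P0
import Cfsg.Agent.H20.PO1
import Cfsg.Agent.H20.PF9

set_option autoImplicit false
set_option linter.unusedVariables false
set_option linter.unusedSectionVars false

namespace H20.P4

open Cfsg Subgroup
open scoped MatrixGroups

universe u

variable {m : ℕ} {G : Type u} [Group G] [Finite G]

namespace PI1x

variable {F : Type} [Field F] [Fintype F]

/-- the subgroup `K ≅ L₂(q)` of `C(z,u)` -/
structure Dat (d : SL(2, F) →* G) (z u : G) : Prop where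
  odd : Odd (Fintype.card F)
  five : 5 ≤ Fintype.card F
  ker : ∀ a, d a = 1 ↔ a = 1 ∨ a = -1
  dz : ∀ a, d a * z = z * d a
  du : ∀ a, d a * u = u * d a
  nrm : ∀ g, g * z = z * g → g * u = u * g → ∀ a, ∃ b, g * d a * g⁻¹ = d b
  cen : ∀ g, g * z = z * g → g * u = u * g → (∀ a, g * d a = d a * g) →
    g = 1 ∨ g = z ∨ g = u ∨ g = z * u
  zz : z * z = 1
  uu : u * u = 1
  zu : z * u = u * z
  ne : z ≠ u

theorem uu_pow (x : F) (n : ℕ) : H22.SL2Aut.uu x ^ n = H22.SL2Aut.uu (n * x) := by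
  induction n with
  | zero => simp [H22.SL2Aut.uu_zero]
  | succ n ih => rw [pow_succ, ih, ← H22.SL2Aut.uu_add, Nat.cast_succ, add_mul, one_mul]

theorem uu_card (x : F) : H22.SL2Aut.uu x ^ Fintype.card F = 1 := by
  rw [uu_pow, Nat.cast_card_eq_zero, zero_mul, H22.SL2Aut.uu_zero]

theorem ll_card (x : F) : H22.SL2Aut.ll x ^ Fintype.card F = 1 := by
  have := H22.SL2Aut.ww_uu (-x)
  rw [neg_neg, ← mul_inv_eq_iff_eq_mul] at this
  rw [← this, conj_pow, uu_card, mul_one, mul_inv_cancel]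

theorem swap_inv {c z u : G} (h1 : c * z * c⁻¹ = u) : c⁻¹ * u * c⁻¹⁻¹ = z := by
  rw [← h1]; group

theorem comm_conj {c x y : G} (h : x * y = y * x) :
    c * x * c⁻¹ * (c * y * c⁻¹) = c * y * c⁻¹ * (c * x * c⁻¹) := by
  rw [conj_mul, conj_mul, h]

namespace Dat
variable {d : SL(2, F) →* G} {z u c : G} (h : Dat d z u)
include h

theorem two : (2 : F) ≠ 0 := H7.two_ne_zero_of_odd_card h.odd

theorem sq4 {g : G} (e : g = 1 ∨ g = z ∨ g = u ∨ g = z * u) : g * g = 1 := by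
  rcases e with rfl | rfl | rfl | rfl
  · exact one_mul _
  · exact h.zz
  · exact h.uu
  · rw [mul_assoc, ← mul_assoc u, ← h.zu, mul_assoc, h.uu, mul_one, h.zz]

theorem swap_aux (h1 : c * z * c⁻¹ = u) (h2 : c * u * c⁻¹ = z) (a : SL(2, F)) :
    ∃ b, d a = c * d b * c⁻¹ := by
  have cz : ∀ b, c * d b * c⁻¹ * z = z * (c * d b * c⁻¹) := fun b => h2 ▸ comm_conj (h.du b)
  have cu : ∀ b, c * d b * c⁻¹ * u = u * (c * d b * c⁻¹) := fun b => h1 ▸ comm_conj (h.dz b)
  let D : Subgroup SL(2, F) := (d.range.map (MulAut.conj c).toMonoidHom).comap d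
  have mD : ∀ a, a ∈ D ↔ ∃ b, d a = c * d b * c⁻¹ := fun a =>
    ⟨by rintro ⟨_, ⟨b, rfl⟩, e⟩; exact ⟨b, e.symm⟩, fun ⟨b, e⟩ => ⟨_, ⟨b, rfl⟩, e.symm⟩⟩
  have nc : ∀ a b, ∃ b', d a * (c * d b * c⁻¹) * (d a)⁻¹ = c * d b' * c⁻¹ := fun a b => by
    obtain ⟨b', e⟩ := h.nrm (c⁻¹ * d a * c⁻¹⁻¹) (swap_inv h1 ▸ comm_conj (h.du a))
      (swap_inv h2 ▸ comm_conj (h.dz a)) b
    exact ⟨b', by rw [← e]; group⟩
  have nD : D.Normal := ⟨fun a ha g => by
    obtain ⟨b, e⟩ := (mD a).1 ha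
    rw [mD, map_mul, map_mul, map_inv, e]
    exact nc g b⟩
  have zD : center SL(2, F) ≤ D := fun a ha =>
    (mD a).2 ⟨1, by rw [(h.ker a).2 ((PAUx.center_iff a).1 ha)]; simp⟩
  have := Matrix.ProjectiveSpecialLinearGroup.rank_two_simple (F := F)
    (by rw [Nat.card_eq_fintype_card]; have := h.five; omega)
  rcases (nD.map (QuotientGroup.mk' (center SL(2, F))) (QuotientGroup.mk'_surjective _)).eq_bot_or_eq_top
    with e | e
  · exfalso
    rw [Subgroup.map_eq_bot_iff, QuotientGroup.ker_mk'] at e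
    have k := h.sq4 (h.cen _ (cz (H22.SL2Aut.uu 1)) (cu _) fun a => by
      obtain ⟨b, e1⟩ := h.nrm _ (cz (H22.SL2Aut.uu 1)) (cu _) a⁻¹
      obtain ⟨b', e2⟩ := nc a (H22.SL2Aut.uu 1)
      have e3 : d (a * b) = c * d (b' * (H22.SL2Aut.uu 1)⁻¹) * c⁻¹ := by
        rw [map_mul, ← e1, map_mul, map_inv, map_inv, ← conj_mul, ← e2]; group
      have e4 := (h.ker _).2 ((PAUx.center_iff _).1 (e ((mD _).2 ⟨_, e3⟩)))
      rw [map_mul, ← e1, map_inv] at e4
      have e5 : d a * (c * d (H22.SL2Aut.uu 1) * c⁻¹) = c * d (H22.SL2Aut.uu 1) * c⁻¹ * d a := by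
        rw [← mul_inv_eq_one, ← e4]; group
      exact e5.symm)
    rw [conj_mul, conj_eq_one_iff, ← map_mul, h.ker, ← H22.SL2Aut.uu_add] at k
    rcases k with k | k
    · have := congrArg (fun g : SL(2, F) => g.1 0 1) k
      simp [H22.SL2Aut.uu_val, one_add_one_eq_two] at this
      exact h.two this
    · have := congrArg (fun g : SL(2, F) => g.1 0 1) k
      simp [H22.SL2Aut.uu_val, one_add_one_eq_two] at this
      exact h.two this
  · have := congrArg (comap (QuotientGroup.mk' (center SL(2, F)))) e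
    rw [comap_map_eq, QuotientGroup.ker_mk', sup_eq_left.2 zD, comap_top] at this
    exact (mD a).1 (this ▸ mem_top a)

theorem swap_norm (h1 : c * z * c⁻¹ = u) (h2 : c * u * c⁻¹ = z) (a : SL(2, F)) :
    ∃ b, c * d a * c⁻¹ = d b := by
  obtain ⟨b, e⟩ := h.swap_aux (swap_inv h2) (swap_inv h1) a
  exact ⟨b, by rw [e]; group⟩

theorem sq_z (h1 : c * z * c⁻¹ = u) (h2 : c * u * c⁻¹ = z) : c * c * z = z * (c * c) := by
  rw [← mul_inv_eq_iff_eq_mul]
  calc c * c * z * (c * c)⁻¹ = c * (c * z * c⁻¹) * c⁻¹ := by group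
    _ = z := by rw [h1, h2]

theorem finish {g : Matrix (Fin 2) (Fin 2) F} (tr : g.trace = 0) (dt : g.det = 2)
    (h1 : c * z * c⁻¹ = u) (h2 : c * u * c⁻¹ = z)
    (act : ∀ a b : SL(2, F), g * a.1 = b.1 * g → c * d a * c⁻¹ = d b) :
    ∃ s : G, s * s = 1 ∧ s * z * s⁻¹ = u ∧ s * u * s⁻¹ = z ∧
      ∀ a b : SL(2, F), g * a.1 = b.1 * g → s * d a * s⁻¹ = d b := by
  have gg : g * g = -(2 : F) • (1 : Matrix (Fin 2) (Fin 2) F) := by
    rw [PAUx.ch, tr, dt, zero_smul, zero_sub, neg_smul]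
  have t2 : -(2 : F) ≠ 0 := neg_ne_zero.2 h.two
  have cK : ∀ a, c * c * d a = d a * (c * c) := fun a => by
    let b : SL(2, F) := ⟨(-(2 : F))⁻¹ • (g * a.1 * g), by
      rw [Matrix.det_smul, Matrix.det_mul, Matrix.det_mul, dt, a.2, Fintype.card_fin]
      have := h.two
      field_simp⟩
    have e1 : g * a.1 = b.1 * g := by
      change _ = ((-(2 : F))⁻¹ • (g * a.1 * g)) * g
      rw [smul_mul_assoc, mul_assoc, gg, mul_smul_comm, mul_one, smul_smul, inv_mul_cancel₀ t2, one_smul]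
    have e2 : g * b.1 = a.1 * g := by
      change g * ((-(2 : F))⁻¹ • (g * a.1 * g)) = _
      rw [mul_smul_comm, ← mul_assoc, ← mul_assoc, gg, smul_mul_assoc, smul_mul_assoc, one_mul, smul_smul,
        inv_mul_cancel₀ t2, one_smul]
    rw [← mul_inv_eq_iff_eq_mul]
    calc c * c * d a * (c * c)⁻¹ = c * (c * d a * c⁻¹) * c⁻¹ := by group
      _ = d a := by rw [act a b e1, act b a e2]
  have cu : c * c * u = u * (c * c) := by
    rw [← mul_inv_eq_iff_eq_mul]
    calc c * c * u * (c * c)⁻¹ = c * (c * u * c⁻¹) * c⁻¹ := by group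
      _ = u := by rw [h2, h1]
  have cc : c * (c * c) * c⁻¹ = c * c := by group
  rcases h.cen _ (h.sq_z h1 h2) cu cK with e | e | e | e
  · exact ⟨c, e, h1, h2, act⟩
  · rw [e, h1] at cc
    exact absurd cc.symm h.ne
  · rw [e, h2] at cc
    exact absurd cc h.ne
  · have zi : z⁻¹ = z := inv_eq_of_mul_eq_one_right h.zz
    have k : ∀ x, x * z = z * x → c * z * x * (c * z)⁻¹ = c * x * c⁻¹ := fun x hx => by
      rw [mul_assoc c, ← hx]; group
    refine ⟨c * z, ?_, by rw [k z rfl, h1], by rw [k u h.zu.symm, h2],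
      fun a b e => by rw [k _ (h.dz a), act a b e]⟩
    calc c * z * (c * z) = c * z * c⁻¹ * (c * c) * z := by group
      _ = u * u * (z * z) := by rw [h1, e, h.zu]; group
      _ = 1 := by rw [h.uu, h.zz, one_mul]

theorem mul_swap (b : SL(2, F)) (h1 : c * z * c⁻¹ = u) : d b * c * z * (d b * c)⁻¹ = u := by
  calc d b * c * z * (d b * c)⁻¹ = d b * (c * z * c⁻¹) * (d b)⁻¹ := by group
    _ = u := by rw [h1, h.du, mul_inv_cancel_right]

theorem mul_swap' (b : SL(2, F)) (h1 : c * u * c⁻¹ = z) : d b * c * u * (d b * c)⁻¹ = z := by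
  calc d b * c * u * (d b * c)⁻¹ = d b * (c * u * c⁻¹) * (d b)⁻¹ := by group
    _ = z := by rw [h1, h.dz, mul_inv_cancel_right]

theorem caseA {g : Matrix (Fin 2) (Fin 2) F} (dt : g.det = 2) (sq : IsSquare (2 : F))
    (h1 : c * z * c⁻¹ = u) (h2 : c * u * c⁻¹ = z)
    (hc : ∀ a, Odd (orderOf (d a)) → c * d a * c⁻¹ = d a) :
    ∃ s : G, s * z * s⁻¹ = u ∧ s * u * s⁻¹ = z ∧
      ∀ a b : SL(2, F), g * a.1 = b.1 * g → s * d a * s⁻¹ = d b := by
  have od : ∀ a : SL(2, F), a ^ Fintype.card F = 1 → c * d a * c⁻¹ = d a := fun a ha =>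
    hc a (h.odd.of_dvd_nat (orderOf_dvd_of_pow_eq_one (by rw [← map_pow, ha, map_one])))
  have e := H22.SL2Aut.hom_ext (f := (MulAut.conj c).toMonoidHom.comp d) (g := d)
    (fun x => od _ (uu_card x)) fun x => od _ (ll_card x)
  have e' : ∀ a, c * d a * c⁻¹ = d a := fun a => DFunLike.congr_fun e a
  obtain ⟨r, hr⟩ := sq
  have r0 : r ≠ 0 := by
    rintro rfl
    exact h.two (by rw [hr, mul_zero])
  let g' : SL(2, F) := ⟨r⁻¹ • g, by
    rw [Matrix.det_smul, dt, Fintype.card_fin, hr]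
    field_simp⟩
  refine ⟨d g' * c, h.mul_swap _ h1, h.mul_swap' _ h2, fun a b k => ?_⟩
  have k' : g' * a = b * g' := Subtype.ext (by
    change (r⁻¹ • g) * a.1 = b.1 * (r⁻¹ • g)
    rw [smul_mul_assoc, k, mul_smul_comm])
  calc d g' * c * d a * (d g' * c)⁻¹ = d g' * (c * d a * c⁻¹) * (d g')⁻¹ := by group
    _ = d b := by rw [e', ← map_mul, k', map_mul, mul_inv_cancel_right]

theorem caseB {g : Matrix (Fin 2) (Fin 2) F} (dt : g.det = 2) (sq : ¬ IsSquare (2 : F))
    (h1 : c * z * c⁻¹ = u) (h2 : c * u * c⁻¹ = z) (c4 : c * c * (c * c) = 1)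
    (hc : ¬ (c * c = 1 ∨ c * c = z ∨ c * c = u ∨ c * c = z * u)) :
    ∃ s : G, s * z * s⁻¹ = u ∧ s * u * s⁻¹ = z ∧
      ∀ a b : SL(2, F), g * a.1 = b.1 * g → s * d a * s⁻¹ = d b := by
  obtain ⟨α, hα⟩ := aut_lift h.odd h.five d h.ker c (h.swap_norm h1 h2)
  have a2 : ∀ a, c * c * d a * (c * c)⁻¹ = d (α (α a)) := fun a => by rw [← hα, ← hα]; group
  have pm : ∀ a b, d a = d b → a = b ∨ a = -b := fun a b e => by
    rcases (h.ker (a * b⁻¹)).1 (by rw [map_mul, map_inv, e, mul_inv_cancel]) with k | k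
    · exact Or.inl (mul_inv_eq_one.1 k)
    · exact Or.inr (by rw [mul_inv_eq_iff_eq_mul.1 k, neg_one_mul])
  have m1 : (-1 : SL(2, F)) ≠ 1 := fun e => by
    have := congrArg (fun g : SL(2, F) => g.1 0 0) e
    simp at this
    exact h.two (by linear_combination -this)
  have a4 : ∀ a, (α ^ 4) a = a ∨ (α ^ 4) a = -a := fun a => pm _ _ (by
    change d (α (α (α (α a)))) = _
    rw [← a2, ← a2]
    calc c * c * (c * c * d a * (c * c)⁻¹) * (c * c)⁻¹
        = c * c * (c * c) * d a * (c * c * (c * c))⁻¹ := by group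
      _ = d a := by rw [c4]; group)
  have an : (α ^ 4) (-1) = -1 := (a4 _).resolve_right fun e => m1 ((α ^ 4).injective (by
    rw [e, neg_neg, map_one]))
  have a8 : α ^ 2 ^ 3 = 1 := MulEquiv.ext fun a => by
    change (α ^ (4 + 4)) a = a
    rw [pow_add, MulAut.mul_apply]
    rcases a4 a with e | e
    · rw [e, e]
    · rw [e, ← neg_one_mul, map_mul, an, e, neg_one_mul, neg_neg]
  have cu : c * c * u = u * (c * c) := by
    rw [← mul_inv_eq_iff_eq_mul]
    calc c * c * u * (c * c)⁻¹ = c * (c * u * c⁻¹) * c⁻¹ := by group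
      _ = u := by rw [h2, h1]
  obtain ⟨b, hb⟩ := aut_outer h.odd h.five sq α a8 (fun x e => by
    subst e
    have ck : ∀ a, c * c * d a = d (x * x) * d a * (d (x * x))⁻¹ * (c * c) := fun a => by
      rw [← mul_inv_eq_iff_eq_mul, a2]
      simp only [MulAut.conj_apply, map_mul, map_inv]
      group
    have cx : c * c * d (x * x) = d (x * x) * (c * c) := by rw [ck, mul_inv_cancel_right]
    have w := h.cen ((d (x * x))⁻¹ * (c * c))
      (by rw [mul_assoc, h.sq_z h1 h2, ← mul_assoc, ← map_inv, h.dz, mul_assoc])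
      (by rw [mul_assoc, cu, ← mul_assoc, ← map_inv, h.du, mul_assoc])
      fun a => by rw [mul_assoc, ck]; group
    have w2 := h.sq4 w
    have x4 : d (x * x * (x * x)) = 1 := by
      have e1 : (d (x * x))⁻¹ * (c * c) = c * c * (d (x * x))⁻¹ := by
        rw [eq_mul_inv_iff_mul_eq, mul_assoc, cx, inv_mul_cancel_left]
      rw [mul_assoc, ← mul_assoc (c * c), ← e1, mul_assoc, c4, mul_one, ← mul_inv_rev, inv_eq_one] at w2
      rw [map_mul, w2]
    rcases (h.ker _).1 x4 with k | k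
    · rw [(h.ker _).2 (PAUx.inv_eq k h.two), inv_one, one_mul] at w
      exact hc w
    · refine sq ((sq_two_iff h.odd).2 ⟨x, ?_⟩)
      have e4 : x ^ 2 ^ 2 = -1 := by rw [← k]; change x ^ 4 = _; simp only [pow_succ, pow_zero, one_mul, mul_assoc]
      exact orderOf_eq_prime_pow (p := 2) (n := 2) (by rw [e4]; exact m1)
        (by rw [pow_succ, pow_mul, e4, pow_two, neg_mul_neg, one_mul])) g dt
  refine ⟨d b * c, h.mul_swap _ h1, h.mul_swap' _ h2, fun a a' k => ?_⟩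
  have e : b * α a * b⁻¹ = a' := Subtype.ext (by
    have hu : IsUnit g := (Matrix.isUnit_iff_isUnit_det g).2 (by rw [dt]; exact h.two.isUnit)
    exact hu.mul_right_cancel ((hb a).symm.trans k))
  calc d b * c * d a * (d b * c)⁻¹ = d b * (c * d a * c⁻¹) * (d b)⁻¹ := by group
    _ = d a' := by rw [hα, ← e, map_mul, map_mul, map_inv]

end Dat

theorem tr_det {i j : SL(2, F)} (hi : i * i = -1) (hj : j * j = -1) (hij : i * j = -(j * i))
    (h2 : (2 : F) ≠ 0) : (j.1 - (i * j).1).trace = 0 ∧ (j.1 - (i * j).1).det = 2 := by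
  have hk : i * j * (i * j) = -1 := by
    have : j * i = -(i * j) := by rw [hij, neg_neg]
    rw [mul_assoc, ← mul_assoc j, this, neg_mul, mul_neg, mul_assoc, hj, ← mul_assoc, hi]
    simp
  have t : (j.1 - (i * j).1).trace = 0 := by rw [Matrix.trace_sub, PAUx.tr_zero hj, PAUx.tr_zero hk, sub_zero]
  refine ⟨t, ?_⟩
  have e := PAUx.ch (j.1 - (i * j).1)
  have e1 : j * (i * j) = i := by
    have : j * i = -(i * j) := by rw [hij, neg_neg]
    rw [← mul_assoc, this, neg_mul, mul_assoc, hj]; simp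
  have e2 : i * j * j = -i := by rw [mul_assoc, hj]; simp
  have e3 : j.1 * (i * j).1 = i.1 := congrArg Subtype.val e1
  have e4 : (i * j).1 * j.1 = -i.1 := congrArg Subtype.val e2
  rw [t, zero_smul, zero_sub, sub_mul, mul_sub, mul_sub, PAUx.sq_val hj, PAUx.sq_val hk, e3, e4] at e
  have := congrFun (congrFun e 0) 0
  simp at this
  linear_combination this

end PI1x

/-! ### PI1 -/
section PI1
theorem Emb.PW.exists_s {E : Emb m G} {F : Type} [Field F] [Fintype F] {ψ : SL(2, F) →* E.C}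
    (hW : E.PW) (hL : E.cen.CaseL F ψ) {i j : SL(2, F)} (hi : i * i = -1) (hj : j * j = -1)
    (hij : i * j = -(j * i)) : ∃ s : G, s * s = 1 ∧ s * E.z * s⁻¹ = E.u ∧ s * E.u * s⁻¹ = E.z ∧
      ∀ a b : SL(2, F), (j.1 - (i * j).1) * a.1 = b.1 * (j.1 - (i * j).1) →
        s * (hL.δ a : G) * s⁻¹ = hL.δ b := by
  let d : SL(2, F) →* G := E.C.subtype.comp hL.δ
  have mC : ∀ g : G, g * E.z = E.z * g → g ∈ E.C := fun g hg => mem_centralizer_singleton_iff.2 hg
  have h : PI1x.Dat d E.z E.u :=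
    { odd := hL.odd
      five := hL.five
      ker := fun a => by
        rw [← hL.δ_eq_one]
        exact ⟨fun e => Subtype.ext e, fun e => congrArg Subtype.val e⟩
      dz := fun a => mem_centralizer_singleton_iff.1 (hL.δ a).2
      du := fun a => congrArg Subtype.val (hL.δ_u a)
      nrm := fun g hz hu a => (hL.norm_δ (g := ⟨g, mC g hz⟩) (Subtype.ext hu) a).imp
        fun b e => congrArg Subtype.val e
      cen := fun g hz hu hc => (hL.cent_δ (g := ⟨g, mC g hz⟩) (Subtype.ext hu)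
        fun a => Subtype.ext (hc a)).imp (congrArg Subtype.val) (Or.imp (congrArg Subtype.val)
          (Or.imp (congrArg Subtype.val) (congrArg Subtype.val)))
      zz := by rw [← map_mul, W.z_mul_z, map_one]
      uu := by rw [← map_mul, W.u_mul_u, map_one]
      zu := hW.pair_zu.comm
      ne := hW.pair_zu.ne }
  obtain ⟨tr, dt⟩ := PI1x.tr_det hi hj hij h.two
  suffices k : ∃ s : G, s * E.z * s⁻¹ = E.u ∧ s * E.u * s⁻¹ = E.z ∧ ∀ a b : SL(2, F),
      (j.1 - (i * j).1) * a.1 = b.1 * (j.1 - (i * j).1) → s * d a * s⁻¹ = d b by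
    obtain ⟨s, h1, h2, act⟩ := k
    exact h.finish tr dt h1 h2 act
  have zu : ∀ a, d a * (E.z * E.u) = E.z * E.u * d a := fun a => by
    rw [← mul_assoc, h.dz, mul_assoc, h.du, mul_assoc]
  by_cases sq : IsSquare (2 : F)
  · obtain ⟨c, h1, h2, hc⟩ := hW.zh_c (hL.sq_two.1 sq)
    refine h.caseA dt sq h1 h2 fun a ha => ?_
    obtain ⟨b, e⟩ := h.swap_norm h1 h2 a⁻¹
    have e1 : d (a * b) = d a * c * (d a)⁻¹ * c⁻¹ := by rw [map_mul, ← e, map_inv]; group
    have e2 : d (a * b) = 1 := congrArg Subtype.val (hL.odd_δ ((OC (E.z * E.u)).subgroupOf E.C)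
      ((OC_odd _).of_dvd_nat (card_comap_dvd_of_injective _ _ E.C.subtype_injective))
      (fun a p hp => OC_norm (zu a) hp) (a := a * b) (show d (a * b) ∈ OC _ from e1 ▸ hc _ (zu a) ha))
    rw [e1, mul_inv_eq_one, mul_inv_eq_iff_eq_mul] at e2
    rw [← e2, mul_inv_cancel_right]
  · obtain ⟨g, g1, g2⟩ := hW.pair_conj (a := E.u) (b := E.f (W.u m * W.v m))
      (hW.frame0.pair (k := 1) (l := 2) (by decide))
    have kk2 : kk m + kk m = hh m := by rw [← two_mul, two_kk]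
    have e1 : W.c1 m * W.u m * (W.c1 m)⁻¹ = W.u m * W.v m := by ext <;> simp [W.c1, W.u, W.v, kk2]
    have e3 : W.c1 m * W.c1 m = W.z m := by ext <;> simp [W.c1, W.z, kk2]
    have e2 : W.c1 m * (W.u m * W.v m) * (W.c1 m)⁻¹ = W.u m := by
      rw [← e1]
      calc _ = W.c1 m * W.c1 m * W.u m * (W.c1 m * W.c1 m)⁻¹ := by group
        _ = _ := by rw [e3, ← W.z_comm, mul_inv_cancel_right]
    have k : ∀ x, g * E.f (W.c1 m) * g⁻¹ * (g * E.f x * g⁻¹) * (g * E.f (W.c1 m) * g⁻¹)⁻¹ =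
        g * E.f (W.c1 m * x * (W.c1 m)⁻¹) * g⁻¹ := fun x => by
      rw [map_mul, map_mul, map_inv]; group
    have c2 : g * E.f (W.c1 m) * g⁻¹ * (g * E.f (W.c1 m) * g⁻¹) = g * E.z * g⁻¹ := by
      rw [conj_mul, ← map_mul, e3]
    have inj : ∀ x y, g * E.f x * g⁻¹ = g * E.f y * g⁻¹ → x = y := fun x y e =>
      E.inj (mul_left_cancel (mul_right_cancel e))
    refine h.caseB (c := g * E.f (W.c1 m) * g⁻¹) dt sq (by rw [← g1, k, e1, g2])
      (by rw [← g2, k, e2, g1]) (by rw [c2, conj_mul, h.zz, mul_one, mul_inv_cancel]) ?_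
    rw [c2]
    rintro (e | e | e | e)
    · exact W.z_ne_one (inj _ _ (by rw [e, map_one, mul_one, mul_inv_cancel]))
    · have := congrArg W.a (inj _ _ (e.trans g1.symm))
      simp [W.z, W.u] at this
    · have := congrArg W.a (inj _ _ (e.trans g2.symm))
      simp [W.z, W.u, W.v] at this
    · have := congrArg W.j (inj (W.z m) (W.u m * (W.u m * W.v m)) (by
        rw [e, map_mul, ← conj_mul, g1, g2]))
      simp [W.z, W.u, W.v] at this
      exact hh_ne this
end PI1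

end H20.P4
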