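import Mathlib
import Cfsg.Agent.H20.P0
import Cfsg.Agent.H20.PO1
import Cfsg.Agent.H20.PFR

set_option autoImplicit false
set_option linter.unusedVariables false
set_option linter.unusedSectionVars false
set_option linter.unusedSimpArgs false

namespace H20.P4

open Cfsg Subgroup
open scoped MatrixGroups

universe u

variable {m : ℕ} {G : Type u} [Group G] [Finite G]

/-! ### PI2 -/
namespace PI2x

/-- the permutations induced on the frame -/
def σs : Fin 5 → Fin 5 := ![1, 0, 2, 4, 3]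
def σt : Fin 5 → Fin 5 := ![0, 2, 1, 4, 3]
def σa : Fin 5 → Fin 5 := ![0, 1, 3, 4, 2]

theorem two_trans (r : Fin 5 → Fin 5 → Prop) (s : ∀ k l, r k l → r (σs k) (σs l))
    (t : ∀ k l, r k l → r (σt k) (σt l)) (a : ∀ k l, r k l → r (σa k) (σa l)) (r01 : r 0 1) :
    ∀ k l, k ≠ l → r k l := by
  have r10 : r 1 0 := s _ _ r01
  have r02 : r 0 2 := t _ _ r01
  have r20 : r 2 0 := t _ _ r10
  have r03 : r 0 3 := a _ _ r02
  have r04 : r 0 4 := a _ _ r03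
  have r30 : r 3 0 := a _ _ r20
  have r40 : r 4 0 := a _ _ r30
  have r12 : r 1 2 := s _ _ r02
  have r21 : r 2 1 := s _ _ r20
  have r13 : r 1 3 := a _ _ r12
  have r14 : r 1 4 := a _ _ r13
  have r31 : r 3 1 := a _ _ r21
  have r41 : r 4 1 := a _ _ r31
  have r23 : r 2 3 := t _ _ r14
  have r32 : r 3 2 := t _ _ r41
  have r24 : r 2 4 := t _ _ r13
  have r42 : r 4 2 := t _ _ r31
  have r34 : r 3 4 := a _ _ r23
  have r43 : r 4 3 := a _ _ r32
  intro k l hkl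
  fin_cases k <;> fin_cases l <;> first | exact absurd rfl hkl | assumption

omit [Finite G] in
theorem braid_abs {ζ : Fin 5 → G} (sq : ∀ k, ζ k * ζ k = 1) (n1 : ∀ k, ζ k ≠ 1)
    (inj : Function.Injective ζ) (cm : ∀ k l, ζ k * ζ l = ζ l * ζ k)
    (prod : ζ 0 * ζ 1 * ζ 2 * ζ 3 * ζ 4 = 1) {s τ a : G} (s2 : s * s = 1) (t2 : τ * τ = 1)
    (hs : ∀ k, s * ζ k * s⁻¹ = ζ (σs k)) (ht : ∀ k, τ * ζ k * τ⁻¹ = ζ (σt k))
    (ha : ∀ k, a * ζ k * a⁻¹ = ζ (σa k)) (sa : s * a * (s * a) = 1) (ta : (τ * a) ^ 3 = 1)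
    (mem : (s * τ) ^ 3 = 1 ∨ (∃ k, (s * τ) ^ 3 = ζ k) ∨ ∃ k l, k ≠ l ∧ (s * τ) ^ 3 = ζ k * ζ l) :
    (s * τ) ^ 3 = 1 := by
  have si : s⁻¹ = s := inv_eq_of_mul_eq_one_right s2
  have ti : τ⁻¹ = τ := inv_eq_of_mul_eq_one_right t2
  have hp : ∀ k, s * τ * ζ k * (s * τ)⁻¹ = ζ (σs (σt k)) := fun k => by rw [← hs, ← ht]; group
  have hx : ∀ k, s * a * ζ k * (s * a)⁻¹ = ζ (σs (σa k)) := fun k => by rw [← hs, ← ha]; group
  have e1 : s * (s * τ) ^ 3 * s⁻¹ = ((s * τ) ^ 3)⁻¹ := by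
    rw [← conj_pow, ← inv_pow, mul_inv_rev, ti, ← mul_assoc s s, s2, one_mul]
  have e2 : τ * a = (s * τ)⁻¹ * (s * a) := by rw [mul_inv_rev, ti]; group
  rw [e2] at ta
  generalize s * τ = p at *
  generalize s * a = x at *
  have e3 : p * p ^ 3 * p⁻¹ = p ^ 3 := by group
  rcases mem with h | ⟨k, h⟩ | ⟨k, l, hkl, h⟩
  · exact h
  · rw [h, hp] at e3
    rw [h, hs, inv_eq_of_mul_eq_one_right (sq k)] at e1
    exact absurd (inj e1) ((by decide : ∀ k, σs (σt k) = k → σs k ≠ k) k (inj e3))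
  exfalso
  have h34 : p ^ 3 = ζ 3 * ζ 4 := by
    rw [h, ← conj_mul, hp, hp] at e3
    have := (by decide : ∀ k l : Fin 5, k ≠ l → (σs (σt k) = k → σs (σt l) = l) →
        (σs (σt l) = l → σs (σt k) = k) → (σs (σt k) = l → σs (σt l) = k) →
        (σs (σt l) = k → σs (σt k) = l) → (k = 3 ∧ l = 4) ∨ (k = 4 ∧ l = 3)) k l hkl
      (fun e => inj (mul_left_cancel (e ▸ e3 :))) (fun e => inj (mul_right_cancel (e ▸ e3 :)))
      (fun e => inj (mul_left_cancel ((e ▸ e3 :).trans (cm k l))))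
      (fun e => inj (mul_right_cancel ((e ▸ e3 :).trans (cm k l))))
    rcases this with ⟨rfl, rfl⟩ | ⟨rfl, rfl⟩
    exacts [h, h.trans (cm _ _)]
  have xi : x⁻¹ = x := inv_eq_of_mul_eq_one_right sa
  have e4 : p⁻¹ * x * p * ((p * p)⁻¹ * x * (p * p)) = x * (ζ 3 * ζ 4) := by
    rw [show p⁻¹ * x * p * ((p * p)⁻¹ * x * (p * p)) = (p⁻¹ * x) ^ 3 * (x⁻¹ * p ^ 3) by
      simp only [pow_three']; group, ta, xi, one_mul, h34]
  have y1 : p⁻¹ * x * p * (p⁻¹ * x * p) = 1 := by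
    rw [show p⁻¹ * x * p * (p⁻¹ * x * p) = p⁻¹ * (x * x) * p by group, sa]; group
  have y2 : (p * p)⁻¹ * x * (p * p) * ((p * p)⁻¹ * x * (p * p)) = 1 := by
    rw [show (p * p)⁻¹ * x * (p * p) * ((p * p)⁻¹ * x * (p * p)) = (p * p)⁻¹ * (x * x) * (p * p) by group, sa]
    group
  have c2 : p⁻¹ * x * p * ζ 2 * (p⁻¹ * x * p)⁻¹ = ζ 0 := by
    rw [show p⁻¹ * x * p * ζ 2 * (p⁻¹ * x * p)⁻¹ = p⁻¹ * (x * (p * ζ 2 * p⁻¹) * x⁻¹) * p by group, hp, hx,
      show σs (σa (σs (σt 2))) = σs (σt 0) from rfl, ← hp]; group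
  have c4 : p⁻¹ * x * p * ζ 4 * (p⁻¹ * x * p)⁻¹ = ζ 1 := by
    rw [show p⁻¹ * x * p * ζ 4 * (p⁻¹ * x * p)⁻¹ = p⁻¹ * (x * (p * ζ 4 * p⁻¹) * x⁻¹) * p by group, hp, hx,
      show σs (σa (σs (σt 4))) = σs (σt 1) from rfl, ← hp]; group
  generalize p⁻¹ * x * p = b at *
  generalize (p * p)⁻¹ * x * (p * p) = c at *
  have e5 : b * c * (b * c) = ζ 2 * ζ 4 := by
    rw [e4, show x * (ζ 3 * ζ 4) * (x * (ζ 3 * ζ 4)) = x * ζ 3 * x⁻¹ * (x * ζ 4 * x) * (ζ 3 * ζ 4) by group]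
    nth_rewrite 4 [← xi]
    rw [hx, hx]
    change ζ 3 * ζ 2 * (ζ 3 * ζ 4) = _
    rw [cm 3 2, mul_assoc, ← mul_assoc (ζ 3), sq, one_mul]
  have e6 : ζ 0 * ζ 1 * (ζ 2 * ζ 4) = 1 := by
    rw [← c2, ← c4, conj_mul, ← e5, inv_eq_of_mul_eq_one_right y1,
      show b * (b * c * (b * c)) * b * (b * c * (b * c)) =
        (b * b) * c * b * (c * (b * b) * c) * b * c by group, y1, mul_one, y2, mul_one, one_mul,
      mul_assoc c, y1, mul_one, y2]
  refine n1 3 ?_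
  rw [← prod, mul_assoc _ (ζ 3), cm 3 4, ← mul_assoc, mul_assoc _ (ζ 2), e6, one_mul]

theorem omega {F : Type*} [Field F] [Fintype F] (hF : Odd (Fintype.card F)) {i j : SL(2, F)}
    (hi : i * i = -1) (hj : j * j = -1) (hij : i * j = -(j * i)) :
    (∃ ω : SL(2, F), ω ^ 3 = 1 ∧ ω * i * ω⁻¹ = j ∧ ω * j * ω⁻¹ = i * j ∧
      (j.1 - (i * j).1) * ω.1 = (ω⁻¹).1 * (j.1 - (i * j).1)) ∧
    (j.1 - (i * j).1) * i.1 = (-i).1 * (j.1 - (i * j).1) ∧
    (j.1 - (i * j).1) * j.1 = (-(i * j)).1 * (j.1 - (i * j).1) ∧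
    (j.1 - (i * j).1) * (i * j).1 = (-j).1 * (j.1 - (i * j).1) := by
  have h0 := H7.two_ne_zero_of_odd_card hF
  have hI := PAUx.sq_val hi
  have hJ := PAUx.sq_val hj
  have hJI : j.1 * i.1 = -(i.1 * j.1) := by
    have : i.1 * j.1 = -(j.1 * i.1) := congrArg Subtype.val hij
    rw [this, neg_neg]
  have hI' : ∀ X : Matrix (Fin 2) (Fin 2) F, i.1 * (i.1 * X) = -X := fun X => by
    rw [← mul_assoc, hI, neg_one_mul]
  have hJ' : ∀ X : Matrix (Fin 2) (Fin 2) F, j.1 * (j.1 * X) = -X := fun X => by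
    rw [← mul_assoc, hJ, neg_one_mul]
  have hJI' : ∀ X : Matrix (Fin 2) (Fin 2) F, j.1 * (i.1 * X) = -(i.1 * (j.1 * X)) := fun X => by
    rw [← mul_assoc, hJI, neg_mul, mul_assoc]
  have hk : (i * j).1 = i.1 * j.1 := rfl
  refine ⟨?_, ?_, ?_, ?_⟩
  rotate_left
  · change (j.1 - i.1 * j.1) * i.1 = -i.1 * (j.1 - i.1 * j.1)
    simp only [mul_sub, sub_mul, mul_assoc, hJI, hI', mul_neg, neg_mul, neg_neg]
  · change (j.1 - i.1 * j.1) * j.1 = -(i.1 * j.1) * (j.1 - i.1 * j.1)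
    simp only [mul_sub, sub_mul, mul_assoc, hJ, hI, hJI', mul_neg, neg_mul, neg_neg, mul_one]
    abel
  · change (j.1 - i.1 * j.1) * (i.1 * j.1) = -j.1 * (j.1 - i.1 * j.1)
    simp only [mul_sub, sub_mul, mul_assoc, hJ, hI, hJI', mul_neg, neg_mul, neg_neg, mul_one]
    abel
  have d1 : ∀ a : SL(2, F), a * a = -1 → (1 + a.1).det = 2 := fun a ha => by
    have := PAUx.det_comb ha 1 1
    rw [one_smul, one_smul] at this
    rw [this]; ring
  let P : Matrix (Fin 2) (Fin 2) F := 1 + i.1 + j.1 + i.1 * j.1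
  have hP : P = (1 + i.1) * (1 + j.1) := by simp only [P]; noncomm_ring
  let ω : SL(2, F) := ⟨(-2⁻¹ : F) • P, by
    rw [Matrix.det_smul, hP, Matrix.det_mul, d1 i hi, d1 j hj, Fintype.card_fin]; field_simp⟩
  have hω : ω.1 = (-2⁻¹ : F) • P := rfl
  have P3 : P * P * P = (-8 : F) • (1 : Matrix (Fin 2) (Fin 2) F) := by
    simp only [P, mul_add, add_mul, mul_assoc, mul_one, one_mul, hI, hJ, hJI, hI', hJ', hJI',
      mul_neg, neg_mul, neg_neg]
    module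
  have P2 : P * ((j.1 - i.1 * j.1) * P) = (4 : F) • (j.1 - i.1 * j.1) := by
    simp only [P, mul_add, add_mul, mul_sub, sub_mul, mul_assoc, mul_one, one_mul, hI, hJ, hJI, hI', hJ',
      hJI', mul_neg, neg_mul, neg_neg]
    module
  refine ⟨ω, Subtype.ext ?_, ?_, ?_, ?_⟩
  · rw [pow_succ, sq]
    change ω.1 * ω.1 * ω.1 = 1
    rw [hω]
    simp only [smul_mul_assoc, mul_smul_comm, P3, smul_smul]
    rw [show (-2⁻¹ * (-2⁻¹ * -2⁻¹ * -8) : F) = 1 by field_simp; norm_num, one_smul]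
  · rw [mul_inv_eq_iff_eq_mul]
    refine Subtype.ext ?_
    change ω.1 * i.1 = j.1 * ω.1
    rw [hω, smul_mul_assoc, mul_smul_comm]
    congr 1
    simp only [P, mul_add, add_mul, mul_assoc, mul_one, one_mul, hI, hJ, hJI, hI', hJ', hJI',
      mul_neg, neg_mul, neg_neg]
    abel
  · rw [mul_inv_eq_iff_eq_mul]
    refine Subtype.ext ?_
    change ω.1 * j.1 = i.1 * j.1 * ω.1
    rw [hω, smul_mul_assoc, mul_smul_comm]
    congr 1
    simp only [P, mul_add, add_mul, mul_assoc, mul_one, one_mul, hI, hJ, hJI, hI', hJ', hJI',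
      mul_neg, neg_mul, neg_neg]
    abel
  · have e : ω.1 * ((j.1 - i.1 * j.1) * ω.1) = j.1 - i.1 * j.1 := by
      rw [hω]
      simp only [smul_mul_assoc, mul_smul_comm, P2, smul_smul]
      rw [show (-2⁻¹ * (-2⁻¹ * 4) : F) = 1 by field_simp; norm_num, one_smul]
    have e' : (ω⁻¹).1 * ω.1 = 1 := congrArg Subtype.val (inv_mul_cancel ω)
    rw [hk]
    nth_rewrite 2 [← e]
    rw [← mul_assoc, e', one_mul]

theorem odd_comm {x y : G} (ho : Odd (orderOf x)) (h : x * x * y = y * (x * x)) : x * y = y * x := by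
  obtain ⟨k, hk⟩ := ho
  have e : (x * x) ^ (k + 1) = x := by
    rw [← sq, ← pow_mul, show 2 * (k + 1) = orderOf x + 1 by omega, pow_succ, pow_orderOf_eq_one, one_mul]
  have := (Commute.pow_left h (k + 1)).eq
  rwa [e] at this

/-- a 2-element centralizing a frame lies in the frame group -/
theorem mem_FG {E : Emb m G} (hW : E.PW) {ζ : Fin 5 → G} (h : E.Frame ζ) {x : G} {e : ℕ}
    (hx : x ^ 2 ^ e = 1) (hc : ∀ k, ζ k * x = x * ζ k) : x ∈ FG ζ := by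
  have c1 : FG ζ ≤ centralizer {x} :=
    (closure_le _).2 (by rintro _ ⟨k, rfl⟩; exact mem_centralizer_singleton_iff.2 (hc k))
  have p1 : IsPGroup 2 (zpowers x) := IsPGroup.of_card_dvd_pow (n := e) (by
    rw [Nat.card_zpowers]; exact orderOf_dvd_of_pow_eq_one hx)
  have p2 : IsPGroup 2 (FG ζ) := IsPGroup.of_card (n := 4) (h.card hW)
  obtain ⟨g, hg⟩ := H24.G2S.exists_conj_le_sylow E.S _ (p2.to_sup_of_normal_right' p1 (by
    refine c1.trans (le_trans (fun g hg => mem_centralizer_iff.2 ?_) (centralizer_le_normalizer _))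
    rintro _ ⟨n, rfl⟩
    exact ((show Commute x g from (mem_centralizer_singleton_iff.1 hg).symm).zpow_left n).eq))
  let A := ((FG ζ).map (MulAut.conj g).toMonoidHom).comap E.f
  have eA : A.map E.f = (FG ζ).map (MulAut.conj g).toMonoidHom := map_comap_eq_self (by
    rintro _ ⟨t, ht, rfl⟩; exact hg t (mem_sup_left ht))
  obtain ⟨x', hx'⟩ := E.exists_eq (hg x (mem_sup_right (mem_zpowers x)))
  have := W.self_cent A (fun a ⟨t, ht, e⟩ => E.inj (by
      rw [map_mul, ← e, ← map_mul, map_one, ← map_one (MulAut.conj g).toMonoidHom]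
      congr 1
      rcases h.mem ht with rfl | ⟨k, rfl⟩ | ⟨k, l, -, rfl⟩
      · exact mul_one _
      · exact (E.Z_sq (h.z k)).1
      · rw [mul_assoc, ← mul_assoc (ζ l), ← h.comm k l, mul_assoc, (E.Z_sq (h.z l)).1, mul_one,
          (E.Z_sq (h.z k)).1]))
    (by rw [← card_map_of_injective E.inj, eA, card_map_of_injective (MulAut.conj g).injective, h.card hW])
    (x := x') fun a ⟨t, ht, e⟩ => E.inj (by
      rw [map_mul, map_mul, ← e, hx']
      change g * t * g⁻¹ * _ = _ * (g * t * g⁻¹)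
      rw [conj_mul, conj_mul, mem_centralizer_singleton_iff.1 (c1 ht)])
  obtain ⟨t, ht, e⟩ := this
  rw [hx'] at e
  exact (MulAut.conj g).injective e ▸ ht

end PI2x

section PI2
open PI2x in
theorem Emb.PW.braid {E : Emb m G} {F : Type} [Field F] [Fintype F] {ψ : SL(2, F) →* E.C}
    (hW : E.PW) (hL : E.cen.CaseL F ψ) {i j : SL(2, F)} (hi : i * i = -1) (hj : j * j = -1)
    (hij : i * j = -(j * i)) {s : G} (hs : s * s = 1) (h1 : s * E.z * s⁻¹ = E.u)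
    (h2 : s * E.u * s⁻¹ = E.z)
    (hK : ∀ a b : SL(2, F), (j.1 - (i * j).1) * a.1 = b.1 * (j.1 - (i * j).1) →
      s * (hL.δ a : G) * s⁻¹ = hL.δ b) :
    (s * ((ψ (i * j) : G) * (E.u * ψ j * E.u))) ^ 3 = 1 := by
  obtain ⟨⟨ω, o3, oi, oj, og⟩, gi, gj, gk⟩ := omega hL.odd hi hj hij
  have u2 : E.u * E.u = 1 := by rw [← map_mul, W.u_mul_u, map_one]
  have z2 : E.z * E.z = 1 := by rw [← map_mul, W.z_mul_z, map_one]
  have ui : E.u⁻¹ = E.u := inv_eq_of_mul_eq_one_right u2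
  have zu : E.z * E.u = E.u * E.z := by rw [← map_mul, ← map_mul, W.z_comm]
  let f1 : SL(2, F) →* G := E.C.subtype.comp ψ
  let f2 : SL(2, F) →* G := (MulAut.conj E.u).toMonoidHom.comp f1
  have e2 : ∀ a, f2 a = E.u * ψ a * E.u := fun a => by
    change E.u * ψ a * E.u⁻¹ = _
    rw [ui]
  have cm : ∀ a b, f1 a * f2 b = f2 b * f1 a := fun a b => by
    rw [e2]; exact congrArg Subtype.val (hL.pn.comm _ ⟨a, rfl⟩ _ ⟨b, rfl⟩)
  have u1 : ∀ a, E.u * f1 a = f2 a * E.u := fun a => by rw [e2, mul_assoc, u2, mul_one]; rfl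
  have u1' : ∀ a, E.u * f2 a = f1 a * E.u := fun a => by
    rw [e2, ← mul_assoc, ← mul_assoc, u2, one_mul]; rfl
  have n1 : f1 (-1) = E.z := congrArg Subtype.val hL.neg
  have n2 : f2 (-1) = E.z := by
    change E.u * f1 (-1) * E.u⁻¹ = _
    rw [n1, ← zu, mul_inv_cancel_right]
  have z1 : ∀ a, f1 a * E.z = E.z * f1 a := fun a => mem_centralizer_singleton_iff.1 (ψ a).2
  have z1' : ∀ a, f2 a * E.z = E.z * f2 a := fun a => by
    rw [← n2, ← map_mul, ← map_mul, mul_neg_one, neg_one_mul]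
  have eδ : ∀ a, (hL.δ a : G) = f1 a * f2 a := fun a => by rw [e2]; rfl
  let J : SL(2, F) → G := fun B => f1 B * f2 B⁻¹ * E.u
  have J1 : J 1 = E.u := by simp [J]
  have mm : ∀ a b c d, f1 a * f2 b * (f1 c * f2 d) = f1 (a * c) * f2 (b * d) := fun a b c d => by
    rw [mul_assoc, ← mul_assoc (f2 b), ← cm, map_mul, map_mul]; simp only [mul_assoc]
  have Jc : ∀ a b B, f1 a * f2 b * J B * (f1 a * f2 b)⁻¹ = J (a * B * b⁻¹) := fun a b B => by
    rw [mul_inv_eq_iff_eq_mul]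
    simp only [J]
    rw [← mul_assoc, mm, mul_assoc _ E.u, ← mul_assoc E.u, u1, mul_assoc (f2 a), u1', ← mul_assoc (f2 a),
      ← cm, ← mul_assoc, mm]
    congr 3 <;> group
  have Jn : ∀ B, J (-B) = J B := fun B => by
    simp only [J]
    rw [← neg_inv, ← neg_one_mul B, ← neg_one_mul B⁻¹, ← mm, n1, n2, z2, one_mul]
  have Jδ : ∀ B, B * B = -1 → J B = hL.δ B * (E.z * E.u) := fun B hB => by
    simp only [J]
    rw [eδ, show B⁻¹ = B * -1 by rw [inv_eq_iff_mul_eq_one, ← mul_assoc, hB, neg_one_mul, neg_neg],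
      map_mul, n2]
    simp only [mul_assoc]
  have δn : ∀ B, hL.δ (-B) = hL.δ B := fun B => by
    rw [← neg_one_mul, map_mul, (hL.δ_eq_one _).2 (.inr rfl), one_mul]
  have hji : j * i = -(i * j) := by rw [hij, neg_neg]
  have hk : i * j * (i * j) = -1 := by
    rw [mul_assoc, ← mul_assoc j, hji, neg_mul, mul_assoc i j, hj, mul_neg, mul_neg_one, mul_neg, hi, neg_neg]
  have ji : j⁻¹ = -j := by rw [inv_eq_iff_mul_eq_one, mul_neg, hj, neg_neg]
  have sJ : ∀ B B', B * B = -1 → B' * B' = -1 →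
      (j.1 - (i * j).1) * B.1 = (-B').1 * (j.1 - (i * j).1) → s * J B * s⁻¹ = J B' := fun B B' hB hB' h => by
    rw [Jδ B hB, Jδ B' hB', ← conj_mul, ← conj_mul, h1, h2, hK _ _ h, δn, zu]
  let ζ : Fin 5 → G := ![E.z, J 1, J i, J j, J (i * j)]
  have zc : ∀ a b, f1 a * f2 b * E.z * (f1 a * f2 b)⁻¹ = E.z := fun a b => by
    rw [mul_assoc (f1 a), z1', ← mul_assoc, z1, mul_assoc E.z, mul_inv_cancel_right]
  have as : ∀ k, s * ζ k * s⁻¹ = ζ (σs k) := fun k => by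
    fin_cases k
    exacts [h1.trans J1.symm, (J1 ▸ h2 :), sJ _ _ hi hi gi, sJ _ _ hj hk gj, sJ _ _ hk hj gk]
  have at' : ∀ k, f1 (i * j) * f2 j * ζ k * (f1 (i * j) * f2 j)⁻¹ = ζ (σt k) := fun k => by
    fin_cases k
    · exact zc _ _
    · exact (Jc _ _ _).trans (congrArg J (by group))
    · refine (Jc _ _ _).trans (congrArg J ?_)
      rw [mul_assoc i j, hji, mul_neg, ← mul_assoc, hi, neg_one_mul, neg_neg, mul_inv_cancel]
    · exact (Jc _ _ _).trans (congrArg J (by group))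
    · exact (Jc _ _ _).trans (congrArg J (by rw [hk, ji, neg_one_mul, neg_neg]))
  have ok : ω * (i * j) * ω⁻¹ = i := by
    rw [← conj_mul, oi, oj, ← mul_assoc, hji, neg_mul, mul_assoc, hj, mul_neg_one, neg_neg]
  have aa : ∀ k, f1 ω * f2 ω * ζ k * (f1 ω * f2 ω)⁻¹ = ζ (σa k) := fun k => by
    fin_cases k
    exacts [zc _ _, (Jc _ _ _).trans (congrArg J (by group)), (Jc _ _ _).trans (congrArg J oi),
      (Jc _ _ _).trans (congrArg J oj), (Jc _ _ _).trans (congrArg J ok)]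
  have tr : ∀ r : G → G → Prop, (∀ g a b, r a b → r (g * a * g⁻¹) (g * b * g⁻¹)) → r E.z E.u →
      ∀ k l, k ≠ l → r (ζ k) (ζ l) := fun r hr h0 =>
    two_trans (fun k l => r (ζ k) (ζ l)) (fun k l h => as k ▸ as l ▸ hr _ _ _ h)
      (fun k l h => at' k ▸ at' l ▸ hr _ _ _ h) (fun k l h => aa k ▸ aa l ▸ hr _ _ _ h) (J1 ▸ h0 :)
  have pr := tr E.Pair (fun g a b h => ⟨h.za.trans (isConj_iff.2 ⟨g, rfl⟩), h.zb.trans (isConj_iff.2 ⟨g, rfl⟩),
    fun e => h.ne ((MulAut.conj g).injective e), by rw [conj_mul, conj_mul, h.comm]⟩) hW.pair_zu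
  have w2 : E.z * E.u * (E.z * E.u) = 1 := by rw [mul_assoc, ← mul_assoc E.u, ← zu, mul_assoc, u2, mul_one, z2]
  have wδ : ∀ a, E.z * E.u * hL.δ a = hL.δ a * (E.z * E.u) := fun a => by
    have e : (hL.δ a : G) * E.u = E.u * hL.δ a := congrArg Subtype.val (hL.δ_u a)
    rw [mul_assoc, ← e, ← mul_assoc, ← mem_centralizer_singleton_iff.1 (hL.δ a).2, mul_assoc]
  have fr : E.Frame ζ := ⟨fun k => (pr k (k + 1) (by revert k; decide)).za,
    fun k l e => by_contra fun h => (pr k l h).ne e,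
    fun k l => by by_cases h : k = l; exacts [by rw [h], (pr k l h).comm], by
      change E.z * J 1 * J i * J j * J (i * j) = 1
      have key : ∀ a, E.z * E.u * (hL.δ a * (E.z * E.u)) = hL.δ a := fun a => by
        rw [← mul_assoc, wδ, mul_assoc, w2, mul_one]
      rw [J1, Jδ i hi, Jδ j hj, Jδ _ hk, key, mul_assoc, mul_assoc (hL.δ j : G), key, ← coe_mul, ← coe_mul,
        ← map_mul, ← map_mul, ← mul_assoc, hk, (hL.δ_eq_one _).2 (.inr rfl), coe_one]⟩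
  have t2 : f1 (i * j) * f2 j * (f1 (i * j) * f2 j) = 1 := by rw [mm, hk, hj, n1, n2, z2]
  rw [← e2]
  change (s * (f1 (i * j) * f2 j)) ^ 3 = 1
  have cube : ∀ b : SL(2, F), (b * ω) ^ 3 = b * (ω * b * ω⁻¹) * (ω * (ω * b * ω⁻¹) * ω⁻¹) * ω ^ 3 :=
    fun b => by simp only [pow_three']; group
  refine braid_abs (fun k => (E.Z_sq (fr.z k)).1) (fun k => (E.Z_sq (fr.z k)).2) fr.inj fr.comm fr.prod hs t2
    as at' aa ?_ ?_ (fr.mem ?_)
  · have := hK _ _ og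
    rw [← eδ, show s * hL.δ ω * (s * hL.δ ω) = s * hL.δ ω * s⁻¹ * (s * s) * hL.δ ω by group, this, hs, mul_one,
      ← coe_mul, ← map_mul, inv_mul_cancel, map_one, coe_one]
  · rw [mm, (show Commute _ _ from cm _ _).mul_pow, ← map_pow, ← map_pow, cube, cube, ok, oi, oj, ok, o3,
      mul_one, mul_one, mul_assoc (i * j), hk, ← mul_assoc j, hji, neg_mul, mul_assoc i, hj, mul_neg_one,
      neg_neg, hi, n1, n2, z2]
  generalize hτ : f1 (i * j) * f2 j = τ at *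
  have ti : τ⁻¹ = τ := inv_eq_of_mul_eq_one_right t2
  have hp : ∀ k, s * τ * ζ k * (s * τ)⁻¹ = ζ (σs (σt k)) := fun k => by rw [← as, ← at']; group
  have c3 : ∀ k, ζ k * (s * τ) ^ 3 = (s * τ) ^ 3 * ζ k := fun k => by
    rw [eq_comm, ← mul_inv_eq_iff_eq_mul, show (s * τ) ^ 3 * ζ k * ((s * τ) ^ 3)⁻¹ =
      s * τ * (s * τ * (s * τ * ζ k * (s * τ)⁻¹) * (s * τ)⁻¹) * (s * τ)⁻¹ by
        simp only [pow_three']; group, hp, hp, hp,
      (by decide : ∀ k, σs (σt (σs (σt (σs (σt k))))) = k)]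
  have iv : τ * (s * τ) ^ 3 * τ⁻¹ = ((s * τ) ^ 3)⁻¹ := by
    rw [← conj_pow, ← inv_pow, mul_inv_rev, inv_eq_of_mul_eq_one_right hs, ← mul_assoc, mul_inv_cancel_right, ti]
  generalize (s * τ) ^ 3 = d at *
  obtain ⟨e, o, ho, he⟩ := Nat.exists_eq_two_pow_mul_odd (orderOf_pos d).ne'
  refine mem_FG hW fr (e := e) ?_ c3
  have ox : Odd (orderOf (d ^ 2 ^ e)) :=
    ho.of_dvd_nat (orderOf_dvd_of_pow_eq_one (by rw [← pow_mul, ← he, pow_orderOf_eq_one]))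
  have cx : ∀ k, d ^ 2 ^ e * ζ k = ζ k * d ^ 2 ^ e := fun k =>
    ((show Commute _ _ from c3 k).pow_right _).eq.symm
  have ix : τ * d ^ 2 ^ e * τ⁻¹ = (d ^ 2 ^ e)⁻¹ := by rw [← conj_pow, iv, inv_pow]
  generalize d ^ 2 ^ e = x at *
  have xz : x * E.z = E.z * x := cx 0
  have xu : x * E.u = E.u * x := by rw [← J1]; exact cx 1
  obtain ⟨α, -, hα⟩ := hL.aut_of_odd (g := ⟨x, mem_centralizer_singleton_iff.2 xz⟩)
    (by rwa [Subgroup.orderOf_mk])
  have a1 : ∀ a, x * f1 a * x⁻¹ = f1 (α a) := fun a => congrArg Subtype.val (hα a)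
  have a2 : ∀ a, x * f2 a * x⁻¹ = f2 (α a) := fun a => by
    rw [e2, e2, ← conj_mul, ← conj_mul, xu, mul_inv_cancel_right]
    exact congrArg (E.u * · * E.u) (a1 a)
  have fix : ∀ B, B * B = -1 → x * J B = J B * x → x * f1 B = f1 B * x := fun B hB h => by
    have h3 : hL.δ (α B) = hL.δ B := Subtype.ext (by
      rw [eδ, ← a1, ← a2, conj_mul, ← eδ, mul_inv_eq_iff_eq_mul]
      rw [Jδ B hB, mul_assoc, ← (Commute.mul_right xz xu).eq, ← mul_assoc x, ← mul_assoc _ x] at h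
      exact mul_right_cancel h)
    have h4 := (hL.δ_eq_one (α B * B⁻¹)).1 (by rw [map_mul, h3, ← map_mul, mul_inv_cancel, map_one])
    refine odd_comm ox ?_
    rw [← mul_inv_eq_iff_eq_mul, show x * x * f1 B * (x * x)⁻¹ = x * (x * f1 B * x⁻¹) * x⁻¹ by group, a1, a1]
    rcases h4 with h4 | h4
    · rw [mul_inv_eq_one.1 h4, mul_inv_eq_one.1 h4]
    · have h5 : α B = B⁻¹ := by
        rw [mul_inv_eq_iff_eq_mul.1 h4, eq_inv_iff_mul_eq_one, mul_assoc, hB, neg_one_mul, neg_neg]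
      rw [h5, map_inv, h5, inv_inv]
  have xi : Commute x (f1 i) := fix i hi (cx 2)
  have xj : Commute x (f1 j) := fix j hj (cx 3)
  have xt : Commute x τ := by
    rw [← hτ, map_mul, e2]
    exact (xi.mul_right xj).mul_right ((Commute.mul_right xu xj).mul_right xu)
  rw [← xt.eq, mul_inv_cancel_right, eq_inv_iff_mul_eq_one] at ix
  exact orderOf_eq_one_iff.1 (Nat.eq_one_of_dvd_coprimes (Nat.coprime_two_left.2 ox)
    (orderOf_dvd_of_pow_eq_one (by rw [sq, ix])) dvd_rfl)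
end PI2

end H20.P4
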