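import Mathlib
import Cfsg.Agent.H20.PI0

set_option autoImplicit false
set_option linter.unusedVariables false
set_option linter.unusedSectionVars false

namespace H20.P4

open Cfsg Subgroup
open scoped MatrixGroups

universe u v w

/-! ### PIT -/
section PIT
theorem tits {H : Type u} {G : Type v} [Group H] [Group G] {V : Type w} [MulAction H V]
    (adj : V → V → Prop) (hinv : ∀ (h : H) x y, adj x y → adj (h • x) (h • y))
    (hsymm : ∀ x y, adj x y → adj y x) {v0 v1 v2 : V} (a01 : adj v0 v1) (a02 : adj v0 v2)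
    (a12 : adj v1 v2) {σ τ : H} (σ0 : σ • v0 = v1) (σ1 : σ • v1 = v0) (σ2 : σ • v2 = v2)
    (τ0 : τ • v0 = v0) (τ1 : τ • v1 = v2) (τ2 : τ • v2 = v1)
    (t1 : ∀ x, adj v0 x → ∃ h : H, h • v0 = v0 ∧ h • v1 = x)
    (t2 : ∀ x, adj v0 x → adj v1 x → ∃ h : H, h • v0 = v0 ∧ h • v1 = v1 ∧ h • v2 = x)
    (conn : ∀ x, Relation.ReflTransGen adj v0 x)
    (hSC : ∀ (U : Type (max u v)) (adj' : U → U → Prop) (π : U → V), IsCover adj adj' π →
      ∀ x y, Relation.ReflTransGen adj' x y → π x = π y → x = y)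
    (φ : MulAction.stabilizer H v0 →* G) (s : G)
    (r1 : ∀ k k' : MulAction.stabilizer H v0, (k : H) • v1 = v1 → (k' : H) = σ * k * σ⁻¹ →
      φ k' = s * φ k * s⁻¹)
    (r2 : ∀ k : MulAction.stabilizer H v0, (k : H) = σ * σ → φ k = s * s)
    (r3 : ∀ k t : MulAction.stabilizer H v0, (t : H) = τ → (k : H) = (σ * τ) ^ 3 →
      φ k = (s * φ t) ^ 3) :
    closure ((MulAction.stabilizer H v0 : Set H) ∪ {σ}) = ⊤ ∧
      ∃ Φ : H →* G, (∀ k : MulAction.stabilizer H v0, Φ k = φ k) ∧ Φ σ = s := by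
  have top : closure ((MulAction.stabilizer H v0 : Set H) ∪ {σ}) = ⊤ := by
    have key : ∀ x, Relation.ReflTransGen adj v0 x →
        ∃ g ∈ closure ((MulAction.stabilizer H v0 : Set H) ∪ {σ}), g • v0 = x := fun x hx => by
      induction hx with
      | refl => exact ⟨1, one_mem _, one_smul _ _⟩
      | tail _ h ih =>
        obtain ⟨g, hg, rfl⟩ := ih
        obtain ⟨k, h0, h1⟩ := t1 _ (by simpa using hinv g⁻¹ _ _ h)
        exact ⟨g * k * σ, mul_mem (mul_mem hg (subset_closure (.inl h0))) (subset_closure (.inr rfl)),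
          by rw [mul_smul, mul_smul, σ0, h1, smul_inv_smul]⟩
    refine eq_top_iff.2 fun h _ => ?_
    obtain ⟨g, hg, e⟩ := key _ (conn (h • v0))
    rw [← mul_inv_cancel_left g h]
    exact mul_mem hg (subset_closure (.inl (show (g⁻¹ * h) • v0 = v0 by
      rw [mul_smul, ← e, inv_smul_smul])))
  refine ⟨top, ?_⟩
  let γ : MulAction.stabilizer H v0 →* H × G := (MulAction.stabilizer H v0).subtype.prod φ
  have γ1 : ∀ k, (γ k).1 = k := fun k => rfl
  let ς : H × G := (σ, s)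
  have ς1 : ς.1 = σ := rfl
  let π : (H × G) ⧸ γ.range → V := Quotient.lift (fun r : H × G => r.1 • v0) fun a b h => by
    obtain ⟨k, hk⟩ := QuotientGroup.leftRel_apply.1 h
    have : b = a * γ k := by rw [hk, mul_inv_cancel_left]
    change a.1 • v0 = b.1 • v0
    rw [this, Prod.fst_mul, mul_smul, γ1, k.2]
  have π1 : ∀ r : H × G, π r = r.1 • v0 := fun r => rfl
  have π2 : ∀ r : H × G, π (r * ς : H × G) = r.1 • v1 := fun r => by
    rw [π1, Prod.fst_mul, mul_smul, ς1, σ0]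
  let adj' : (H × G) ⧸ γ.range → (H × G) ⧸ γ.range → Prop := fun x y =>
    ∃ r : H × G, x = r ∧ y = (r * ς : H × G)
  have mk1 : ∀ (r : H × G), ∀ m ∈ γ.range, ((r * m : H × G) : (H × G) ⧸ γ.range) = r :=
    fun r m hm => QuotientGroup.mk_mul_of_mem r hm
  have dec : ∀ r r' : H × G, (r : (H × G) ⧸ γ.range) = r' → ∃ k, r' = r * γ k := fun r r' h => by
    obtain ⟨k, hk⟩ := QuotientGroup.eq.1 h
    exact ⟨k, by rw [hk, mul_inv_cancel_left]⟩
  have sq : ς * ς ∈ γ.range :=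
    ⟨⟨σ * σ, show (σ * σ) • v0 = v0 by rw [mul_smul, σ0, σ1]⟩, Prod.ext rfl (r2 _ rfl)⟩
  have uq : ∀ (r : H × G) (k : MulAction.stabilizer H v0), (k : H) • v1 = v1 →
      ((r * γ k * ς : H × G) : (H × G) ⧸ γ.range) = (r * ς : H × G) := fun r k hk => by
    let k0 : MulAction.stabilizer H v0 := ⟨σ⁻¹ * k * σ, show (σ⁻¹ * k * σ) • v0 = v0 by
      rw [mul_smul, mul_smul, σ0, hk, ← σ0, inv_smul_smul]⟩
    have e := r1 k0 k (show (σ⁻¹ * k * σ) • v1 = v1 by
      rw [mul_smul, mul_smul, σ1, k.2, ← σ1, inv_smul_smul]) (by simp only [k0]; group)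
    rw [show r * γ k * ς = r * ς * γ k0 from Prod.ext (by
      change r.1 * k * σ = r.1 * σ * (σ⁻¹ * k * σ); group) (by
      change r.2 * φ k * s = r.2 * s * φ k0; rw [e]; group)]
    exact mk1 _ _ ⟨k0, rfl⟩
  have symm : ∀ x y, adj' x y → adj' y x := by
    rintro _ _ ⟨r, rfl, rfl⟩
    exact ⟨r * ς, rfl, by rw [mul_assoc, mk1 _ _ sq]⟩
  have cov : IsCover adj adj' π := by
    refine ⟨symm, ?_, ?_, ?_, ?_⟩
    · rintro _ _ ⟨r, rfl, rfl⟩
      rw [π1, π2]; exact hinv _ _ _ a01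
    · intro x v h
      obtain ⟨r, rfl⟩ := QuotientGroup.mk_surjective x
      obtain ⟨k, h0, h1⟩ := t1 (r.1⁻¹ • v) (by simpa [π1] using hinv r.1⁻¹ _ _ h)
      exact ⟨_, ⟨r * γ ⟨k, h0⟩, (mk1 _ _ ⟨_, rfl⟩).symm, rfl⟩, by
        rw [π2, Prod.fst_mul, mul_smul, γ1, h1, smul_inv_smul]⟩
    · rintro _ _ _ ⟨r, rfl, rfl⟩ ⟨r', e, rfl⟩ h
      obtain ⟨k, rfl⟩ := dec r r' e
      rw [π2, π2, Prod.fst_mul, mul_smul, smul_left_cancel_iff] at h
      exact (uq r k h.symm).symm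
    · rintro _ _ _ ⟨r, rfl, rfl⟩ ⟨r', e, rfl⟩ h
      obtain ⟨k, rfl⟩ := dec r r' e
      rw [π2, π2, Prod.fst_mul, mul_smul, γ1] at h
      obtain ⟨h', h0, h1, h2⟩ := t2 ((k : H) • v1) (by
        have := hinv k _ _ a01
        rwa [k.2] at this) (by simpa using hinv r.1⁻¹ _ _ h)
      let t : MulAction.stabilizer H v0 := ⟨τ, τ0⟩
      have cu : (ς * γ t) ^ 3 ∈ γ.range := ⟨⟨(σ * τ) ^ 3, show ((σ * τ) ^ 3) • v0 = v0 by
        simp only [pow_succ, pow_zero, one_mul, mul_smul, τ0, σ0, τ1, σ2, τ2, σ1]⟩,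
        Prod.ext rfl (r3 _ t rfl rfl)⟩
      have tm : γ t ∈ γ.range := ⟨t, rfl⟩
      refine ⟨r * γ ⟨h', h0⟩ * ς * ((ς * ς)⁻¹ * (γ t)⁻¹ * (ς * ς)⁻¹), ?_, ?_⟩
      · rw [mk1 _ _ (mul_mem (mul_mem (inv_mem sq) (inv_mem tm)) (inv_mem sq)), uq r _ h1]
      · rw [← uq (r * γ k) (k⁻¹ * ⟨h', h0⟩ * t) (show ((k : H)⁻¹ * h' * τ) • v1 = v1 by
          rw [mul_smul, mul_smul, τ1, h2, inv_smul_smul]),
          ← mk1 _ _ (mul_mem tm (inv_mem cu)), map_mul, map_mul, map_inv]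
        congr 1
        simp only [pow_succ, pow_zero, one_mul]
        group
  let R : Subgroup (H × G) := closure ((γ.range : Set (H × G)) ∪ {ς})
  have tr : ∀ (g : H × G) {x y}, Relation.ReflTransGen adj' x y →
      Relation.ReflTransGen adj' (g • x) (g • y) := fun g x y h =>
    h.lift (g • ·) (by
      rintro _ _ ⟨r, rfl, rfl⟩
      exact ⟨g * r, rfl, by rw [mul_assoc]; rfl⟩)
  have joined : ∀ r ∈ R, Relation.ReflTransGen adj' ((1 : H × G) : (H × G) ⧸ γ.range) r := by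
    intro r hr
    induction hr using closure_induction with
    | mem x hx =>
      rcases hx with hx | rfl
      · rw [← one_mul x, mk1 _ _ hx]
      · exact .single ⟨1, rfl, by rw [one_mul]⟩
    | one => exact .refl
    | mul x y _ _ hx hy =>
      have := tr x hy
      rw [MulAction.Quotient.smul_mk, MulAction.Quotient.smul_mk, smul_eq_mul, smul_eq_mul,
        mul_one] at this
      exact hx.trans this
    | inv x _ hx =>
      have := tr x⁻¹ hx
      rw [MulAction.Quotient.smul_mk, MulAction.Quotient.smul_mk, smul_eq_mul, smul_eq_mul,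
        mul_one, inv_mul_cancel] at this
      exact Relation.ReflTransGen.mono (fun x y h => symm y x h) _ _ this.swap
  let f : R →* H := (MonoidHom.fst H G).comp R.subtype
  have bij : Function.Bijective f := by
    refine ⟨(injective_iff_map_eq_one f).2 fun r hr => ?_, MonoidHom.range_eq_top.1 ?_⟩
    · have h1 : (r : H × G).1 = 1 := hr
      obtain ⟨k, hk⟩ := dec _ _ (hSC _ adj' π cov _ _ (joined r r.2) (by rw [π1, π1, h1]; rfl))
      rw [one_mul] at hk
      obtain rfl : k = 1 := Subtype.ext (by rw [← γ1, ← hk, h1]; rfl)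
      exact Subtype.ext (hk.trans (map_one γ))
    · rw [eq_top_iff, ← top, closure_le]
      rintro x (hx | rfl)
      · exact ⟨⟨γ ⟨x, hx⟩, subset_closure (.inl ⟨_, rfl⟩)⟩, rfl⟩
      · exact ⟨⟨ς, subset_closure (.inr rfl)⟩, rfl⟩
  let e := MulEquiv.ofBijective f bij
  have key : ∀ r : R, ((MonoidHom.snd H G).comp (R.subtype.comp e.symm.toMonoidHom)) (f r) =
      (r : H × G).2 := fun r => congrArg (fun r : R => (r : H × G).2) (e.symm_apply_apply r)
  exact ⟨_, fun k => key ⟨γ k, subset_closure (.inl ⟨_, rfl⟩)⟩, key ⟨ς, subset_closure (.inr rfl)⟩⟩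
end PIT


end H20.P4
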