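import Mathlib
import Cfsg.Agent.H20.PI0

set_option autoImplicit false
set_option linter.unusedVariables false
set_option linter.unusedSimpArgs false
set_option linter.unusedSectionVars false

namespace H20.P4

open Cfsg Subgroup
open scoped MatrixGroups

universe u v w

namespace PS2x
variable {F : Type*} [Field F] [Fintype F] {a b c d e r h x y : Fin 5 → F}

omit [Fintype F] in
theorem dc {t : F} (h : a ⬝ᵥ b = t) : b ⬝ᵥ a = t := (dotProduct_comm _ _).trans h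

theorem two (hF : Odd (Fintype.card F)) : (2 : F) ≠ 0 :=
  Ring.two_ne_zero fun e => by
    have := (FiniteField.even_card_iff_char_two (F := F)).1 e
    rw [Nat.odd_iff] at hF; omega

theorem rep (hF : Odd (Fintype.card F)) {α β : F} (ha : α ≠ 0) (hb : β ≠ 0) :
    ∃ s t : F, α * s ^ 2 + β * t ^ 2 = 1 := by
  obtain ⟨s, t, e⟩ := FiniteField.exists_root_sum_quadratic (R := F)
    (f := Polynomial.C α * Polynomial.X ^ 2) (g := Polynomial.C β * Polynomial.X ^ 2 - Polynomial.C 1)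
    (Polynomial.degree_C_mul_X_pow 2 ha) (by
      rw [Polynomial.degree_sub_C (by rw [Polynomial.degree_C_mul_X_pow 2 hb]; norm_num)]
      exact Polynomial.degree_C_mul_X_pow 2 hb) (Nat.odd_iff.1 hF)
  exact ⟨s, t, by simp at e; linear_combination e⟩

omit [Fintype F] in
theorem perp (a b c d : Fin 5 → F) : ∃ x, x ≠ 0 ∧ a ⬝ᵥ x = 0 ∧ b ⬝ᵥ x = 0 ∧ c ⬝ᵥ x = 0 ∧ d ⬝ᵥ x = 0 := by
  obtain ⟨x, h1, h2⟩ := (Submodule.ne_bot_iff _).1 (LinearMap.ker_ne_bot_of_finrank_lt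
    (f := Matrix.mulVecLin (Matrix.of ![a, b, c, d])) (by simp))
  exact ⟨x, h2, congrFun h1 0, congrFun h1 1, congrFun h1 2, congrFun h1 3⟩

omit [Fintype F] in
theorem nondeg (h : x ≠ 0) : ∃ y, x ⬝ᵥ y ≠ 0 := by
  by_contra k
  push Not at k
  exact h (dotProduct_eq_zero_iff.1 k)

/-- zero or anisotropic -/
def An (a : Fin 5 → F) : Prop := a = 0 ∨ a ⬝ᵥ a ≠ 0

omit [Fintype F] in
theorem An.proj (ha : An a) (y : Fin 5 → F) : ∃ t : F, a ⬝ᵥ (y - t • a) = 0 := by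
  rcases ha with rfl | ha
  · exact ⟨0, zero_dotProduct _⟩
  · exact ⟨a ⬝ᵥ y / a ⬝ᵥ a, by rw [dotProduct_sub, dotProduct_smul, smul_eq_mul]; field_simp; ring⟩

omit [Fintype F] in
theorem proj (ha : An a) (hb : An b) (hc : An c) (hd : An d) (ab : a ⬝ᵥ b = 0) (ac : a ⬝ᵥ c = 0)
    (ad : a ⬝ᵥ d = 0) (bc : b ⬝ᵥ c = 0) (bd : b ⬝ᵥ d = 0) (cd : c ⬝ᵥ d = 0) (hx : x ≠ 0)
    (xa : a ⬝ᵥ x = 0) (xb : b ⬝ᵥ x = 0) (xc : c ⬝ᵥ x = 0) (xd : d ⬝ᵥ x = 0) :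
    ∃ y, x ⬝ᵥ y ≠ 0 ∧ a ⬝ᵥ y = 0 ∧ b ⬝ᵥ y = 0 ∧ c ⬝ᵥ y = 0 ∧ d ⬝ᵥ y = 0 := by
  obtain ⟨y, hy⟩ := nondeg hx
  obtain ⟨s, hs⟩ := ha.proj y
  obtain ⟨t, ht⟩ := hb.proj y
  obtain ⟨u, hu⟩ := hc.proj y
  obtain ⟨v, hv⟩ := hd.proj y
  refine ⟨y - s • a - t • b - u • c - v • d, ?_⟩
  simp only [dotProduct_sub, dotProduct_smul, smul_eq_mul, ab, ac, ad, bc, bd, cd, dc ab, dc ac, dc ad,
    dc bc, dc bd, dc cd, dc xa, dc xb, dc xc, dc xd, mul_zero, sub_zero] at *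
  exact ⟨hy, hs, ht, hu, hv⟩

variable (hF : Odd (Fintype.card F))
include hF

theorem ext (ha : An a) (hb : An b) (hc : An c) (hd : An d) (ab : a ⬝ᵥ b = 0) (ac : a ⬝ᵥ c = 0)
    (ad : a ⬝ᵥ d = 0) (bc : b ⬝ᵥ c = 0) (bd : b ⬝ᵥ d = 0) (cd : c ⬝ᵥ d = 0) :
    ∃ x, x ⬝ᵥ x ≠ 0 ∧ a ⬝ᵥ x = 0 ∧ b ⬝ᵥ x = 0 ∧ c ⬝ᵥ x = 0 ∧ d ⬝ᵥ x = 0 := by
  obtain ⟨x, hx, xa, xb, xc, xd⟩ := perp a b c d
  obtain ⟨y, hy, ya, yb, yc, yd⟩ := proj ha hb hc hd ab ac ad bc bd cd hx xa xb xc xd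
  by_cases h1 : x ⬝ᵥ x = 0
  · by_cases h2 : y ⬝ᵥ y = 0
    · refine ⟨x + y, ?_⟩
      simp only [dotProduct_add, add_dotProduct, xa, xb, xc, xd, ya, yb, yc, yd, h1, h2, add_zero,
        zero_add, and_true, dotProduct_comm y x]
      rw [← two_mul]; exact mul_ne_zero (two hF) hy
    · exact ⟨y, h2, ya, yb, yc, yd⟩
  · exact ⟨x, h1, xa, xb, xc, xd⟩

theorem unit (ha : An a) (hb : An b) (hc : An c) (ab : a ⬝ᵥ b = 0) (ac : a ⬝ᵥ c = 0)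
    (bc : b ⬝ᵥ c = 0) : ∃ x, x ⬝ᵥ x = 1 ∧ a ⬝ᵥ x = 0 ∧ b ⬝ᵥ x = 0 ∧ c ⬝ᵥ x = 0 := by
  have z := fun a : Fin 5 → F => dotProduct_zero a
  obtain ⟨p, hp, pa, pb, pc, -⟩ := ext hF ha hb hc (.inl rfl) ab ac (z _) bc (z _) (z _)
  obtain ⟨q, hq, qa, qb, qc, pq⟩ := ext hF ha hb hc (.inr hp) ab ac pa bc pb pc
  obtain ⟨s, t, e⟩ := rep hF hp hq
  refine ⟨s • p + t • q, ?_⟩
  simp only [dotProduct_add, add_dotProduct, dotProduct_smul, smul_dotProduct, smul_eq_mul, pa, pb, pc,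
    qa, qb, qc, pq, dc pq, mul_zero, add_zero, zero_add, and_true]
  linear_combination e

/-- a hyperbolic partner -/
theorem hyp (ha : An a) (hb : An b) (ab : a ⬝ᵥ b = 0) (hr : r ≠ 0) (rr : r ⬝ᵥ r = 0)
    (ar : a ⬝ᵥ r = 0) (br : b ⬝ᵥ r = 0) :
    ∃ h, h ⬝ᵥ h = 0 ∧ r ⬝ᵥ h = 1 ∧ a ⬝ᵥ h = 0 ∧ b ⬝ᵥ h = 0 := by
  have z := fun a : Fin 5 → F => dotProduct_zero a
  have z' := fun a : Fin 5 → F => zero_dotProduct a
  obtain ⟨y, hy, ya, yb, -⟩ := proj ha hb (.inl rfl) (.inl rfl) ab (z _) (z _) (z _) (z _) (z _) hr ar br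
    (z' _) (z' _)
  refine ⟨(r ⬝ᵥ y)⁻¹ • y - (y ⬝ᵥ y / (2 * (r ⬝ᵥ y) ^ 2)) • r, ?_⟩
  have := two hF
  simp only [dotProduct_sub, sub_dotProduct, dotProduct_smul, smul_dotProduct, smul_eq_mul, ya, yb, ar,
    br, rr, mul_zero, sub_zero, dotProduct_comm y r, and_true]
  exact ⟨by field_simp; ring, inv_mul_cancel₀ hy⟩

omit hF [Fintype F] in
theorem gram (ab : a ⬝ᵥ b = 0) (ac : a ⬝ᵥ c = 0) (ad : a ⬝ᵥ d = 0) (ae : a ⬝ᵥ e = 0)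
    (bc : b ⬝ᵥ c = 0) (bd : b ⬝ᵥ d = 0) (be : b ⬝ᵥ e = 0) (cd : c ⬝ᵥ d = 0) (ce : c ⬝ᵥ e = 0)
    (de : d ⬝ᵥ e = 0) : (Matrix.of ![a, b, c, d, e]).det ^ 2 =
      a ⬝ᵥ a * b ⬝ᵥ b * c ⬝ᵥ c * d ⬝ᵥ d * e ⬝ᵥ e := by
  have : Matrix.of ![a, b, c, d, e] * (Matrix.of ![a, b, c, d, e]).transpose =
      Matrix.diagonal ![a ⬝ᵥ a, b ⬝ᵥ b, c ⬝ᵥ c, d ⬝ᵥ d, e ⬝ᵥ e] := by
    ext i j
    change ![a, b, c, d, e] i ⬝ᵥ ![a, b, c, d, e] j = _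
    fin_cases i <;> fin_cases j <;>
      simp [ab, ac, ad, ae, bc, bd, be, cd, ce, de, dc ab, dc ac, dc ad, dc ae, dc bc, dc bd, dc be,
        dc cd, dc ce, dc de]
  have := congrArg Matrix.det this
  rw [Matrix.det_mul, Matrix.det_transpose, Matrix.det_diagonal, Fin.prod_univ_five] at this
  rw [sq, this]; rfl

/-- the fifth vector besides two unit vectors and a hyperbolic pair -/
theorem fifth (ha : a ⬝ᵥ a = 1) (hb : b ⬝ᵥ b = 1) (ab : a ⬝ᵥ b = 0) (rr : r ⬝ᵥ r = 0)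
    (ar : a ⬝ᵥ r = 0) (br : b ⬝ᵥ r = 0) (hh : h ⬝ᵥ h = 0) (rh : r ⬝ᵥ h = 1) (ah : a ⬝ᵥ h = 0)
    (bh : b ⬝ᵥ h = 0) : ∃ g, g ⬝ᵥ g = -1 ∧ a ⬝ᵥ g = 0 ∧ b ⬝ᵥ g = 0 ∧ r ⬝ᵥ g = 0 ∧
      ∀ y, y ⬝ᵥ y = 0 → a ⬝ᵥ y = 0 → b ⬝ᵥ y = 0 → r ⬝ᵥ y = 0 → g ⬝ᵥ y = 0 := by
  have t2 := two hF
  have e1 : (h + r) ⬝ᵥ (h + r) = 2 := by
    simp only [dotProduct_add, add_dotProduct, hh, rr, rh, dc rh]; ring
  have e2 : (h - r) ⬝ᵥ (h - r) = -2 := by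
    simp only [dotProduct_sub, sub_dotProduct, hh, rr, rh, dc rh]; ring
  have e3 : (h + r) ⬝ᵥ (h - r) = 0 := by
    simp only [dotProduct_sub, add_dotProduct, hh, rr, rh, dc rh]; ring
  have a1 : a ⬝ᵥ (h + r) = 0 := by rw [dotProduct_add, ah, ar, add_zero]
  have a2 : a ⬝ᵥ (h - r) = 0 := by rw [dotProduct_sub, ah, ar, sub_zero]
  have b1 : b ⬝ᵥ (h + r) = 0 := by rw [dotProduct_add, bh, br, add_zero]
  have b2 : b ⬝ᵥ (h - r) = 0 := by rw [dotProduct_sub, bh, br, sub_zero]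
  obtain ⟨g, hg, ga, gb, g1, g2⟩ := ext hF (.inr (ha ▸ one_ne_zero)) (.inr (hb ▸ one_ne_zero))
    (.inr (e1 ▸ t2)) (.inr (e2 ▸ neg_ne_zero.2 t2)) ab a1 a2 b1 b2 e3
  have k := gram ab a1 a2 ga b1 b2 gb e3 g1 g2
  rw [ha, hb, e1, e2] at k
  set D := (Matrix.of ![a, b, h + r, h - r, g]).det with hD
  have D0 : D ≠ 0 := fun e => hg (by
    rw [e] at k; exact (mul_eq_zero.1 (show 2 * 2 * g ⬝ᵥ g = 0 by linear_combination k)).resolve_left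
      (mul_ne_zero t2 t2))
  rw [add_dotProduct] at g1
  rw [sub_dotProduct] at g2
  have gr : r ⬝ᵥ g = 0 := mul_left_cancel₀ t2 (by linear_combination g1 - g2)
  have gh : h ⬝ᵥ g = 0 := by linear_combination g1 - gr
  refine ⟨(2 / D) • g, ?_, ?_, ?_, ?_, fun y yy ya yb yr => ?_⟩
  · rw [dotProduct_smul, smul_dotProduct, smul_eq_mul, smul_eq_mul]; field_simp; linear_combination k
  · rw [dotProduct_smul, ga, smul_zero]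
  · rw [dotProduct_smul, gb, smul_zero]
  · rw [dotProduct_smul, gr, smul_zero]
  have := Matrix.eq_zero_of_mulVec_eq_zero (hD ▸ D0)
    (v := y - (h ⬝ᵥ y) • r - (g ⬝ᵥ y / g ⬝ᵥ g) • g) (funext fun i => by
      change ![a, b, h + r, h - r, g] i ⬝ᵥ _ = 0
      fin_cases i <;> simp [dotProduct_sub, add_dotProduct, sub_dotProduct, ya, yb, yr, ar, br, ga, gb, gr,
        gh, rr, dc rh, dc gr, div_mul_cancel₀ _ hg])
  rw [sub_sub, sub_eq_zero] at this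
  rw [this] at yy
  simp only [dotProduct_add, add_dotProduct, dotProduct_smul, smul_dotProduct, smul_eq_mul, rr, gr, dc gr,
    mul_zero, zero_add, add_zero, mul_eq_zero, hg, or_false, or_self, div_eq_zero_iff] at yy
  rw [smul_dotProduct, yy, smul_zero]

omit hF in
theorem av3 (h5 : 5 ≤ Fintype.card F) : ∃ m : F, m ≠ 0 ∧ m ^ 2 ≠ 1 := by
  classical
  obtain ⟨m, -, hm⟩ := Finset.exists_mem_notMem_of_card_lt_card (s := ({0, 1, -1} : Finset F))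
    (t := Finset.univ) (Finset.card_le_three.trans_lt (by rw [Finset.card_univ]; omega))
  simp only [Finset.mem_insert, Finset.mem_singleton, not_or] at hm
  exact ⟨m, hm.1, fun e => (sq_eq_one_iff.1 e).elim hm.2.1 hm.2.2⟩

omit hF [Fintype F] in
theorem dec (ha : a ⬝ᵥ a = 1) (y : Fin 5 → F) : ∃ r, a ⬝ᵥ r = 0 ∧ r ⬝ᵥ r = y ⬝ᵥ y - (a ⬝ᵥ y) ^ 2 ∧
    (∀ x, r ⬝ᵥ x = y ⬝ᵥ x - a ⬝ᵥ y * a ⬝ᵥ x) := by
  refine ⟨y - (a ⬝ᵥ y) • a, ?_, ?_, fun x => ?_⟩ <;>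
    simp only [dotProduct_sub, sub_dotProduct, dotProduct_smul, smul_dotProduct, smul_eq_mul, ha,
      dotProduct_comm y a]
  all_goals ring

omit hF [Fintype F] in
theorem dec2 {u v v' : Fin 5 → F} (hu : u ⬝ᵥ u = 1) (hv : v ⬝ᵥ v = 1) (hv' : v' ⬝ᵥ v' = 1)
    (ho : v ⬝ᵥ v' = 0) : ∃ r, v ⬝ᵥ r = 0 ∧ v' ⬝ᵥ r = 0 ∧ r ⬝ᵥ r = 1 - ((u ⬝ᵥ v) ^ 2 + (u ⬝ᵥ v') ^ 2) ∧
      ∀ x, v ⬝ᵥ x = 0 → v' ⬝ᵥ x = 0 → u ⬝ᵥ x = r ⬝ᵥ x := by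
  refine ⟨u - (u ⬝ᵥ v) • v - (u ⬝ᵥ v') • v', ?_, ?_, ?_, fun x a b => ?_⟩ <;>
    simp only [dotProduct_sub, sub_dotProduct, dotProduct_smul, smul_dotProduct, smul_eq_mul, hu, hv, hv',
      ho, dc ho, dotProduct_comm v u, dotProduct_comm v' u, *]
  all_goals ring

omit hF [Fintype F] in
theorem one (ha : a ⬝ᵥ a = 1) : An a := .inr (ha ▸ one_ne_zero)

end PS2x
open PS2x

/-! ### PS2 -/
section PS2
variable {F : Type*} [Field F] [Fintype F]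
theorem cn2 (hF : Odd (Fintype.card F)) {u v : Fin 5 → F} (hu : u ⬝ᵥ u = 1) (hv : v ⬝ᵥ v = 1) :
    ∃ w, CN u v w := by
  obtain ⟨r, ur, -, hr⟩ := dec hu v
  have z := fun a : Fin 5 → F => dotProduct_zero a
  suffices ∃ x, x ⬝ᵥ x = 1 ∧ u ⬝ᵥ x = 0 ∧ r ⬝ᵥ x = 0 by
    obtain ⟨x, a, b, c⟩ := this
    exact ⟨x, a, b, by rw [hr, b] at c; linear_combination c⟩
  by_cases h : An r
  · exact (unit hF (one hu) h (.inl rfl) ur (z _) (z _)).imp fun x a => ⟨a.1, a.2.1, a.2.2.1⟩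
  rw [An, not_or, not_not] at h
  obtain ⟨g, gg, rg, ug, -⟩ := hyp hF (one hu) (.inl rfl) (z _) h.1 h.2 ur (zero_dotProduct _)
  have t2 := two hF
  obtain ⟨x, a, b, c, d⟩ := unit hF (one hu) (b := g + r) (c := g - r) (.inr (by
      simp only [dotProduct_add, add_dotProduct, gg, h.2, rg, dc rg]; rw [zero_add, add_zero]
      exact one_add_one_eq_two (R := F) ▸ t2)) (.inr (by
      simp only [dotProduct_sub, sub_dotProduct, gg, h.2, rg, dc rg]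
      exact fun e => t2 (by linear_combination -e))) (by rw [dotProduct_add, ug, ur, add_zero])
    (by rw [dotProduct_sub, ug, ur, sub_zero])
    (by simp only [dotProduct_sub, add_dotProduct, gg, h.2, rg, dc rg]; ring)
  rw [add_dotProduct] at c
  rw [sub_dotProduct] at d
  exact ⟨x, a, b, mul_left_cancel₀ t2 (by linear_combination c - d)⟩
theorem cn4 (hF : Odd (Fintype.card F)) {u v w w' : Fin 5 → F} (hu : u ⬝ᵥ u = 1) (hv : v ⬝ᵥ v = 1)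
    (hw : CN u v w) (hw' : CN u v w') (h1 : ¬ IsSquare ((u ⬝ᵥ v) ^ 2 - 1))
    (h2 : ¬ IsSquare ((w ⬝ᵥ w') ^ 2 - 1)) : ∃ x, CN u v x ∧ CN w w' x := by
  classical
  obtain ⟨r, ur, rr, hr⟩ := dec hu v
  obtain ⟨s, ws, ss, hs⟩ := dec hw.1 w'
  rw [hv] at rr
  rw [hw'.1] at ss
  have n1 : (u ⬝ᵥ v) ^ 2 - 1 ≠ 0 := fun e => h1 (e ▸ IsSquare.zero)
  have n2 : (w ⬝ᵥ w') ^ 2 - 1 ≠ 0 := fun e => h2 (e ▸ IsSquare.zero)
  have rw0 : r ⬝ᵥ w = 0 := by rw [hr, hw.2.1, hw.2.2]; ring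
  have us : u ⬝ᵥ s = 0 := dc (by rw [hs, dc hw.2.1, dc hw'.2.1]; ring)
  have rs : r ⬝ᵥ s = 0 := dc (by rw [hs, dc rw0, dc (hr w'), hw'.2.1, hw'.2.2]; ring)
  obtain ⟨x, xx, a, b, c, d⟩ := ext hF (one hu) (.inr (rr ▸ fun e => n1 (by linear_combination -e)))
    (one hw.1) (.inr (ss ▸ fun e => n2 (by linear_combination -e))) ur hw.2.1 us rw0 rs ws
  have k := gram ur hw.2.1 us a rw0 rs b ws c d
  rw [hu, hw.1, rr, ss] at k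
  obtain ⟨m, hm⟩ : IsSquare (((u ⬝ᵥ v) ^ 2 - 1) * ((w ⬝ᵥ w') ^ 2 - 1)) := by
    rw [← quadraticChar_one_iff_isSquare (mul_ne_zero n1 n2), map_mul,
      quadraticChar_neg_one_iff_not_isSquare.2 h1, quadraticChar_neg_one_iff_not_isSquare.2 h2]
    norm_num
  generalize (Matrix.of ![u, r, w, s, x]).det = D at k
  have D0 : D ≠ 0 := fun e => mul_ne_zero (mul_ne_zero n1 n2) xx (by rw [e] at k; linear_combination -k)
  have e : ((m / D) • x) ⬝ᵥ ((m / D) • x) = 1 := by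
    rw [dotProduct_smul, smul_dotProduct, smul_eq_mul, smul_eq_mul]; field_simp
    linear_combination -k - hm * x ⬝ᵥ x
  rw [hr, a] at b
  rw [hs, c] at d
  refine ⟨(m / D) • x, ⟨e, ?_, ?_⟩, e, ?_, ?_⟩ <;> rw [dotProduct_smul, smul_eq_mul]
  exacts [by rw [a, mul_zero], by linear_combination (m / D) * b, by rw [c, mul_zero],
    by linear_combination (m / D) * d]
theorem third (hF : Odd (Fintype.card F)) (h5 : 5 ≤ Fintype.card F) {u v w w' : Fin 5 → F}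
    (hu : u ⬝ᵥ u = 1) (hv : v ⬝ᵥ v = 1) (hw : CN u v w) (hw' : CN u v w') (h1 : (u ⬝ᵥ v) ^ 2 = 1)
    (h2 : (w ⬝ᵥ w') ^ 2 = 1) : ∃ x, CN u v x ∧ (w ⬝ᵥ x) ^ 2 ≠ 1 ∧ (x ⬝ᵥ w') ^ 2 ≠ 1 := by
  obtain ⟨r, ur, rr, hr⟩ := dec hu v
  obtain ⟨s, ws, ss, hs⟩ := dec hw.1 w'
  rw [hv, h1, sub_self] at rr
  rw [hw'.1, h2, sub_self] at ss
  have rw0 : r ⬝ᵥ w = 0 := by rw [hr, hw.2.1, hw.2.2]; ring
  have us : u ⬝ᵥ s = 0 := dc (by rw [hs, dc hw.2.1, dc hw'.2.1]; ring)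
  have rs : r ⬝ᵥ s = 0 := dc (by rw [hs, dc rw0, dc (hr w'), hw'.2.1, hw'.2.2]; ring)
  obtain ⟨m, m0, m1⟩ := av3 h5
  have t2 := two hF
  suffices ∃ x, x ⬝ᵥ x = 1 ∧ u ⬝ᵥ x = 0 ∧ r ⬝ᵥ x = 0 ∧ (w ⬝ᵥ x) ^ 2 ≠ 1 ∧
      (s ⬝ᵥ x + w ⬝ᵥ w' * w ⬝ᵥ x) ^ 2 ≠ 1 by
    obtain ⟨x, a, b, c, d, e⟩ := this
    exact ⟨x, ⟨a, b, by rw [hr, b] at c; linear_combination c⟩, d, by
      rwa [hs, sub_add_cancel, dotProduct_comm] at e⟩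
  by_cases r0 : r = 0
  · by_cases s0 : s = 0
    · obtain ⟨x, a, b, c, -⟩ := unit hF (one hu) (one hw.1) (.inl rfl) hw.2.1 (dotProduct_zero _)
        (dotProduct_zero _)
      exact ⟨x, a, b, by simp [r0, s0, c]⟩
    · obtain ⟨g, gg, sg, ug, wg⟩ := hyp hF (one hu) (one hw.1) hw.2.1 s0 ss us ws
      refine ⟨m • g + (2 * m)⁻¹ • s, ?_⟩
      simp only [dotProduct_add, add_dotProduct, dotProduct_smul, smul_dotProduct, smul_eq_mul, gg, sg,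
        dc sg, ug, wg, ss, us, ws, r0, zero_dotProduct, mul_zero, add_zero, zero_add, mul_one, true_and]
      exact ⟨by field_simp; ring, by simp, m1⟩
  · obtain ⟨h, hh, rh, uh, wh⟩ := hyp hF (one hu) (one hw.1) hw.2.1 r0 rr ur (dc rw0)
    obtain ⟨g, gg, ug, wg, rg, k⟩ := fifth hF hu hw.1 hw.2.1 rr ur (dc rw0) hh rh uh wh
    have gs := k s ss us ws rs
    have k1 : ((m + m⁻¹) / 2) ^ 2 ≠ 1 := fun e => m1 (by
      field_simp at e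
      have : (m ^ 2 - 1) ^ 2 = 0 := by linear_combination e
      exact sub_eq_zero.1 (pow_eq_zero_iff two_ne_zero |>.1 this))
    refine ⟨((m + m⁻¹) / 2) • w + ((m - m⁻¹) / 2) • g, ?_⟩
    simp only [dotProduct_add, add_dotProduct, dotProduct_smul, smul_dotProduct, smul_eq_mul, gg, ug, wg,
      dc wg, rg, dc gs, dc ws, rw0, hw.1, hw.2.1, mul_zero, add_zero, zero_add, mul_one, true_and]
    exact ⟨by field_simp; ring, k1, by rwa [mul_pow, h2, one_mul]⟩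
theorem cn3 (hF : Odd (Fintype.card F)) {u v v' : Fin 5 → F} (hu : u ⬝ᵥ u = 1) (hv : v ⬝ᵥ v = 1)
    (hv' : v' ⬝ᵥ v' = 1) (ho : v ⬝ᵥ v' = 0) (h : (u ⬝ᵥ v) ^ 2 + (u ⬝ᵥ v') ^ 2 ≠ 1) :
    ∃ x, CN u v x ∧ v' ⬝ᵥ x = 0 := by
  obtain ⟨r, a, b, c, d⟩ := dec2 hu hv hv' ho
  obtain ⟨x, x1, x2, x3, x4⟩ := unit hF (one hv) (one hv') (.inr (c ▸ sub_ne_zero.2 h.symm)) ho a b
  exact ⟨x, ⟨x1, (d x x2 x3).trans x4, x2⟩, x3⟩
theorem five (hF : Odd (Fintype.card F)) (h5 : 5 ≤ Fintype.card F) {u v v' : Fin 5 → F}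
    (hu : u ⬝ᵥ u = 1) (hv : v ⬝ᵥ v = 1) (hv' : v' ⬝ᵥ v' = 1) (ho : v ⬝ᵥ v' = 0)
    (h : (u ⬝ᵥ v) ^ 2 + (u ⬝ᵥ v') ^ 2 = 1) :
    (∃ x, CN u v x ∧ v' ⬝ᵥ x = 0) ∨ ∃ x, CN v v' x ∧ (u ⬝ᵥ v) ^ 2 + (u ⬝ᵥ x) ^ 2 ≠ 1 ∧
      (u ⬝ᵥ x) ^ 2 + (u ⬝ᵥ v') ^ 2 ≠ 1 := by
  classical
  obtain ⟨r, a, b, c, d⟩ := dec2 hu hv hv' ho
  rw [h, sub_self] at c
  by_cases r0 : r = 0
  · obtain ⟨x, x1, x2, x3, x4⟩ := unit hF (one hv) (one hv') (.inl r0) ho a b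
    exact .inl ⟨x, ⟨x1, (d x x2 x3).trans x4, x2⟩, x3⟩
  obtain ⟨k, kk, rk, vk, vk'⟩ := hyp hF (one hv) (one hv') ho r0 c a b
  rcases h5.eq_or_lt with e | e
  · obtain ⟨g, gg, vg, vg', rg, -⟩ := fifth hF hv hv' ho c a b kk rk vk vk'
    obtain ⟨i, hi⟩ := (FiniteField.isSquare_neg_one_iff (F := F)).2 (by rw [← e]; decide)
    have x2 : v ⬝ᵥ (i • g) = 0 := by rw [dotProduct_smul, vg, smul_zero]
    have x3 : v' ⬝ᵥ (i • g) = 0 := by rw [dotProduct_smul, vg', smul_zero]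
    exact .inl ⟨i • g, ⟨by
      rw [dotProduct_smul, smul_dotProduct, gg, smul_eq_mul, smul_eq_mul]; linear_combination hi,
      (d _ x2 x3).trans (by rw [dotProduct_smul, rg, smul_zero]), x2⟩, x3⟩
  · obtain ⟨m, -, hm⟩ := Finset.exists_mem_notMem_of_card_lt_card
      (s := ({0, u ⬝ᵥ v, -(u ⬝ᵥ v), u ⬝ᵥ v', -(u ⬝ᵥ v')} : Finset F)) (t := Finset.univ)
      (Finset.card_le_five.trans_lt (by rwa [Finset.card_univ]))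
    simp only [Finset.mem_insert, Finset.mem_singleton, not_or] at hm
    obtain ⟨m0, m1, m2, m3, m4⟩ := hm
    have t2 := two hF
    have x2 : v ⬝ᵥ (m • k + (2 * m)⁻¹ • r) = 0 := by simp [vk, a]
    have x3 : v' ⬝ᵥ (m • k + (2 * m)⁻¹ • r) = 0 := by simp [vk', b]
    refine .inr ⟨m • k + (2 * m)⁻¹ • r, ⟨?_, x2, x3⟩, ?_⟩
    · simp only [dotProduct_add, add_dotProduct, dotProduct_smul, smul_dotProduct, smul_eq_mul, kk, rk,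
        dc rk, c]
      field_simp; ring
    · rw [d _ x2 x3, show r ⬝ᵥ (m • k + (2 * m)⁻¹ • r) = m by simp [rk, c]]
      exact ⟨fun e => (sq_eq_sq_iff_eq_or_eq_neg.1 (show m ^ 2 = (u ⬝ᵥ v') ^ 2 by
        linear_combination e - h)).elim m3 m4, fun e => (sq_eq_sq_iff_eq_or_eq_neg.1
        (show m ^ 2 = (u ⬝ᵥ v) ^ 2 by linear_combination e - h)).elim m1 m2⟩
end PS2

end H20.P4
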