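import Mathlib
import Cfsg.Agent.H20.PI0
import Cfsg.Agent.H20.PS2

set_option autoImplicit false
set_option linter.unusedVariables false
set_option linter.unusedSectionVars false

namespace H20.P4

open Cfsg Subgroup
open scoped MatrixGroups

universe u v w

namespace PS1x
open Finset PS2x
variable {F : Type*} [Field F] [Fintype F] [DecidableEq F]

local notation "χ" => quadraticChar F
local notation "𝐪" => (Fintype.card F : ℤ)

theorem ch2 (hF : Odd (Fintype.card F)) : ringChar F ≠ 2 := fun e => by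
  have := (FiniteField.even_card_iff_char_two (F := F)).1 e
  rw [Nat.odd_iff] at hF; omega

theorem sqrts (hF : Odd (Fintype.card F)) (a : F) : ∑ y : F, (if y ^ 2 = a then 1 else 0 : ℤ) = χ a + 1 := by
  rw [← quadraticChar_card_sqrts (ch2 hF), Set.toFinset_ofPred, card_filter]
  push_cast
  rfl

theorem sum_quad (hF : Odd (Fintype.card F)) {A C : F} (hA : A ≠ 0) (hC : C ≠ 0) :
    ∑ y : F, χ (A * y ^ 2 + C) = -χ A := by
  have h1 : ∑ y : F, χ (A * y ^ 2 + C) = ∑ a : F, (χ a + 1) * χ (A * a + C) := by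
    simp only [← sqrts hF, sum_mul, ite_mul, one_mul, zero_mul]
    rw [sum_comm]
    simp only [sum_ite_eq, mem_univ, if_true]
  have h2 : ∑ a : F, χ (A * a + C) = 0 := by
    rw [← quadraticChar_sum_zero (ch2 hF)]
    exact Fintype.sum_equiv ((Equiv.mulLeft₀ A hA).trans (Equiv.addRight C)) _ _ fun _ => rfl
  have h3 : ∑ a : F, χ a * χ (A * a + C) = ∑ t : F, χ (-A) * (χ t * χ (1 - t)) := by
    refine (Fintype.sum_equiv (Equiv.mulLeft₀ (-C / A) (div_ne_zero (neg_ne_zero.2 hC) hA)) _ _ fun t => ?_).symm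
    have := quadraticChar_sq_one' (div_ne_zero hC hA)
    rw [Equiv.mulLeft₀_apply, ← one_mul (χ (-A) * _), ← this, ← map_mul, ← map_mul, ← map_mul, ← map_mul]
    congr 1
    field_simp
    ring
  have h4 := jacobiSum_nontrivial_inv (quadraticChar_ne_one (ch2 hF))
  rw [(quadraticChar_isQuadratic F).inv, jacobiSum] at h4
  simp only [h1, add_mul, one_mul, sum_add_distrib, h2, h3, add_zero, ← mul_sum, h4, mul_neg]
  rw [← map_mul, neg_mul_neg, mul_one]

/-- the number of points of a conic -/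
def nn (α β c : F) : ℤ := ∑ y : F, ∑ z : F, if α * y ^ 2 + β * z ^ 2 = c then 1 else 0

theorem nn_eq (hF : Odd (Fintype.card F)) {α β : F} (hb : β ≠ 0) (c : F) :
    nn α β c = ∑ y : F, χ (-α / β * y ^ 2 + c / β) + 𝐪 := by
  have : ∀ y z : F, α * y ^ 2 + β * z ^ 2 = c ↔ z ^ 2 = -α / β * y ^ 2 + c / β := fun y z => by
    rw [← sub_eq_zero, ← sub_eq_zero (a := z ^ 2), ← mul_eq_zero_iff_left hb (b := z ^ 2 - _)]
    refine Eq.congr_left ?_
    field_simp
    ring
  simp only [nn, this, sqrts hF, sum_add_distrib, sum_const, card_univ, nsmul_eq_mul, mul_one]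

theorem nn_ne (hF : Odd (Fintype.card F)) {α β c : F} (ha : α ≠ 0) (hb : β ≠ 0) (hc : c ≠ 0) :
    nn α β c = 𝐪 - χ (-α / β) := by
  rw [nn_eq hF hb, sum_quad hF (div_ne_zero (neg_ne_zero.2 ha) hb) (div_ne_zero hc hb)]
  ring

theorem nn_zero (hF : Odd (Fintype.card F)) {α β : F} (hb : β ≠ 0) :
    nn α β 0 = 𝐪 + (𝐪 - 1) * χ (-α / β) := by
  have : ∀ y : F, χ (-α / β * y ^ 2 + 0 / β) = χ (-α / β) - if y = 0 then χ (-α / β) else 0 := fun y => by
    rw [zero_div, add_zero, map_mul]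
    split_ifs with h
    · simp [h]
    · rw [quadraticChar_sq_one' h, mul_one, sub_zero]
  simp only [nn_eq hF hb, this, sum_sub_distrib, sum_const, card_univ, nsmul_eq_mul, sum_ite_eq',
    mem_univ, if_true]
  ring

theorem card_T (α β : F) (S : Finset F) :
    (#{p : F × F × F | p.1 ∈ S ∧ α * p.2.1 ^ 2 + β * p.2.2 ^ 2 = 1 - p.1 ^ 2} : ℤ) =
      ∑ s ∈ S, nn α β (1 - s ^ 2) := by
  rw [card_filter]
  push_cast
  rw [Fintype.sum_prod_type, ← sum_filter_add_sum_filter_not univ (· ∈ S), filter_mem_eq_inter, univ_inter,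
    sum_eq_zero (s := filter _ _) (fun s hs => by simp [(mem_filter.1 hs).2]), add_zero]
  exact sum_congr rfl fun s hs => by simp only [hs, true_and, Fintype.sum_prod_type, nn]

theorem tot (hF : Odd (Fintype.card F)) {α β : F} (ha : α ≠ 0) (hb : β ≠ 0) :
    ∑ s : F, nn α β (1 - s ^ 2) ≤ 𝐪 ^ 2 + 𝐪 := by
  have : ∀ s : F, nn α β (1 - s ^ 2) = 𝐪 - χ (-α / β) + 𝐪 * χ (-α / β) * if s ^ 2 = 1 then 1 else 0 :=
    fun s => by
      split_ifs with h
      · rw [h, sub_self, nn_zero hF hb]; ring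
      · rw [nn_ne hF ha hb (sub_ne_zero.2 (Ne.symm h))]; ring
  simp only [this, sum_add_distrib, ← mul_sum, sqrts hF, sum_const, card_univ, nsmul_eq_mul, map_one]
  have h0 : (0 : ℤ) ≤ 𝐪 := by positivity
  rcases quadraticChar_dichotomy (div_ne_zero (neg_ne_zero.2 ha) hb) with e | e <;> rw [e] <;> nlinarith

open Classical in
/-- the admissible inner products -/
noncomputable def SS (F : Type*) [Field F] [Fintype F] : Finset F :=
  univ.filter fun s => s = 0 ∨ ¬ IsSquare (s ^ 2 - 1)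

theorem mem_SS {s : F} : s ∈ SS F ↔ s = 0 ∨ ¬ IsSquare (s ^ 2 - 1) := by simp [SS]

theorem SS_ne {s : F} (h : s ∈ SS F) : 1 - s ^ 2 ≠ 0 := fun e => by
  rcases mem_SS.1 h with rfl | h
  · simp at e
  · exact h ⟨0, by linear_combination -e⟩

theorem card_SS (hF : Odd (Fintype.card F)) (h5 : 5 ≤ Fintype.card F) :
    𝐪 ^ 2 + 𝐪 < 3 * (#(SS F) * (𝐪 - 1) + 1) := by
  have h1 := sum_quad hF (A := 1) (C := -1) one_ne_zero (neg_ne_zero.2 one_ne_zero)
  have : ∀ s : F, χ (1 * s ^ 2 + -1) = 1 - (if s ^ 2 = 1 then 1 else 0) -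
      2 * if χ (s ^ 2 - 1) = -1 then 1 else 0 := fun s => by
    rw [one_mul, ← sub_eq_add_neg]
    by_cases h : s ^ 2 = 1
    · simp [h]
    · rcases quadraticChar_dichotomy (sub_ne_zero.2 h) with e | e <;> simp [e, h]
  simp only [this, sum_sub_distrib, ← mul_sum, sqrts hF, sum_const, card_univ, nsmul_eq_mul, map_one,
    sum_boole] at h1
  have l : ({s | χ (s ^ 2 - 1) = -1} : Finset F) ⊆ SS F := fun s hs =>
    mem_SS.2 (.inr (quadraticChar_neg_one_iff_not_isSquare.1 (mem_filter.1 hs).2))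
  have h2 := card_le_card l
  by_cases h : Fintype.card F = 5
  · have h3 : ({s | χ (s ^ 2 - 1) = -1} : Finset F) ⊂ SS F := Finset.ssubset_iff_subset_ne.2 ⟨l, fun e => by
      have := (mem_filter.1 (e.ge (mem_SS.2 (.inl rfl)))).2
      rw [quadraticChar_neg_one_iff_not_isSquare, zero_pow two_ne_zero, zero_sub,
        FiniteField.isSquare_neg_one_iff, h] at this
      exact this (by decide)⟩
    have h4 := card_lt_card h3
    rw [h] at h1 ⊢
    push_cast at h1 ⊢
    omega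
  · obtain ⟨r, hr⟩ := hF
    have h6 : (7 : ℤ) ≤ 𝐪 := by omega
    have h7 : 𝐪 - 1 ≤ 2 * #(SS F) := by omega
    nlinarith

omit [DecidableEq F] in
theorem basis (hF : Odd (Fintype.card F)) {u v w : Fin 5 → F} (hu : u ⬝ᵥ u = 1) (hv : v ⬝ᵥ v = 1)
    (ht : (u ⬝ᵥ v) ^ 2 ≠ 1) (hw : CN u v w) : ∃ (α β : F) (g : F × F × F → Fin 5 → F), α ≠ 0 ∧ β ≠ 0 ∧
      Function.Injective g ∧ (∀ p, w ⬝ᵥ g p = p.1) ∧
      (∀ p, CN u v (g p) ↔ α * p.2.1 ^ 2 + β * p.2.2 ^ 2 = 1 - p.1 ^ 2) ∧ ∀ x, CN u v x → ∃ p, g p = x := by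
  obtain ⟨ww, uw, vw⟩ := hw
  have z := fun a : Fin 5 → F => dotProduct_zero a
  obtain ⟨b, hb, ub, bw, hx⟩ : ∃ b : Fin 5 → F, b ⬝ᵥ b ≠ 0 ∧ u ⬝ᵥ b = 0 ∧ b ⬝ᵥ w = 0 ∧
      ∀ x, u ⬝ᵥ x = 0 → (b ⬝ᵥ x = 0 ↔ v ⬝ᵥ x = 0) := by
    refine ⟨v - (u ⬝ᵥ v) • u, fun e => ht ?_, ?_, ?_, fun x hx => ?_⟩ <;>
      simp only [dotProduct_sub, sub_dotProduct, dotProduct_smul, smul_dotProduct, smul_eq_mul, hu, hv, uw, vw,
        dotProduct_comm v u] at *
    · linear_combination -e
    · ring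
    · ring
    · rw [hx, mul_zero, sub_zero]
  have w0 : w ⬝ᵥ w ≠ 0 := ww ▸ one_ne_zero
  have u0 : u ⬝ᵥ u ≠ 0 := hu ▸ one_ne_zero
  obtain ⟨c, hc, uc, bc, wc, -⟩ := ext hF (.inr u0) (.inr hb) (.inr w0) (.inl rfl) ub uw (z _) bw (z _) (z _)
  obtain ⟨d, hd, ud, bd, wd, cd⟩ := ext hF (.inr u0) (.inr hb) (.inr w0) (.inr hc) ub uw uc bw bc wc
  have vc := (hx c uc).1 bc
  have vd := (hx d ud).1 bd
  have full : ∀ x, u ⬝ᵥ x = 0 → b ⬝ᵥ x = 0 → w ⬝ᵥ x = 0 → c ⬝ᵥ x = 0 → d ⬝ᵥ x = 0 → x = 0 :=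
    fun x h1 h2 h3 h4 h5 => by
      refine Matrix.eq_zero_of_mulVec_eq_zero (M := Matrix.of ![u, b, w, c, d]) (fun e => ?_) ?_
      · have := gram ub uw uc ud bw bc bd wc wd cd
        rw [e, zero_pow two_ne_zero] at this
        exact mul_ne_zero (mul_ne_zero (mul_ne_zero (mul_ne_zero u0 hb) w0) hc) hd this.symm
      · ext i
        fin_cases i
        exacts [h1, h2, h3, h4, h5]
  refine ⟨c ⬝ᵥ c, d ⬝ᵥ d, fun p => p.1 • w + p.2.1 • c + p.2.2 • d, hc, hd, fun p p' e => ?_, fun p => ?_,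
    fun p => ?_, fun x hx' => ⟨(w ⬝ᵥ x, c ⬝ᵥ x / c ⬝ᵥ c, d ⬝ᵥ x / d ⬝ᵥ d), (sub_eq_zero.1 (full _ ?_ ?_ ?_ ?_ ?_))⟩⟩
  · have e1 := congrArg (w ⬝ᵥ ·) e
    have e2 := congrArg (c ⬝ᵥ ·) e
    have e3 := congrArg (d ⬝ᵥ ·) e
    simp only [dotProduct_add, dotProduct_smul, smul_eq_mul, ww, wc, wd, cd, dc wc, dc wd, dc cd, mul_zero,
      add_zero, zero_add, mul_one, mul_left_inj' hc, mul_left_inj' hd] at e1 e2 e3
    exact Prod.ext e1 (Prod.ext e2 e3)
  · simp only [dotProduct_add, dotProduct_smul, smul_eq_mul, ww, wc, wd, mul_zero, add_zero, mul_one]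
  · simp only [CN, dotProduct_add, add_dotProduct, dotProduct_smul, smul_dotProduct, smul_eq_mul, ww, wc, wd,
      cd, dc wc, dc wd, dc cd, uw, uc, ud, vw, vc, vd, mul_zero, add_zero, zero_add, mul_one, and_true]
    exact ⟨fun e => by linear_combination e, fun e => by linear_combination e⟩
  all_goals
    simp only [dotProduct_sub, dotProduct_add, dotProduct_smul, smul_eq_mul, ww, wc, wd, cd, dc wc, dc wd,
      dc cd, uw, uc, ud, bw, bc, bd, hx'.2.1, (hx x hx'.2.1).2 hx'.2.2, mul_zero, add_zero, zero_add, mul_one,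
      sub_self, div_mul_cancel₀ _ hc, div_mul_cancel₀ _ hd]

open Classical in
theorem card_U (hF : Odd (Fintype.card F)) {u v w : Fin 5 → F} (hu : u ⬝ᵥ u = 1) (hv : v ⬝ᵥ v = 1)
    (ht : (u ⬝ᵥ v) ^ 2 ≠ 1) (hw : CN u v w) : (#{x | CN u v x} : ℤ) ≤ 𝐪 ^ 2 + 𝐪 := by
  obtain ⟨α, β, g, ha, hb, -, -, h3, h4⟩ := basis hF hu hv ht hw
  refine le_trans ?_ (tot hF ha hb)
  rw [← card_T α β univ]
  exact_mod_cast card_le_card_of_surjOn g fun x hx => by
    obtain ⟨p, rfl⟩ := h4 x (by simpa using hx)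
    exact ⟨p, by simpa using (h3 p).1 (by simpa using hx), rfl⟩

open Classical in
theorem card_C (hF : Odd (Fintype.card F)) {u v w : Fin 5 → F} (hu : u ⬝ᵥ u = 1) (hv : v ⬝ᵥ v = 1)
    (ht : (u ⬝ᵥ v) ^ 2 ≠ 1) (hw : CN u v w) :
    #(SS F) * (𝐪 - 1) ≤ (#{x | OE u v w x} : ℤ) := by
  obtain ⟨α, β, g, ha, hb, h1, h2, h3, -⟩ := basis hF hu hv ht hw
  have h5 : ∑ s ∈ SS F, (𝐪 - 1) ≤ ∑ s ∈ SS F, nn α β (1 - s ^ 2) := sum_le_sum fun s hs => by
    rw [nn_ne hF ha hb (SS_ne hs)]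
    rcases quadraticChar_dichotomy (div_ne_zero (neg_ne_zero.2 ha) hb) with e | e <;> rw [e] <;> omega
  rw [sum_const, nsmul_eq_mul, ← card_T] at h5
  refine h5.trans ?_
  exact_mod_cast card_le_card_of_injOn g (fun p hp => by
    have hp' := (mem_filter.1 (mem_coe.1 hp)).2
    exact mem_coe.2 (mem_filter.2 ⟨mem_univ _, hw, (h3 p).2 hp'.2, by rw [h2]; exact mem_SS.1 hp'.1⟩)) h1.injOn

omit [Fintype F] [DecidableEq F] in
theorem OE_symm {u v a b : Fin 5 → F} (h : OE u v a b) : OE u v b a :=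
  ⟨h.2.1, h.1, dotProduct_comm a b ▸ h.2.2⟩

omit [Fintype F] [DecidableEq F] in
theorem R_symm {u v a b : Fin 5 → F} (h : Relation.ReflTransGen (OE u v) a b) :
    Relation.ReflTransGen (OE u v) b a := by
  induction h with
  | refl => exact .refl
  | tail _ h ih => exact .head (OE_symm h) ih

omit [Fintype F] [DecidableEq F] in
theorem R_CN {u v a b : Fin 5 → F} (ha : CN u v a) (h : Relation.ReflTransGen (OE u v) a b) : CN u v b := by
  induction h with
  | refl => exact ha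
  | tail _ h _ => exact h.2.1

end PS1x

open PS1x PS2x

/-! ### PS1 -/
section PS1
variable {F : Type*} [Field F] [Fintype F]
theorem conn3 (hF : Odd (Fintype.card F)) (h5 : 5 ≤ Fintype.card F) {u v w w' : Fin 5 → F}
    (hu : u ⬝ᵥ u = 1) (hv : v ⬝ᵥ v = 1) (ht : (u ⬝ᵥ v) ^ 2 ≠ 1) (hw : CN u v w) (hw' : CN u v w') :
    Relation.ReflTransGen (OE u v) w w' := by
  classical
  have c0 := card_SS hF h5
  have neg : ∀ a, CN u v a → Relation.ReflTransGen (OE u v) a (-a) := fun a ha => by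
    have h1 := card_C hF hu hv ht ha
    have h2 : (5 : ℤ) ≤ Fintype.card F := by omega
    obtain ⟨x, hx⟩ := Finset.card_pos.1 (show 0 < (Finset.univ.filter fun x => OE u v a x).card by
      convert (show (0 : ℤ) < _ from lt_of_lt_of_le (by nlinarith) h1) using 0
      exact (Int.natCast_pos).symm)
    have hx := (Finset.mem_filter.1 hx).2
    refine (Relation.ReflTransGen.single hx).tail (OE_symm ⟨⟨?_, ?_, ?_⟩, hx.2.1, ?_⟩)
    · rw [neg_dotProduct_neg, ha.1]
    · rw [dotProduct_neg, ha.2.1, neg_zero]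
    · rw [dotProduct_neg, ha.2.2, neg_zero]
    · rw [neg_dotProduct, neg_eq_zero, neg_sq]
      exact hx.2.2
  have big : ∀ a, CN u v a → ((SS F).card : ℤ) * (Fintype.card F - 1) + 1 ≤
      (Finset.univ.filter fun x => Relation.ReflTransGen (OE u v) a x).card := fun a ha => by
    have h1 := card_C hF hu hv ht ha
    have h2 := Finset.card_lt_card (show (Finset.univ.filter fun x => OE u v a x) ⊂
        Finset.univ.filter fun x => Relation.ReflTransGen (OE u v) a x from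
      Finset.ssubset_iff_subset_ne.2 ⟨fun x hx => Finset.mem_filter.2 ⟨Finset.mem_univ _,
        .single (Finset.mem_filter.1 hx).2⟩, fun e => by
          have := (Finset.mem_filter.1 (e.ge (Finset.mem_filter.2 ⟨Finset.mem_univ a, .refl⟩))).2.2.2
          rw [ha.1] at this
          simp at this⟩)
    have h3 : ((SS F).card : ℤ) * (Fintype.card F - 1) ≤ (Finset.univ.filter fun x => OE u v a x).card := by
      convert h1
    omega
  have key : ∀ w', CN u v w' → (w - w') ⬝ᵥ (w - w') ≠ 0 → Relation.ReflTransGen (OE u v) w w' :=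
    fun w' hw' hp => by
    by_contra hn
    have up : u ⬝ᵥ (w - w') = 0 := by rw [dotProduct_sub, hw.2.1, hw'.2.1, sub_zero]
    have vp : v ⬝ᵥ (w - w') = 0 := by rw [dotProduct_sub, hw.2.2, hw'.2.2, sub_zero]
    have e1 : (w - w') ⬝ᵥ (w - w') = 2 * ((w - w') ⬝ᵥ w) := by
      simp only [dotProduct_sub, sub_dotProduct, hw.1, hw'.1, dotProduct_comm w' w]; ring
    have e2 : (w - w') ⬝ᵥ (w - w') = -2 * ((w - w') ⬝ᵥ w') := by
      simp only [dotProduct_sub, sub_dotProduct, hw.1, hw'.1, dotProduct_comm w' w]; ring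
    have e3 : w - (w - w') = w' := by abel
    have e4 : w' + (w - w') = w := by abel
    generalize w - w' = p at hp up vp e1 e2 e3 e4
    let r : (Fin 5 → F) → Fin 5 → F := fun x => x - (2 * (p ⬝ᵥ x) / p ⬝ᵥ p) • p
    have r1 : ∀ x y, r x ⬝ᵥ r y = x ⬝ᵥ y := fun x y => by
      simp only [r, dotProduct_sub, sub_dotProduct, dotProduct_smul, smul_dotProduct, smul_eq_mul,
        dotProduct_comm x p]
      field_simp
      ring
    have r2 : ∀ x, CN u v x → CN u v (r x) := fun x hx =>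
      ⟨(r1 x x).trans hx.1, by simp [r, hx.2.1, up], by simp [r, hx.2.2, vp]⟩
    have r3 : ∀ x y, Relation.ReflTransGen (OE u v) x y → Relation.ReflTransGen (OE u v) (r x) (r y) :=
      fun x y h => h.lift r fun a b hab => ⟨r2 a hab.1, r2 b hab.2.1, (r1 a b).symm ▸ hab.2.2⟩
    have r4 : r w = w' := by simp only [r]; rw [← e1, div_self hp, one_smul, e3]
    have r5 : r w' = w := by
      simp only [r]
      rw [show 2 * (p ⬝ᵥ w') = -(p ⬝ᵥ p) by linear_combination e2, neg_div, div_self hp, neg_smul, one_smul,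
        sub_neg_eq_add, e4]
    obtain ⟨x, xx, ux, bx, px⟩ := unit hF (a := u) (b := v - (u ⬝ᵥ v) • u) (c := p) (.inr (hu ▸ one_ne_zero))
      (.inr fun e => ht (by
        simp only [dotProduct_sub, sub_dotProduct, dotProduct_smul, smul_dotProduct, smul_eq_mul, hu, hv,
          dotProduct_comm v u] at e
        linear_combination -e)) (.inr hp) (by simp [hu]) up (by simp [up, vp])
    have hx : CN u v x := ⟨xx, ux, by simpa [ux] using bx⟩
    have r6 : r x = x := by simp [r, px]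
    have n1 : ¬ Relation.ReflTransGen (OE u v) w x := fun h =>
      hn (h.trans (R_symm (by simpa only [r4, r6] using r3 _ _ h)))
    have n2 : ¬ Relation.ReflTransGen (OE u v) w' x := fun h =>
      n1 (by simpa only [r5, r6] using r3 _ _ h)
    have dj : ∀ a b, ¬ Relation.ReflTransGen (OE u v) a b →
        Disjoint (Finset.univ.filter fun x => Relation.ReflTransGen (OE u v) a x)
          (Finset.univ.filter fun x => Relation.ReflTransGen (OE u v) b x) := fun a b h =>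
      Finset.disjoint_left.2 fun y h1 h2 =>
        h ((Finset.mem_filter.1 h1).2.trans (R_symm (Finset.mem_filter.1 h2).2))
    have sb : ∀ a, CN u v a → (Finset.univ.filter fun x => Relation.ReflTransGen (OE u v) a x) ⊆
        Finset.univ.filter fun x => CN u v x := fun a ha y hy =>
      Finset.mem_filter.2 ⟨Finset.mem_univ _, R_CN ha (Finset.mem_filter.1 hy).2⟩
    have k1 := Finset.card_le_card (Finset.union_subset (Finset.union_subset (sb w hw) (sb w' hw')) (sb x hx))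
    rw [Finset.card_union_of_disjoint (Finset.disjoint_union_left.2 ⟨dj _ _ n1, dj _ _ n2⟩),
      Finset.card_union_of_disjoint (dj _ _ hn)] at k1
    have k2 : ((Finset.univ.filter fun x => CN u v x).card : ℤ) ≤ Fintype.card F ^ 2 + Fintype.card F := by
      convert card_U hF hu hv ht hw
    have b1 := big w hw
    have b2 := big w' hw'
    have b3 := big x hx
    omega
  by_cases hp : (w - w') ⬝ᵥ (w - w') = 0
  · have hn : CN u v (-w') := R_CN hw' (neg w' hw')
    refine (key (-w') hn fun e => ?_).trans (R_symm (neg w' hw'))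
    simp only [dotProduct_sub, sub_dotProduct, dotProduct_neg, neg_dotProduct, hw.1, hw'.1,
      dotProduct_comm w' w] at e hp
    exact mul_ne_zero (two hF) (two hF) (by linear_combination e + hp)
  · exact key w' hw' hp
end PS1

end H20.P4
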