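import Mathlib
import Cfsg.Agent.H20.PI0
import Cfsg.Agent.H20.PS1
import Cfsg.Agent.H20.PS2

set_option autoImplicit false
set_option linter.unusedVariables false
set_option linter.unusedSectionVars false

namespace H20.P4

open Cfsg Subgroup
open scoped MatrixGroups

universe u v w

namespace PS3x
variable {F : Type*} [Field F] [Fintype F] {U : Type*} {adj' : U → U → Prop} {π : U → Sph F}

/-- the quadrangle `u, w, v, w'` lifts to closed paths -/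
def Cl (adj' : U → U → Prop) (π : U → Sph F) (u v w w' : Fin 5 → F) : Prop :=
  ∀ a b b' c c', (π a).1 = u → (π b).1 = w → (π b').1 = w' → (π c).1 = v → (π c').1 = v →
    adj' a b → adj' b c → adj' a b' → adj' b' c' → c = c'

variable (h : IsCover Sph.adj adj' π)
include h

theorem lift (a : U) {w : Fin 5 → F} (hw : w ⬝ᵥ w = 1) (e : (π a).1 ⬝ᵥ w = 0) :
    ∃ b, adj' a b ∧ (π b).1 = w :=
  let ⟨b, b1, b2⟩ := h.lift a ⟨w, hw⟩ e; ⟨b, b1, congrArg Subtype.val b2⟩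

theorem orth {u v w w' : Fin 5 → F} (e : w ⬝ᵥ w' = 0) : Cl adj' π u v w w' := by
  rintro a b b' c c' rfl rfl rfl rfl e' ab bc ab' bc'
  have := h.map _ _ bc'
  rw [Subtype.ext e'] at this
  exact h.uniq b' c c' (h.tri b b' c (h.tri a b b' ab ab' e) bc this) bc' (Subtype.ext e').symm

theorem trans {u v w x w' : Fin 5 → F} (hx : CN u v x) (h1 : Cl adj' π u v w x)
    (h2 : Cl adj' π u v x w') : Cl adj' π u v w w' := by
  rintro a b b' c c' rfl rfl rfl rfl e' ab bc ab' bc'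
  obtain ⟨d, d1, d2⟩ := lift h a hx.1 hx.2.1
  obtain ⟨g, g1, g2⟩ := lift h d (π c).2 (by rw [d2, dotProduct_comm]; exact hx.2.2)
  exact (h1 a b d c g rfl rfl d2 rfl g2 ab bc d1 g1).trans (h2 a d b' g c' rfl d2 rfl g2 e' d1 g1 ab' bc')

theorem swap {u v w w' : Fin 5 → F} (h1 : Cl adj' π w w' u v) : Cl adj' π u v w w' := by
  rintro a b b' c c' rfl rfl rfl rfl e' ab bc ab' bc'
  have := h.map _ _ (h.symm _ _ bc')
  rw [Subtype.ext e'] at this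
  obtain ⟨d, d1, d2⟩ := h.lift c _ this
  obtain rfl := h1 b a c b' d rfl rfl rfl rfl (congrArg Subtype.val d2) (h.symm _ _ ab) ab' bc d1
  exact h.uniq _ c c' (h.symm _ _ d1) bc' (Subtype.ext e').symm

theorem chain (hF : Odd (Fintype.card F)) (h5 : 5 ≤ Fintype.card F) {u v w w' : Fin 5 → F}
    (hu : u ⬝ᵥ u = 1) (hv : v ⬝ᵥ v = 1) (ht : (u ⬝ᵥ v) ^ 2 ≠ 1) (hw : CN u v w) (hw' : CN u v w')
    (k : ∀ a b, CN u v a → CN u v b → ¬ IsSquare ((a ⬝ᵥ b) ^ 2 - 1) → Cl adj' π u v a b) :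
    Cl adj' π u v w w' := by
  have := conn3 hF h5 hu hv ht hw hw'
  clear hw'
  induction this with
  | refl =>
    rintro a b b' c c' rfl rfl e1 rfl e' ab bc ab' bc'
    obtain rfl := h.uniq a b b' ab ab' (Subtype.ext e1).symm
    exact h.uniq b c c' bc bc' (Subtype.ext e').symm
  | tail _ s ih => exact trans h s.1 ih (s.2.2.elim (orth h) (k _ _ s.1 s.2.1))

omit h in
theorem cn_sw {u v w w' : Fin 5 → F} (hu : u ⬝ᵥ u = 1) (hv : v ⬝ᵥ v = 1) (hw : CN u v w)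
    (hw' : CN u v w') : CN w w' u ∧ CN w w' v :=
  ⟨⟨hu, dotProduct_comm u w ▸ hw.2.1, dotProduct_comm u w' ▸ hw'.2.1⟩,
    hv, dotProduct_comm v w ▸ hw.2.2, dotProduct_comm v w' ▸ hw'.2.2⟩

variable (hF : Odd (Fintype.card F)) (h5 : 5 ≤ Fintype.card F)
include hF h5

theorem stA {u v w w' : Fin 5 → F} (hu : u ⬝ᵥ u = 1) (hv : v ⬝ᵥ v = 1)
    (ht : ¬ IsSquare ((u ⬝ᵥ v) ^ 2 - 1)) (hw : CN u v w) (hw' : CN u v w') : Cl adj' π u v w w' :=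
  chain h hF h5 hu hv (fun e => ht (by rw [e, sub_self]; exact IsSquare.zero)) hw hw' fun a b ha hb k => by
    obtain ⟨x, x1, x2⟩ := cn4 hF hu hv ha hb ht k
    exact trans h x1 (orth h x2.2.1) (orth h (dotProduct_comm b x ▸ x2.2.2))

theorem stC {u v w w' : Fin 5 → F} (hu : u ⬝ᵥ u = 1) (hv : v ⬝ᵥ v = 1)
    (ht : (u ⬝ᵥ v) ^ 2 ≠ 1) (hw : CN u v w) (hw' : CN u v w') : Cl adj' π u v w w' :=
  chain h hF h5 hu hv ht hw hw' fun a b ha hb k =>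
    swap h (stA h hF h5 ha.1 hb.1 k (cn_sw hu hv ha hb).1 (cn_sw hu hv ha hb).2)

theorem stD {u v w w' : Fin 5 → F} (hu : u ⬝ᵥ u = 1) (hv : v ⬝ᵥ v = 1) (hw : CN u v w)
    (hw' : CN u v w') : Cl adj' π u v w w' := by
  have k : ∀ {a b}, CN u v a → CN u v b → (a ⬝ᵥ b) ^ 2 ≠ 1 → Cl adj' π u v a b := fun ha hb k =>
    swap h (stC h hF h5 ha.1 hb.1 k (cn_sw hu hv ha hb).1 (cn_sw hu hv ha hb).2)
  by_cases h1 : (u ⬝ᵥ v) ^ 2 = 1
  · by_cases h2 : (w ⬝ᵥ w') ^ 2 = 1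
    · obtain ⟨x, x1, x2, x3⟩ := third hF h5 hu hv hw hw' h1 h2
      exact trans h x1 (k hw x1 x2) (k x1 hw' x3)
    · exact k hw hw' h2
  · exact stC h hF h5 hu hv h1 hw hw'

theorem uniq2 {a b b' c c' : U} (ab : adj' a b) (bc : adj' b c) (ab' : adj' a b') (bc' : adj' b' c')
    (e : π c' = π c) : c = c' :=
  stD h hF h5 (π a).2 (π c).2 ⟨(π b).2, h.map _ _ ab, h.map _ _ (h.symm _ _ bc)⟩
    ⟨(π b').2, h.map _ _ ab', e ▸ h.map _ _ (h.symm _ _ bc')⟩ a b b' c c' rfl rfl rfl rfl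
    (congrArg Subtype.val e) ab bc ab' bc'

theorem step1 {a y y' : U} (s : ∃ b, adj' a b ∧ adj' b y) (e : adj' y y')
    (k : ∃ x, CN (π a).1 (π y).1 x ∧ (π y').1 ⬝ᵥ x = 0) : ∃ b, adj' a b ∧ adj' b y' := by
  obtain ⟨b, b1, b2⟩ := s
  obtain ⟨x, x1, x2⟩ := k
  obtain ⟨d, d1, rfl⟩ := lift h a x1.1 x1.2.1
  obtain ⟨c, c1, c2⟩ := h.lift d (π y) (dotProduct_comm (π y).1 _ ▸ x1.2.2 :)
  obtain rfl := uniq2 h hF h5 b1 b2 d1 c1 c2
  exact ⟨d, d1, h.tri y d y' (h.symm _ _ c1) e (dotProduct_comm (π y').1 _ ▸ x2 :)⟩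

theorem step {a y y' : U} (s : ∃ b, adj' a b ∧ adj' b y) (e : adj' y y') :
    ∃ b, adj' a b ∧ adj' b y' := by
  have k : ∀ {y y'}, (∃ b, adj' a b ∧ adj' b y) → adj' y y' →
      ((π a).1 ⬝ᵥ (π y).1) ^ 2 + ((π a).1 ⬝ᵥ (π y').1) ^ 2 ≠ 1 → ∃ b, adj' a b ∧ adj' b y' :=
    fun s e k => step1 h hF h5 s e (cn3 hF (π _).2 (π _).2 (π _).2 (h.map _ _ e) k)
  by_cases h1 : ((π a).1 ⬝ᵥ (π y).1) ^ 2 + ((π a).1 ⬝ᵥ (π y').1) ^ 2 = 1
  · rcases five hF h5 (π a).2 (π y).2 (π y').2 (h.map _ _ e) h1 with k1 | ⟨x, x1, x2, x3⟩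
    · exact step1 h hF h5 s e k1
    · obtain ⟨z, z1, rfl⟩ := lift h y x1.1 x1.2.1
      exact k (k s z1 x2) (h.tri y z y' z1 e (dotProduct_comm (π y').1 _ ▸ x1.2.2 :)) x3
  · exact k s e h1

end PS3x

/-! ### PS3 -/
section PS3
variable {F : Type*} [Field F] [Fintype F]
theorem sph_conn (hF : Odd (Fintype.card F)) (x y : Sph F) : Relation.ReflTransGen Sph.adj x y := by
  obtain ⟨w, hw⟩ := cn2 hF x.2 y.2
  exact (Relation.ReflTransGen.single (b := (⟨w, hw.1⟩ : Sph F)) hw.2.1).tail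
    (dotProduct_comm y.1 w ▸ hw.2.2 :)
theorem sph_sc (hF : Odd (Fintype.card F)) (h5 : 5 ≤ Fintype.card F) {U : Type*}
    (adj' : U → U → Prop) (π : U → Sph F) (h : IsCover Sph.adj adj' π) (x y : U)
    (hxy : Relation.ReflTransGen adj' x y) (e : π x = π y) : x = y := by
  obtain ⟨w, hw⟩ := cn2 hF (π x).2 (π x).2
  obtain ⟨b, b1, -⟩ := PS3x.lift h x hw.1 hw.2.1
  obtain ⟨c, c1, c2⟩ : ∃ c, adj' x c ∧ adj' c y := by
    clear e
    induction hxy with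
    | refl => exact ⟨b, b1, h.symm _ _ b1⟩
    | tail _ s ih => exact PS3x.step h hF h5 ih s
  exact PS3x.uniq2 h hF h5 b1 (h.symm _ _ b1) c1 c2 e.symm
end PS3

end H20.P4
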