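import Mathlib
import Cfsg.Agent.H20.PI0
import Cfsg.Agent.H20.PIT
import Cfsg.Agent.H20.PS3
import Cfsg.Agent.H20.PIM
import Cfsg.Agent.S0246
import Cfsg.Agent.S0270

set_option autoImplicit false
set_option linter.unusedVariables false
set_option linter.unusedSectionVars false

namespace H20.P4

open Cfsg Subgroup
open scoped MatrixGroups

universe u v w

/-! ### PIG -/
section PIG
variable {F : Type*} [Field F] [Fintype F]
theorem ident0 {G : Type*} [Group G] (hF : Odd (Fintype.card F)) (h5 : 5 ≤ Fintype.card F)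
    (ψ1 ψ2 : SL(2, F) →* G) (hc : ∀ a b, ψ1 a * ψ2 b = ψ2 b * ψ1 a)
    (hz : ψ1 (-1) * ψ2 (-1) = 1) (hne : ψ1 (-1) ≠ 1) (i j : SL(2, F)) (hi : i * i = -1)
    (hj : j * j = -1) (hij : i * j = -(j * i)) (s : G) (hs2 : s * s = 1)
    (hsK : ∀ a b : SL(2, F), (j.1 - (i * j).1) * a.1 = b.1 * (j.1 - (i * j).1) →
      s * (ψ1 a * ψ2 a) * s⁻¹ = ψ1 b * ψ2 b)
    (hb : (s * (ψ1 (i * j) * ψ2 j)) ^ 3 = 1) :
    Nonempty (closure ((ψ1.range : Set G) ∪ (ψ2.range : Set G) ∪ {s}) ≃* Cfsg.PSp 2 F) := by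
  obtain ⟨A, v0, v1, v2, ι, σ, a1, a2, a3, a4, inj, hr, a5, a6, a7, a8, a9, a10, a11, a12, a13, a14,
    a15, a16⟩ := model hF i j hi hj hij
  let e := (MonoidHom.ofInjective inj).trans (MulEquiv.subgroupCongr hr)
  let φ := (ψ1.noncommCoprod ψ2 hc).comp e.symm.toMonoidHom
  have st : ∀ a, ι a • v0 = v0 := fun a => (e a).2
  have key : ∀ a b (k : MulAction.stabilizer _ v0), k.1 = ι (a, b) → φ k = ψ1 a * ψ2 b :=
    fun a b k h => by
      rw [show k = e (a, b) from Subtype.ext h]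
      exact congrArg (ψ1.noncommCoprod ψ2 hc) (e.symm_apply_apply _)
  have k1 : ∀ k : MulAction.stabilizer _ v0, k.1 = 1 ∨ k.1 = ι (-1, -1) → φ k = 1 := fun k h =>
    h.elim (fun h => by rw [show k = 1 from Subtype.ext h, map_one]) fun h => (key _ _ k h).trans hz
  obtain ⟨c, Φ, b1, b2⟩ := tits Sph.adj a1 (fun x y h => (dotProduct_comm _ _).trans h) a2 a3 a4 a6 a7 a8
    (st _) a9 a10 (fun x h => let ⟨a, b, k⟩ := a11 x h; ⟨_, st _, k⟩)
    (fun x h h' => let ⟨a, k⟩ := a12 x h h'; ⟨_, st _, k⟩) (sph_conn hF v0)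
    (fun U adj' π h x y => sph_sc hF h5 adj' π h x y) φ s (fun k k' h h' => by
      obtain ⟨⟨a, b⟩, rfl⟩ := e.surjective k
      obtain rfl := a5 a b h
      obtain ⟨b, h1, h2⟩ := a13 a
      rw [key b b k' (h'.trans h2), key a a _ rfl, hsK a b h1])
    (fun k h => by rw [hs2, k1 k (h ▸ a14)])
    (fun k t h h' => by rw [key _ _ t h, hb, k1 k (h' ▸ a15)])
  have b3 : ∀ a b, Φ (ι (a, b)) = ψ1 a * ψ2 b := fun a b => (b1 ⟨_, st _⟩).trans (key a b _ rfl)
  have cz : center _ ≤ Φ.ker := fun g hg => by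
    have h2 := Cfsg.Agent.S0246.result (F := F) rfl 2 (by norm_num)
    obtain ⟨n, hn⟩ := hF
    rw [hn, Nat.add_sub_cancel, Nat.gcd_mul_right_right] at h2
    obtain ⟨u, -, u2⟩ := (Nat.card_eq_two_iff' (1 : center _)).1 h2
    by_cases k : g = 1
    · rw [k]; exact one_mem _
    have := (u2 ⟨g, hg⟩ fun e => k (congrArg Subtype.val e)).trans (u2 ⟨_, a16⟩ fun e => hne (by
      rw [(Prod.mk.inj (inj ((congrArg Subtype.val e).trans ι.map_one.symm))).1, map_one])).symm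
    rw [show g = _ from congrArg Subtype.val this]
    exact (b3 _ _).trans hz
  have := Cfsg.Agent.S0270.result (F := F) 2 le_rfl fun _ => by omega
  let Ψ : Cfsg.PSp 2 F →* G := QuotientGroup.lift _ Φ cz
  have hΨ : Function.Injective Ψ := (MonoidHom.ker_eq_bot_iff Ψ).1
    (Ψ.normal_ker.eq_bot_or_eq_top.resolve_right fun h => hne (by
      have : Ψ (QuotientGroup.mk (ι (-1, 1))) = 1 := h.ge (mem_top _)
      rwa [QuotientGroup.lift_mk, b3, map_one, mul_one] at this))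
  refine ⟨(MulEquiv.subgroupCongr (le_antisymm ((closure_le _).2 ?_) ?_)).trans
    (MonoidHom.ofInjective hΨ).symm⟩
  · rintro _ ((⟨a, rfl⟩ | ⟨a, rfl⟩) | rfl)
    · exact ⟨QuotientGroup.mk (ι (a, 1)), (b3 _ _).trans (by rw [map_one, mul_one])⟩
    · exact ⟨QuotientGroup.mk (ι (1, a)), (b3 _ _).trans (by rw [map_one, one_mul])⟩
    · exact ⟨QuotientGroup.mk σ, b2⟩
  · rintro _ ⟨g, rfl⟩
    obtain ⟨g, rfl⟩ := QuotientGroup.mk_surjective g
    refine mem_comap.1 ((closure_le (comap Φ _)).2 ?_ (c.ge (mem_top g)))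
    rintro k (h | rfl)
    · obtain ⟨⟨a, b⟩, rfl⟩ := hr.ge h
      exact mem_comap.2 (b3 a b ▸ mul_mem (subset_closure (.inl (.inl ⟨a, rfl⟩)))
        (subset_closure (.inl (.inr ⟨b, rfl⟩))))
    · exact mem_comap.2 (b2 ▸ subset_closure (.inr rfl))
end PIG


end H20.P4
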