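import Mathlib
import Cfsg.Agent.H20.P0
import Cfsg.Agent.H20.PI1
import Cfsg.Agent.H20.PI2
import Cfsg.Agent.H20.PIG
import Cfsg.Agent.H20.PHO

set_option autoImplicit false
set_option linter.unusedVariables false
set_option linter.unusedSectionVars false

namespace H20.P4

open Cfsg Subgroup
open scoped MatrixGroups

universe u

variable {m : ℕ} {G : Type u} [Group G] [Finite G]

/-! ### PI3 -/
section PI3
theorem Emb.PW.concl_L [IsSimpleGroup G] {E : Emb m G} {F : Type} [Field F] [Fintype F]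
    {ψ : SL(2, F) →* E.C} (hW : E.PW) (hL : E.cen.CaseL F ψ) (hU : E.cen.CU ψ) : Concl G := by
  obtain ⟨i, j, hi, hj, hij, -⟩ := hL.exists_ij
  obtain ⟨s, hs, h1, h2, hK⟩ := hW.exists_s hL hi hj hij
  have hb := hW.braid hL hi hj hij hs h1 h2 hK
  have uu : E.u * E.u = 1 := by rw [← map_mul, W.u_mul_u, map_one]
  have ui : E.u⁻¹ = E.u := inv_eq_of_mul_eq_one_right uu
  have uC : E.u ∈ E.C := E.mem_C _
  have zz : E.z * E.z = 1 := by rw [← map_mul, W.z_mul_z, map_one]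
  have z1 : E.z ≠ 1 := fun e => W.z_ne_one (E.inj (e.trans (map_one _).symm))
  have cz : ∀ c ∈ E.C, c * E.z * c⁻¹ = E.z := fun c hc => by
    rw [mem_centralizer_singleton_iff.1 hc]; group
  let ψ1 : SL(2, F) →* G := E.C.subtype.comp ψ
  let ψ2 : SL(2, F) →* G := (MulAut.conj E.u).toMonoidHom.comp ψ1
  have e2 : ∀ a, ψ2 a = E.u * ψ a * E.u := fun a => by
    change E.u * _ * E.u⁻¹ = _
    rw [ui]; rfl
  have n1 : ψ1 (-1) = E.z := congrArg Subtype.val hL.neg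
  obtain ⟨e⟩ := ident0 hL.odd hL.five ψ1 ψ2 (fun a b => by
      rw [e2]; exact congrArg Subtype.val (hL.pn.comm _ ⟨a, rfl⟩ _ ⟨b, rfl⟩))
    (by
      change ψ1 (-1) * (E.u * ψ1 (-1) * E.u⁻¹) = 1
      rw [n1, cz _ uC, zz]) (n1 ▸ z1) i j hi hj hij s hs
    (fun a b h => by rw [e2, e2]; exact hK a b h) (by rw [e2]; exact hb)
  set X : Set G := (ψ1.range : Set G) ∪ (ψ2.range : Set G) with hX
  set R := closure (X ∪ {s})
  have hXR : ∀ x ∈ X, x ∈ R := fun x hx => subset_closure (Or.inl hx)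
  have hsR : s ∈ R := subset_closure (Or.inr rfl)
  have hXC : ∀ x ∈ X, x ∈ E.C := by
    rintro _ (⟨a, rfl⟩ | ⟨a, rfl⟩)
    · exact (ψ a).2
    · rw [e2]; exact mul_mem (mul_mem uC (ψ a).2) uC
  have n0 : ∀ c ∈ E.C, ∀ a, c * ψ a * c⁻¹ ∈ X := fun c hc a => by
    rcases hL.pn.norm ⟨c, hc⟩ with h | h
    · obtain ⟨b, e⟩ := h _ ⟨a, rfl⟩
      exact Or.inl ⟨b, congrArg Subtype.val e⟩
    · obtain ⟨b, e⟩ := h _ ⟨a, rfl⟩
      refine Or.inr ⟨b, ?_⟩
      have e' : (ψ b : G) = E.u * (c * ψ a * c⁻¹) * E.u := congrArg Subtype.val e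
      rw [e2, e', ← mul_assoc, ← mul_assoc, uu, one_mul, mul_assoc, uu, mul_one]
  have nX : ∀ c ∈ E.C, ∀ x ∈ X, c * x * c⁻¹ ∈ X := by
    rintro c hc _ (⟨a, rfl⟩ | ⟨a, rfl⟩)
    · exact n0 c hc a
    · have := n0 _ (mul_mem hc uC) a
      rw [e2]
      convert this using 1
      rw [mul_inv_rev, ui]; group
  have sw : ∀ c ∈ E.C, ∃ r' ∈ R, ∃ c' ∈ E.C, c * s = r' * c' := fun c hc => by
    obtain ⟨B, e⟩ := hU ⟨c, hc⟩
    have e' : c * E.u * c⁻¹ = ψ B * E.u * (ψ B : G)⁻¹ := congrArg Subtype.val e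
    refine ⟨ψ B * s, mul_mem (hXR _ (Or.inl ⟨B, rfl⟩)) hsR, (ψ B * s)⁻¹ * (c * s),
      mem_centralizer_singleton_iff.2 ?_, by group⟩
    calc (ψ B * s)⁻¹ * (c * s) * E.z
        = (ψ B * s)⁻¹ * (c * (s * E.z * s⁻¹) * c⁻¹) * (c * s) := by group
      _ = s⁻¹ * (s * E.z * s⁻¹) * (ψ B : G)⁻¹ * (c * s) := by rw [h1, e']; group
      _ = _ := by group
  have key : ∀ r ∈ R, ∀ c ∈ E.C, ∃ r' ∈ R, ∃ c' ∈ E.C, c * r = r' * c' := by
    intro r hr
    induction hr using closure_induction'' with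
    | mem x hx =>
      intro c hc
      rcases hx with hx | rfl
      · exact ⟨1, one_mem _, _, mul_mem hc (hXC x hx), (one_mul _).symm⟩
      · exact sw c hc
    | inv_mem x hx =>
      intro c hc
      rcases hx with hx | rfl
      · exact ⟨1, one_mem _, _, mul_mem hc (inv_mem (hXC x hx)), (one_mul _).symm⟩
      · rw [inv_eq_of_mul_eq_one_right hs]; exact sw c hc
    | one => exact fun c hc => ⟨1, one_mem _, c, hc, by rw [one_mul, mul_one]⟩
    | mul x y _ _ hx hy =>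
      intro c hc
      obtain ⟨r1, a1, c1, a2, e1⟩ := hx c hc
      obtain ⟨r2, a3, c2, a4, e2⟩ := hy c1 a2
      exact ⟨r1 * r2, mul_mem a1 a3, c2, a4, by rw [← mul_assoc, e1, mul_assoc, e2, mul_assoc]⟩
  let Y : Subgroup G := closure {y | ∃ r ∈ R, ∃ x ∈ X, y = r * x * r⁻¹}
  have hYR : Y ≤ R := (closure_le _).2 (by
    rintro _ ⟨r, hr, x, hx, rfl⟩
    exact mul_mem (mul_mem hr (hXR x hx)) (inv_mem hr))
  have nY : ∀ g : G, (∀ r ∈ R, ∃ r' ∈ R, ∃ c' ∈ E.C, g * r = r' * c') →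
      ∀ y ∈ Y, g * y * g⁻¹ ∈ Y := fun g hg y hy => by
    refine (show Y ≤ Y.comap (MulAut.conj g).toMonoidHom from (closure_le _).2 ?_) hy
    rintro _ ⟨r, hr, x, hx, rfl⟩
    obtain ⟨r', a1, c', a2, e⟩ := hg r hr
    refine subset_closure ⟨r', a1, _, nX c' a2 x hx, ?_⟩
    change g * (r * x * r⁻¹) * g⁻¹ = _
    calc g * (r * x * r⁻¹) * g⁻¹ = (g * r) * x * (g * r)⁻¹ := by group
      _ = _ := by rw [e]; group
  have zX : E.z ∈ X := Or.inl ⟨-1, n1⟩
  have sim : IsSimpleGroup R := by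
    have := Cfsg.Agent.S0270.result (F := F) 2 le_rfl (fun _ => by have := hL.five; omega)
    exact e.isSimpleGroup
  have hRY : R ≤ Y := by
    have hn : (Y.subgroupOf R).Normal := ⟨fun y hy r =>
      nY r (fun r' hr' => ⟨_, mul_mem r.2 hr', 1, one_mem _, (mul_one _).symm⟩) y hy⟩
    rcases hn.eq_bot_or_eq_top with h | h
    · have : (⟨E.z, hXR _ zX⟩ : R) ∈ Y.subgroupOf R :=
        subset_closure ⟨1, one_mem _, E.z, zX, by simp⟩
      rw [h] at this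
      exact (z1 (congrArg Subtype.val (mem_bot.1 this))).elim
    · exact subgroupOf_eq_top.1 h
  have hC : E.C ≤ normalizer (R : Set G) := le_normalizer_iff.2 fun c hc r hr =>
    hYR (nY c (fun r hr => key r hr c hc) r (hRY hr))
  by_cases hM : normalizer (R : Set G) = ⊤
  · have hn : R.Normal := normalizer_eq_top_iff.1 hM
    rcases hn.eq_bot_or_eq_top with h | h
    · exact (z1 (mem_bot.1 (h ▸ hXR _ zX))).elim
    · exact Or.inl ⟨F, inferInstance, inferInstance, hL.odd,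
        ⟨(topEquiv.symm.trans (MulEquiv.subgroupCongr h.symm)).trans e⟩⟩
  refine Or.inr (Or.inr (E.holt hM hC (fun x hx => ?_)
    ⟨W.y m, W.y_mul_y, fun e => hh_ne (congrArg W.j e), hW.not_Z_y⟩))
  rcases (hW x).1 hx with rfl | h
  · exact ⟨1, one_mem _, by simp⟩
  obtain ⟨d, rfl⟩ := isConj_iff.1 h
  refine ⟨s * (E.f d)⁻¹, mul_mem (le_normalizer hsR) (inv_mem (hC (E.mem_C d))), ?_⟩
  rw [← h2, map_mul, map_mul, map_inv]; group
end PI3

end H20.P4
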