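import Mathlib
import Cfsg.Agent.H20.P0
import Cfsg.Agent.H20.PO1
import Cfsg.Agent.H20.PFR
import Cfsg.Agent.H26.GBase

set_option autoImplicit false
set_option linter.unusedVariables false
set_option linter.unusedSectionVars false

namespace H20.P4

open Cfsg Subgroup
open scoped MatrixGroups

universe u

variable {m : ℕ} {G : Type u} [Group G] [Finite G]

namespace PO2x
open H24 H26.Gold

theorem mem_C2 {a b g : G} : g ∈ centralizer ({a, b} : Set G) ↔ g * a = a * g ∧ g * b = b * g := by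
  simp only [mem_centralizer_iff, Set.mem_insert_iff, Set.mem_singleton_iff, forall_eq_or_imp, forall_eq]
  exact ⟨fun h => ⟨h.1.symm, h.2.symm⟩, fun h => ⟨h.1.symm, h.2.symm⟩⟩

theorem mem_C1' {a g : G} : g ∈ centralizer ({a} : Set G) ↔ g * a = a * g :=
  mem_centralizer_singleton_iff

theorem odd_inf {P : Subgroup G} (hP : Odd (Nat.card P)) (K : Subgroup G) : Odd (Nat.card ↥(P ⊓ K)) :=
  hP.of_dvd_nat (card_dvd_of_le inf_le_left)

theorem odd_ord {P : Subgroup G} (hP : Odd (Nat.card P)) {p : G} (hp : p ∈ P) : Odd (orderOf p) :=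
  hP.of_dvd_nat (P.orderOf_dvd_natCard hp)

theorem conj_C {a g p : G} (hg : g * a = a * g) (hp : p * a = a * p) :
    g * p * g⁻¹ * a = a * (g * p * g⁻¹) := by
  have h : g⁻¹ * a = a * g⁻¹ := by
    rw [inv_mul_eq_iff_eq_mul, ← mul_assoc, hg, mul_inv_cancel_right]
  rw [mul_assoc, h, ← mul_assoc, mul_assoc g, hp, ← mul_assoc, hg, mul_assoc a, mul_assoc a]

/-- an odd element `h a h⁻¹ a` has a square root `s` with `h a h⁻¹ = s a s⁻¹` -/
theorem key1 {a h : G} (ha : a * a = 1) (ho : Odd (orderOf (h * a * h⁻¹ * a))) :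
    ∃ s ∈ zpowers (h * a * h⁻¹ * a), s⁻¹ * h * a = a * (s⁻¹ * h) := by
  obtain ⟨n, hn⟩ := ho
  set w := h * a * h⁻¹ * a with hw
  have ai : a⁻¹ = a := inv_eq_of_mul_eq_one_right ha
  have h1 : a * w * a⁻¹ = w⁻¹ := by
    rw [hw, ai]
    calc a * (h * a * h⁻¹ * a) * a = a * (h * a * h⁻¹) * (a * a) := by group
      _ = a⁻¹ * (h * a⁻¹ * h⁻¹) := by rw [ha, ai, mul_one]
      _ = _ := by group
  have h2 : a * w ^ (n + 1) * a⁻¹ = (w ^ (n + 1))⁻¹ := by rw [← conj_pow, h1, inv_pow]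
  have h3 : w ^ (n + 1) * w ^ (n + 1) = w := by
    rw [← pow_add, show n + 1 + (n + 1) = 2 * n + 1 + 1 by ring, ← hn, pow_succ, pow_orderOf_eq_one,
      one_mul]
  refine ⟨w ^ (n + 1), npow_mem_zpowers _ _, ?_⟩
  generalize w ^ (n + 1) = s at h2 h3
  have h4 : h * a * h⁻¹ = s * s * a := by
    rw [h3, hw, mul_assoc (h * a * h⁻¹), ha, mul_one]
  have h5 : a * s⁻¹ = s * a := by
    rw [← h2, ai, ← mul_assoc, ← mul_assoc, ha, one_mul]
  calc s⁻¹ * h * a = s⁻¹ * (h * a * h⁻¹) * h := by group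
    _ = s * a * h := by rw [h4]; group
    _ = _ := by rw [← h5, mul_assoc]

theorem key2 {E : Emb m G} (hH : E.ZH) {a b : G} (h : E.Pair a b) {P : Subgroup G}
    (hP : Odd (Nat.card P)) (hc : P ≤ centralizer {a, b})
    (hn : ∀ g ∈ centralizer ({a, b} : Set G), ∀ p ∈ P, g * p * g⁻¹ ∈ P) : P ≤ OC (a * b) := by
  have a2 := (E.Z_sq h.za).1
  let H4 : Subgroup G := closure {x | x * (a * b) = a * b * x ∧ Odd (orderOf x)}
  have h4 : H4 ≤ C{a * b} := (closure_le _).2 fun x hx => mem_C1'.2 hx.1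
  have hN : C{a * b} ≤ N[H4] := fun g hg => mem_N_of_cj_le (by
    rw [cj_le_iff]
    refine (closure_le _).2 fun x hx => ?_
    refine mem_cj.2 (subset_closure ?_)
    rw [inv_inv]
    exact ⟨conj_C (mem_C1'.1 hg) hx.1, by
      rw [show g * x * g⁻¹ = MulAut.conj g x from rfl, MulEquiv.orderOf_eq]; exact hx.2⟩)
  have hX : centralizer ({a, b} : Set G) ≤ C{a * b} := fun g hg => by
    obtain ⟨h1, h2⟩ := mem_C2.1 hg
    exact mem_C1'.2 (by rw [← mul_assoc, h1, mul_assoc, h2, mul_assoc])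
  have hO : C{a * b} ≤ N[OC (a * b)] := fun g hg => mem_N_of_finite fun p hp => OC_norm (mem_C1'.1 hg) hp
  have hY : OddG (P ⊔ OC (a * b)) :=
    IsPi.sup' (oddG_iff.2 hP) (oddG_iff.2 (OC_odd _)) (hc.trans (hX.trans hO))
  have hle : P ⊔ OC (a * b) ≤ H4 := sup_le
    (fun p hp => subset_closure ⟨mem_C1'.1 (hX (hc hp)), odd_ord hP hp⟩)
    (fun p hp => subset_closure ⟨mem_C1'.1 (OC_le _ hp), odd_ord (OC_odd _) hp⟩)
  have hnm : H4 ≤ N[P ⊔ OC (a * b)] := (closure_le _).2 fun x hx => by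
    have hw := hH a b h x hx.1 hx.2
    obtain ⟨s, hs, e⟩ := key1 a2 (odd_ord (OC_odd _) hw)
    have hs' : s ∈ OC (a * b) := zpowers_le.2 hw hs
    have k1 : s⁻¹ * x ∈ C{a * b} := mul_mem (inv_mem (OC_le _ hs')) (mem_C1'.2 hx.1)
    have k2 : s⁻¹ * x ∈ centralizer ({a, b} : Set G) := mem_C2.2 ⟨e, by
      have := mem_C1'.1 k1
      rw [← mul_assoc, e, mul_assoc a, mul_assoc a] at this
      exact mul_left_cancel this⟩
    have k3 : s⁻¹ * x ∈ N[P ⊔ OC (a * b)] :=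
      norm_sup (zpowers_le.2 (mem_N_of_finite (hn _ k2))) (zpowers_le.2 (hO k1)) (mem_zpowers _)
    have := mul_mem (norm_self _ (le_sup_right (a := P) hs')) k3
    rwa [mul_inv_cancel_left] at this
  refine le_sup_left.trans ((pcore_max' hY hle hnm).trans (le_OC (oddG_iff.1 (Od_odd _))
    ((pcore_le _ _).trans h4) fun g hg p hp => conj_mem (norm_pcore _ hN (mem_C1'.2 hg)) hp))

end PO2x

open PO2x

/-! ### PO2 -/
section PO2
namespace Emb
variable {E : Emb m G}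
theorem PW.zb (hW : E.PW) {F : Type} [Field F] [Fintype F] {ψ : SL(2, F) →* E.Bar}
    (hL : E.bar.CaseL F ψ) : E.ZB := by
  intro a b h P hP hc hn
  obtain ⟨g, ha, hb⟩ := hW.pair_conj h
  let P' : Subgroup G := P.map (MulAut.conj g).toMonoidHom
  have hm : ∀ p, p ∈ P' ↔ g⁻¹ * p * g ∈ P := fun p => H24.mem_cj (H := P)
  have ea : a = g⁻¹ * E.z * g := by rw [← ha]; group
  have eb : b = g⁻¹ * E.u * g := by rw [← hb]; group
  have tr : ∀ c x : G, g⁻¹ * c * g * (g⁻¹ * x * g) = g⁻¹ * x * g * (g⁻¹ * c * g) ↔ c * x = x * c :=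
    fun c x => by
      rw [show g⁻¹ * c * g * (g⁻¹ * x * g) = g⁻¹ * (c * x) * g by group,
        show g⁻¹ * x * g * (g⁻¹ * c * g) = g⁻¹ * (x * c) * g by group, mul_left_inj, mul_right_inj]
  have h1 : ∀ p ∈ P', p * E.z = E.z * p ∧ p * E.u = E.u * p := fun p hp => by
    have := mem_C2.1 (hc ((hm p).1 hp))
    rwa [ea, eb, tr, tr] at this
  have h2 : ∀ c, c * E.z = E.z * c → c * E.u = E.u * c → ∀ p ∈ P', c * p * c⁻¹ ∈ P' := fun c k1 k2 p hp => by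
    have := hn (g⁻¹ * c * g) (mem_C2.2 (by rw [ea, eb, tr, tr]; exact ⟨k1, k2⟩)) _ ((hm p).1 hp)
    rw [hm]
    convert this using 1; group
  have hP' : Odd (Nat.card P') := hP.of_dvd_nat (card_map_dvd _ _)
  have h3 : (P'.subgroupOf E.C).map E.π = ⊥ := by
    refine hL.core_X _ ((hP'.of_dvd_nat (card_comap_dvd_of_injective _ _ E.C.subtype_injective)).of_dvd_nat
      (card_map_dvd _ _)) ?_ fun α p hp => ?_
    · rintro _ ⟨p, hp, rfl⟩
      refine mem_C1'.2 ?_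
      change E.π p * E.π (E.cen.f _) = E.π (E.cen.f _) * E.π p
      rw [← map_mul, ← map_mul]
      exact congrArg _ (Subtype.ext (h1 p hp).2)
    · obtain ⟨p, hp, rfl⟩ := hp
      obtain ⟨c, hc1, hc2⟩ := E.lift_cent (zpowers E.cen.u)
        (E.cen.S.isPGroup'.to_le (zpowers_le.2 (E.cen.mem _))) (hL.δ α) fun t ht => by
          obtain ⟨n, rfl⟩ := mem_zpowers_iff.1 ht
          rw [map_zpow]
          exact (Commute.zpow_right (hL.δ_u α) n).eq
      refine ⟨c * p * c⁻¹, h2 c (mem_C1'.1 c.2)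
        (congrArg Subtype.val (hc2 _ (mem_zpowers _))) p hp, by rw [map_mul, map_mul, map_inv, hc1]⟩
  intro p hp
  have k1 : g * p * g⁻¹ ∈ P' := (hm _).2 (by simpa [mul_assoc] using hp)
  have k2 : E.π ⟨_, mem_C1'.2 (h1 _ k1).1⟩ = 1 := mem_bot.1 (h3 ▸ mem_map_of_mem E.π k1)
  have : g * p * g⁻¹ ∈ OC E.z := E.π_eq_one.1 k2
  rw [← ha] at this
  exact (OC_conj g).1 this

theorem Pair.symm' {a b : G} (h : E.Pair a b) : E.Pair b a := ⟨h.zb, h.za, h.ne.symm, h.comm.symm⟩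

theorem ZB.b0 (hB : E.ZB) {a b : G} (h : E.Pair a b) : OC a ⊓ centralizer {b} ≤ OC b :=
  hB b a h.symm' _ (odd_inf (OC_odd a) _)
    (fun p hp => mem_C2.2 ⟨mem_C1'.1 hp.2, mem_C1'.1 (OC_le _ hp.1)⟩) fun g hg p hp =>
      ⟨OC_norm (mem_C2.1 hg).2 hp.1, mem_C1'.2 (conj_C (mem_C2.1 hg).1 (mem_C1'.1 hp.2))⟩

theorem ZB.b2 (hB : E.ZB) {a b : G} (h : E.Pair a b) : OC (a * b) ⊓ centralizer {a} ≤ OC a :=
  hB a b h _ (odd_inf (OC_odd _) _)
    (fun p hp => mem_C2.2 ⟨mem_C1'.1 hp.2, by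
      have := mem_C1'.1 (OC_le _ hp.1)
      rw [← mul_assoc, mem_C1'.1 hp.2, mul_assoc a, mul_assoc a] at this
      exact mul_left_cancel this⟩) fun g hg p hp =>
      ⟨OC_norm (by rw [← mul_assoc, (mem_C2.1 hg).1, mul_assoc, (mem_C2.1 hg).2, mul_assoc]) hp.1,
        mem_C1'.2 (conj_C (mem_C2.1 hg).1 (mem_C1'.1 hp.2))⟩

theorem ZH.b1' (hH : E.ZH) {a b : G} (h : E.Pair a b) : OC a ⊓ centralizer {a * b} ≤ OC (a * b) :=
  key2 hH h (odd_inf (OC_odd _) _)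
    (fun p hp => mem_C2.2 ⟨mem_C1'.1 (OC_le _ hp.1), by
      have := mem_C1'.1 hp.2
      rw [← mul_assoc, mem_C1'.1 (OC_le _ hp.1), mul_assoc a, mul_assoc a] at this
      exact mul_left_cancel this⟩) fun g hg p hp =>
      ⟨OC_norm (mem_C2.1 hg).1 hp.1, mem_C1'.2 (conj_C
        (by rw [← mul_assoc, (mem_C2.1 hg).1, mul_assoc, (mem_C2.1 hg).2, mul_assoc]) (mem_C1'.1 hp.2))⟩

theorem ZB.b1 (hB : E.ZB) (hH : E.ZH) {ζ : Fin 5 → G} (h : E.Frame ζ) (k : Fin 5) {t : G}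
    (ht : t ∈ FG ζ) (h1 : t ≠ 1) : OC (ζ k) ⊓ centralizer {t} ≤ OC t := by
  rcases h.mem ht with e | ⟨l, rfl⟩ | ⟨l, j, hlj, rfl⟩
  · exact absurd e h1
  · by_cases e : k = l
    · exact e ▸ inf_le_left
    · exact hB.b0 (h.pair e)
  by_cases e : k = l
  · subst e
    exact hH.b1' (h.pair hlj)
  intro r hr
  have hw := hH _ _ (h.pair hlj) r (mem_C1'.1 hr.2) (odd_ord (OC_odd _) hr.1)
  have a2 := (E.Z_sq (h.z l)).1
  obtain ⟨s, hs, e1⟩ := key1 a2 (odd_ord (OC_odd _) hw)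
  have hs1 : s ∈ OC (ζ l * ζ j) := zpowers_le.2 hw hs
  have hs2 : s ∈ OC (ζ k) := zpowers_le.2 (by
    have := mul_mem hr.1 (OC_norm (h.comm l k) (inv_mem hr.1))
    rwa [inv_eq_of_mul_eq_one_right a2, ← mul_assoc, ← mul_assoc] at this) hs
  have k1 : s⁻¹ * r ∈ OC (ζ l) := hB.b0 (h.pair e) ⟨(OC _).mul_mem ((OC _).inv_mem hs2) hr.1, mem_C1'.2 e1⟩
  have := mul_mem hs1 (hH.b1' (h.pair hlj) ⟨k1, Subgroup.mul_mem _ (Subgroup.inv_mem _ (OC_le _ hs1)) hr.2⟩)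
  rwa [mul_inv_cancel_left] at this
end Emb
end PO2


end H20.P4
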