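import Mathlib
import Cfsg.Agent.H20.P0
import Cfsg.Agent.H20.PO2
import Cfsg.Agent.H20.PF9
import Cfsg.Agent.H1.KSG

set_option autoImplicit false
set_option linter.unusedVariables false
set_option linter.unusedSectionVars false

namespace H20.P4

open Cfsg Subgroup
open scoped MatrixGroups

universe u

variable {m : ℕ} {G : Type u} [Group G] [Finite G]

/-! ### PO3 -/
section PO3
namespace PO3x

section
variable {E : Emb m G} {F : Type} [Field F] [Fintype F] {ψ : SL(2, F) →* G}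

theorem uu (E : Emb m G) : E.u * E.u = 1 := by rw [← map_mul, W.u_mul_u, map_one]
theorem zz (E : Emb m G) : E.z * E.z = 1 := by rw [← map_mul, W.z_mul_z, map_one]
theorem ui (E : Emb m G) : E.u⁻¹ = E.u := inv_eq_of_mul_eq_one_right (uu E)
theorem z1 (E : Emb m G) : E.z ≠ 1 := fun e => W.z_ne_one (E.inj (e.trans (map_one _).symm))

theorem odd_one {x : G} (ho : Odd (orderOf x)) (h : x = 1 ∨ x = E.z) : x = 1 := by
  rcases h with h | h
  · exact h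
  · refine H1.KS.eq_one_of_conj_inv (y := 1) (by simp) ho ?_
    rw [one_mul, inv_one, mul_one, eq_inv_iff_mul_eq_one, h, zz]

theorem comm_of_inv {ρ x : G} (ho : Odd (orderOf ρ)) (h : ρ * x * ρ⁻¹ = x⁻¹) :
    ρ * x * ρ⁻¹ = x := by
  have h1 : ρ * ρ ∈ centralizer {x} := H24.mem_C1_iff_conj.2 (by
    calc ρ * ρ * x * (ρ * ρ)⁻¹ = ρ * (ρ * x * ρ⁻¹) * ρ⁻¹ := by group
      _ = ρ * x⁻¹ * ρ⁻¹ := by rw [h]
      _ = (ρ * x * ρ⁻¹)⁻¹ := by group
      _ = x := by rw [h, inv_inv])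
  obtain ⟨k, hk⟩ := H1.KS.exists_sqrt ho
  refine H24.mem_C1_iff_conj.1 ?_
  rw [← hk, ← (Commute.refl ρ).mul_pow]
  exact pow_mem h1 k

theorem both (h : E.CaseL F ψ) {a b : SL(2, F)} (e : ψ a = E.u * ψ b * E.u) :
    ψ a = 1 ∨ ψ a = E.z := h.pn.inf _ ⟨_, rfl⟩ ⟨b, by
  rw [e, ← mul_assoc, ← mul_assoc, uu, one_mul, mul_assoc, uu, mul_one]⟩

theorem fix (h : E.CaseL F ψ) {ρ : G} (ho : Odd (orderOf ρ)) {α : MulAut SL(2, F)}
    (hα : ∀ a, ρ * ψ a * ρ⁻¹ = ψ (α a)) {k : SL(2, F)} (hk : k * k = -1)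
    (hc : ρ * h.δ k = h.δ k * ρ) : α k = k := by
  obtain ⟨β, -, hβ⟩ := h.aut_of_odd (g := E.u * ρ * E.u⁻¹) (by rwa [H24.orderOf_conj])
  have h1 : ψ (α k) * (E.u * ψ (β k) * E.u) = ψ k * (E.u * ψ k * E.u) := by
    rw [← hα, ← hβ, ← h.δ_apply, ← mul_inv_eq_iff_eq_mul.2 hc, h.δ_apply]
    calc ρ * ψ k * ρ⁻¹ * (E.u * (E.u * ρ * E.u⁻¹ * ψ k * (E.u * ρ * E.u⁻¹)⁻¹) * E.u)
        = ρ * ψ k * ρ⁻¹ * (E.u * E.u) * ρ * E.u⁻¹ * ψ k * E.u * ρ⁻¹ := by group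
      _ = _ := by rw [uu, ui]; group
  have h2 : ψ (k⁻¹ * α k) = E.u * ψ (k * (β k)⁻¹) * E.u := by
    rw [map_mul, map_mul, map_inv, map_inv]
    calc (ψ k)⁻¹ * ψ (α k) = (ψ k)⁻¹ * (ψ (α k) * (E.u * ψ (β k) * E.u)) *
          (E.u⁻¹ * (ψ (β k))⁻¹ * E.u⁻¹) := by group
      _ = E.u * ψ k * (ψ (β k))⁻¹ * E.u⁻¹ := by rw [h1]; group
      _ = _ := by rw [ui]; group
  rcases both h h2 with h3 | h3
  · exact (inv_mul_eq_one.1 (h.inj (h3.trans (map_one _).symm))).symm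
  · have h4 : α k = k⁻¹ := by
      have := h.inj (h3.trans h.neg.symm)
      rw [inv_mul_eq_iff_eq_mul, ← hk] at this
      rw [this, eq_inv_iff_mul_eq_one, mul_assoc, mul_assoc, ← mul_assoc k, hk]; simp
    have h5 := hα k
    rw [h4, map_inv] at h5
    exact h.inj ((hα k).symm.trans (comm_of_inv ho h5))

theorem δ_eq (h : E.CaseL F ψ) {i j : SL(2, F)} (hi : i * i = -1) (hj : j * j = -1) :
    ψ i * E.u * (ψ i)⁻¹ * (ψ j * E.u * (ψ j)⁻¹) = h.δ (i * j) ∧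
      E.u * (ψ i * E.u * (ψ i)⁻¹) * E.z = h.δ i := by
  have c := fun a b => h.pn.comm _ ⟨a, rfl⟩ _ ⟨b, rfl⟩
  have inv : ∀ {a : SL(2, F)}, a * a = -1 → (ψ a)⁻¹ = ψ a * E.z := fun {a} ha => by
    rw [inv_eq_iff_mul_eq_one, ← mul_assoc, ← map_mul, ha, h.neg, zz]
  have cz := h.pn.cen
  constructor
  · rw [h.δ_apply, inv hi, inv hj, map_mul]
    calc ψ i * E.u * (ψ i * E.z) * (ψ j * E.u * (ψ j * E.z))
        = ψ i * (E.u * ψ i * (E.z * (ψ j * E.u * ψ j)) * E.z) := by group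
      _ = ψ i * (E.u * (ψ i * ψ j) * E.u * ψ j) * (E.z * E.z) := by rw [← cz]; group
      _ = _ := by rw [zz, ← map_mul, ← c, map_mul]; group
  · rw [h.δ_apply, inv hi, c]
    calc E.u * (ψ i * E.u * (ψ i * E.z)) * E.z = E.u * ψ i * E.u * ψ i * (E.z * E.z) := by group
      _ = _ := by rw [zz, mul_one]
end

variable {E : Emb m G} {F : Type} [Field F] [Fintype F] {ψ : SL(2, F) →* E.Bar}

theorem core0 (hW : E.PW) (hL : E.bar.CaseL F ψ) {ζ : Fin 5 → G} (h : E.Frame ζ)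
    (e0 : ζ 0 = E.z) (e1 : ζ 1 = E.u) {a b : W m} (ha : a ∈ Q1 m) (hb : b ∈ Q1 m)
    (a2 : a * a = W.z m) (b2 : b * b = W.z m) (ab : a * b = b * a * W.z m)
    (e2 : ζ 2 = E.f (a * W.u m * a⁻¹)) (e3 : ζ 3 = E.f (b * W.u m * b⁻¹)) {x : G}
    (hx : x ∈ OC (ζ 2 * ζ 3) ⊓ centralizer {ζ 0})
    (hc : x ∈ centralizer {ζ 1 * ζ 2} ∨ Fintype.card F = 5) : x ∈ OC (ζ 0) := by
  have hB := hW.zb hL
  obtain ⟨i, hi⟩ := (hL.pn.mem a).2 ha
  obtain ⟨j, hj⟩ := (hL.pn.mem b).2 hb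
  have i2 : i * i = -1 := hL.inj (by rw [map_mul, hi, ← map_mul, a2, hL.neg])
  have j2 : j * j = -1 := hL.inj (by rw [map_mul, hj, ← map_mul, b2, hL.neg])
  have ij : i * j = -(j * i) := hL.inj (by
    rw [← mul_neg_one, map_mul, map_mul, map_mul, hi, hj, hL.neg, ← map_mul, ← map_mul,
      ← map_mul, ab])
  have k2 : i * j * (i * j) = -1 := by
    nth_rewrite 2 [ij]
    rw [mul_neg, mul_assoc, ← mul_assoc j, j2, neg_mul, one_mul, mul_neg, i2, neg_neg]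
  obtain ⟨d1, d2⟩ := δ_eq hL i2 j2
  let P : Subgroup G := OC (ζ 2 * ζ 3) ⊓ centralizer {ζ 0}
  have hP : Odd (Nat.card P) := H24.odd_of_le (OC_odd _) inf_le_left
  have hPC : P ≤ E.C := fun y hy => by have := hy.2; rwa [e0] at this
  have nP : ∀ c ∈ E.C, c * (ζ 2 * ζ 3) = ζ 2 * ζ 3 * c → ∀ y ∈ P, c * y * c⁻¹ ∈ P :=
    fun c h1 h2 y hy => mem_inf.2 ⟨OC_norm h2 hy.1, by
      rw [e0]; exact (mul_mem (mul_mem h1 (hPC hy)) (inv_mem h1) : _ ∈ E.C)⟩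
  let w : E.C := E.cen.f (a * W.u m * a⁻¹)
  let w' : E.C := E.cen.f (b * W.u m * b⁻¹)
  have hw : (w : G) = ζ 2 := e2.symm
  have hw' : (w' : G) = ζ 3 := e3.symm
  have πw : E.π w = ψ i * E.bar.u * (ψ i)⁻¹ := by rw [hi, ← map_inv, ← map_mul, ← map_mul]; rfl
  have πw' : E.π w' = ψ j * E.bar.u * (ψ j)⁻¹ := by rw [hj, ← map_inv, ← map_mul, ← map_mul]; rfl
  have s2 : ζ 2 * ζ 2 = 1 := (E.Z_sq (h.z 2)).1
  have odd : ∀ y : E.C, (y : G) ∈ P → Odd (orderOf (E.π y)) := fun y hy =>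
    (hP.of_dvd_nat (H24.orderOf_dvd_card' hy)).of_dvd_nat
      (by rw [orderOf_coe]; exact orderOf_map_dvd _ _)
  have inv : ∀ y : E.C, (y : G) ∈ P → E.π w * E.π y * E.π w = (E.π y)⁻¹ := fun y hy => by
    obtain ⟨c, h1, d, h2, h3, h4, h5⟩ := H1.KS.dec_inv hP s2 (H24.mem_N_of_finite
      (nP _ (hw ▸ w.2) (by rw [mul_assoc, ← h.comm 2 3]))) hy
    have h6 : E.π ⟨c, hPC h1⟩ = 1 := E.π_eq_one.2 (by
      rw [← e0]
      exact hB.b0 (h.pair (by decide : (2 : Fin 5) ≠ 0)) ⟨hB.b2 (h.pair (by decide : (2 : Fin 5) ≠ 3))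
        ⟨h1.1, H24.mem_C1.2 h3.symm⟩, h1.2⟩)
    have h7 : y = ⟨c, hPC h1⟩ * ⟨d, hPC h2⟩ := Subtype.ext h5
    rw [h7, map_mul, h6, one_mul, ← map_mul E.π, ← map_mul E.π, ← map_inv]
    exact congrArg E.π (Subtype.ext (by change (w : G) * d * w = d⁻¹; rw [hw, h4]))
  let X : E.C := ⟨x, hPC hx⟩
  obtain ⟨α, oα, hα⟩ := hL.aut_of_odd (odd X hx)
  have hk : α (i * j) = i * j := fix hL (odd X hx) hα k2 (by
    rw [← d1, ← πw, ← πw', ← map_mul E.π, ← map_mul E.π, ← map_mul E.π]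
    refine congrArg E.π (Subtype.ext ?_)
    change x * (w * w') = w * w' * x
    rw [hw, hw']; exact H24.mem_C1.1 (OC_le _ hx.1))
  have c := fun a b => hL.pn.comm _ ⟨a, rfl⟩ _ ⟨b, rfl⟩
  have sw : ∀ t, E.π w * ψ t * E.π w = E.bar.u * ψ (i⁻¹ * t * i) * E.bar.u := fun t => by
    rw [πw, map_mul, map_mul, map_inv]
    calc ψ i * E.bar.u * (ψ i)⁻¹ * ψ t * (ψ i * E.bar.u * (ψ i)⁻¹)
        = ψ i * (E.bar.u * ψ (i⁻¹ * t * i) * E.bar.u) * (ψ i)⁻¹ := by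
          rw [map_mul, map_mul, map_inv]; group
      _ = _ := by rw [c, map_mul, map_mul, map_inv]; group
  have h1 : α = 1 := by
    rcases hc with hc | hc
    swap
    · exact aut_fix5 hc α oα k2 hk
    refine aut_fix hL.odd hL.five α i2 k2 (by
      rw [← mul_assoc, i2]
      nth_rewrite 1 [ij]
      rw [neg_mul, neg_mul, neg_neg, mul_assoc, i2]; simp)
      (fix hL (odd X hx) hα i2 ?_) fun t ht => ?_
    · have h2 : E.π X * (E.bar.u * E.π w) = E.bar.u * E.π w * E.π X := by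
        change _ * (E.π (E.cen.f _) * _) = E.π (E.cen.f _) * _ * _
        rw [← map_mul E.π, ← map_mul E.π, ← map_mul E.π]
        refine congrArg E.π (Subtype.ext ?_)
        change x * (E.u * w) = E.u * w * x
        rw [hw, ← e1]; exact H24.mem_C1.1 hc
      rw [← d2, ← πw, ← mul_assoc, h2, mul_assoc, hL.pn.cen, ← mul_assoc]
    · have q2 : (w * w') * (w * w') = 1 := Subtype.ext (by
        change (w : G) * w' * (w * w') = 1
        rw [hw, hw']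
        nth_rewrite 1 [h.comm 2 3]
        rw [mul_assoc, ← mul_assoc (ζ 2), s2, one_mul, (E.Z_sq (h.z 3)).1])
      obtain ⟨c0, h2, h3⟩ := E.lift_cent (zpowers (w * w'))
        ((H1.KS.isPi_zpowers_inv q2).isPGroup Nat.prime_two) (ψ t) (by
          have : ψ t ∈ centralizer {E.π (w * w')} := H24.mem_C1.2 (by
            rw [map_mul, πw, πw', d1, hL.δ_apply, ← mul_assoc, ← map_mul, ht, map_mul, mul_assoc, c,
              map_mul]; group)
          rintro _ ⟨n, rfl⟩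
          rw [map_zpow]
          exact ((show Commute _ _ from H24.mem_C1.1 this).zpow_right n).eq)
      have h4 : ((X * (c0 * X⁻¹ * c0⁻¹) : E.C) : G) ∈ P := mul_mem hx (nP c0 c0.2 (by
        have := congrArg Subtype.val (h3 _ (mem_zpowers _))
        simpa only [Subgroup.coe_mul, hw, hw'] using this) _ (inv_mem hx))
      have h5 : E.π (X * (c0 * X⁻¹ * c0⁻¹)) = ψ (α t * t⁻¹) := by
        rw [map_mul ψ, ← hα, map_mul, map_mul, map_mul, map_inv, map_inv, map_inv, h2]; group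
      have h6 := inv _ h4
      have h7 := odd _ h4
      rw [h5] at h6 h7
      rw [sw, ← map_inv] at h6
      have h8 := odd_one (by rwa [map_inv, orderOf_inv]) (both hL h6.symm)
      rw [map_inv, inv_eq_one] at h8
      exact mul_inv_eq_one.1 (hL.inj (h8.trans (map_one _).symm))
  have c1 : ∀ t, E.π X * ψ t = ψ t * E.π X := fun t => by
    have := hα t
    rw [h1] at this
    exact mul_inv_eq_iff_eq_mul.1 this
  have ww : E.π w * E.π w = 1 := by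
    rw [← map_mul E.π, show w * w = 1 from Subtype.ext (by change (w : G) * w = 1; rw [hw, s2]), map_one]
  rw [e0]
  refine E.π_eq_one.1 (odd_one (odd X hx) (hL.pn.cent (E.π X) ?_ ?_))
  · rintro _ ⟨t, rfl⟩; exact c1 t
  · rintro _ ⟨t, rfl⟩
    have h2 := sw (i * t * i⁻¹)
    rw [show i⁻¹ * (i * t * i⁻¹) * i = t by group] at h2
    have h3 : E.π X = E.π w * (E.π X)⁻¹ * E.π w := by
      rw [← inv X hx, show E.π w * (E.π w * E.π X * E.π w) * E.π w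
        = (E.π w * E.π w) * E.π X * (E.π w * E.π w) by group, ww]; group
    have h4 : (E.π X)⁻¹ * ψ (i * t * i⁻¹) = ψ (i * t * i⁻¹) * (E.π X)⁻¹ :=
      (show Commute _ _ from c1 _).inv_left.eq
    rw [← h2]
    calc E.π X * (E.π w * ψ (i * t * i⁻¹) * E.π w)
        = E.π w * (E.π X)⁻¹ * (E.π w * E.π w) * ψ (i * t * i⁻¹) * E.π w := by
          nth_rewrite 1 [h3]; group
      _ = E.π w * ψ (i * t * i⁻¹) * (E.π w * E.π w) * (E.π X)⁻¹ * E.π w := by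
          rw [ww, mul_one, mul_one, mul_assoc (E.π w), h4]; group
      _ = _ := by nth_rewrite 2 [h3]; group

theorem core (hW : E.PW) (hL : E.bar.CaseL F ψ) {ζ : Fin 5 → G} (h : E.Frame ζ) {x : G}
    (hx : x ∈ OC (ζ 2 * ζ 3) ⊓ centralizer {ζ 0})
    (hc : x ∈ centralizer {ζ 1 * ζ 2} ∨ Fintype.card F = 5) : x ∈ OC (ζ 0) := by
  obtain ⟨g, e0, e1, a, ha, b, hb, a2, b2, ab, e2, e3⟩ := h.std hW
  have cj : ∀ {y : G}, x ∈ centralizer {y} → g * x * g⁻¹ ∈ centralizer {g * y * g⁻¹} := fun hy => by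
    rw [← H24.cj_C1]; exact H24.conj_mem_cj g hy
  have mul : ∀ y y' : G, g * y * g⁻¹ * (g * y' * g⁻¹) = g * (y * y') * g⁻¹ := fun _ _ => by group
  refine (OC_conj g).1 (core0 hW hL (h.conj g) e0 e1 ha hb a2 b2 ab e2 e3 ⟨?_, cj hx.2⟩
    (hc.imp_left fun hc => ?_))
  · rw [mul]; exact (OC_conj g).2 hx.1
  · rw [mul]; exact cj hc

end PO3x

namespace Emb
variable {E : Emb m G} {F : Type} [Field F] [Fintype F] {ψ : SL(2, F) →* E.Bar}
theorem PW.b3 (hW : E.PW) (hL : E.bar.CaseL F ψ) {ζ : Fin 5 → G} (h : E.Frame ζ) :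
    OC (ζ 2 * ζ 3) ⊓ centralizer {ζ 0} ⊓ centralizer {ζ 1 * ζ 2} ≤ OC (ζ 0) :=
  fun _ hx => PO3x.core hW hL h hx.1 (Or.inl hx.2)
theorem PW.b5 (hW : E.PW) (hL : E.bar.CaseL F ψ) (h5 : Fintype.card F = 5) {ζ : Fin 5 → G}
    (h : E.Frame ζ) : OC (ζ 2 * ζ 3) ⊓ centralizer {ζ 0} ≤ OC (ζ 0) :=
  fun _ hx => PO3x.core hW hL h hx (Or.inr h5)
end Emb
end PO3

end H20.P4
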