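import Mathlib
import Cfsg.Agent.H20.PI0
import Cfsg.Agent.H25.Flat
import Cfsg.Agent.H25.Sig
import Cfsg.Agent.H16.PSL2Max
import Cfsg.Agent.H7.SpSuSimple
import Cfsg.Agent.S0205
import Cfsg.Agent.S0217
import Cfsg.Agent.S0222

set_option autoImplicit false
set_option linter.unusedVariables false
set_option linter.unusedSectionVars false

namespace H20.P4

open Cfsg Subgroup
open scoped MatrixGroups

universe u v w

namespace PSGx
open H23 H25.Sg

variable {G : Type*} [Group G] [Finite G] {p : ℕ} [hp : Fact p.Prime]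

theorem loc_functor {k : ℕ} {A : Subgroup G}
    (hA : IsElementaryAbelian p A) (hAk : p ^ (k + 2) ≤ Nat.card A)
    (hb : ∀ D ≤ A, Nat.card D = p ^ k → ∀ b ∈ A, b ≠ 1 →
      signalizerDelta p D ⊓ centralizer {b} ≤ centralizerPPrimeCore p b)
    (hsolv : ∀ a ∈ A, a ≠ 1 → Group.IsSolvable (centralizerPPrimeCore p a)) :
    IsSignalizerFunctor p A (fun a => ⨆ D : {D : Subgroup G // D ≤ A ∧ Nat.card ↥D = p ^ k},
      signalizerDelta p (D : Subgroup G) ⊓ centralizer {a}) := by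
  have hAp := IsElementaryAbelian.isPGroup hA
  have hb' : ∀ D ≤ A, Nat.card D = p ^ k → ∀ B ≤ A,
      signalizerDelta p D ⊓ centralizer (B : Set G) ≤ signalizerDelta p B := fun D hD h1 B hB =>
    le_signalizerDelta fun b hb1 h2 => (inf_le_inf_left _
      (centralizer_le_centralizer_singleton hb1)).trans (hb D hD h1 b (hB hb1) h2)
  have hAD : ∀ D ≤ A, A ≤ normalizer ((signalizerDelta p D : Subgroup G) : Set G) := fun D hD =>
    ((IsElementaryAbelian.le_centralizer hA).trans (centralizer_le hD)).trans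
      (centralizer_le_normalizer_delta D)
  have hAC : ∀ a ∈ A, A ≤ normalizer ((centralizer {a} : Subgroup G) : Set G) := fun a ha =>
    (IsElementaryAbelian.le_centralizer_singleton hA ha).trans le_normalizer
  set θ : G → Subgroup G := fun a => ⨆ D : {D : Subgroup G // D ≤ A ∧ Nat.card ↥D = p ^ k},
      signalizerDelta p (D : Subgroup G) ⊓ centralizer {a} with hθ
  have hle : ∀ a, ∀ D ≤ A, Nat.card D = p ^ k → signalizerDelta p D ⊓ centralizer {a} ≤ θ a :=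
    fun a D hD h1 => le_iSup (fun D : {D : Subgroup G // D ≤ A ∧ Nat.card ↥D = p ^ k} =>
      signalizerDelta p (D : Subgroup G) ⊓ centralizer {a}) ⟨D, hD, h1⟩
  have hO : ∀ a ∈ A, a ≠ 1 → θ a ≤ centralizerPPrimeCore p a := fun a ha h1 =>
    iSup_le fun D => hb D D.2.1 D.2.2 a ha h1
  have hcop : ∀ a ∈ A, a ≠ 1 → (Nat.card (θ a)).Coprime p := fun a ha h1 =>
    cop_of_le (opp_cop p _) (hO a ha h1)
  have hn : ∀ a ∈ A, A ≤ normalizer (θ a : Set G) := fun a ha =>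
    le_normalizer_iSup fun D => le_normalizer_inf (hAD D D.2.1) (hAC a ha)
  have hB1 : ∀ B, Coc A B → p ^ (k + 1) ≤ Nat.card B := fun B hB => by
    have := hB.le_card_inf hA le_rfl hAk
    rwa [inf_eq_left.2 hB.1] at this
  have hcoc : ∀ a, ∀ B, Coc A B → signalizerDelta p B ⊓ centralizer {a} ≤ θ a := by
    intro a B hB
    obtain ⟨D, h1, h2⟩ := exists_le_card_eq (hAp.to_le hB.1)
      ((Nat.pow_le_pow_right hp.out.pos (Nat.le_succ k)).trans (hB1 B hB))
    exact (inf_le_inf_right _ (delta_anti h1)).trans (hle a D (h1.trans hB.1) h2)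
  refine ⟨fun a _ _ => iSup_le fun _ => inf_le_right,
    fun a ha h1 => cop_iff_not_dvd.1 (hcop a ha h1),
    fun a ha _ b hb x hx => conj_mem (hn a ha) hb hx, fun a ha h1 b hbA _ => ?_⟩
  have key := flat hA.1 hAp (hcop a ha h1) (solvable_of_le (hO a ha h1) (hsolv a ha h1)) (hn a ha)
    (fun B => signalizerDelta p B ⊓ centralizer {a}) (hcoc a)
    (fun B hB => le_normalizer_inf (hAD B hB.1) (hAC a ha))
    (fun B₁ B₂ B₃ h2 h3 h4 => by
      obtain ⟨D, h5, h6⟩ := exists_le_card_eq (hAp.to_le (inf_le_left.trans h2.1))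
        (h2.le_card_inf hA h3.1 (hB1 _ h3))
      refine le_inf (le_trans (inf_le_inf_right _ ?_)
        (hb' D (h5.trans (inf_le_left.trans h2.1)) h6 B₃ h4.1))
        (inf_le_left.trans (sup_le inf_le_right inf_le_right))
      exact sup_le (inf_le_left.trans (delta_anti (h5.trans inf_le_left)))
        (inf_le_left.trans (delta_anti (h5.trans inf_le_right))))
    (fun L hL => iSup_le fun D => le_of_coc hA.1 hAp
      (le_normalizer_inf (hAD D D.2.1) (hAC a ha))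
      (cop_of_le (hcop a ha h1) (hle a D D.2.1 D.2.2)) fun B hB => by
        refine le_trans ?_ (hL B hB)
        rw [inf_right_comm]
        exact inf_le_inf_right _ (hb' D D.2.1 D.2.2 B hB.1))
  refine le_of_coc hA.1 hAp (le_normalizer_inf (hn a ha) (hAC b hbA))
    (cop_of_le (hcop a ha h1) inf_le_left) fun B hB => le_trans ?_ (hcoc b B hB)
  rw [inf_right_comm]
  exact inf_le_inf_right _ ((key B hB).trans inf_le_left)

theorem core_solv (a : G) : Group.IsSolvable (centralizerPPrimeCore 2 a) :=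
  Cfsg.Agent.S0205.result (cop_two_iff_odd.1 (opp_cop 2 _))

theorem core_le (a : G) : centralizerPPrimeCore p a ≤ centralizer {a} := map_subtype_le _

theorem norm_of_inv {A X : Subgroup G} (h : ∀ b ∈ A, ∀ x ∈ X, b * x * b⁻¹ ∈ X) :
    A ≤ normalizer (X : Set G) := fun b hb => H13.mem_normalizer_of_finite (h b hb)

/-- a power of two dividing `q (q² - 1) / 2`, `q` odd, divides `q - 1` or `q + 1` -/
theorem two_pow_dvd {q N n : ℕ} (hq : Odd q) (hN : 2 * N = q * (q ^ 2 - 1)) (h : 2 ^ n ∣ N) :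
    2 ^ n ∣ q - 1 ∨ 2 ^ n ∣ q + 1 := by
  obtain ⟨k, rfl⟩ := hq
  have e : (2 * k + 1) ^ 2 - 1 = 4 * (k * (k + 1)) := by
    have : (2 * k + 1) ^ 2 = 4 * (k * (k + 1)) + 1 := by ring
    omega
  rw [e] at hN
  have e2 : N = (2 * k + 1) * (2 * (k * (k + 1))) := by nlinarith
  rw [e2] at h
  have hc : Nat.Coprime (2 ^ n) (2 * k + 1) :=
    Nat.Coprime.pow_left _ (by simp)
  have h2 := hc.dvd_of_dvd_mul_left h
  rcases Nat.even_or_odd k with hk | hk
  · left
    have hc2 : Nat.Coprime (2 ^ n) (k + 1) :=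
      Nat.Coprime.pow_left _ (by simpa using hk.add_one)
    rw [← mul_assoc] at h2
    simpa using hc2.dvd_of_dvd_mul_right h2
  · right
    have hc2 : Nat.Coprime (2 ^ n) k :=
      Nat.Coprime.pow_left _ (by simpa using hk)
    rw [mul_comm k, ← mul_assoc] at h2
    have := hc2.dvd_of_dvd_mul_right h2
    rwa [show 2 * k + 1 + 1 = 2 * (k + 1) by ring]

theorem two_pow_le {q N n : ℕ} (hq : Odd q) (h5 : 5 ≤ q) (hN : 2 * N = q * (q ^ 2 - 1))
    (h : 2 ^ n ∣ N) : 2 ^ n ≤ q + 1 := by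
  rcases two_pow_dvd hq hN h with h | h
  · have := Nat.le_of_dvd (by omega) h
    omega
  · exact Nat.le_of_dvd (by omega) h

theorem mono {a q : ℕ} (h : a ≤ q) : a * (a ^ 2 - 1) ≤ q * (q ^ 2 - 1) :=
  Nat.mul_le_mul h (Nat.sub_le_sub_right (Nat.pow_le_pow_left h 2) 1)

theorem arith1 {q r : ℕ} (h5 : 5 ≤ q) (h4 : 4 ≤ r) (hd : r ∣ q - 1 ∨ r ∣ q + 1)
    (h : 2 * (r * (r ^ 2 - 1)) = q * (q ^ 2 - 1)) : q = 5 := by
  obtain ⟨s, rfl⟩ : ∃ s, r = s + 1 := ⟨r - 1, by omega⟩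
  have e : (s + 1) ^ 2 - 1 = s * (s + 2) := by
    have : (s + 1) ^ 2 = s * (s + 2) + 1 := by ring
    omega
  rw [e] at h
  have big : ¬ 2 * s + 1 ≤ q := by
    intro hq
    have h1 := mono hq
    have e2 : (2 * s + 1) ^ 2 - 1 = 4 * (s * (s + 1)) := by
      have : (2 * s + 1) ^ 2 = 4 * (s * (s + 1)) + 1 := by ring
      omega
    rw [e2, ← h] at h1
    have : 3 ≤ s := by omega
    nlinarith [Nat.mul_pos (show 0 < s by omega) (show 0 < s + 1 by omega)]
  rcases hd with ⟨c, hc⟩ | ⟨c, hc⟩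
  · have hc1 : c = 1 := by
      rcases c with _ | _ | c
      · omega
      · rfl
      · exfalso; apply big; have : (s + 1) * (c + 1 + 1) = 2 * s + 2 + (s + 1) * c := by ring
        omega
    subst hc1
    have hq : q = s + 2 := by omega
    subst hq
    have e3 : (s + 2) ^ 2 - 1 = (s + 1) * (s + 3) := by
      have : (s + 2) ^ 2 = (s + 1) * (s + 3) + 1 := by ring
      omega
    rw [e3] at h
    have h2 : ((s + 1) * (s + 2)) * (2 * s) = ((s + 1) * (s + 2)) * (s + 3) := by nlinarith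
    have := Nat.eq_of_mul_eq_mul_left (by positivity) h2
    omega
  · have hc1 : c = 1 := by
      rcases c with _ | _ | c
      · omega
      · rfl
      · exfalso; apply big; have : (s + 1) * (c + 1 + 1) = 2 * s + 2 + (s + 1) * c := by ring
        omega
    subst hc1
    have hq : q = s := by omega
    subst hq
    exfalso
    have : q ^ 2 - 1 ≤ q ^ 2 := Nat.sub_le _ _
    have h3 := Nat.mul_le_mul_left q this
    rw [← h] at h3
    nlinarith

theorem arith2 {q r N : ℕ} (h8 : 8 ≤ r) (hq : r ^ 2 ≤ q + 1)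
    (hN : N = r ^ 2 * (r ^ 2 + 1) * (r - 1)) (h : 2 * N = q * (q ^ 2 - 1)) : False := by
  obtain ⟨s, rfl⟩ : ∃ s, r = s + 1 := ⟨r - 1, by omega⟩
  have h1 : s * (s + 2) ≤ q := by nlinarith
  have h2 := mono h1
  rw [← h, hN] at h2
  have e : (s * (s + 2)) ^ 2 - 1 + 1 = (s * (s + 2)) ^ 2 :=
    Nat.sub_add_cancel (Nat.one_le_pow _ _ (Nat.mul_pos (by omega) (by omega)))
  set y := (s * (s + 2)) ^ 2 - 1
  simp only [Nat.add_sub_cancel] at h2
  have h3 : s * ((s + 2) * y) ≤ s * (2 * ((s + 1) ^ 2 * ((s + 1) ^ 2 + 1))) := by nlinarith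
  have h4 := Nat.le_of_mul_le_mul_left h3 (by omega)
  have h5 : (s + 2) * (y + 1) ≤ 2 * ((s + 1) ^ 2 * ((s + 1) ^ 2 + 1)) + (s + 2) := by nlinarith
  rw [e] at h5
  obtain ⟨t, rfl⟩ : ∃ t, s = t + 7 := ⟨s - 7, by omega⟩
  ring_nf at h5
  nlinarith [Nat.zero_le t, Nat.zero_le (t ^ 2), Nat.zero_le (t ^ 3), Nat.zero_le (t ^ 4),
    Nat.zero_le (t ^ 5)]

theorem arith3 {q r N : ℕ} (h4 : 4 ≤ r) (hq : r ^ 3 ≤ q + 1)
    (hN : N ≤ r ^ 8) (h : 2 * N = q * (q ^ 2 - 1)) : False := by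
  have h64 : 64 ≤ r ^ 3 := le_trans (by norm_num) (Nat.pow_le_pow_left h4 3)
  obtain ⟨a, ha⟩ : ∃ a, r ^ 3 = a + 1 := ⟨r ^ 3 - 1, by omega⟩
  have h2 := mono (show a ≤ q by omega)
  have e : a ^ 2 - 1 + 1 = a ^ 2 := Nat.sub_add_cancel (Nat.one_le_pow _ _ (by omega))
  set y := a ^ 2 - 1
  have h3 : 4 * r ^ 8 ≤ (a + 1) ^ 3 := by
    rw [← ha, ← pow_mul, show 3 * 3 = 8 + 1 by rfl, pow_succ r 8, mul_comm]
    exact Nat.mul_le_mul_left _ h4
  have h5 : 2 * (a * y) ≤ (a + 1) ^ 3 := by omega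
  have h6 : 2 * (a * (y + 1)) ≤ (a + 1) ^ 3 + 2 * a := by nlinarith
  rw [e] at h6
  obtain ⟨t, rfl⟩ : ∃ t, a = t + 63 := ⟨a - 63, by omega⟩
  ring_nf at h6
  nlinarith [Nat.zero_le t, Nat.zero_le (t ^ 2), Nat.zero_le (t ^ 3)]

end PSGx

/-! ### PSG -/
section PSG
variable {G : Type*} [Group G] [Finite G]
/-- a locally 2-balanced elementary abelian subgroup of order 16 -/
theorem sig2 {A : Subgroup G} (hA : IsElementaryAbelian 2 A) (h16 : Nat.card A = 16)
    (hb : ∀ D ≤ A, Nat.card D = 4 → ∀ a ∈ A, a ≠ 1 →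
      signalizerDelta 2 D ⊓ centralizer {a} ≤ centralizerPPrimeCore 2 a) :
    ∃ W : Subgroup G, Odd (Nat.card W) ∧
      (∀ B ≤ A, Nat.card B = 8 →
        W = ⨆ D : {D : Subgroup G // D ≤ B ∧ Nat.card ↥D = 4}, signalizerDelta 2 (D : Subgroup G)) ∧
      ∀ a ∈ A, a ≠ 1 → W ⊓ centralizer {a} ≤ centralizerPPrimeCore 2 a := by
  open H23 H25.Sg PSGx in
  have hAp := IsElementaryAbelian.isPGroup hA
  open H23 H25.Sg PSGx in
  obtain ⟨h1, h2, h3, h4⟩ := loc_functor (p := 2) (k := 2) hA h16.ge hb fun a _ _ => core_solv a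
  set θ : G → Subgroup G := fun a => ⨆ D : {D : Subgroup G // D ≤ A ∧ Nat.card ↥D = 2 ^ 2},
      signalizerDelta 2 (D : Subgroup G) ⊓ centralizer {a} with hθ
  have hO : ∀ a ∈ A, a ≠ 1 → θ a ≤ centralizerPPrimeCore 2 a := fun a ha h1 =>
    iSup_le fun D => hb D D.2.1 D.2.2 a ha h1
  open H23 H25.Sg PSGx in
  obtain ⟨k1, k2⟩ := Cfsg.Agent.S0217.result A
    (fun a ha b hb => IsElementaryAbelian.comm hA ha hb) hA.2 (by rw [h16]; norm_num) θ h1 h2 h3
    (fun a ha h => solvable_of_le (hO a ha h) (core_solv a)) h4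
  refine ⟨_, H23.cop_two_iff_odd.1 (H23.cop_iff_not_dvd.2 k1), fun B hB h8 => ?_,
    fun a ha h => (k2 a ha h).le.trans (hO a ha h)⟩
  apply le_antisymm
  · refine H25.Sg.le_of_coc hA.1 hAp
      (H25.Sg.le_normalizer_iSup fun a => PSGx.norm_of_inv (h3 a a.2.1 a.2.2))
      (H23.cop_iff_not_dvd.2 k1) fun B' hB' => ?_
    obtain ⟨D, h5, h6⟩ := H25.Sg.exists_le_card_eq (hAp.to_le (inf_le_left.trans hB'.1))
      (hB'.le_card_inf hA hB (k := 2) h8.ge)
    refine le_trans ?_ (le_iSup (fun D : {D : Subgroup G // D ≤ B ∧ Nat.card ↥D = 4} =>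
      signalizerDelta 2 (D : Subgroup G)) ⟨D, h5.trans inf_le_right, h6⟩)
    refine H23.le_signalizerDelta fun d hd hd1 => ?_
    have hdA : d ∈ A := hB'.1 (h5 hd).1
    refine le_trans ?_ ((k2 d hdA hd1).le.trans (hO d hdA hd1))
    exact inf_le_inf_left _ (H23.centralizer_le_centralizer_singleton (h5 hd).1)
  · refine iSup_le fun D => ?_
    have hD : (D : Subgroup G) ≠ ⊥ := fun e => by
      have := D.2.2
      rw [e, card_bot] at this
      omega
    obtain ⟨⟨d, hd⟩, hd1⟩ := ne_bot_iff_exists_ne_one.1 hD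
    have hd1 : d ≠ 1 := fun e => hd1 (Subtype.ext e)
    have hdA : d ∈ A := hB (D.2.1 hd)
    refine le_trans ?_ (le_iSup (fun a : {a : G // a ∈ A ∧ a ≠ 1} => θ a) ⟨d, hdA, hd1⟩)
    refine le_trans ?_ (le_iSup (fun D : {D : Subgroup G // D ≤ A ∧ Nat.card ↥D = 2 ^ 2} =>
      signalizerDelta 2 (D : Subgroup G) ⊓ centralizer {d}) ⟨D, D.2.1.trans hB, D.2.2⟩)
    exact le_inf le_rfl ((H23.signalizerDelta_le 2 hd hd1).trans (PSGx.core_le d))
/-- a locally balanced elementary abelian subgroup of order at least 8 -/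
theorem sig1 {A : Subgroup G} (hA : IsElementaryAbelian 2 A) (h8 : 8 ≤ Nat.card A)
    (hb : ∀ a ∈ A, a ≠ 1 → ∀ b ∈ A, b ≠ 1 →
      centralizerPPrimeCore 2 a ⊓ centralizer {b} ≤ centralizerPPrimeCore 2 b) :
    ∃ W : Subgroup G, Odd (Nat.card W) ∧
      (∀ D ≤ A, Nat.card D = 4 →
        W = ⨆ a : {a : G // a ∈ D ∧ a ≠ 1}, centralizerPPrimeCore 2 (a : G)) ∧
      ∀ a ∈ A, a ≠ 1 → W ⊓ centralizer {a} = centralizerPPrimeCore 2 a := by
  have h3 : ∀ a ∈ A, A ≤ normalizer ((centralizerPPrimeCore 2 a : Subgroup G) : Set G) :=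
    fun a ha => H23.le_normalizer_opp 2
      ((H23.IsElementaryAbelian.le_centralizer_singleton hA ha).trans le_normalizer)
  obtain ⟨k1, k2⟩ := Cfsg.Agent.S0217.result A
    (fun a ha b hb => H23.IsElementaryAbelian.comm hA ha hb) hA.2 h8
    (centralizerPPrimeCore 2) (fun a _ _ => PSGx.core_le a)
    (fun a _ _ => H23.cop_iff_not_dvd.1 (H23.opp_cop 2 _))
    (fun a ha _ b hb x hx => H23.conj_mem (h3 a ha) hb hx)
    (fun a _ _ => PSGx.core_solv a) hb
  refine ⟨_, H23.cop_two_iff_odd.1 (H23.cop_iff_not_dvd.2 k1), fun D hD h4 => ?_, k2⟩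
  apply le_antisymm
  · refine H25.Sg.le_of_cent (p := 2) (H23.IsElementaryAbelian.of_le hA hD) h4.ge
      (hD.trans (H25.Sg.le_normalizer_iSup fun a => h3 a a.2.1))
      (H23.cop_iff_not_dvd.2 k1) fun a ha h1 => ?_
    rw [k2 a (hD ha) h1]
    exact le_iSup (fun a : {a : G // a ∈ D ∧ a ≠ 1} => centralizerPPrimeCore 2 (a : G)) ⟨a, ha, h1⟩
  · exact iSup_le fun a => le_iSup (fun a : {a : G // a ∈ A ∧ a ≠ 1} =>
      centralizerPPrimeCore 2 (a : G)) ⟨a, hD a.2.1, a.2.2⟩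
/-- generation by fixed points of hyperplanes -/
theorem le_of_hyp {A R T : Subgroup G} (hA : IsElementaryAbelian 2 A) (h16 : Nat.card A = 16)
    (hR : Odd (Nat.card R)) (hAR : A ≤ normalizer (R : Set G))
    (h : ∀ B ≤ A, Nat.card B = 8 → R ⊓ centralizer (B : Set G) ≤ T) : R ≤ T := by
  have hAp := H23.IsElementaryAbelian.isPGroup hA
  refine H25.Sg.le_of_coc hA.1 hAp hAR (H23.cop_two_iff_odd.2 hR) fun B hB => ?_
  have h1 := hB.le_card_inf hA le_rfl (k := 3) h16.ge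
  rw [inf_eq_left.2 hB.1] at h1
  obtain ⟨D, h5, h6⟩ := H25.Sg.exists_le_card_eq (hAp.to_le hB.1) h1
  exact (inf_le_inf_left _ (centralizer_le h5)).trans (h D (h5.trans hB.1) h6)
theorem le_of_four {D R T : Subgroup G} (hD : IsElementaryAbelian 2 D) (h4 : 4 ≤ Nat.card D)
    (hR : Odd (Nat.card R)) (hDR : D ≤ normalizer (R : Set G))
    (h : ∀ a ∈ D, a ≠ 1 → R ⊓ centralizer {a} ≤ T) : R ≤ T :=
  H25.Sg.le_of_cent (p := 2) hD h4 hDR (H23.cop_two_iff_odd.2 hR) h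
/-- `L₂(q)`, `q` odd, has a strongly embedded subgroup only for `q = 5` -/
theorem se_psl2 {F : Type*} [Field F] [Fintype F] (hF : Odd (Fintype.card F))
    (h5 : 5 ≤ Fintype.card F) (M : Subgroup PSL(2, F)) (hM : IsStronglyEmbedded M) :
    Fintype.card F = 5 := by
  have h4 : 4 ≤ Fintype.card F := by omega
  haveI := Matrix.ProjectiveSpecialLinearGroup.rank_two_simple (F := F)
    (by rwa [Nat.card_eq_fintype_card])
  have hns := H16.psl2_not_solvable (F := F) h4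
  rw [← IsSimpleGroup.comm_iff_isSolvable] at hns
  push Not at hns
  have hN := H7.card_psl_two (F := F) rfl
  have hg : Nat.gcd 2 (Fintype.card F - 1) = 2 := by
    obtain ⟨k, hk⟩ := hF
    rw [hk]; simp
  rw [hg] at hN
  rcases Cfsg.Agent.S0222.result hns M hM with ⟨K, _, _, hK, hK4, ⟨e⟩⟩ | ⟨-, m, hm, hc⟩ |
    ⟨K, _, _, r, hK, hr, hr4, ⟨e⟩⟩
  · obtain ⟨n, -, hn⟩ := FiniteField.card K 2
    have hN' := H7.card_psl_two (F := K) rfl
    have hg' : Nat.gcd 2 (Fintype.card K - 1) = 1 := by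
      have : 2 ∣ Fintype.card K := hn ▸ dvd_pow_self 2 n.ne_zero
      obtain ⟨c, hc⟩ := this
      rw [Nat.coprime_iff_gcd_eq_one.symm, Nat.coprime_two_left]
      exact ⟨c - 1, by omega⟩
    rw [hg', one_mul, ← Nat.card_congr e.toEquiv] at hN'
    refine PSGx.arith1 h5 hK4 ?_ (by rw [← hN', hN])
    rw [hn]
    refine PSGx.two_pow_dvd hF hN ?_
    rw [hN', ← hn]
    exact Dvd.intro _ rfl
  · exfalso
    have h8 : 8 ≤ 2 ^ (2 * m + 1) :=
      le_trans (by norm_num) (Nat.pow_le_pow_right (by norm_num) (show 3 ≤ 2 * m + 1 by omega))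
    refine PSGx.arith2 h8 ?_ hc hN
    rw [← pow_mul]
    refine PSGx.two_pow_le hF h5 hN ?_
    rw [hc, pow_mul, mul_assoc]
    exact Dvd.intro _ rfl
  · exfalso
    have hN' := H7.card_psu hK 3 (by norm_num)
    rw [← Nat.card_congr e.toEquiv] at hN'
    simp only [Finset.prod_range_succ, Finset.prod_range_zero] at hN'
    norm_num at hN'
    have hN2 : Nat.gcd 3 (r + 1) * Nat.card PSL(2, F) = r ^ 3 * ((r ^ 2 - 1) * (r ^ 3 + 1)) := by
      refine Nat.eq_of_mul_eq_mul_left (show 0 < r + 1 by omega) ?_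
      linarith
    obtain ⟨p, hp⟩ := CharP.exists K
    obtain ⟨n, hpp, hn⟩ := FiniteField.card K p
    have hp2 : p = 2 := by
      have : 2 ∣ p ^ (n : ℕ) := by
        rw [← hn, hK]; exact Dvd.dvd.pow hr.two_dvd two_ne_zero
      exact ((Nat.prime_dvd_prime_iff_eq Nat.prime_two hpp).1
        (Nat.prime_two.dvd_of_dvd_pow this)).symm
    subst hp2
    obtain ⟨j, -, hj⟩ := (Nat.dvd_prime_pow Nat.prime_two).1
      (show r ∣ 2 ^ (n : ℕ) by rw [← hn, hK]; exact Dvd.intro_left r (by ring))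
    refine PSGx.arith3 hr4 ?_ ?_ hN
    · rw [hj, ← pow_mul]
      refine PSGx.two_pow_le hF h5 hN ?_
      have hc : Nat.Coprime (2 ^ (j * 3)) (Nat.gcd 3 (r + 1)) :=
        Nat.Coprime.pow_left _ (Nat.Coprime.coprime_dvd_right (Nat.gcd_dvd_left _ _) (by norm_num))
      refine hc.dvd_of_dvd_mul_left ?_
      rw [hN2, pow_mul, ← hj]
      exact Dvd.intro _ rfl
    · have h1 : 1 ≤ Nat.gcd 3 (r + 1) := Nat.gcd_pos_of_pos_left _ (by norm_num)
      have e2 : r ^ 2 - 1 + 1 = r ^ 2 := Nat.sub_add_cancel (Nat.one_le_pow _ _ (by omega))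
      set y := r ^ 2 - 1
      have h2 : y * (r ^ 3 + 1) ≤ r ^ 5 := by
        have : r ^ 5 = (y + 1) * r ^ 3 := by rw [e2]; ring
        have h3 : r ^ 2 ≤ r ^ 3 := Nat.pow_le_pow_right (by omega) (by norm_num)
        nlinarith
      calc Nat.card PSL(2, F) ≤ Nat.gcd 3 (r + 1) * Nat.card PSL(2, F) := Nat.le_mul_of_pos_left _ h1
        _ = r ^ 3 * (y * (r ^ 3 + 1)) := hN2
        _ ≤ r ^ 3 * r ^ 5 := Nat.mul_le_mul_left _ h2
        _ = r ^ 8 := by ring
end PSG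



end H20.P4
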