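import Mathlib
import Cfsg.Agent.H20.P0
import Cfsg.Agent.H20.PO3
import Cfsg.Agent.H20.PSG

set_option autoImplicit false
set_option linter.unusedVariables false
set_option linter.unusedSectionVars false

namespace H20.P4

open Cfsg Subgroup
open scoped MatrixGroups

universe u

variable {m : ℕ} {G : Type u} [Group G] [Finite G]

namespace PO4x
open PO2x
variable {E : Emb m G} {ζ : Fin 5 → G}

theorem Δ_le {D : Subgroup G} {d : G} (hd : d ∈ D) (h1 : d ≠ 1) : signalizerDelta 2 D ≤ OC d :=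
  iInf_le (fun a : {a : G // a ∈ D ∧ a ≠ 1} => centralizerPPrimeCore 2 (a : G)) ⟨d, hd, h1⟩

theorem FG_perm (σ : Equiv.Perm (Fin 5)) : FG (ζ ∘ σ) = FG ζ := by
  unfold FG
  rw [σ.surjective.range_comp]

theorem mem_FG (k : Fin 5) : ζ k ∈ FG ζ := subset_closure ⟨k, rfl⟩

theorem comm (h : E.Frame ζ) {a b : G} (ha : a ∈ FG ζ) (hb : b ∈ FG ζ) : a * b = b * a :=
  congrArg Subtype.val (h.ea.1.is_comm.comm (⟨a, ha⟩ : FG ζ) ⟨b, hb⟩)

theorem norm_OC (h : E.Frame ζ) {a : G} (ha : a ∈ FG ζ) : FG ζ ≤ normalizer (OC a : Set G) :=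
  fun g hg => H24.mem_N_of_finite fun p hp => OC_norm (comm h hg ha) hp

theorem norm_C1 (h : E.Frame ζ) {a : G} (ha : a ∈ FG ζ) :
    FG ζ ≤ normalizer (centralizer ({a} : Set G) : Set G) :=
  fun g hg => H24.mem_N_of_finite fun p hp => mem_C1'.2 (conj_C (comm h hg ha) (mem_C1'.1 hp))

theorem norm_Δ (h : E.Frame ζ) {D : Subgroup G} (hD : D ≤ FG ζ) :
    FG ζ ≤ normalizer (signalizerDelta 2 D : Set G) :=
  fun g hg => H24.mem_N_of_finite fun p hp => mem_iInf.2 fun a =>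
    OC_norm (comm h hg (hD a.2.1)) (Δ_le a.2.1 a.2.2 hp)

theorem C_le {B : Subgroup G} {b : G} (hb : b ∈ B) : centralizer (B : Set G) ≤ centralizer {b} :=
  centralizer_le (Set.singleton_subset_iff.2 hb)

theorem ne_one (h : E.Frame ζ) {k l : Fin 5} (hkl : k ≠ l) : ζ k * ζ l ≠ 1 := fun e =>
  hkl (h.inj (mul_right_cancel (e.trans (E.Z_sq (h.z l)).1.symm)))

/-- a subgroup whose centralizer of a hyperplane is balanced lies in `WB` -/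
theorem le_WB {B R : Subgroup G} (h8 : Nat.card B = 8)
    (h : ∀ d ∈ B, d ≠ 1 → R ⊓ centralizer {d} ≤ OC d) : R ⊓ centralizer (B : Set G) ≤ WB B := by
  have hp : IsPGroup 2 B := IsPGroup.of_card (n := 3) h8
  obtain ⟨D, hD⟩ := Sylow.exists_subgroup_card_pow_prime (G := B) 2 (n := 2) (by rw [h8]; norm_num)
  have h4 : Nat.card (D.map B.subtype) = 4 := by
    rw [card_map_of_injective B.subtype_injective, hD]; norm_num
  refine le_trans (le_iInf fun a => ?_) (le_iSup (fun D : {D : Subgroup G // D ≤ B ∧ Nat.card ↥D = 4} =>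
    signalizerDelta 2 (D : Subgroup G)) ⟨_, map_subtype_le D, h4⟩)
  have ha := map_subtype_le D a.2.1
  exact (inf_le_inf_left _ (C_le ha)).trans (h _ ha a.2.2)

theorem ex_perm : ∀ j k l : Fin 5, k ≠ l → j ≠ k → j ≠ l →
    ∃ σ : Equiv.Perm (Fin 5), σ 0 = j ∧ σ 2 = k ∧ σ 3 = l := by decide +kernel

theorem four_of {a b : G} (a2 : a * a = 1) (b2 : b * b = 1) (a1 : a ≠ 1) (b1 : b ≠ 1) (ab : a ≠ b)
    (hc : a * b = b * a) : 4 ≤ Nat.card ↥(zpowers a ⊔ zpowers b) ∧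
      ∀ x ∈ zpowers a ⊔ zpowers b, x = 1 ∨ x = a ∨ x = b ∨ x = a * b := by
  have hn : zpowers b ≤ normalizer (zpowers a : Set G) :=
    H24.norm_zpowers_of_cent (zpowers_le.2 (H24.mem_C1.2 hc.symm))
  have zp : ∀ {c x : G}, c * c = 1 → x ∈ zpowers c → x = 1 ∨ x = c := fun {c x} h hx => by
    obtain ⟨n, rfl⟩ := mem_zpowers_iff.1 hx
    have h2 : c ^ (2 : ℤ) = 1 := by rw [zpow_two, h]
    rcases Int.even_or_odd' n with ⟨k, rfl | rfl⟩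
    · exact Or.inl (by rw [zpow_mul, h2, one_zpow])
    · exact Or.inr (by rw [zpow_add, zpow_mul, h2, one_zpow, one_mul, zpow_one])
  refine ⟨?_, fun x hx => ?_⟩
  · rw [H24.card_sup_of_inf hn, Nat.card_zpowers, Nat.card_zpowers,
      orderOf_eq_prime (p := 2) (by rw [pow_two, a2]) a1, orderOf_eq_prime (p := 2) (by rw [pow_two, b2]) b1]
    refine eq_bot_iff.2 fun x hx => (zp a2 hx.1).elim id fun e => ?_
    rcases zp b2 hx.2 with e' | e'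
    · exact e'
    · exact absurd (e.symm.trans e') ab
  · obtain ⟨p, hp, q, hq, rfl⟩ := (H24.mem_sup_of_norm hn).1 hx
    rcases zp a2 hp with rfl | rfl <;> rcases zp b2 hq with rfl | rfl <;> simp

end PO4x

open PO2x PO4x

/-! ### PO4 -/
section PO4
namespace Emb
variable {E : Emb m G} {F : Type} [Field F] [Fintype F] {ψ : SL(2, F) →* E.Bar}

theorem PW.po4_hb (hW : E.PW) (hL : E.bar.CaseL F ψ) {ζ : Fin 5 → G} (h : E.Frame ζ) {D : Subgroup G}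
    (hD : D ≤ FG ζ) (h1 : ζ 2 * ζ 3 ∈ D) (h2 : ζ 3 * ζ 4 ∈ D) {a : G} (ha : a ∈ FG ζ) (a1 : a ≠ 1) :
    signalizerDelta 2 D ⊓ centralizer {a} ≤ OC a := by
  have hB := hW.zb hL
  have k1 := Δ_le h1 (ne_one h (by decide))
  have k2 := Δ_le h2 (ne_one h (by decide))
  refine le_of_hyp h.ea (h.card hW) (odd_inf ((OC_odd _).of_dvd_nat (card_dvd_of_le k1)) _)
    (H24.norm_inf (norm_Δ h hD) (PO4x.norm_C1 h ha)) fun B hBA h8 p hp => ?_
  suffices ∃ k, p ∈ OC (ζ k) by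
    obtain ⟨k, hk⟩ := this
    exact hB.b1 hW.zh h k ha a1 ⟨hk, hp.1.2⟩
  rcases h.hyp hW hBA h8 with e | e | e | ⟨e, e'⟩ | ⟨e, e'⟩
  · exact ⟨2, hB.b2 (h.pair (by decide)) ⟨k1 hp.1.1, C_le e hp.2⟩⟩
  · exact ⟨3, hB.b2 (h.pair (by decide)) ⟨k2 hp.1.1, C_le e hp.2⟩⟩
  · exact ⟨4, hB.b2 (h.pair (l := 3) (by decide)) ⟨h.comm 3 4 ▸ k2 hp.1.1, C_le e hp.2⟩⟩
  · exact ⟨0, hW.b3 hL h ⟨⟨k1 hp.1.1, C_le e hp.2⟩, C_le e' hp.2⟩⟩
  · exact ⟨1, hW.b3 hL (h.perm (Equiv.swap 0 1)) ⟨⟨k1 hp.1.1, C_le e hp.2⟩, C_le e' hp.2⟩⟩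

theorem PW.po4_W (hW : E.PW) (hL : E.bar.CaseL F ψ) {ζ : Fin 5 → G} (h : E.Frame ζ) :
    ∃ V : Subgroup G, Odd (Nat.card V) ∧ ∀ B ≤ FG ζ, Nat.card B = 8 → V = WB B := by
  obtain ⟨V, h1, h2, -⟩ := sig2 h.ea (h.card hW) fun D hD h4 a ha a1 => by
    rcases h.four hW hD h4 with ⟨k, hk⟩ | ⟨σ, k1, k2⟩
    · exact (inf_le_inf_right _ (Δ_le hk (E.Z_sq (h.z k)).2)).trans ((hW.zb hL).b1 hW.zh h k ha a1)
    · exact hW.po4_hb hL (h.perm σ) (hD.trans (FG_perm σ).ge) k1 k2 ((FG_perm σ).ge ha) a1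
  exact ⟨V, h1, h2⟩

theorem PW.wb (hW : E.PW) (hL : E.bar.CaseL F ψ) {ζ : Fin 5 → G} (h : E.Frame ζ) {B B' : Subgroup G}
    (hB : B ≤ FG ζ) (h8 : Nat.card B = 8) (hB' : B' ≤ FG ζ) (h8' : Nat.card B' = 8) :
    WB B = WB B' ∧ Odd (Nat.card (WB B)) ∧ ∀ k, OC (ζ k) ≤ WB B := by
  obtain ⟨V, h1, h2⟩ := hW.po4_W hL h
  refine ⟨(h2 B hB h8).symm.trans (h2 B' hB' h8'), h2 B hB h8 ▸ h1, fun k => ?_⟩
  refine le_of_hyp h.ea (h.card hW) (OC_odd _) (norm_OC h (mem_FG k)) fun B1 k1 k2 => ?_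
  rw [← h2 B hB h8, h2 B1 k1 k2]
  exact le_WB k2 fun d hd d1 => (hW.zb hL).b1 hW.zh h k (k1 hd) d1

theorem PW.wb_eq (hW : E.PW) (hL : E.bar.CaseL F ψ) {B : Subgroup G}
    (hB : B ≤ (centralizer {W.u m}).map E.f) (h2 : ∀ b ∈ B, b * b = 1) (h8 : Nat.card B = 8)
    (hz : E.z ∈ B) (hu : E.u ∈ B) : WB B = WB E.B0 := by
  obtain ⟨ζ, h, k1, k2⟩ := hW.frame_of hB h2 h8 hz hu
  exact (hW.wb hL h k1 h8 k2 card_B0).1

theorem PW.po4_bal (hW : E.PW) (hL : E.bar.CaseL F ψ) (h5 : Fintype.card F = 5) {ζ : Fin 5 → G}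
    (h : E.Frame ζ) {a b : G} (ha : a ∈ FG ζ) (a1 : a ≠ 1) (hb : b ∈ FG ζ) (b1 : b ≠ 1) :
    OC a ⊓ centralizer {b} ≤ OC b := by
  have hB := hW.zb hL
  rcases h.mem ha with e | ⟨k, rfl⟩ | ⟨k, l, hkl, rfl⟩
  · exact absurd e a1
  · exact hB.b1 hW.zh h k hb b1
  refine le_of_hyp h.ea (h.card hW) (odd_inf (OC_odd _) _)
    (H24.norm_inf (norm_OC h ha) (PO4x.norm_C1 h hb)) fun B hBA h8 p hp => ?_
  obtain ⟨j, hj⟩ : ∃ j, ζ j ∈ B := by
    rcases h.hyp hW hBA h8 with e | e | e | ⟨e, -⟩ | ⟨e, -⟩ <;> exact ⟨_, e⟩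
  refine hB.b1 hW.zh h j hb b1 ⟨?_, hp.1.2⟩
  by_cases e1 : j = k
  · subst e1
    exact hB.b2 (h.pair hkl) ⟨hp.1.1, C_le hj hp.2⟩
  by_cases e2 : j = l
  · subst e2
    exact hB.b2 (h.pair hkl.symm) ⟨h.comm k j ▸ hp.1.1, C_le hj hp.2⟩
  obtain ⟨σ, s0, s2, s3⟩ := ex_perm j k l hkl e1 e2
  have := hW.b5 hL h5 (h.perm σ)
  simp only [Function.comp_apply, s0, s2, s3] at this
  exact this ⟨hp.1.1, C_le hj hp.2⟩

theorem PW.wb5 (hW : E.PW) (hL : E.bar.CaseL F ψ) (h5 : Fintype.card F = 5) :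
    WB E.B0 = OC E.z ⊔ OC E.u ⊔ OC (E.z * E.u) := by
  have h := hW.frame0
  have hz : E.z ∈ FG E.fr0 := mem_FG 0
  have hu : E.u ∈ FG E.fr0 := mem_FG 1
  have hy : E.y ∈ FG E.fr0 := FG_fr0 (E := E) ▸ mem_map_of_mem _ (by simp [mem_EE, W.y, two_hh])
  have h0 : E.B0 ≤ FG E.fr0 := (closure_le _).2 (by
    rintro x (rfl | rfl | rfl)
    exacts [hz, hu, hy])
  have hp := hW.pair_zu
  have z2 := E.Z_sq hp.za
  have u2 := E.Z_sq hp.zb
  have hzu : E.z * E.u ≠ 1 := ne_one h (k := 0) (l := 1) (by decide)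
  refine le_antisymm (iSup_le fun D => ?_) ?_
  · obtain ⟨d, hd, d1⟩ := H24.exists_ne_one (H := D.1) fun e => by
      have := D.2.2
      rw [e, card_bot] at this
      omega
    have hdA := h0 (D.2.1 hd)
    obtain ⟨k2, k3⟩ := four_of z2.1 u2.1 z2.2 u2.2 hp.ne hp.comm
    have k4 : zpowers E.z ⊔ zpowers E.u ≤ FG E.fr0 := sup_le (zpowers_le.2 hz) (zpowers_le.2 hu)
    have k1 : IsElementaryAbelian 2 (zpowers E.z ⊔ zpowers E.u) := H26.Gold.EA.of_le h.ea k4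
    refine (Δ_le hd d1).trans (le_of_four k1 k2 (OC_odd d) (k4.trans (norm_OC h hdA)) fun a ha a1 => ?_)
    refine (hW.po4_bal hL h5 h hdA d1 (k4 ha) a1).trans ?_
    rcases k3 a ha with rfl | rfl | rfl | rfl
    · exact absurd rfl a1
    · exact le_sup_left.trans le_sup_left
    · exact le_sup_right.trans le_sup_left
    · exact le_sup_right
  · have key : ∀ a ∈ FG E.fr0, a ≠ 1 → OC a ≤ WB E.B0 := fun a ha a1 =>
      le_of_hyp h.ea (h.card hW) (OC_odd _) (norm_OC h ha) fun B k1 k2 => by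
        rw [(hW.wb hL h h0 card_B0 k1 k2).1]
        exact le_WB k2 fun d hd d1 => hW.po4_bal hL h5 h ha a1 (k1 hd) d1
    exact sup_le (sup_le (key _ hz z2.2) (key _ hu u2.2)) (key _ (mul_mem hz hu) hzu)
end Emb
end PO4


end H20.P4
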