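import Mathlib
import Cfsg.Agent.H20.P0
import Cfsg.Agent.H20.PO4
import Cfsg.Agent.H20.PAU
import Cfsg.Agent.H20.PSG
import Cfsg.Agent.H20.PFR
import Cfsg.Agent.H20.PO1

set_option autoImplicit false
set_option linter.unusedVariables false
set_option linter.unusedSectionVars false

namespace H20.P4

open Cfsg Subgroup
open scoped MatrixGroups

universe u

variable {m : ℕ} {G : Type u} [Group G] [Finite G]

namespace PO5x

theorem mem_adj {K : Subgroup G} {c : G} (cc : c * c = 1) (h : K ≤ centralizer {c}) {g : G} :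
    g ∈ K ⊔ zpowers c ↔ g ∈ K ∨ g * c ∈ K := by
  have h' : ∀ k ∈ K, k * c = c * k := fun k hk => mem_centralizer_singleton_iff.1 (h hk)
  have k1 : ∀ {a b : G}, a ∈ K → b * c ∈ K → a * b * c ∈ K := fun ha hb => by
    rw [mul_assoc]; exact mul_mem ha hb
  have k2 : ∀ {a : G}, a * c ∈ K → a * c = c * a := fun {a} ha => by
    have := h' _ ha
    rw [mul_assoc, cc, mul_one] at this
    conv_rhs => rw [this, ← mul_assoc, cc, one_mul]
  let L : Subgroup G :=
    { carrier := {g | g ∈ K ∨ g * c ∈ K}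
      one_mem' := .inl (one_mem _)
      mul_mem' := by
        rintro a b (ha | ha) (hb | hb)
        · exact .inl (mul_mem ha hb)
        · exact .inr (k1 ha hb)
        · exact .inr (by rw [mul_assoc, h' b hb, ← mul_assoc]; exact mul_mem ha hb)
        · refine .inl ?_
          have := mul_mem ha hb
          rwa [k2 hb, mul_assoc, ← mul_assoc c, cc, one_mul] at this
      inv_mem' := by
        rintro a (ha | ha)
        · exact .inl (inv_mem ha)
        · refine .inr ?_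
          have := inv_mem ha
          rwa [k2 ha, mul_inv_rev, inv_eq_of_mul_eq_one_right cc] at this }
  refine ⟨fun hg => (sup_le (fun _ => .inl) (zpowers_le.2 (.inr (cc ▸ one_mem _))) : _ ≤ L) hg, ?_⟩
  rintro (hg | hg)
  · exact mem_sup_left hg
  · have := mul_mem (mem_sup_left hg : _ ∈ K ⊔ zpowers c) (mem_sup_right (mem_zpowers c))
    rwa [mul_assoc, cc, mul_one] at this

theorem adj {K : Subgroup G} {c : G} (cc : c * c = 1) (h : K ≤ centralizer {c}) (hc : c ∉ K)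
    (h2 : ∀ k ∈ K, k * k = 1) :
    (∀ k ∈ K ⊔ zpowers c, k * k = 1) ∧ Nat.card ↥(K ⊔ zpowers c) = 2 * Nat.card K := by
  refine ⟨fun k hk => ((mem_adj cc h).1 hk).elim (h2 k) fun e => ?_, ?_⟩
  · have := h2 _ e
    rwa [mul_assoc, ← mem_centralizer_singleton_iff.1 (h e), mul_assoc, cc, mul_one] at this
  · have i : K.relIndex (K ⊔ zpowers c) = 2 := relIndex_eq_two_iff.2
      ⟨c, mem_sup_right (mem_zpowers c), fun b hb => by
        have n : b * c ∈ K → b ∈ K → False := fun h1 h2 => hc (by simpa using mul_mem (inv_mem h2) h1)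
        exact ((mem_adj cc h).1 hb).elim (fun e => .inr ⟨e, fun e' => n e' e⟩) fun e => .inl ⟨e, n e⟩⟩
    rw [← (K.subgroupOf (K ⊔ zpowers c)).card_mul_index, mul_comm,
      Nat.card_congr (subgroupOfEquivOfLe le_sup_left).toEquiv]
    exact congrArg (· * _) i

theorem c8 {a b c : G} (aa : a * a = 1) (bb : b * b = 1) (cc : c * c = 1) (ab : a * b = b * a)
    (ac : c * a = a * c) (bc : c * b = b * c) (a1 : a ≠ 1) (b1 : b ≠ 1) (b2 : a ≠ b)
    (c1 : c ≠ 1 ∧ c ≠ a ∧ c ≠ b ∧ c ≠ a * b) :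
    (∀ k ∈ closure ({a, b, c} : Set G), k * k = 1) ∧ Nat.card (closure ({a, b, c} : Set G)) = 8 := by
  have e : closure ({a, b, c} : Set G) = ⊥ ⊔ zpowers a ⊔ zpowers b ⊔ zpowers c := by
    rw [bot_sup_eq, zpowers_eq_closure, zpowers_eq_closure, zpowers_eq_closure,
      ← Subgroup.closure_union, ← Subgroup.closure_union, Set.union_assoc]; rfl
  have i : ∀ {x y : G}, y * y = 1 → x * y = 1 → x = y := fun h1 h2 => mul_right_cancel (h2.trans h1.symm)
  have l1 : ⊥ ⊔ zpowers a ≤ centralizer {b} :=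
    sup_le bot_le (zpowers_le.2 (mem_centralizer_singleton_iff.2 ab))
  have h1 := adj (K := ⊥) aa bot_le a1 (by simp)
  have h2 := adj bb l1 (by
    rw [mem_adj aa bot_le, mem_bot, mem_bot]
    exact fun h => h.elim b1 fun h => b2 (i aa h).symm) h1.1
  have h3 := adj (K := ⊥ ⊔ zpowers a ⊔ zpowers b) cc
    (sup_le (sup_le bot_le (zpowers_le.2 (mem_centralizer_singleton_iff.2 ac.symm)))
      (zpowers_le.2 (mem_centralizer_singleton_iff.2 bc.symm))) (by
    rw [mem_adj bb l1, mem_adj aa bot_le, mem_adj aa bot_le, mem_bot, mem_bot, mem_bot, mem_bot]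
    rintro ((h | h) | h | h)
    exacts [c1.1 h, c1.2.1 (i aa h), c1.2.2.1 (i bb h), c1.2.2.2 (by
      rw [← mul_one c, ← bb, ← mul_assoc, i aa h])]) h2.1
  rw [e]
  exact ⟨h3.1, by rw [h3.2, h2.2, h1.2, card_bot]⟩

theorem memX {a b g : G} : g ∈ centralizer ({a, b} : Set G) ↔ g * a = a * g ∧ g * b = b * g := by
  simp only [mem_centralizer_iff, Set.mem_insert_iff, Set.mem_singleton_iff, forall_eq_or_imp, forall_eq]
  exact and_congr eq_comm eq_comm

theorem map3 {a b g : G} (h : g ∈ centralizer ({a, b} : Set G)) (c : G) :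
    (closure ({a, b, c} : Set G)).map (MulAut.conj g).toMonoidHom = closure {a, b, g * c * g⁻¹} := by
  rw [MonoidHom.map_closure, Set.image_insert_eq, Set.image_insert_eq, Set.image_singleton]
  simp only [MulEquiv.coe_toMonoidHom, MulAut.conj_apply, (memX.1 h).1, (memX.1 h).2,
    mul_inv_cancel_right]

theorem nrm {K : Subgroup G} {g : G} :
    g ∈ normalizer (K : Set G) ↔ K.map (MulAut.conj g).toMonoidHom = K :=
  mem_normalizer_iff_map_conj_eq

variable {E : Emb m G} {F : Type} [Field F] [Fintype F]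

theorem nzδ {ψ : SL(2, F) →* G} (h : E.CaseL F ψ) {a : SL(2, F)} (ha : h.δ a ≠ 1) :
    h.δ a ≠ E.z ∧ h.δ a ≠ E.u ∧ h.δ a ≠ E.z * E.u := by
  have uu : E.u * E.u = 1 := by rw [← map_mul, W.u_mul_u, map_one]
  have nu : E.u ∉ ψ.range := fun e => by simpa [W.u] using ((h.pn.mem _).1 e).1
  refine ⟨fun e => ha ((h.δ_eq_one a).2 ?_), fun e => nu ⟨a⁻¹ * a⁻¹, ?_⟩,
    fun e => nu ⟨a⁻¹ * -1 * a⁻¹, ?_⟩⟩ <;> rw [h.δ_apply] at e
  · refine (h.pn.inf _ ⟨a, rfl⟩ ⟨a⁻¹ * -1, ?_⟩).imp (fun e => h.inj (e.trans (map_one ψ).symm))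
      fun e => h.inj (e.trans h.neg.symm)
    rw [map_mul, map_inv, h.neg, ← e, inv_mul_cancel_left]
  · rw [← mul_assoc, mul_eq_right, ← mul_assoc] at e
    rw [map_mul, map_inv]
    calc _ = (ψ a)⁻¹ * (ψ a * E.u * ψ a) * (ψ a)⁻¹ := by rw [e, mul_one]
      _ = _ := by group
  · rw [← mul_assoc, mul_left_inj] at e
    rw [map_mul, map_mul, map_inv, h.neg, ← e]; group

variable {ψ : SL(2, F) →* E.Bar} (hW : E.PW) (hL : E.bar.CaseL F ψ)

omit [Fintype F] in
theorem T_le : (centralizer {W.u m}).map E.f ≤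
    normalizer (WB E.B0 : Set G) ⊓ centralizer {E.z, E.u} := by
  rintro _ ⟨d, hd, rfl⟩
  have hd : d * W.u m = W.u m * d := mem_centralizer_singleton_iff.1 hd
  have hX : E.f d ∈ centralizer ({E.z, E.u} : Set G) :=
    memX.2 ⟨by rw [← map_mul, ← map_mul, W.z_comm], by rw [← map_mul, ← map_mul, hd]⟩
  have hy : d * W.y m = W.y m * d := W.cent_y.2 (by
    have := congrArg W.a hd
    rw [mem_T0]
    cases h : d.e
    · rfl
    · simp [h, W.u] at this)
  refine ⟨nrm.2 ?_, hX⟩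
  rw [← WB_conj, Emb.B0, map3 hX, ← map_mul, hy, map_mul, mul_inv_cancel_right]

include hW hL

theorem same {x x' : E.C} (e : E.π x = E.π x') (h : x'.1 ∈ normalizer (WB E.B0 : Set G)) :
    x.1 ∈ normalizer (WB E.B0 : Set G) := by
  have hB : E.B0 ≤ FG E.fr0 := by
    rw [Emb.FG_fr0]
    refine (closure_le _).2 ?_
    rintro _ (rfl | rfl | rfl) <;> refine ⟨_, ?_, rfl⟩ <;> simp [mem_EE, W.z, W.u, W.y, two_hh]
  have o := (hW.wb hL hW.frame0 hB Emb.card_B0 hB Emb.card_B0).2.2 0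
    (E.π_eq_one.1 (show E.π (x * x'⁻¹) = 1 by rw [map_mul, map_inv, e, mul_inv_cancel]))
  simpa using mul_mem (le_normalizer o) h

theorem lem {x : G} (hx : x ∈ normalizer (WB E.B0 : Set G) ⊓ centralizer {E.z, E.u}) (xx : x * x = 1)
    (n : x ≠ 1 ∧ x ≠ E.z ∧ x ≠ E.u ∧ x ≠ E.z * E.u) : WB (closure {E.z, E.u, x}) = WB E.B0 := by
  have p := hW.pair_zu
  obtain ⟨b1, b2⟩ := c8 (E.Z_sq p.za).1 (E.Z_sq p.zb).1 xx p.comm (memX.1 hx.2).1 (memX.1 hx.2).2
    (E.Z_sq p.za).2 (E.Z_sq p.zb).2 p.ne n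
  obtain ⟨l, hl, h⟩ := H13.exists_conj_mem_of_not_dvd_relIndex (p := 2)
    (L := normalizer (WB E.B0 : Set G) ⊓ centralizer {E.z, E.u}) (P := (centralizer {W.u m}).map E.f)
    (Q := closure {E.z, E.u, x}) ((W_p.to_subgroup _).map _)
    (fun e => (Nat.not_even_iff_odd.2 hW.syl_X) (even_iff_two_dvd.2 (e.trans
      (Dvd.intro _ (relIndex_mul_relIndex _ _ _ T_le inf_le_right)))))
    (IsPGroup.of_card (n := 3) b2) ((closure_le _).2 (by
      rintro _ (rfl | rfl | rfl)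
      exacts [T_le ⟨_, mem_centralizer_singleton_iff.2 (W.z_comm _).symm, rfl⟩,
        T_le ⟨_, mem_centralizer_singleton_iff.2 rfl, rfl⟩, hx]))
  have e := hW.wb_eq hL (B := (closure {E.z, E.u, x}).map (MulAut.conj l).toMonoidHom)
    (by rintro _ ⟨b, hb, rfl⟩; exact h b hb)
    (by rintro _ ⟨b, hb, rfl⟩; rw [← map_mul, b1 b hb, map_one])
    (by rw [card_map_of_injective (MulAut.conj l).injective, b2])
    (by rw [map3 hl.2]; exact subset_closure (.inl rfl))
    (by rw [map3 hl.2]; exact subset_closure (.inr (.inl rfl)))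
  rw [WB_conj, ← nrm.1 hl.1] at e
  exact map_injective (MulAut.conj l).injective e

theorem key {x c : E.C} {a : SL(2, F)} (hx : x.1 ∈ normalizer (WB E.B0 : Set G))
    (xu : x.1 * E.u = E.u * x.1) (xx : x * x = 1) (e : E.π x = hL.δ a) (ha : hL.δ a ≠ 1)
    (cu : c.1 * E.u = E.u * c.1) (h : (c⁻¹ * x * c).1 ∈ normalizer (WB E.B0 : Set G)) :
    c.1 ∈ normalizer (WB E.B0 : Set G) := by
  have cz := mem_centralizer_singleton_iff.1 c.2
  have hc : c.1 ∈ centralizer ({E.z, E.u} : Set G) := memX.2 ⟨cz, cu⟩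
  have hX : x.1 ∈ centralizer ({E.z, E.u} : Set G) := memX.2 ⟨mem_centralizer_singleton_iff.1 x.2, xu⟩
  have xx : x.1 * x.1 = 1 := congrArg Subtype.val xx
  obtain ⟨n1, n2, n3⟩ := nzδ hL ha
  have n : x.1 ≠ 1 ∧ x.1 ≠ E.z ∧ x.1 ≠ E.u ∧ x.1 ≠ E.z * E.u :=
    ⟨fun h => ha (by rw [← e, show x = 1 from Subtype.ext h, map_one]),
      fun h => n1 (by rw [← e, show x = E.cen.z from Subtype.ext h]; rfl),
      fun h => n2 (by rw [← e, show x = E.cen.u from Subtype.ext h]; rfl),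
      fun h => n3 (by rw [← e, show x = E.cen.z * E.cen.u from Subtype.ext h, map_mul]; rfl)⟩
  have k : ∀ {w : G}, c.1 * w = w * c.1 → x.1 ≠ w → c.1⁻¹ * x.1 * c.1 ≠ w := fun {w} h1 h2 h3 => h2 (by
    rw [mul_assoc, inv_mul_eq_iff_eq_mul, h1] at h3; exact mul_right_cancel h3)
  have e1 := lem hW hL ⟨hx, hX⟩ xx n
  have e2 := lem hW hL (x := c.1⁻¹ * x.1 * c.1) ⟨h, Subgroup.mul_mem _ (Subgroup.mul_mem _ (Subgroup.inv_mem _ hc) hX) hc⟩
    (by rw [show ∀ a b : G, a⁻¹ * b * a * (a⁻¹ * b * a) = a⁻¹ * (b * b) * a from fun a b => by group, xx,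
      mul_one, inv_mul_cancel])
    ⟨k (by simp) n.1, k cz n.2.1, k cu n.2.2.1,
      k (by rw [← mul_assoc, cz, mul_assoc, cu, mul_assoc]) n.2.2.2⟩
  rw [nrm]
  conv_lhs => rw [← e2, ← WB_conj, map3 hc]
  rw [← e1]; congr; group

end PO5x

/-! ### PO5 -/
section PO5
open PO5x in
theorem Emb.PW.X_le {E : Emb m G} {F : Type} [Field F] [Fintype F] {ψ : SL(2, F) →* E.Bar}
    (hW : E.PW) (hL : E.bar.CaseL F ψ) :
    centralizer {E.z, E.u} ≤ normalizer (WB E.B0 : Set G) := by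
  let N : Subgroup SL(2, F) :=
    { carrier := {a | ∃ x : E.C, x.1 ∈ normalizer (WB E.B0 : Set G) ∧ x.1 * E.u = E.u * x.1 ∧
        E.π x = hL.δ a}
      one_mem' := ⟨1, one_mem _, by simp, by rw [map_one, map_one]⟩
      mul_mem' := fun ⟨x, a1, a2, a3⟩ ⟨y, b1, b2, b3⟩ => ⟨x * y, mul_mem a1 b1,
        (Commute.mul_left a2 b2).eq, by rw [map_mul, map_mul, a3, b3]⟩
      inv_mem' := fun ⟨x, a1, a2, a3⟩ => ⟨x⁻¹, inv_mem a1, (Commute.inv_left a2).eq,
        by rw [map_inv, map_inv, a3]⟩ }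
  obtain ⟨i, -, ii, -, -, hi, -⟩ := hL.exists_ij
  have yu : W.y m * W.u m = W.u m * W.y m := by ext <;> simp [W.y, W.u]
  have di : E.π E.cen.y = hL.δ i := by
    rw [hL.δ_apply, hi, ← map_mul, ← map_mul, ← map_mul]
    exact congrArg E.bar.f (by
      ext <;> simp [W.y, W.u, W.c1]; linear_combination -two_kk (m := m) - two_hh (m := m))
  have di1 : hL.δ i ≠ 1 := fun e => hh_ne (congrArg W.j (E.bar.inj ((di.trans e).trans (map_one _).symm)))
  have yM := (T_le (E := E) ⟨_, mem_centralizer_singleton_iff.2 yu, rfl⟩)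
  have yu' : E.y * E.u = E.u * E.y := by rw [← map_mul, ← map_mul, yu]
  intro c hc
  obtain ⟨cz, cu⟩ := memX.1 hc
  by_cases hN : N = ⊤
  · let c' : E.C := ⟨c, mem_centralizer_singleton_iff.2 cz⟩
    obtain ⟨b, hb⟩ := hL.norm_δ (g := (E.π c')⁻¹) (Commute.inv_left (by
      change E.π c' * E.π E.cen.u = E.π E.cen.u * E.π c'
      rw [← map_mul, ← map_mul]; exact congrArg _ (Subtype.ext cu))).eq i
    obtain ⟨x, x1, -, x2⟩ : b ∈ N := hN ▸ mem_top b
    exact key hW hL (c := c') yM.1 yu' (by rw [← map_mul, W.y_mul_y, map_one]) di di1 cu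
      (same hW hL (by rw [x2, ← hb, map_mul, map_mul, map_inv, di, inv_inv]) x1)
  have ce : ∀ {a : SL(2, F)}, QuotientGroup.mk' (center _) a = 1 ↔ hL.δ a = 1 := fun {a} => by
    rw [hL.δ_eq_one, QuotientGroup.mk'_apply, QuotientGroup.eq_one_iff, PAUx.center_iff]
  have mN : ∀ {a : SL(2, F)}, QuotientGroup.mk' (center _) a ∈ N.map (QuotientGroup.mk' (center _)) →
      a ∈ N := by
    rintro a ⟨b, ⟨x, x1, x2, x3⟩, e⟩
    refine ⟨x, x1, x2, ?_⟩
    rw [x3, ← mul_inv_eq_one, ← map_inv, ← map_mul, ← ce, map_mul, map_inv, e, mul_inv_cancel]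
  have h5 := se_psl2 hL.odd hL.five (N.map (QuotientGroup.mk' (center _))) ⟨fun e => hN
    (eq_top_iff.2 fun a _ => mN (e ▸ mem_top _)), even_iff_two_dvd.2
      ((orderOf_eq_prime (p := 2) (x := QuotientGroup.mk' (center _) i) (by
        rw [← map_pow, ce, hL.δ_eq_one, pow_two, ii]; exact .inr rfl) (mt ce.1 di1)).symm.dvd.trans
      (Subgroup.orderOf_dvd_natCard _ ⟨i, ⟨_, yM.1, yu', di⟩, rfl⟩)), fun g hg => by
    obtain ⟨g, rfl⟩ := QuotientGroup.mk'_surjective _ g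
    by_contra ho
    obtain ⟨⟨t, ⟨a, ⟨x, x1, x2, x3⟩, rfl⟩, t', t1, t2⟩, ht⟩ := exists_prime_orderOf_dvd_card' 2
      (even_iff_two_dvd.1 (Nat.not_odd_iff_even.1 ho))
    rw [← Subgroup.orderOf_coe, orderOf_eq_prime_iff, ← map_pow, Ne, ce, ce, map_pow] at ht
    obtain ⟨x', y1, -, y3⟩ : g⁻¹ * a * g ∈ N := mN (by
      rw [map_mul, map_mul, map_inv, ← t2]; simpa [mul_assoc] using t1)
    obtain ⟨d, d1, d2⟩ := E.lift_cent (zpowers E.cen.u)
      (E.cen.S.isPGroup'.to_le (zpowers_le.2 (E.cen.mem _))) (hL.δ g) (by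
        rintro _ ⟨k, rfl⟩
        rw [map_zpow]
        exact (Commute.zpow_right (hL.δ_u g) k).eq)
    have du : d.1 * E.u = E.u * d.1 := congrArg Subtype.val (d2 _ (mem_zpowers _))
    obtain ⟨k, hk⟩ := OC_odd E.z
    have p : E.π (x ^ Nat.card (OC E.z)) = hL.δ a := by
      rw [map_pow, x3, hk, pow_succ, pow_mul, ht.1, one_pow, one_mul]
    refine hg ⟨g, ⟨d, key hW hL (pow_mem x1 _) (Commute.pow_left x2 _).eq ?_ p ht.2 du
      (same hW hL (by rw [y3, map_mul, map_mul, map_inv, p, d1, map_mul, map_mul, map_inv]) y1), du, d1⟩, rfl⟩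
    rw [← (Commute.refl x).mul_pow]
    have := congrArg Subtype.val (pow_card_eq_one' (x := (⟨(x * x).1, E.π_eq_one.1 (by
      rw [map_mul, x3, ← pow_two, ht.1])⟩ : OC E.z)))
    exact Subtype.ext this⟩
  have o : ∀ {a : G}, c * a = a * c → (OC a).map (MulAut.conj c).toMonoidHom = OC a := fun h =>
    nrm.1 (H3.mem_normalizer_of_forall fun p hp => OC_norm h hp)
  rw [nrm, hW.wb5 hL h5, Subgroup.map_sup, Subgroup.map_sup, o cz, o cu,
    o (by rw [← mul_assoc, cz, mul_assoc, cu, mul_assoc])]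
end PO5


end H20.P4
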