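import Mathlib
import Cfsg.Agent.H20.P0
import Cfsg.Agent.H20.PO3
import Cfsg.Agent.H29.P4A

set_option autoImplicit false
set_option linter.unusedVariables false
set_option linter.unusedSectionVars false

namespace H20.P4

open Cfsg Subgroup
open scoped MatrixGroups

universe u

variable {m : ℕ} {G : Type u} [Group G] [Finite G]

namespace PO6x

/-- a suitable 2-power of an element has odd order -/
theorem exists_pow_odd {Γ : Type*} [Group Γ] [Finite Γ] (g : Γ) :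
    ∃ s : ℕ, Odd (orderOf (g ^ 2 ^ s)) := by
  obtain ⟨s, k, hk, e⟩ := Nat.exists_eq_two_pow_mul_odd (orderOf_pos g).ne'
  refine ⟨s, hk.of_dvd_nat (orderOf_dvd_of_pow_eq_one ?_)⟩
  rw [← pow_mul, ← e, pow_orderOf_eq_one]

theorem mem_of_pow {Γ : Type*} [Group Γ] [Finite Γ] (M : Subgroup Γ) {g : Γ} (hg : Odd (orderOf g))
    {s : ℕ} (h : g ^ 2 ^ s ∈ M) : g ∈ M := by
  have hc : Nat.Coprime (2 ^ s) (orderOf g) :=
    Nat.Coprime.pow_left _ ((Nat.coprime_two_left).2 hg)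
  obtain ⟨k, hk⟩ := exists_pow_eq_self_of_coprime hc
  rw [← hk]; exact M.pow_mem h k

/-- a subgroup of odd index containing all elements of odd order is everything -/
theorem eq_top {Γ : Type*} [Group Γ] [Finite Γ] (M : Subgroup Γ) (h1 : Odd M.index)
    (h2 : ∀ g : Γ, Odd (orderOf g) → g ∈ M) : M = ⊤ := by
  let K : Subgroup Γ := normalClosure {g | Odd (orderOf g)}
  have hK : K ≤ M := by
    refine (closure_le _).2 fun x hx => ?_
    obtain ⟨a, ha, hc⟩ := Group.mem_conjugatesOfSet_iff.1 hx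
    exact h2 x (by rw [← H24.G2S.orderOf_of_isConj hc]; exact ha)
  have hp : IsPGroup 2 (Γ ⧸ K) := fun x => by
    obtain ⟨g, rfl⟩ := QuotientGroup.mk'_surjective K x
    obtain ⟨s, hs⟩ := exists_pow_odd g
    exact ⟨s, by
      rw [← map_pow, QuotientGroup.mk'_apply, QuotientGroup.eq_one_iff]
      exact subset_normalClosure hs⟩
  obtain ⟨n, hn⟩ := hp.exists_card_eq
  have hd : M.index ∣ 2 ^ n := by rw [← hn]; exact index_dvd_of_le hK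
  obtain ⟨k, -, hk⟩ := (Nat.dvd_prime_pow Nat.prime_two).1 hd
  rcases k with _ | k
  · exact index_eq_one.1 (by simpa using hk)
  · exfalso
    rw [hk, pow_succ] at h1
    exact (Nat.not_even_iff_odd.2 h1) (by simp)

theorem y_eq : W.c1 m * (W.u m * W.c1 m * W.u m) = W.y m := by
  ext <;> simp [W.c1, W.u, W.y]
  linear_combination two_kk (m := m) + two_hh (m := m)

theorem uv_eq : W.u m * (W.u m * W.v m) = W.y m * W.z m := by
  ext <;> simp [W.v, W.u, W.y, W.z]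

theorem uu_eq : W.u' m * W.u m = W.y1 m * (W.u m * W.y1 m * W.u m) * W.z m := by
  ext <;> simp [W.u', W.u, W.y1, W.z]

theorem uu_comm : W.u m * (W.u' m * W.u m) = W.u' m * W.u m * W.u m := by
  ext <;> simp [W.u', W.u]

/-- an element of odd order of `C/O(C)` centralising the quaternion generators centralises `u` -/
theorem key {E : Emb m G} {F : Type} [Field F] [Fintype F] {ψ : SL(2, F) →* E.Bar}
    (hW : E.PW) (hL : E.bar.CaseL F ψ) {d : E.Bar} (ho : Odd (orderOf d))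
    (h1 : d * E.bar.f (W.c1 m) = E.bar.f (W.c1 m) * d)
    (h2 : d * E.bar.f (W.y1 m) = E.bar.f (W.y1 m) * d)
    (h3 : d * E.bar.f (W.u m * W.c1 m * W.u m) = E.bar.f (W.u m * W.c1 m * W.u m) * d)
    (h4 : d * E.bar.f (W.u m * W.y1 m * W.u m) = E.bar.f (W.u m * W.y1 m * W.u m) * d) :
    d * E.bar.u = E.bar.u * d := by
  let T₀ : Subgroup (W m) := (centralizer {d}).comap E.bar.f
  have hT : ∀ x, x ∈ T₀ ↔ E.bar.f x * d = d * E.bar.f x := fun x =>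
    mem_centralizer_singleton_iff
  obtain ⟨c, hc, co, hc'⟩ := E.lift_odd (T₀.map E.cen.f) ((W_p.to_subgroup _).map _) d ho (by
    rintro _ ⟨x, hx, rfl⟩; exact ((hT x).1 hx).symm)
  have hcm : ∀ x ∈ T₀, (c : G) * E.f x = E.f x * c := fun x hx =>
    congrArg Subtype.val (hc' _ ⟨x, hx, rfl⟩)
  have mz : W.z m ∈ T₀ := (hT _).2 (E.bar_Cen d).symm
  have m1 : W.c1 m ∈ T₀ := (hT _).2 h1.symm
  have m2 : W.y1 m ∈ T₀ := (hT _).2 h2.symm
  have m3 : W.u m * W.c1 m * W.u m ∈ T₀ := (hT _).2 h3.symm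
  have m4 : W.u m * W.y1 m * W.u m ∈ T₀ := (hT _).2 h4.symm
  have mv : W.u m * (W.u m * W.v m) ∈ T₀ := by
    rw [uv_eq, ← y_eq]; exact T₀.mul_mem (T₀.mul_mem m1 m3) mz
  have mu : W.u' m * W.u m ∈ T₀ := by
    rw [uu_eq]; exact T₀.mul_mem (T₀.mul_mem m2 m4) mz
  let σ : Equiv.Perm (Fin 5) := ⟨![0, 3, 1, 2, 4], ![0, 2, 3, 1, 4], by decide, by decide⟩
  have hfr := hW.frame0.perm σ
  have hb := hW.b3 hL hfr
  have e0 : (E.fr0 ∘ σ) 0 = E.z := rfl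
  have e1 : (E.fr0 ∘ σ) 1 = E.f (W.u' m) := rfl
  have e2 : (E.fr0 ∘ σ) 2 = E.u := rfl
  have e3 : (E.fr0 ∘ σ) 3 = E.f (W.u m * W.v m) := rfl
  have hp := hfr.pair (k := 2) (l := 3) (by decide)
  rw [e0, e1, e2, e3] at hb
  rw [e2, e3] at hp
  have co' : Odd (orderOf (c : G)) := by rwa [orderOf_coe]
  have hw := hW.zh _ _ hp (c : G) (by rw [← map_mul]; exact hcm _ mv) co'
  let w : E.C := c * E.cen.f (W.u m) * c⁻¹ * E.cen.f (W.u m)
  have hw' : (w : G) = c * E.u * (c : G)⁻¹ * E.u := rfl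
  have hcu : (w : G) ∈ centralizer {E.f (W.u' m) * E.u} := by
    rw [← map_mul]
    have a1 : (c : G) ∈ centralizer {E.f (W.u' m * W.u m)} :=
      mem_centralizer_singleton_iff.2 (hcm _ mu)
    have a2 : E.u ∈ centralizer {E.f (W.u' m * W.u m)} :=
      mem_centralizer_singleton_iff.2 (by rw [← map_mul, ← map_mul, uu_comm])
    rw [hw']
    exact mul_mem (mul_mem (mul_mem a1 a2) (inv_mem a1)) a2
  have hz : (w : G) ∈ OC E.z := hb ⟨⟨hw' ▸ hw, w.2⟩, hcu⟩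
  have hπ := (E.π_eq_one).2 hz
  have hu : E.bar.u * E.bar.u = 1 := by rw [← map_mul, W.u_mul_u, map_one]
  have e : d * E.bar.u * d⁻¹ * E.bar.u = 1 := by
    rw [← hπ, ← hc]; simp only [w, map_mul, map_inv]; rfl
  calc d * E.bar.u = d * E.bar.u * d⁻¹ * (E.bar.u * E.bar.u) * d := by rw [hu]; group
    _ = (d * E.bar.u * d⁻¹ * E.bar.u) * E.bar.u * d := by group
    _ = _ := by rw [e, one_mul]

section M
variable {E : Emb m G} {F : Type} [Field F] [Fintype F] {ψ : SL(2, F) →* G} (h : E.CaseL F ψ)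
include h

theorem uu : E.u * E.u = 1 := by rw [← map_mul, W.u_mul_u, map_one]

theorem n2 (b : SL(2, F)) :
    E.u * ψ b * E.u * E.u * (E.u * ψ b * E.u)⁻¹ = ψ b⁻¹ * E.u * (ψ b⁻¹)⁻¹ := by
  have hu := uu h
  have hi : E.u⁻¹ = E.u := inv_eq_of_mul_eq_one_right hu
  have h1 := h.pn.comm _ ⟨b⁻¹, rfl⟩ _ ⟨b, rfl⟩
  rw [map_inv] at h1 ⊢
  rw [mul_inv_rev, mul_inv_rev, hi, inv_inv]
  calc E.u * ψ b * E.u * E.u * (E.u * ((ψ b)⁻¹ * E.u))
      = E.u * ψ b * E.u * (E.u * E.u) * (ψ b)⁻¹ * E.u := by group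
    _ = (E.u * ψ b * E.u * (ψ b)⁻¹) * E.u := by rw [hu]; group
    _ = (ψ b)⁻¹ * E.u * ψ b * (E.u * E.u) := by rw [← h1]; group
    _ = _ := by rw [hu, mul_one]

theorem conj_cases (g : G) (a : SL(2, F)) :
    (∃ b, g * ψ a * g⁻¹ = ψ b) ∨ ∃ b, g * ψ a * g⁻¹ = E.u * ψ b * E.u := by
  rcases h.pn.norm g with h1 | h1
  · obtain ⟨b, hb⟩ := h1 _ ⟨a, rfl⟩
    exact Or.inl ⟨b, hb.symm⟩
  · obtain ⟨b, hb⟩ := h1 _ ⟨a, rfl⟩
    refine Or.inr ⟨b, ?_⟩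
    rw [hb]
    calc g * ψ a * g⁻¹ = (E.u * E.u) * (g * ψ a * g⁻¹) * (E.u * E.u) := by rw [uu h]; group
      _ = _ := by group

/-- the elements moving `u` inside its `N₁`-class -/
def M : Subgroup G where
  carrier := {g | ∃ B, g * E.u * g⁻¹ = ψ B * E.u * (ψ B)⁻¹}
  one_mem' := ⟨1, by simp⟩
  mul_mem' := by
    rintro g g' ⟨B, hB⟩ ⟨B', hB'⟩
    have e : g * g' * E.u * (g * g')⁻¹ =
        (g * ψ B' * g⁻¹) * (ψ B * E.u * (ψ B)⁻¹) * (g * ψ B' * g⁻¹)⁻¹ := by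
      rw [← hB]
      calc g * g' * E.u * (g * g')⁻¹ = g * (g' * E.u * g'⁻¹) * g⁻¹ := by group
        _ = _ := by rw [hB']; group
    rcases conj_cases h g B' with ⟨b, hb⟩ | ⟨b, hb⟩
    · exact ⟨b * B, by rw [e, hb, map_mul]; group⟩
    · refine ⟨B * b⁻¹, ?_⟩
      have h1 := h.pn.comm _ ⟨B, rfl⟩ _ ⟨b, rfl⟩
      rw [e, hb, map_mul]
      calc E.u * ψ b * E.u * (ψ B * E.u * (ψ B)⁻¹) * (E.u * ψ b * E.u)⁻¹
          = (E.u * ψ b * E.u * ψ B) * E.u * (E.u * ψ b * E.u * ψ B)⁻¹ := by group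
        _ = ψ B * (E.u * ψ b * E.u * E.u * (E.u * ψ b * E.u)⁻¹) * (ψ B)⁻¹ := by rw [← h1]; group
        _ = _ := by rw [n2 h]; group
  inv_mem' := by
    rintro g ⟨B, hB⟩
    have e : g⁻¹ * E.u * g⁻¹⁻¹ = (g⁻¹ * ψ B⁻¹ * g⁻¹⁻¹) * E.u * (g⁻¹ * ψ B⁻¹ * g⁻¹⁻¹)⁻¹ := by
      rw [map_inv]
      calc g⁻¹ * E.u * g⁻¹⁻¹ = g⁻¹ * (ψ B)⁻¹ * (ψ B * E.u * (ψ B)⁻¹) * ψ B * g := by group
        _ = _ := by rw [← hB]; group
    rcases conj_cases h g⁻¹ B⁻¹ with ⟨b, hb⟩ | ⟨b, hb⟩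
    · exact ⟨b, by rw [e, hb]⟩
    · exact ⟨b⁻¹, by rw [e, hb, n2 h]⟩

theorem mem_M {g : G} : g ∈ M h ↔ ∃ B, g * E.u * g⁻¹ = ψ B * E.u * (ψ B)⁻¹ := Iff.rfl

theorem L_le : normalClosure (ψ.range : Set G) ≤ M h := by
  refine (closure_le _).2 fun x hx => ?_
  obtain ⟨_, ⟨a, rfl⟩, hc⟩ := Group.mem_conjugatesOfSet_iff.1 hx
  obtain ⟨g, rfl⟩ := isConj_iff.1 hc
  rcases conj_cases h g a with ⟨b, hb⟩ | ⟨b, hb⟩
  · exact ⟨b, by rw [hb]⟩
  · exact ⟨b⁻¹, by rw [hb, n2 h]⟩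

theorem S_le : E.f.range ≤ M h := by
  rintro _ ⟨x, rfl⟩
  obtain ⟨a, ha, e⟩ := W.conj_u (isConj_iff.2 ⟨x, rfl⟩ : IsConj (W.u m) (x * W.u m * x⁻¹))
  obtain ⟨B, hB⟩ := (h.pn.mem a).2 ha
  refine ⟨B, ?_⟩
  rw [hB, ← map_inv, ← map_inv, ← map_mul, ← map_mul, ← map_mul, ← map_mul, e]

/-- an element of odd order is congruent modulo `L` to one centralising the quaternion generators -/
theorem adjust {i j : SL(2, F)} (hq : H29.P4A.QP i j) {g : G} (hg : Odd (orderOf g)) :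
    ∃ l ∈ normalClosure (ψ.range : Set G), l⁻¹ * g * ψ i = ψ i * (l⁻¹ * g) ∧
      l⁻¹ * g * ψ j = ψ j * (l⁻¹ * g) ∧
      l⁻¹ * g * (E.u * ψ i * E.u) = E.u * ψ i * E.u * (l⁻¹ * g) ∧
      l⁻¹ * g * (E.u * ψ j * E.u) = E.u * ψ j * E.u * (l⁻¹ * g) := by
  have hu := uu h
  have hi : E.u⁻¹ = E.u := inv_eq_of_mul_eq_one_right hu
  obtain ⟨α, ao, hα⟩ := h.aut_of_odd hg
  have hg' : Odd (orderOf (E.u * g * E.u⁻¹)) := by
    rw [← H24.G2S.orderOf_of_isConj (isConj_iff.2 ⟨E.u, rfl⟩ : IsConj g _)]; exact hg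
  obtain ⟨β, bo, hβ⟩ := h.aut_of_odd hg'
  obtain ⟨c, c1, c2⟩ := H29.P4A.rel_odd h.odd hq α ao
  obtain ⟨k, k1, k2⟩ := H29.P4A.rel_odd h.odd hq β bo
  have A : ∀ a, c * a * c⁻¹ = α a →
      (ψ c * (E.u * ψ k * E.u))⁻¹ * g * ψ a = ψ a * ((ψ c * (E.u * ψ k * E.u))⁻¹ * g) := by
    intro a ha
    have e1 : g * ψ a = ψ c * ψ a * (ψ c)⁻¹ * g := by
      rw [← map_inv, ← map_mul, ← map_mul, ha, ← hα]; group
    have e2 := h.pn.comm _ ⟨a, rfl⟩ _ ⟨k, rfl⟩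
    calc (ψ c * (E.u * ψ k * E.u))⁻¹ * g * ψ a
        = (E.u * ψ k * E.u)⁻¹ * (ψ c)⁻¹ * (g * ψ a) := by group
      _ = (E.u * ψ k * E.u)⁻¹ * (ψ a * (E.u * ψ k * E.u)) * (E.u * ψ k * E.u)⁻¹ * (ψ c)⁻¹ * g := by
        rw [e1]; group
      _ = _ := by rw [e2]; group
  have B : ∀ a, k * a * k⁻¹ = β a → (ψ c * (E.u * ψ k * E.u))⁻¹ * g * (E.u * ψ a * E.u) =
      E.u * ψ a * E.u * ((ψ c * (E.u * ψ k * E.u))⁻¹ * g) := by
    intro a ha
    have e1 : g * (E.u * ψ a * E.u) = E.u * ψ (k * a * k⁻¹) * E.u * g := by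
      rw [ha, ← hβ]
      calc g * (E.u * ψ a * E.u)
          = (E.u * E.u) * g * E.u⁻¹ * ψ a * E.u := by rw [hu, hi]; group
        _ = _ := by group
    have e2 := h.pn.comm _ ⟨c, rfl⟩ _ ⟨k * a * k⁻¹, rfl⟩
    have e3 : E.u * ψ (k * a * k⁻¹) * E.u =
        (E.u * ψ k * E.u) * (E.u * ψ a * E.u) * (E.u * ψ k * E.u)⁻¹ := by
      rw [map_mul, map_mul, map_inv]
      calc E.u * (ψ k * ψ a * (ψ k)⁻¹) * E.u
          = E.u * ψ k * (E.u * E.u) * ψ a * (ψ k)⁻¹ * E.u := by rw [hu]; group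
        _ = _ := by rw [mul_inv_rev, mul_inv_rev, hi]
                    calc _ = E.u * ψ k * (E.u * E.u) * ψ a * (E.u * E.u) * (ψ k)⁻¹ * E.u := by
                          rw [hu]; group
                      _ = _ := by group
    calc (ψ c * (E.u * ψ k * E.u))⁻¹ * g * (E.u * ψ a * E.u)
        = (E.u * ψ k * E.u)⁻¹ * (ψ c)⁻¹ * (g * (E.u * ψ a * E.u)) := by group
      _ = (E.u * ψ k * E.u)⁻¹ * (ψ c)⁻¹ * (E.u * ψ (k * a * k⁻¹) * E.u * ψ c) * (ψ c)⁻¹ * g := by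
        rw [e1]; group
      _ = (E.u * ψ k * E.u)⁻¹ * (E.u * ψ (k * a * k⁻¹) * E.u) * (ψ c)⁻¹ * g := by
        rw [← e2]; group
      _ = _ := by rw [e3]; group
  refine ⟨ψ c * (E.u * ψ k * E.u), ?_, A i c1, A j c2, B i k1, B j k2⟩
  refine mul_mem (subset_normalClosure ⟨c, rfl⟩) ?_
  have := (normalClosure_normal (s := (ψ.range : Set G))).conj_mem _
    (subset_normalClosure ⟨k, rfl⟩) E.u
  rwa [hi] at this

end M

end PO6x

/-! ### PO6 -/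
section PO6
theorem Emb.PW.cu {E : Emb m G} {F : Type} [Field F] [Fintype F] {ψ : SL(2, F) →* E.Bar}
    (hW : E.PW) (hL : E.bar.CaseL F ψ) : E.bar.CU ψ := by
  have hM : PO6x.M hL = ⊤ := by
    refine PO6x.eq_top _ (E.bar.odd.of_dvd_nat (index_dvd_of_le (PO6x.S_le hL))) fun g hg => ?_
    obtain ⟨i, j, hi, hj, hij, ei, ej, -⟩ := hL.exists_ij
    obtain ⟨l, hl, h1, h2, h3, h4⟩ := PO6x.adjust hL ⟨hi, hj, hij⟩ hg
    obtain ⟨s, hs⟩ := PO6x.exists_pow_odd (l⁻¹ * g)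
    rw [ei] at h1 h3
    rw [ej] at h2 h4
    have hk := PO6x.key hW hL hs (Commute.pow_left h1 _) (Commute.pow_left h2 _)
      (by rw [map_mul, map_mul]; exact Commute.pow_left h3 _)
      (by rw [map_mul, map_mul]; exact Commute.pow_left h4 _)
    have hd : (l⁻¹ * g) ^ 2 ^ s ∈ PO6x.M hL := ⟨1, by rw [hk]; simp⟩
    have hq : ((l⁻¹ * g) ^ 2 ^ s)⁻¹ * g ^ 2 ^ s ∈ normalClosure (ψ.range : Set E.Bar) := by
      rw [← QuotientGroup.eq, QuotientGroup.mk_pow, QuotientGroup.mk_pow, QuotientGroup.mk_mul,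
        (QuotientGroup.eq_one_iff _).2 (inv_mem hl), one_mul]
    refine PO6x.mem_of_pow _ hg (s := s) ?_
    have := mul_mem hd (PO6x.L_le hL hq)
    rwa [mul_inv_cancel_left] at this
  intro g
  exact (PO6x.mem_M hL).1 (hM ▸ mem_top g)
end PO6

end H20.P4
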