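import Mathlib
import Cfsg.Agent.H20.P0
import Cfsg.Agent.H20.PO5
import Cfsg.Agent.H20.PO6
import Cfsg.Agent.H20.PHO

set_option autoImplicit false
set_option linter.unusedVariables false
set_option linter.unusedSectionVars false

namespace H20.P4

open Cfsg Subgroup
open scoped MatrixGroups

universe u

variable {m : ℕ} {G : Type u} [Group G] [Finite G]

/-! ### PO7 -/
section PO7
theorem Emb.PW.core_L [IsSimpleGroup G] {E : Emb m G} {F : Type} [Field F] [Fintype F]
    {ψ : SL(2, F) →* E.Bar} (hW : E.PW) (hL : E.bar.CaseL F ψ) :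
    oddCore E.C = ⊥ ∨ Nonempty (G ≃* alternatingGroup (Fin 9)) := by
  refine (em _).imp id fun hO => ?_
  have F0 := hW.frame0
  have hB : E.B0 ≤ FG E.fr0 := by
    rw [Emb.FG_fr0]
    refine (closure_le _).2 ?_
    rintro _ (rfl | rfl | rfl) <;> exact ⟨_, by simp [mem_EE, W.z, W.u, W.y, two_hh], rfl⟩
  have zB : E.z ∈ E.B0 := subset_closure (by simp)
  have uB : E.u ∈ E.B0 := subset_closure (by simp)
  have yB : E.y ∈ E.B0 := subset_closure (by simp)
  obtain ⟨-, wo, wO⟩ := hW.wb hL F0 hB E.card_B0 hB E.card_B0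
  have OW : OC E.z ≤ WB E.B0 := wO 0
  set M := normalizer (WB E.B0 : Set G) with hM
  have nrm : ∀ g : G, WB (E.B0.map (MulAut.conj g).toMonoidHom) = WB E.B0 → g ∈ M := fun g h =>
    H24.mem_N_iff_cj.2 ((WB_conj g _).symm.trans h)
  have z2 := E.Z_sq (IsConj.refl E.z)
  have hX := hW.X_le hL
  have hC : E.C ≤ M := by
    let M' := (M.subgroupOf E.C).map E.π
    have cu : ∀ γ : E.Bar, γ * E.bar.u = E.bar.u * γ → γ ∈ M' := fun γ h => by
      obtain ⟨c, rfl, hc⟩ := E.lift_cent (zpowers E.cen.u)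
        (E.cen.S.isPGroup'.to_le (zpowers_le.2 (E.cen.mem _))) γ (by
          rintro _ ⟨n, rfl⟩
          exact (map_zpow E.π _ n).symm ▸ ((show Commute γ _ from h).zpow_right n).eq)
      refine ⟨c, hX ?_, rfl⟩
      rintro _ (rfl | rfl)
      · exact (mem_centralizer_singleton_iff.1 c.2).symm
      · exact (congrArg Subtype.val (hc _ (mem_zpowers _))).symm
    obtain ⟨i, j, hi, -, -, ei, -⟩ := hL.exists_ij
    have c1 : ψ i ∈ M' := by
      refine ⟨E.cen.f (W.c1 m), nrm (E.f (W.c1 m)) (congrArg WB (eq_of_le_of_card_ge ?_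
        ((card_map_of_injective (MulAut.conj _).injective).ge))), ei.symm⟩
      rw [Emb.B0, MonoidHom.map_closure, closure_le]
      have e : ∀ x, (MulAut.conj (E.f (W.c1 m))).toMonoidHom (E.f x) =
          E.f (W.c1 m * x * (W.c1 m)⁻¹) := fun x => by simp
      rintro _ ⟨_, rfl | rfl | rfl, rfl⟩ <;> rw [e]
      · rwa [W.z_comm, mul_inv_cancel_right]
      · have : W.c1 m * W.u m * (W.c1 m)⁻¹ = W.u m * W.z m * W.y m := by
          have k4 : kk m + kk m + (kk m + kk m) = 0 := by rw [← two_mul (kk m), two_kk, hh_add_hh]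
          ext <;> simp [W.c1, W.u, W.z, W.y, ← two_kk, two_mul]
          · linear_combination k4
          · exact k4
        rw [this, map_mul, map_mul]
        exact mul_mem (mul_mem uB zB) yB
      · rwa [show W.c1 m * W.y m * (W.c1 m)⁻¹ = W.y m by ext <;> simp [W.c1, W.y]]
    have hψ := fun a => (hL.gen_L M' hi (fun a => cu _ (hL.δ_u a))
      (fun a => mul_mem (mul_mem c1 (cu _ (hL.δ_u a))) (inv_mem c1)) a).1
    intro c hc
    obtain ⟨B, e⟩ := hW.cu hL (E.π ⟨c, hc⟩)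
    obtain ⟨c', h1, h2⟩ : E.π ⟨c, hc⟩ ∈ M' := (mul_mem_cancel_left (inv_mem (hψ B))).1 (cu _ (by
      rw [← mul_inv_eq_iff_eq_mul, mul_inv_rev, mul_assoc, mul_assoc, ← mul_assoc E.bar.u,
        ← mul_assoc (E.π _), ← mul_assoc (E.π _), e]; group))
    have := le_normalizer (OW ((E.π_eq_one (p := c'⁻¹ * ⟨c, hc⟩)).1 (by
      rw [map_mul, map_inv, h2, inv_mul_cancel])))
    exact (mul_mem_cancel_left (inv_mem (show (c' : G) ∈ M from h1))).1 this
  refine E.holt (M := M) (fun e => ?_) hC (fun x hx => ?_)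
    ⟨W.y m, W.y_mul_y, fun e => hh_ne (congrArg W.j e), hW.not_Z_y⟩
  · rcases (normalizer_eq_top_iff.1 e).eq_bot_or_eq_top with h | h
    · exact hO ((map_eq_bot_iff_of_injective _ E.C.subtype_injective).1 (le_bot_iff.1 (h ▸ OW)))
    · have := wo.of_dvd_nat (orderOf_dvd_natCard _ (h ▸ mem_top E.z))
      rw [orderOf_eq_prime (p := 2) (by rw [pow_two, z2.1]) z2.2] at this
      exact absurd this (by decide)
  rcases (hW x).1 hx with rfl | h
  · exact ⟨1, one_mem _, by simp⟩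
  obtain ⟨d, rfl⟩ := isConj_iff.1 h
  have p := hW.pair_zu
  obtain ⟨g, g1, g2⟩ := hW.pair_conj ⟨p.zb, p.za, p.ne.symm, p.comm.symm⟩
  have c8 : ∀ g : G, Nat.card (E.B0.map (MulAut.conj g).toMonoidHom) = 8 := fun g =>
    (card_map_of_injective (MulAut.conj g).injective).trans E.card_B0
  have pX : IsPGroup 2 (((centralizer {W.u m}).map E.f).subgroupOf (centralizer {E.z, E.u})) :=
    ((W_p.to_subgroup (centralizer {W.u m})).map E.f).comap_subtype
  obtain ⟨k, hk⟩ := H24.G2S.exists_conj_le_sylow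
    (pX.toSylow (by
        have := hW.syl_X
        rwa [← Nat.not_even_iff_odd, even_iff_two_dvd] at this))
    ((E.B0.map (MulAut.conj g).toMonoidHom).subgroupOf _)
    (IsPGroup.of_card (n := 3) (c8 g)).comap_subtype
  have cm : ∀ a ∈ E.B0, ∀ b ∈ E.B0, g * a * g⁻¹ * (g * b * g⁻¹) = g * b * g⁻¹ * (g * a * g⁻¹) :=
    fun a ha b hb => by
      rw [conj_mul, conj_mul]
      congr 2
      exact congrArg Subtype.val (F0.ea.1.is_comm.comm (⟨a, hB ha⟩ : FG E.fr0) ⟨b, hB hb⟩)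
  have kz : k * E.z * (k : G)⁻¹ = E.z := by rw [← k.2 _ (by simp), mul_inv_cancel_right]
  have ku : k * E.u * (k : G)⁻¹ = E.u := by rw [← k.2 _ (by simp), mul_inv_cancel_right]
  have e1 : k * g * E.u * ((k : G) * g)⁻¹ = E.z :=
    Eq.trans (by group) ((congrArg (fun a => (k : G) * a * (k : G)⁻¹) g1).trans kz)
  have e2 : k * g * E.z * ((k : G) * g)⁻¹ = E.u :=
    Eq.trans (by group) ((congrArg (fun a => (k : G) * a * (k : G)⁻¹) g2).trans ku)
  have := nrm (k * g) (hW.wb_eq hL ?_ ?_ (c8 _) ⟨_, uB, e1⟩ ⟨_, zB, e2⟩)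
  · refine ⟨k * g * (E.f d)⁻¹, mul_mem this (inv_mem (hC (E.mem_C d))), ?_⟩
    refine Eq.trans ?_ e1
    rw [map_mul, map_mul, map_inv]
    show _ = k * g * E.f (W.u m) * _
    group
  · rintro _ ⟨b, hb, rfl⟩
    have := hk ⟨g * b * g⁻¹, by
      rintro _ (rfl | rfl)
      · rw [← g1]; exact cm _ uB _ hb
      · rw [← g2]; exact cm _ zB _ hb⟩ ⟨b, hb, rfl⟩
    convert (show (k : G) * (g * b * g⁻¹) * (k : G)⁻¹ ∈ (centralizer {W.u m}).map E.f from this)
      using 1
    simp [mul_assoc]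
  · rintro _ ⟨b, hb, rfl⟩
    rw [← map_mul, ← pow_two, F0.ea.2 b (hB hb), map_one]
end PO7


end H20.P4
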