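import Mathlib
import Cfsg.Agent.H20.P0
import Cfsg.Agent.H20.PFR
import Cfsg.Agent.S0205

set_option autoImplicit false
set_option linter.unusedVariables false
set_option linter.unusedSectionVars false
set_option synthInstance.maxSize 4000

namespace H20.P4

open Cfsg Subgroup
open scoped MatrixGroups

universe u

variable {m : ℕ} {G : Type u} [Group G] [Finite G]

/-! ### PSB -/
section PSB
namespace PSBx
variable {E : Emb 0 G}

theorem uu (E : Emb 0 G) : E.u * E.u = 1 := by rw [← map_mul, W.u_mul_u, map_one]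
theorem ui (E : Emb 0 G) : E.u⁻¹ = E.u := inv_eq_of_mul_eq_one_left (uu E)
theorem pQ (E : Emb 0 G) (T : Subgroup (W 0)) : IsPGroup 2 (T.map E.f) := (W_p.to_subgroup T).map _

theorem uQ {a : G} (h : E.u * a * E.u ∈ (Q1 0).map E.f) : a ∈ (Q 0).map E.f := by
  obtain ⟨x, hx, e⟩ := h
  refine ⟨W.u 0 * x * W.u 0, W.Q2_le (W.u_Q1.2 hx), ?_⟩
  rw [map_mul, map_mul, e, ← mul_assoc, ← mul_assoc, uu, one_mul, mul_assoc, uu, mul_one]

theorem inQ (h : E.CaseS) (g : G) {a : W 0} (ha : a ∈ Q1 0) : g * E.f a * g⁻¹ ∈ (Q 0).map E.f :=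
  (h.2.norm g).elim (fun k => map_mono W.Q1_le (k _ ⟨a, ha, rfl⟩)) fun k => uQ (k _ ⟨a, ha, rfl⟩)

/-- the normaliser of `Q₁` has index 2 -/
theorem idx (h : E.CaseS) : (normalizer (((Q1 0).map E.f : Subgroup G) : Set G)).index = 2 ∧
    E.u ∉ normalizer (((Q1 0).map E.f : Subgroup G) : Set G) := by
  have u0 : E.u ∉ normalizer (((Q1 0).map E.f : Subgroup G) : Set G) := fun k => by
    have := H24.conj_mem k (mem_map_of_mem E.f (mem_Q1.2 (by decide) : W.x1 0 ∈ _))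
    rw [← map_inv, ← map_mul, ← map_mul, h.2.mem, mem_Q1] at this
    revert this; decide
  refine ⟨index_eq_two_iff'.2 ⟨E.u, fun b => ?_⟩, u0⟩
  by_cases hb : b ∈ normalizer (((Q1 0).map E.f : Subgroup G) : Set G)
  · exact .inr ⟨hb, fun k => u0 ((mul_mem_cancel_right hb).1 k)⟩
  · refine .inl ⟨H24.mem_N_of_finite fun a ha => ?_, hb⟩
    have := (h.2.norm b).resolve_left (fun k => hb (H24.mem_N_of_finite k)) a ha
    rwa [mul_inv_rev, ui, show E.u * b * a * (b⁻¹ * E.u) = E.u * (b * a * b⁻¹) * E.u by group]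

theorem QN : (Q 0).map E.f ≤ normalizer (((Q1 0).map E.f : Subgroup G) : Set G) := by
  rintro _ ⟨d, hd, rfl⟩
  refine H24.mem_N_of_finite ?_
  rintro _ ⟨a, ha, rfl⟩
  exact ⟨_, W.conj_Q1 hd ha, by rw [map_mul, map_mul, map_inv]⟩

theorem odd_rel (h : E.CaseS) :
    Odd (((Q 0).map E.f).relIndex (normalizer (((Q1 0).map E.f : Subgroup G) : Set G))) := by
  have h1 := relIndex_mul_index (QN (E := E))
  have h2 := relIndex_mul_index (map_le_range E.f (Q 0))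
  rw [(idx h).1, ← h2, MonoidHom.range_eq_map, relIndex_map_map_of_injective _ _ E.inj, relIndex_top_right,
    W.index_Q, mul_comm 2, Nat.mul_left_inj two_ne_zero, ← MonoidHom.range_eq_map] at h1
  exact h1 ▸ E.odd

end PSBx
open PSBx
namespace Emb.CaseS
variable {E : Emb 0 G} (h : E.CaseS)
include h
theorem normal : ((Q 0).map E.f).Normal := ⟨by
  rintro _ ⟨x, hx, rfl⟩ g
  obtain ⟨a, ha, b, hb, rfl⟩ := W.mem_Q_iff.1 hx
  have := inQ h (g * E.u) (W.u_Q2.2 hb)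
  rw [map_mul, map_mul, mul_inv_rev, ui, show g * E.u * (E.u * E.f b * E.u) * (E.u * g⁻¹) =
    g * (E.u * E.u) * E.f b * (E.u * E.u) * g⁻¹ by group, uu, mul_one, mul_one] at this
  rw [map_mul, ← conj_mul]
  exact mul_mem (inQ h g ha) this⟩
theorem cent {g : G} (hg : ∀ x ∈ Q 0, g * E.f x = E.f x * g) : g = 1 ∨ g = E.z := by
  refine h.2.cent g ?_ ?_
  · rintro _ ⟨a, ha, rfl⟩
    exact hg a (W.Q1_le ha)
  · rintro _ ⟨a, ha, rfl⟩
    rw [← map_mul, ← map_mul]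
    exact hg _ (W.Q2_le (W.u_Q1.2 ha))
theorem solvable : Group.IsSolvable G := by
  have := h.normal
  have := normal_of_index_eq_two (idx h).1
  have p2 : ∀ {H : Type u} [Group H] [Finite H], IsPGroup 2 H → Group.IsSolvable H := fun k =>
    have := k.isNilpotent; inferInstance
  refine H2.isSolvable_of_normal_quotient (normalizer (((Q1 0).map E.f : Subgroup G) : Set G))
    (H2.isSolvable_of_normal_quotient (((Q 0).map E.f).subgroupOf _) (p2 (pQ E _).comap_subtype)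
      (Cfsg.Agent.S0205.result (odd_rel h))) (p2 (IsPGroup.of_card (n := 1) (idx h).1))
theorem psb_cm {P : Subgroup G} (hP : Odd (Nat.card P)) {g p : G} (hg : g ∈ (Q 0).map E.f) (hp : p ∈ P)
    (k : g * p * g⁻¹ ∈ P) : g * p = p * g := by
  have := H3.eq_one_of_mem_of_coprime (pQ E _) (show g * (p * g⁻¹ * p⁻¹) ∈ _ from
    mul_mem hg (h.normal.conj_mem _ (inv_mem hg) p)) (H3.orderOf_coprime_of_mem (Nat.coprime_two_right.2 hP)
      (by rw [← mul_assoc, ← mul_assoc]; exact mul_mem k (inv_mem hp)))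
  rw [← mul_assoc, ← mul_assoc, mul_inv_eq_one, mul_inv_eq_iff_eq_mul] at this
  exact this
theorem psb_key {T P : Subgroup G} (hT : IsPGroup 2 T) (hP : Odd (Nat.card P)) (hc : T ≤ centralizer P)
    (hn : ∀ g ∈ (Q 0).map E.f, g ∈ centralizer (T : Set G) → ∀ p ∈ P, g * p * g⁻¹ ∈ P) : P = ⊥ := by
  have := h.normal
  have k := H1.p_times_q 2 T P ((Q 0).map E.f) hT (Nat.coprime_two_right.2 hP) (pQ E _) hc
    le_normalizer_of_normal le_normalizer_of_normal fun g hg p hp =>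
      (h.psb_cm hP hg.1 hp (hn g hg.1 hg.2 p hp)).symm
  refine eq_bot_iff.2 fun p hp => mem_bot.2 ?_
  refine (h.cent fun x hx => (k hp _ ⟨x, hx, rfl⟩).symm).elim id fun e => ?_
  exact H3.eq_one_of_mem_of_coprime (pQ E ⊤) ⟨_, trivial, e.symm⟩
    (H3.orderOf_coprime_of_mem (Nat.coprime_two_right.2 hP) hp)
theorem odd_inv (P : Subgroup G) (hP : Odd (Nat.card P))
    (hn : ∀ x ∈ EE 0, x ∈ Q 0 → ∀ p ∈ P, E.f x * p * (E.f x)⁻¹ ∈ P) : P = ⊥ := by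
  refine h.psb_key (pQ E (EE 0 ⊓ Q 0)) hP ?_ ?_
  · rintro _ ⟨x, hx, rfl⟩ p hp
    exact (h.psb_cm hP ⟨x, hx.2, rfl⟩ hp (hn x hx.1 hx.2 p hp)).symm
  · rintro _ ⟨x, hx, rfl⟩ k
    refine hn x ?_ hx
    have k1 := k _ ⟨W.y 0, ⟨mem_EE.2 (by decide), rfl⟩, rfl⟩
    have k2 := k _ ⟨W.t 0, ⟨mem_EE.2 (by decide), rfl⟩, rfl⟩
    rw [← map_mul, ← map_mul] at k1 k2
    have := (by decide +kernel : ∀ x : W 0, x.a = x.b → W.y 0 * x = x * W.y 0 → W.t 0 * x = x * W.t 0 →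
      x.e = false ∧ 2 * x.i = 0 ∧ 2 * x.j = 0)
    exact this x hx (E.inj k1) (E.inj k2)
theorem odd_cent {b : G} (hb : b * b = 1) (P : Subgroup G) (hP : Odd (Nat.card P))
    (hc : P ≤ centralizer {b}) (hn : ∀ g, g * b = b * g → ∀ p ∈ P, g * p * g⁻¹ ∈ P) : P = ⊥ :=
  h.psb_key (T := zpowers b) ((H24.piElt_of_pow_eq_one (H24.piNat_self Nat.prime_two)
    (by rw [sq, hb])).isPi.isPGroup Nat.prime_two)
    hP (zpowers_le.2 fun p hp => mem_centralizer_singleton_iff.1 (hc hp))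
    fun g _ k => hn g (k b (mem_zpowers b)).symm
theorem psb_α (τ : G) : ∃ α : W 0 → W 0, ∀ x ∈ Q 0, α x ∈ Q 0 ∧ τ * E.f x * τ⁻¹ = E.f (α x) := by
  have : ∀ x : W 0, ∃ y, x ∈ Q 0 → y ∈ Q 0 ∧ τ * E.f x * τ⁻¹ = E.f y := fun x => by
    by_cases hx : x ∈ Q 0
    · obtain ⟨y, hy, e⟩ := h.normal.conj_mem _ ⟨x, hx, rfl⟩ τ
      exact ⟨y, fun _ => ⟨hy, e.symm⟩⟩
    · exact ⟨1, fun k => absurd k hx⟩
  choose α hα using this
  exact ⟨α, hα⟩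
theorem psb_mul {τ : G} {α : W 0 → W 0} (hα : ∀ x ∈ Q 0, α x ∈ Q 0 ∧ τ * E.f x * τ⁻¹ = E.f (α x))
    {x y : W 0} (hx : x ∈ Q 0) (hy : y ∈ Q 0) : α (x * y) = α x * α y :=
  E.inj (by rw [← (hα _ (mul_mem hx hy)).2, map_mul, map_mul, ← (hα x hx).2, ← (hα y hy).2, conj_mul])
theorem psb_z {τ : G} {α : W 0 → W 0} (hα : ∀ x ∈ Q 0, α x ∈ Q 0 ∧ τ * E.f x * τ⁻¹ = E.f (α x)) :
    α 1 = 1 ∧ α (W.z 0) = W.z 0 :=
  ⟨E.inj (by rw [← (hα _ (one_mem _)).2, map_one, mul_one, mul_inv_cancel]),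
    E.inj (by rw [← (hα _ rfl).2, h.2.cen, mul_inv_cancel_right])⟩
/-- an element acting on `Q₁/⟨z⟩` and `Q₂/⟨z⟩` as opposite 3-cycles -/
theorem anti (ht : ∃ x ∈ Q 0, x * x = 1 ∧ x ∉ EE 0 ∧ ∃ x' ∈ EE 0, IsConj (E.f x) (E.f x')) :
    ∃ (τ : G) (α : W 0 → W 0), (∀ x ∈ Q 0, α x ∈ Q 0 ∧ τ * E.f x * τ⁻¹ = E.f (α x)) ∧
      (∀ x ∈ Q1 0, α x ∈ Q1 0) ∧
      (∀ x ∈ Q1 0, x * x = W.z 0 → α x ≠ x ∧ α x ≠ x⁻¹) ∧
      ∀ x ∈ Q1 0, α (W.u 0 * α x * W.u 0) = W.u 0 * x * W.u 0 ∨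
        α (W.u 0 * α x * W.u 0) = W.u 0 * x * W.u 0 * W.z 0 := by
  obtain ⟨x0, hx0, x2, xE, x', hx', c⟩ := ht
  obtain ⟨k, hk⟩ := isConj_iff.1 c.symm
  have hN := normal_of_index_eq_two (idx h).1
  have hQ := h.normal
  obtain ⟨v, vv, vx, vN⟩ : ∃ v : G, v * v = 1 ∧ v * E.f x0 = E.f x0 * v ∧
      v * E.u ∈ normalizer (((Q1 0).map E.f : Subgroup G) : Set G) := by
    refine ⟨k * E.u * k⁻¹, by rw [conj_mul, uu, mul_one, mul_inv_cancel], ?_,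
      (mul_mem_iff_of_index_two (idx h).1).2 ⟨fun a => by simpa [mul_assoc] using hN.conj_mem _ a k⁻¹,
        fun a => hN.conj_mem _ a k⟩⟩
    rw [← hk, conj_mul, conj_mul, ← map_mul, ← map_mul,
      (by simp only [mem_EE]; decide +kernel : ∀ x ∈ EE 0, W.u 0 * x = x * W.u 0) x' hx']
  obtain ⟨α, hα⟩ := h.psb_α (v * E.u)
  have vi : v⁻¹ = v := inv_eq_of_mul_eq_one_left vv
  have a1 : ∀ x ∈ Q1 0, α x ∈ Q1 0 := fun x hx =>
    (h.2.mem _).1 ((hα x (W.Q1_le hx)).2 ▸ H24.conj_mem vN ⟨x, hx, rfl⟩)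
  have a4 : ∀ x ∈ Q1 0, α (W.u 0 * α x * W.u 0) = W.u 0 * x * W.u 0 := fun x hx => E.inj (by
    rw [← (hα _ (W.Q2_le (W.u_Q1.2 (a1 x hx)))).2, map_mul, map_mul, map_mul, map_mul,
      ← (hα x (W.Q1_le hx)).2, mul_inv_rev, ui, vi]
    calc _ = v * (E.u * E.u) * v * (E.u * E.f x * E.u) * v * (E.u * E.u) * v := by simp only [mul_assoc]
      _ = _ := by rw [uu, mul_one, mul_one, vv, one_mul, mul_assoc, vv, mul_one])
  refine ⟨v * E.u, α, hα, a1, fun x hx xx => ?_, fun x hx => .inl (a4 x hx)⟩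
  by_contra hn
  have hn' : α x = x ∨ α x = x⁻¹ := by tauto
  have mu := fun {x y} => h.psb_mul hα (x := x) (y := y)
  obtain ⟨z1, zz⟩ := h.psb_z hα
  have zQ : W.z 0 ∈ Q 0 := rfl
  have t1 : ∀ y ∈ Q1 0, α y = y ∨ α y = y * W.z 0 := fun y hy => by
    by_contra hc
    have qx := W.Q1_le hx
    have qy := W.Q1_le hy
    have k1 := (by simp only [mem_Q1]; decide +kernel : ∀ x ∈ Q1 0, ∀ y ∈ Q1 0, ∀ y' ∈ Q1 0, x * x = W.z 0 →
      (y * x = x * y ↔ y' * x = x * y') → y * y = y' * y' → (y' = y ∨ y' = y * W.z 0) ∨ y' = x * y ∨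
        y' = x * y * W.z 0) x hx y hy (α y) (a1 y hy) xx (by
          have : y * x = x * y ↔ α y * α x = α x * α y := by
            rw [← mu qy qx, ← mu qx qy, ← E.inj.eq_iff (a := α _), ← (hα _ (mul_mem qy qx)).2,
              ← (hα _ (mul_mem qx qy)).2, mul_left_inj, mul_right_inj, E.inj.eq_iff]
          rcases hn' with e | e <;> rw [e] at this
          exacts [this, this.trans Commute.inv_right_iff]) (by
          rw [← mu qy qy]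
          rcases (by simp only [mem_Q1]; decide +kernel : ∀ y ∈ Q1 0, y * y = 1 ∨ y * y = W.z 0) y hy with e | e <;>
            rw [e]
          exacts [z1.symm, zz.symm])
    replace k1 := k1.resolve_left hc
    have k2 := (by simp only [mem_Q1]; decide +kernel : ∀ x ∈ Q1 0, ∀ y ∈ Q1 0, x * x = W.z 0 →
      ∀ x', (x' = x ∨ x' = x⁻¹) → ∀ y', (y' = x * y ∨ y' = x * y * W.z 0) →
        (y' * W.z 0 = x * y ∨ y' * W.z 0 = x * y * W.z 0) ∧ (x' * y' = y ∨ x' * y' = y * W.z 0) ∧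
        (x' * y' * W.z 0 = y ∨ x' * y' * W.z 0 = y * W.z 0)) x hx y hy xx _ hn' _ k1
    have s0 : ∀ w, (w = y ∨ w = y * W.z 0) → α w = x * y ∨ α w = x * y * W.z 0 := by
      rintro w (e | e) <;> rw [e]
      exacts [k1, by rw [mu qy zQ, zz]; exact k2.1]
    have s1 : ∀ w, (w = x * y ∨ w = x * y * W.z 0) → α w = y ∨ α w = y * W.z 0 := by
      rintro w (e | e) <;> rw [e]
      exacts [by rw [mu qx qy]; exact k2.2.1, by rw [mu (mul_mem qx qy) zQ, mu qx qy, zz]; exact k2.2.2]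
    have k3 : ∀ n : ℕ, ∃ w ∈ Q 0, (w = x * y ∨ w = x * y * W.z 0) ∧
        (v * E.u) ^ (2 * n + 1) * E.f y * ((v * E.u) ^ (2 * n + 1))⁻¹ = E.f w := fun n => by
      induction n with
      | zero => exact ⟨α y, (hα y qy).1, k1, by simpa only [mul_zero, zero_add, pow_one] using (hα y qy).2⟩
      | succ n ih =>
        obtain ⟨w, qw, e1, e2⟩ := ih
        refine ⟨α (α w), (hα _ (hα w qw).1).1, s0 _ (s1 w e1), ?_⟩
        rw [← (hα _ (hα w qw).1).2, ← (hα w qw).2, ← e2]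
        generalize v * E.u = τ
        rw [show 2 * (n + 1) + 1 = 2 * n + 1 + 1 + 1 by ring, pow_succ' _ (2 * n + 1 + 1), pow_succ' _ (2 * n + 1)]
        simp only [mul_inv_rev, mul_assoc]
    obtain ⟨n, hn⟩ := odd_rel h
    obtain ⟨d, hd, e⟩ := pow_relIndex_mem ((Q 0).map E.f) vN
    obtain ⟨w, -, e1, e2⟩ := k3 n
    rw [← hn, ← e, ← map_inv, ← map_mul, ← map_mul] at e2
    rw [← E.inj e2] at e1
    exact (by simp only [mem_Q1, mem_Q]; decide +kernel : ∀ x ∈ Q1 0, ∀ y ∈ Q1 0, x * x = W.z 0 → ∀ d ∈ Q 0,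
      ¬ (d * y * d⁻¹ = x * y ∨ d * y * d⁻¹ = x * y * W.z 0)) x hx y hy xx d hd e1
  have t2 : ∀ y ∈ Q2 0, α y = y ∨ α y = y * W.z 0 := fun y hy => by
    have k1 := a4 _ (W.u_Q2.2 hy)
    have k2 := (by decide +kernel : ∀ y : W 0, W.u 0 * (W.u 0 * y * W.u 0) * W.u 0 = y ∧
      W.u 0 * (W.u 0 * y * W.u 0 * W.z 0) * W.u 0 = y * W.z 0) y
    rcases t1 _ (W.u_Q2.2 hy) with e | e <;> rw [e] at k1
    · rw [k2.1] at k1
      exact .inl k1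
    · rw [k2.1, k2.2, mu (W.Q2_le hy) zQ, zz] at k1
      exact .inr (by rw [← mul_left_inj (W.z 0), k1, mul_assoc, W.z_mul_z, mul_one])
  have q0 := (by simp only [mem_Q]; decide +kernel : ∀ x ∈ Q 0, W.u 0 * x * W.u 0 ∈ Q 0) x0 hx0
  have e0 : α (W.u 0 * x0 * W.u 0) = x0 := E.inj (by
    rw [← (hα _ q0).2, map_mul, map_mul, mul_inv_rev, ui, vi]
    calc _ = v * (E.u * E.u) * E.f x0 * (E.u * E.u) * v := by simp only [mul_assoc]
      _ = _ := by rw [uu, mul_one, mul_one, vx, mul_assoc, vv, mul_one])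
  obtain ⟨a, ha, b, hb, e⟩ := W.mem_Q_iff.1 q0
  rw [e, mu (W.Q1_le ha) (W.Q2_le hb)] at e0
  refine xE ((by simp only [mem_Q, mem_EE]; decide +kernel : ∀ x ∈ Q 0, x * x = 1 →
    (x = W.u 0 * x * W.u 0 ∨ x = W.u 0 * x * W.u 0 * W.z 0) → x ∈ EE 0) x0 hx0 x2 ?_)
  rw [e, ← e0]
  exact (by simp only [mem_Q1, mem_Q2]; decide +kernel : ∀ a ∈ Q1 0, ∀ b ∈ Q2 0,
    ∀ a', (a' = a ∨ a' = a * W.z 0) → ∀ b', (b' = b ∨ b' = b * W.z 0) →
      (a' * b' = a * b ∨ a' * b' = a * b * W.z 0)) a ha b hb _ (t1 a ha) _ (t2 b hb)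
theorem into_EE (ht : ∃ x ∈ Q 0, x * x = 1 ∧ x ∉ EE 0 ∧ ∃ x' ∈ EE 0, IsConj (E.f x) (E.f x'))
    {x : W 0} (hx : x * x = 1) : ∃ x' ∈ EE 0, IsConj (E.f x) (E.f x') := by
  by_cases xE : x ∈ EE 0
  · exact ⟨x, xE, IsConj.refl _⟩
  by_cases xQ : x ∈ Q 0
  swap
  · rcases W.invol_out xQ hx with c | c
    exacts [⟨_, mem_EE.2 (by decide), (E.f.map_isConj c).symm⟩, ⟨_, mem_EE.2 (by decide), (E.f.map_isConj c).symm⟩]
  obtain ⟨τ, α, hα, a1, a2, a3⟩ := h.anti ht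
  have mu := fun {x y} => h.psb_mul hα (x := x) (y := y)
  obtain ⟨z1, zz⟩ := h.psb_z hα
  have zQ : W.z 0 ∈ Q 0 := rfl
  have cj : ∀ x ∈ Q 0, IsConj (E.f x) (E.f (α x)) := fun x hx => isConj_iff.2 ⟨τ, (hα x hx).2⟩
  have sq : ∀ a ∈ Q1 0, a * a = W.z 0 → α a * α a = W.z 0 := fun a ha e => by
    rw [← mu (W.Q1_le ha) (W.Q1_le ha), e, zz]
  -- the third power acts trivially
  have a5 : ∀ a ∈ Q1 0, a * a = W.z 0 → α (α a) = a * α a ∨ α (α a) = a * α a * W.z 0 := fun a ha e => by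
    have k := a2 a ha e
    have k' := a2 (a * α a) (mul_mem ha (a1 a ha)) ((by simp only [mem_Q1]; decide +kernel : ∀ a ∈ Q1 0,
      ∀ b ∈ Q1 0, a * a = W.z 0 → b * b = W.z 0 → b ≠ a ∧ b ≠ a⁻¹ → a * b * (a * b) = W.z 0)
      a ha _ (a1 a ha) e (sq a ha e) k)
    rw [mu (W.Q1_le ha) (W.Q1_le (a1 a ha))] at k'
    exact (by simp only [mem_Q1]; decide +kernel : ∀ a ∈ Q1 0, ∀ b ∈ Q1 0, ∀ c ∈ Q1 0, a * a = W.z 0 →
      b * b = W.z 0 → c * c = W.z 0 → b ≠ a ∧ b ≠ a⁻¹ → c ≠ b ∧ c ≠ b⁻¹ →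
      b * c ≠ a * b ∧ b * c ≠ (a * b)⁻¹ → c = a * b ∨ c = a * b * W.z 0) a ha _ (a1 a ha) _ (a1 _ (a1 a ha)) e
      (sq a ha e) (sq _ (a1 a ha) (sq a ha e)) k (a2 _ (a1 a ha) (sq a ha e)) k'
  have key : ∀ a ∈ Q1 0, ∀ b, (b = α (α a) ∨ b = α (α a) * W.z 0) → α (a * (W.u 0 * b * W.u 0)) ∈ EE 0 := by
    have k := (by simp only [mem_Q1, mem_EE]; decide +kernel : ∀ c ∈ Q1 0, ∀ d,
      (d = W.u 0 * c * W.u 0 ∨ d = W.u 0 * c * W.u 0 * W.z 0) → c * d ∈ EE 0 ∧ c * (d * W.z 0) ∈ EE 0)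
    intro a ha b hb
    have q := W.Q2_le (W.u_Q1.2 (a1 _ (a1 a ha)))
    rcases hb with rfl | rfl
    · rw [mu (W.Q1_le ha) q]
      exact (k _ (a1 a ha) _ (a3 _ (a1 a ha))).1
    · rw [← mul_assoc (W.u 0), mul_assoc _ (W.z 0), ← W.z_comm, ← mul_assoc _ _ (W.z 0),
        mu (W.Q1_le ha) (mul_mem q zQ), mu q zQ, zz]
      exact (k _ (a1 a ha) _ (a3 _ (a1 a ha))).2
  obtain ⟨a, ha, b, hb, aa, bb, rfl⟩ := W.invol_Q xQ hx (by rintro rfl; exact xE (one_mem _))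
    (by rintro rfl; exact xE (mem_EE.2 (by decide)))
  obtain ⟨b, hb', rfl⟩ : ∃ c ∈ Q1 0, b = W.u 0 * c * W.u 0 := ⟨_, W.u_Q2.2 hb,
    (by decide +kernel : ∀ y : W 0, y = W.u 0 * (W.u 0 * y * W.u 0) * W.u 0) b⟩
  have k := (by simp only [mem_Q1, mem_EE]; decide +kernel : ∀ a ∈ Q1 0, ∀ b ∈ Q1 0, ∀ c ∈ Q1 0, a * a = W.z 0 →
    W.u 0 * b * W.u 0 * (W.u 0 * b * W.u 0) = W.z 0 → c * c = W.z 0 → c ≠ a ∧ c ≠ a⁻¹ →
    a * (W.u 0 * b * W.u 0) ∉ EE 0 → ∀ d, (d = a * c ∨ d = a * c * W.z 0) → (b = d ∨ b = d * W.z 0) ∨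
      (b = c ∨ b = c * W.z 0) ∧ W.u 0 * (a * (W.u 0 * b * W.u 0)) * (W.u 0)⁻¹ = b * (W.u 0 * a * W.u 0) ∧
      ∀ e, (e = c * d ∨ e = c * d * W.z 0) → (a = e ∨ a = e * W.z 0) ∧ (a = e * W.z 0 ∨ a = e * W.z 0 * W.z 0))
    a ha b hb' _ (a1 a ha) aa bb (sq a ha aa) (a2 a ha aa) xE _ (a5 a ha aa)
  rcases k with k | ⟨k1, k2, k3⟩
  · exact ⟨_, key a ha b k, cj _ xQ⟩
  have k4 := k3 _ (a5 _ (a1 a ha) (sq a ha aa))
  refine ⟨_, key b hb' a ?_, (E.f.map_isConj (isConj_iff.2 ⟨_, k2⟩)).trans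
    (cj _ (mul_mem (W.Q1_le hb') (W.Q2_le (W.u_Q1.2 ha))))⟩
  rcases k1 with rfl | rfl
  · exact k4.1
  · rw [mu (W.Q1_le (a1 a ha)) zQ, zz, mu (W.Q1_le (a1 _ (a1 a ha))) zQ, zz]
    exact k4.2
end Emb.CaseS

theorem PSBx.img {E : Emb 0 G} {P : Subgroup G} (hP : Odd (Nat.card P)) (hc : P ≤ E.C)
    (k : Odd (Nat.card ((P.subgroupOf E.C).map E.π)) → (P.subgroupOf E.C).map E.π = ⊥) : P ≤ OC E.z :=
  fun p hp => (E.π_eq_one (p := ⟨p, hc hp⟩)).1 (mem_bot.1 (k (hP.of_dvd_nat ((card_map_dvd _ _).trans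
    (by rw [H24.card_subgroupOf_of_le hc]))) ▸ mem_map_of_mem E.π (show _ ∈ P.subgroupOf E.C from hp)))

theorem Emb.bal_S {E : Emb 0 G} (h : E.bar.CaseS) {a b : G} (ha : E.Z a) (hb : b * b = 1)
    (hab : a * b = b * a) : OC b ⊓ centralizer {a} ≤ OC a := by
  obtain ⟨g, rfl⟩ := isConj_iff.1 ha
  obtain ⟨b, rfl⟩ : ∃ c, b = g * c * g⁻¹ := ⟨g⁻¹ * b * g, by group⟩
  intro p hp
  obtain ⟨p, rfl⟩ : ∃ c, p = g * c * g⁻¹ := ⟨g⁻¹ * p * g, by group⟩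
  rw [conj_mul, conj_eq_one_iff] at hb
  rw [conj_mul, conj_mul, mul_left_inj, mul_right_inj] at hab
  have h2 := mem_centralizer_singleton_iff.1 hp.2
  rw [conj_mul, conj_mul, mul_left_inj, mul_right_inj] at h2
  have bC : b ∈ E.C := mem_centralizer_singleton_iff.2 hab.symm
  refine (OC_conj g).2 (PSBx.img (P := OC b ⊓ E.C) ((OC_odd b).of_dvd_nat (card_dvd_of_le inf_le_left))
    inf_le_right (fun ho => h.odd_cent (b := E.π ⟨b, bC⟩) (by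
      rw [← map_mul, show (⟨b, bC⟩ : E.C) * ⟨b, bC⟩ = 1 from Subtype.ext hb, map_one]) _ ho ?_ ?_)
    ⟨(OC_conj g).1 hp.1, mem_centralizer_singleton_iff.2 h2⟩)
  · rintro _ ⟨q, hq, rfl⟩
    rw [mem_centralizer_singleton_iff, ← map_mul, ← map_mul]
    exact congrArg _ (Subtype.ext (mem_centralizer_singleton_iff.1 (OC_le b hq.1)))
  · rintro γ hγ _ ⟨q, hq, rfl⟩
    obtain ⟨c, rfl, hc⟩ := E.lift_cent (zpowers ⟨b, bC⟩) ((H24.piElt_of_pow_eq_one (H24.piNat_self Nat.prime_two)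
      (by rw [sq]; exact Subtype.ext hb)).isPi.isPGroup Nat.prime_two) γ (by
        rintro _ ⟨n, rfl⟩
        simp only [map_zpow]
        exact (Commute.zpow_right hγ n).eq)
    rw [← map_inv, ← map_mul, ← map_mul]
    exact mem_map_of_mem _ ⟨OC_norm (congrArg Subtype.val (hc _ (mem_zpowers _))) hq.1, (c * q * c⁻¹).2⟩
theorem Emb.inv_S {E : Emb 0 G} (h : E.bar.CaseS) {a : W 0} (ha : a ∈ EE 0) (hZ : E.Z (E.f a))
    (P : Subgroup G) (hP : Odd (Nat.card P)) (hc : P ≤ centralizer {E.f a})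
    (hn : ∀ x ∈ EE 0, ∀ p ∈ P, E.f x * p * (E.f x)⁻¹ ∈ P) : P ≤ OC (E.f a) := by
  have cm := (by simp only [mem_EE]; decide +kernel : ∀ x ∈ EE 0, ∀ y ∈ EE 0, x * y = y * x)
  have sq := (by simp only [mem_EE]; decide +kernel : ∀ x ∈ EE 0, x * x = 1)
  obtain ⟨g, e, hg⟩ := E.ext_z hZ ((EE 0).map E.f) (PSBx.pQ E _) (by
    rintro _ ⟨x, hx, rfl⟩
    rw [← map_mul, ← map_mul, cm x hx a ha])
  have hA : (H24.cj g ((EE 0).map E.f)).comap E.f = EE 0 := W.EE_unique _ (fun x hx => E.inj (by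
      obtain ⟨_, ⟨y, hy, rfl⟩, k⟩ := H24.mem_cj'.1 hx
      rw [map_mul, k, conj_mul, ← map_mul, sq y hy, map_one, mul_one, mul_inv_cancel])) (by
    rw [← card_map_of_injective E.inj, map_comap_eq_self, H24.card_cj, card_map_of_injective E.inj, W.card_EE]
    intro x hx
    obtain ⟨y, hy, rfl⟩ := H24.mem_cj'.1 hx
    exact hg y hy)
  have hC : H24.cj g P ≤ E.C := fun x hx => by
    obtain ⟨p, hp, rfl⟩ := H24.mem_cj'.1 hx
    rw [mem_centralizer_singleton_iff, ← e, conj_mul, conj_mul, mem_centralizer_singleton_iff.1 (hc hp)]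
  intro p hp
  refine (OC_conj g).1 (e ▸ PSBx.img (P := H24.cj g P) (by rwa [H24.card_cj]) hC
    (fun ho => h.odd_inv _ ho ?_) (H24.conj_mem_cj g hp))
  rintro x hx - _ ⟨q, hq, rfl⟩
  rw [E.bar_f, ← map_inv, ← map_mul, ← map_mul]
  refine mem_map_of_mem _ ?_
  obtain ⟨_, ⟨y, hy, rfl⟩, k⟩ := H24.mem_cj'.1 (show E.f x ∈ _ from (hA.ge hx))
  obtain ⟨p, hp, k'⟩ := H24.mem_cj'.1 (mem_subgroupOf.1 hq)
  change E.f x * q * (E.f x)⁻¹ ∈ H24.cj g P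
  rw [k, k', conj_mul, conj_inv, conj_mul]
  exact H24.conj_mem_cj g (hn y hy p hp)
end PSB

end H20.P4
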