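import Mathlib
import Cfsg.Agent.H20.P0
import Cfsg.Agent.H20.PSB
import Cfsg.Agent.H20.PF6
import Cfsg.Agent.H7.XMain
import Cfsg.Agent.S1619
import Cfsg.Agent.S1625
import Cfsg.Agent.H23.Components
import Cfsg.Agent.H3.Extraspecial
import Cfsg.Agent.H24.G2Syl
import Cfsg.Agent.H25.TwM0
import Cfsg.Agent.S0243
import Cfsg.Agent.S0280
import Cfsg.Agent.S0822

set_option autoImplicit false
set_option linter.unusedVariables false
set_option linter.unusedSectionVars false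

namespace H20.P4

open Cfsg Subgroup
open scoped MatrixGroups

universe u

variable {m : ℕ} {G : Type u} [Group G] [Finite G]

namespace PS9x

open scoped commutatorElement

theorem w44 : ∀ x y : W 0, x * y = y * x → x * x = 1 ∨ y * y = 1 ∨ x * x = y * y := by
  decide +kernel

theorem wcomm : ∀ x y : W 0, x.a = x.b → y.a = y.b →
    x * y * x⁻¹ * y⁻¹ = 1 ∨ x * y * x⁻¹ * y⁻¹ = W.z 0 := by
  decide +kernel

theorem wsq : ∀ x : W 0, x.a = x.b → x * x = 1 ∨ x * x = W.z 0 := by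
  decide +kernel

theorem no44 (E : Emb 0 G) {H : Type*} [Group H] (hH : IsPGroup 2 H) (φ : H →* G)
    (hφ : Function.Injective φ) {x y : H} (c : x * y = y * x) :
    x * x = 1 ∨ y * y = 1 ∨ x * x = y * y := by
  obtain ⟨g, hg⟩ := H24.G2S.exists_conj_le_sylow E.S φ.range
    (hH.of_surjective _ φ.rangeRestrict_surjective)
  let ψ : H →* G := (MulAut.conj g).toMonoidHom.comp φ
  have hψ : Function.Injective ψ := (MulAut.conj g).injective.comp hφ
  obtain ⟨a, ha⟩ := E.exists_eq (hg _ ⟨x, rfl⟩)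
  obtain ⟨b, hb⟩ := E.exists_eq (hg _ ⟨y, rfl⟩)
  have ha' : E.f a = ψ x := ha
  have hb' : E.f b = ψ y := hb
  have hc : a * b = b * a := E.inj (by rw [map_mul, map_mul, ha', hb', ← map_mul, ← map_mul, c])
  rcases w44 a b hc with e | e | e
  · exact Or.inl (hψ (by rw [map_mul, ← ha', ← map_mul, e, map_one, map_one]))
  · exact Or.inr (Or.inl (hψ (by rw [map_mul, ← hb', ← map_mul, e, map_one, map_one])))
  · exact Or.inr (Or.inr (hψ (by rw [map_mul, map_mul, ← ha', ← hb', ← map_mul, ← map_mul, e])))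

theorem card_mod (E : Emb 0 G) : Nat.card G % 128 = 64 := by
  have h1 := E.f.range.card_mul_index
  rw [← Nat.card_congr (MonoidHom.ofInjective E.inj).toEquiv, card_W] at h1
  obtain ⟨k, hk⟩ := E.odd
  rw [hk] at h1
  omega

theorem card_Q : Nat.card (Q 0) = 32 := by
  have h1 := (Q 0).card_mul_index
  rw [W.index_Q, card_W] at h1
  omega

section
variable [IsSimpleGroup G] {E : Emb 0 G} (h : E.bar.CaseS) (hO : oddCore E.C = ⊥)
include h hO

theorem π_inj : Function.Injective E.π := by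
  rw [← MonoidHom.ker_eq_bot_iff, QuotientGroup.ker_mk', hO]

theorem normal : ((Q 0).map E.cen.f).Normal := ⟨by
  rintro _ ⟨x, hx, rfl⟩ g
  obtain ⟨x', hx', e⟩ := h.normal.conj_mem _ ⟨x, hx, rfl⟩ (E.π g)
  refine ⟨x', hx', π_inj h hO ?_⟩
  rw [map_mul, map_mul, map_inv]
  exact e⟩

theorem cent {g : E.C} (hg : ∀ x ∈ Q 0, g * E.cen.f x = E.cen.f x * g) : g = 1 ∨ g = E.cen.z := by
  rcases h.cent (g := E.π g) (fun x hx => by
    rw [E.bar_f, ← map_mul, ← map_mul, hg x hx]) with e | e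
  · exact Or.inl (π_inj h hO (e.trans (map_one _).symm))
  · exact Or.inr (π_inj h hO e)

theorem core_eq : pCore 2 E.C = (Q 0).map E.cen.f := by
  refine le_antisymm (fun g hg => ?_)
    (H2.le_pCore (normal h hO) ((W_p.to_subgroup _).map _))
  have hle : (Q 0).map E.cen.f ≤ pCore 2 E.C := H2.le_pCore (normal h hO) ((W_p.to_subgroup _).map _)
  obtain ⟨w, rfl⟩ := E.cen.exists_eq (H2.pCore_le_sylow E.cen.S hg)
  by_contra hw
  have hw' : w ∉ Q 0 := fun h' => hw ⟨w, h', rfl⟩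
  have hall : ∀ d, E.cen.f d ∈ pCore 2 E.C := by
    intro d
    by_cases hd : d ∈ Q 0
    · exact hle ⟨d, hd, rfl⟩
    · have : w⁻¹ * d ∈ Q 0 := by
        rw [mul_mem_iff_of_index_two W.index_Q, inv_mem_iff]
        exact iff_of_false hw' hd
      have h2 := mul_mem hg (hle ⟨_, this, rfl⟩)
      rwa [← map_mul, mul_inv_cancel_left] at h2
  obtain ⟨x, -, -, hx, g, hgC, x', hx', e⟩ := E.tau
  let γ : E.C := ⟨g, hgC⟩
  let c : W 0 →* E.C := (MulAut.conj γ⁻¹).toMonoidHom.comp E.cen.f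
  have hc : Function.Injective c := (MulAut.conj γ⁻¹).injective.comp E.cen.inj
  have hB : (EE 0).map c ≤ E.cen.f.range := by
    rintro _ ⟨d, -, rfl⟩
    exact H2.pCore_le_sylow E.cen.S ((inferInstance : (pCore 2 E.C).Normal).conj_mem _ (hall d) γ⁻¹)
  have hA : ((EE 0).map c).comap E.cen.f = EE 0 := by
    refine W.EE_unique _ ?_ ?_
    · rintro a ⟨d, hd, e'⟩
      have hd2 : d * d = 1 := (by decide +kernel : ∀ d : W 0, d.e = false ∧ 2 * d.i = 0 ∧ 2 * d.j = 0 →
        d * d = 1) d hd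
      exact E.cen.inj (by rw [map_mul, ← e', ← map_mul, hd2, map_one, map_one])
    · rw [← card_map_of_injective E.cen.inj, map_comap_eq_self hB, card_map_of_injective hc, W.card_EE]
  refine hx (hA ▸ ⟨x', hx', Subtype.ext ?_⟩)
  change g⁻¹ * E.f x' * g⁻¹⁻¹ = E.f x
  rw [e]; group

theorem fstar_eq : generalizedFittingSubgroup E.C = (Q 0).map E.cen.f := by
  rw [← core_eq h hO, H23.fstar_eq_pCore_iff, core_eq h hO]
  intro g hg
  rcases cent h hO (g := g) (fun x hx => (mem_centralizer_iff.1 hg _ ⟨x, hx, rfl⟩).symm) with rfl | rfl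
  · exact one_mem _
  · exact ⟨W.z 0, rfl, rfl⟩

end

theorem ord_z (E : Emb m G) : orderOf E.z = 2 :=
  orderOf_eq_prime (by rw [pow_two, ← map_mul, W.z_mul_z, map_one])
    fun e => W.z_ne_one (E.inj (e.trans (map_one _).symm))

theorem xs (E : Emb 0 G) : IsExtraspecial 2 ((Q 0).map E.f) := by
  have hz : ∀ x : W 0, x = 1 ∨ x = W.z 0 → E.f x ∈ zpowers E.z := by
    rintro _ (rfl | rfl)
    · rw [map_one]; exact one_mem _
    · exact mem_zpowers _
  refine H3.XS.isExtraspecial (z := E.z) ⟨ord_z E, ⟨W.z 0, rfl, rfl⟩, ?_, ?_, ?_, ?_⟩ fun e => ?_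
  · rintro _ ⟨x, -, rfl⟩
    change E.f _ * E.f x = E.f x * E.f _
    rw [← map_mul, ← map_mul, W.z_comm]
  · rintro _ ⟨x, hx, rfl⟩ _ ⟨y, hy, rfl⟩
    rw [← map_commutatorElement]
    exact hz _ (wcomm x y hx hy)
  · rintro _ ⟨x, hx, rfl⟩
    rw [pow_two, ← map_mul]
    exact hz _ (wsq x hx)
  · rintro _ ⟨x, hx, rfl⟩ hc
    refine hz _ (W.cent_Q fun d hd => E.inj ?_)
    rw [map_mul, map_mul]
    exact (hc _ ⟨d, hd, rfl⟩).eq.symm
  · have := congrArg (fun K : Subgroup G => Nat.card K) e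
    simp only [Nat.card_zpowers, ord_z E, card_map_of_injective E.inj, card_Q] at this
    omega

end PS9x

/-! ### PS9 -/
section PS9
theorem Emb.concl_S [IsSimpleGroup G] {E : Emb 0 G} (h : E.bar.CaseS) (hO : oddCore E.C = ⊥) :
    Concl G := by
  have hF := PS9x.fstar_eq h hO
  have hT : generalizedFittingSubgroup G = ⊤ :=
    (H23.fstar_normal G).eq_bot_or_eq_top.resolve_left H23.fstar_ne_bot
  have ε : G ≃* generalizedFittingSubgroup G := (hT ▸ topEquiv : generalizedFittingSubgroup G ≃* G).symm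
  have hm := PS9x.card_mod E
  have cd : ∀ {L : Type} [Group L], generalizedFittingSubgroup G ≃* L → Nat.card L % 128 = 64 :=
    fun e => Nat.card_congr (ε.trans e).toEquiv ▸ hm
  have hL := H7.X32.s1759 (z := E.z) (PS9x.ord_z E) (hF ▸ PS9x.xs E.cen)
    (by rw [hF, card_map_of_injective E.cen.inj, PS9x.card_Q]) (ε.isSimpleGroup_congr.1 inferInstance)
    (fun hc => E.not_comm ⟨⟨fun a b => ε.injective (by
      rw [map_mul, map_mul]; exact hc.is_comm.comm _ _)⟩⟩)
  rcases hL with ⟨F, _, _, hF9, ⟨⟨e⟩⟩ | ⟨⟨e⟩⟩⟩ | ⟨F, _, _, hF4, ⟨e⟩⟩ | ⟨F, _, _, hF3, ⟨⟨e⟩⟩ | ⟨⟨e⟩⟩⟩ |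
    ⟨⟨e⟩⟩ | ⟨⟨e⟩⟩ | ⟨⟨e⟩⟩ | ⟨⟨e⟩⟩ | ⟨F, _, _, ω, hF4, hω, ⟨e⟩⟩
  · have h1 := Cfsg.Agent.S0280.result (F := F) (q := 3) hF9 3 (by norm_num)
    have h2 := cd e
    simp only [Finset.prod_range_succ, Finset.prod_range_zero] at h1
    norm_num at h1
    omega
  · have h1 := Cfsg.Agent.S0280.result (F := F) (q := 3) hF9 4 (by norm_num)
    have h2 := cd e
    simp only [Finset.prod_range_succ, Finset.prod_range_zero] at h1
    norm_num at h1
    omega
  · obtain ⟨φ⟩ := Cfsg.Agent.S0822.result (F := F) (K := ZMod 3) hF4 rfl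
    exact Or.inl ⟨ZMod 3, inferInstance, inferInstance, by decide, ⟨(ε.trans e).trans φ⟩⟩
  · have h1 := Cfsg.Agent.S0243.result (F := F) hF3 4 (by norm_num)
    have h2 := cd e
    simp only [Fin.prod_univ_four] at h1
    norm_num at h1
    omega
  · exfalso
    have hodd : Odd (Fintype.card F) := by rw [hF3]; decide
    have h2 : (2 : F) ≠ 0 := by
      refine Ring.two_ne_zero fun e => ?_
      have := FiniteField.even_card_of_char_two e
      omega
    obtain ⟨D⟩ := H24.G2S.nonempty_SO4 h2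
    obtain ⟨n, k, hn, -, -, f, hf⟩ := D.exists_hom' hodd
    have h20 : (1 + 1 : ZMod (2 ^ n)) ≠ 0 := by
      intro e2
      have : ((2 : ℕ) : ZMod (2 ^ n)) = 0 := by rw [← e2]; norm_num
      rw [ZMod.natCast_eq_zero_iff] at this
      have h3 := Nat.le_of_dvd (by norm_num) this
      have h4 : 2 ^ 2 ≤ 2 ^ n := Nat.pow_le_pow_right (by norm_num) hn
      omega
    rcases PS9x.no44 E (IsPGroup.of_card H24.G2S.card_W) ((ε.trans e).symm.toMonoidHom.comp f)
      ((ε.trans e).symm.injective.comp hf) (x := ⟨1, 0, false, false⟩) (y := ⟨0, 1, false, false⟩)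
      (by simp) with e1 | e1 | e1
    · exact h20 (by simpa [H24.G2S.one_def] using congrArg H24.G2S.W.i e1)
    · exact h20 (by simpa [H24.G2S.one_def] using congrArg H24.G2S.W.j e1)
    · exact h20 (by simpa using congrArg H24.G2S.W.i e1)
  · exact Or.inr (Or.inl ⟨ε.trans e⟩)
  · exact Or.inr (Or.inr ⟨ε.trans e⟩)
  · exfalso
    exact absurd (PS9x.no44 E (IsPGroup.of_card (n := 6) H25.Tw.card_S0)
      ((ε.trans e).symm.toMonoidHom.comp H25.Tw.emb) ((ε.trans e).symm.injective.comp H25.Tw.emb_inj)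
      (x := H25.Tw.el 1) (y := H25.Tw.el 4) (by decide +kernel)) (by decide +kernel)
  · have h2 := cd e
    rw [Cfsg.Agent.S1619.result.2.2.2] at h2
    omega
  · have h2 := cd e
    rw [(Cfsg.Agent.S1625.result F hF4 ω hω).2.2.1] at h2
    omega
end PS9

end H20.P4
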