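import Mathlib
import Cfsg.Agent.H20.P0
import Cfsg.Agent.H20.PSB
import Cfsg.Agent.H20.PF6
import Cfsg.Agent.H20.PSG
import Cfsg.Agent.H20.PHO

set_option autoImplicit false
set_option linter.unusedVariables false
set_option linter.unusedSectionVars false

namespace H20.P4

open Cfsg Subgroup H24
open scoped MatrixGroups

universe u

variable {m : ℕ} {G : Type u} [Group G] [Finite G]

namespace PSNx

/-- the non-central involutions of `Q` -/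
def gd (x : W 0) : Prop := x.a = x.b ∧ x * x = 1 ∧ x ≠ 1 ∧ x ≠ W.z 0
instance : DecidablePred gd := fun x => by unfold gd; infer_instance

/-- the label `a + b` of `± a₁ b₂` -/
def lab (x : W 0) : Fin 3 :=
  if x.e then (if 2 * x.i = 0 then 2 else 1)
  else if x.a then (if 2 * x.i = 0 then (if x.i = x.j then 2 else 1) else 0) else 0

def F8 (c : Fin 3) : Subgroup (W 0) where
  carrier := {x | x = 1 ∨ x = W.z 0 ∨ (gd x ∧ lab x = c)}
  one_mem' := Or.inl rfl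
  mul_mem' := by intro a b; simp only [Set.mem_ofPred_eq]; revert c a b; decide +kernel
  inv_mem' := by intro a; simp only [Set.mem_ofPred_eq]; revert c a; decide +kernel

theorem mem_F8 {c : Fin 3} {x : W 0} : x ∈ F8 c ↔ x = 1 ∨ x = W.z 0 ∨ (gd x ∧ lab x = c) := Iff.rfl

instance (c : Fin 3) : DecidablePred (· ∈ F8 c) := fun x =>
  inferInstanceAs (Decidable (x = 1 ∨ x = W.z 0 ∨ (gd x ∧ lab x = c)))
instance : DecidablePred (· ∈ EE 0) := fun x =>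
  inferInstanceAs (Decidable (x.e = false ∧ 2 * x.i = 0 ∧ 2 * x.j = 0))
instance : DecidablePred (· ∈ Q1 0) := fun x =>
  inferInstanceAs (Decidable (x.a = x.e ∧ x.b = x.e ∧ x.j = x.i + if x.e then hh 0 else 0))
instance : DecidablePred (· ∈ Q 0) := fun x => inferInstanceAs (Decidable (x.a = x.b))
instance (c : Fin 3) : DecidablePred (· ∈ F8 c ⊓ EE 0) := fun x =>
  inferInstanceAs (Decidable (x ∈ F8 c ∧ x ∈ EE 0))

theorem card_F8 (c : Fin 3) : Nat.card (F8 c) = 8 := by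
  rw [Nat.card_eq_fintype_card]; revert c; decide +kernel
theorem card_F4 (c : Fin 3) : Nat.card ↥(F8 c ⊓ EE 0) = 4 := by
  rw [Nat.card_eq_fintype_card]; revert c; decide +kernel
theorem F8_comm : ∀ c, ∀ x ∈ F8 c, ∀ y ∈ F8 c, x * y = y * x := by decide +kernel
theorem F8_sq : ∀ c, ∀ x ∈ F8 c, x * x = 1 ∧ x ∈ Q 0 := by decide +kernel
theorem F8_conj : ∀ c d, ∀ x ∈ F8 c, d * x * d⁻¹ ∈ F8 c := by decide +kernel
theorem EE_sq : ∀ x ∈ EE 0, x * x = 1 := by decide +kernel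
theorem EE_comm : ∀ x ∈ EE 0, ∀ y ∈ EE 0, x * y = y * x := by decide +kernel
theorem same : ∀ x y, gd x → gd y → x * y * (x * y) = 1 → ∀ c, lab x ≠ c → lab y ≠ c →
    (x * y = 1 ∨ x * y = W.z 0 ∨ lab (x * y) ≠ c) → lab x = lab y := by decide +kernel
theorem pm_conj : ∀ x, gd x → ∃ d, d * x * d⁻¹ = x * W.z 0 := by decide +kernel

/-- equality modulo `z` -/
def pm (x y : W 0) : Prop := x = y ∨ x = y * W.z 0
instance (x y : W 0) : Decidable (pm x y) := by unfold pm; infer_instance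

def rep (c : Fin 3) : W 0 := if c = 0 then W.y 0 else if c = 1 then W.t 0 * W.y 0 else W.t 0

theorem chain : ∀ p ∈ Q1 0, p * p = W.z 0 → p ≠ W.x1 0 → p ≠ (W.x1 0)⁻¹ →
    ∀ q ∈ Q1 0, q * q = W.z 0 → q ≠ W.y1 0 → q ≠ (W.y1 0)⁻¹ → p * q * (p * q) = W.z 0 →
    p * q ≠ W.x1 0 * W.y1 0 → p * q ≠ (W.x1 0 * W.y1 0)⁻¹ → ∀ x, gd x → pm x (rep (lab x)) ∨
      ∃ a ∈ [(W.x1 0, p), (W.y1 0, q), (W.x1 0 * W.y1 0, p * q)],
      ∃ b ∈ [(W.x1 0, p), (W.y1 0, q), (W.x1 0 * W.y1 0, p * q)],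
        (pm (a.1 * (W.u 0 * b.2 * W.u 0)) x ∧ pm (a.2 * (W.u 0 * b.1 * W.u 0)) (rep (lab x))) ∨
        (pm (a.2 * (W.u 0 * b.1 * W.u 0)) x ∧ pm (a.1 * (W.u 0 * b.2 * W.u 0)) (rep (lab x))) := by
  decide +kernel

theorem pm_isConj {x y : W 0} (h : pm x y) (hy : gd y) : IsConj x y := by
  rcases h with rfl | rfl
  · exact IsConj.refl _
  · exact (isConj_iff.2 (pm_conj y hy)).symm

theorem gd_rep : ∀ c, gd (rep c) := by decide +kernel
theorem u_Q : ∀ x ∈ Q1 0, x ∈ Q 0 ∧ W.u 0 * x * W.u 0 ∈ Q 0 := by decide +kernel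
theorem base : W.x1 0 ∈ Q1 0 ∧ W.y1 0 ∈ Q1 0 ∧ W.x1 0 * W.x1 0 = W.z 0 ∧
    W.y1 0 * W.y1 0 = W.z 0 ∧ W.x1 0 * W.y1 0 * (W.x1 0 * W.y1 0) = W.z 0 := by decide +kernel

/-- all non-central involutions of `Q` with the same label are conjugate -/
theorem fuse {E : Emb 0 G} (h : E.CaseS)
    (ht : ∃ x ∈ Q 0, x * x = 1 ∧ x ∉ EE 0 ∧ ∃ x' ∈ EE 0, IsConj (E.f x) (E.f x'))
    {x : W 0} (hx : gd x) : IsConj (E.f x) (E.f (rep (lab x))) := by
  obtain ⟨τ, α, h1, h2, h3, h4⟩ := h.anti ht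
  have hmul : ∀ a ∈ Q 0, ∀ b ∈ Q 0, α (a * b) = α a * α b := fun a ha b hb => E.inj (by
    rw [← (h1 _ (mul_mem ha hb)).2, map_mul, map_mul, ← (h1 a ha).2, ← (h1 b hb).2]; group)
  have hz : α (W.z 0) = W.z 0 := E.inj (by
    rw [← (h1 (W.z 0) rfl).2, h.2.cen τ, mul_inv_cancel_right])
  have sq : ∀ a ∈ Q1 0, a * a = W.z 0 → α a * α a = W.z 0 := fun a ha e => by
    rw [← hmul a (u_Q a ha).1 a (u_Q a ha).1, e, hz]
  obtain ⟨b1, b2, b3, b4, b5⟩ := base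
  have e12 := hmul _ (u_Q _ b1).1 _ (u_Q _ b2).1
  have b12 := mul_mem b1 b2
  have key : ∀ a ∈ Q1 0, ∀ b ∈ Q1 0, ∀ y y', gd y → gd y' → pm (a * (W.u 0 * α b * W.u 0)) y →
      pm (α a * (W.u 0 * b * W.u 0)) y' → IsConj (E.f y) (E.f y') := by
    intro a ha b hb y y' g1 g2 p1 p2
    have hQ := mul_mem (u_Q a ha).1 (u_Q _ (h2 b hb)).2
    have c1 : IsConj (E.f (a * (W.u 0 * α b * W.u 0))) (E.f (α (a * (W.u 0 * α b * W.u 0)))) :=
      isConj_iff.2 ⟨τ, (h1 _ hQ).2⟩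
    have p3 : pm (α (a * (W.u 0 * α b * W.u 0))) y' := by
      rw [hmul _ (u_Q a ha).1 _ (u_Q _ (h2 b hb)).2]
      rcases h4 b hb with e | e <;> rw [e]
      · exact p2
      · rw [← mul_assoc (α a) _ (W.z 0)]
        rcases p2 with e2 | e2 <;> rw [e2]
        · exact Or.inr rfl
        · exact Or.inl (by rw [mul_assoc, W.z_mul_z, mul_one])
    exact ((E.f.map_isConj (pm_isConj p1 g1)).symm.trans c1).trans
      (E.f.map_isConj (pm_isConj p3 g2))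
  have mem : ∀ a ∈ [(W.x1 0, α (W.x1 0)), (W.y1 0, α (W.y1 0)),
      (W.x1 0 * W.y1 0, α (W.x1 0) * α (W.y1 0))], a.1 ∈ Q1 0 ∧ a.2 = α a.1 := by
    intro a ha
    simp only [List.mem_cons, List.not_mem_nil, or_false] at ha
    rcases ha with rfl | rfl | rfl
    exacts [⟨b1, rfl⟩, ⟨b2, rfl⟩, ⟨b12, e12.symm⟩]
  rcases chain _ (h2 _ b1) (sq _ b1 b3) (h3 _ b1 b3).1 (h3 _ b1 b3).2 _ (h2 _ b2) (sq _ b2 b4)
    (h3 _ b2 b4).1 (h3 _ b2 b4).2 (e12 ▸ sq _ b12 b5) (e12 ▸ (h3 _ b12 b5).1)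
    (e12 ▸ (h3 _ b12 b5).2) x hx with p | ⟨a, ha, b, hb, p⟩
  · exact E.f.map_isConj (pm_isConj p (gd_rep _))
  · obtain ⟨a1, a2⟩ := mem a ha
    obtain ⟨b1, b2⟩ := mem b hb
    rw [a2, b2] at p
    rcases p with p | p
    · exact key _ a1 _ b1 _ _ hx (gd_rep _) p.1 p.2
    · exact (key _ a1 _ b1 _ _ (gd_rep _) hx p.2 p.1).symm

theorem ea_map (E : Emb 0 G) {A : Subgroup (W 0)} (h1 : ∀ x ∈ A, ∀ y ∈ A, x * y = y * x)
    (h2 : ∀ x ∈ A, x * x = 1) : IsElementaryAbelian 2 (A.map E.f) := by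
  refine ⟨abl_iff.2 ?_, ?_⟩
  · rintro _ ⟨x, hx, rfl⟩
    refine mem_C.2 ?_
    rintro _ ⟨y, hy, rfl⟩
    rw [← map_mul, ← map_mul, h1 x hx y hy]
  · rintro _ ⟨x, hx, rfl⟩
    rw [pow_two, ← map_mul, h2 x hx, map_one]

theorem norm_map (E : Emb 0 G) {A : Subgroup (W 0)} {d : W 0} (h : ∀ x ∈ A, d * x * d⁻¹ ∈ A) :
    E.f d ∈ N[A.map E.f] := mem_N_of_finite (by
  rintro _ ⟨x, hx, rfl⟩
  exact ⟨_, h x hx, by rw [map_mul, map_mul, map_inv]⟩)

/-- a conjugate of a subgroup of `Q` under `C` is moved back into `Q` by `O(C)` -/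
theorem lift_Q {E : Emb 0 G} (h : E.bar.CaseS) {A : Subgroup (W 0)} (hA : A ≤ Q 0) {g : G}
    (hg : g ∈ E.C) : ∃ o ∈ OC E.z, ∀ x ∈ A, ∃ x' ∈ Q 0, E.f x' = o * g * E.f x * (o * g)⁻¹ := by
  have hS : Syl 2 ⊤ (E.S : Subgroup G) := syl_top_of_sylow Nat.prime_two E.S
  have hSC : (E.S : Subgroup G) ≤ E.C := by rintro _ ⟨x, rfl⟩; exact E.mem_C x
  have hCO : E.C ≤ N[OC E.z] := fun k hk => mem_N_of_finite fun p hp =>
    OC_norm (mem_centralizer_singleton_iff.1 hk) hp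
  have img : ∀ k (hk : k ∈ E.C), ∀ x ∈ Q 0, ∃ x' ∈ Q 0,
      E.bar.f x' = E.π ⟨k, hk⟩ * E.bar.f x * (E.π ⟨k, hk⟩)⁻¹ := fun k hk x hx =>
    h.normal.conj_mem _ ⟨x, hx, rfl⟩ _
  have hT : cj g (A.map E.f) ≤ (E.S : Subgroup G) ⊔ OC E.z := by
    intro t ht
    obtain ⟨_, ⟨x, hx, rfl⟩, rfl⟩ := mem_cj'.1 ht
    obtain ⟨x', -, e⟩ := img g hg x (hA hx)
    have h1 : E.π ((E.cen.f x')⁻¹ * (⟨g, hg⟩ * E.cen.f x * ⟨g, hg⟩⁻¹)) = 1 := by
      rw [map_mul, map_inv, map_mul, map_mul, map_inv, ← E.bar_f, ← E.bar_f, e, inv_mul_cancel]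
    have h2 : (E.f x')⁻¹ * (g * E.f x * g⁻¹) ∈ OC E.z := E.π_eq_one.1 h1
    have := mul_mem (mem_sup_left (E.mem x')) (mem_sup_right h2 : _ ∈ (E.S : Subgroup G) ⊔ _)
    rwa [mul_inv_cancel_left] at this
  have hp : IsPi {2} (cj g (A.map E.f)) :=
    (isPi_of_isPGroup Nat.prime_two ((W_p.to_subgroup A).map E.f)).cj g
  obtain ⟨l, hl, e⟩ := Sylow_Jsub Nat.prime_two (hS.of_le le_sup_left le_top) hp hT
  obtain ⟨s, hs, o, ho, rfl⟩ := (mem_sup_of_norm' (hSC.trans hCO)).1 hl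
  refine ⟨o, ho, fun x hx => ?_⟩
  have h1 : o * g * E.f x * (o * g)⁻¹ ∈ (E.S : Subgroup G) := by
    have := mul_mem (mul_mem (inv_mem hs)
      (e (conj_mem_cj (s * o) (conj_mem_cj g ⟨x, hx, rfl⟩)))) hs
    convert this using 1; group
  obtain ⟨x', e'⟩ := E.exists_eq h1
  have hog : o * g ∈ E.C := mul_mem (OC_le _ ho) hg
  obtain ⟨x'', hx'', e''⟩ := img _ hog x (hA hx)
  have : x' = x'' := E.bar.inj (by
    rw [e'', E.bar_f, E.bar_f, ← map_inv, ← map_mul, ← map_mul]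
    exact congrArg E.π (Subtype.ext e'))
  exact ⟨x', this ▸ hx'', e'⟩

end PSNx

open PSNx

/-! ### PSN -/
section PSN
theorem Emb.core_N [IsSimpleGroup G] {E : Emb 0 G} (h : E.bar.CaseS)
    (hN : ∃ x ∈ Q 0, x ≠ W.z 0 ∧ E.Z (E.f x)) :
    oddCore E.C = ⊥ ∨ Nonempty (G ≃* alternatingGroup (Fin 9)) := by
  have zsq : ∀ x : W 0, E.Z (E.f x) → x * x = 1 ∧ x ≠ 1 := fun x hx =>
    ⟨E.inj (by rw [map_mul, (E.Z_sq hx).1, map_one]), fun e => (E.Z_sq hx).2 (by rw [e, map_one])⟩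
  have ht : ∃ x ∈ Q 0, x * x = 1 ∧ x ∉ EE 0 ∧ ∃ x' ∈ EE 0, IsConj (E.bar.f x) (E.bar.f x') := by
    obtain ⟨x, h1, h2, h3, g, hg, x', h4, e⟩ := E.tau
    refine ⟨x, h1, h2, h3, x', h4, isConj_iff.2 ⟨E.π ⟨g, hg⟩, ?_⟩⟩
    rw [E.bar_f, E.bar_f, ← map_inv, ← map_mul, ← map_mul]
    exact congrArg E.π (Subtype.ext e.symm)
  have fu : ∀ x y, gd x → gd y → lab x = lab y → E.Z (E.f x) → E.Z (E.f y) := by
    intro x y hx hy e hz
    have := (fuse h ht hx).trans (e ▸ (fuse h ht hy).symm)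
    obtain ⟨g, -, e1⟩ := E.lift_conj this
    exact hz.trans (isConj_iff.2 ⟨g, e1⟩)
  obtain ⟨x₁, q₁, n₁, z₁⟩ := hN
  have g₁ : gd x₁ := ⟨q₁, (zsq _ z₁).1, (zsq _ z₁).2, n₁⟩
  obtain ⟨x₀, e₀, q₀, n₀, z₀⟩ := E.n15
  have g₀ : gd x₀ := ⟨q₀, EE_sq _ e₀, n₀, fun e => z₀ (e ▸ IsConj.refl _)⟩
  have nz : ∀ y, gd y → E.Z (E.f y) → lab y ≠ lab x₀ := fun y hy hz e => z₀ (fu _ _ hy g₀ e hz)
  set c := lab x₁ with hc
  have allZ : ∀ x ∈ F8 c, x ≠ 1 → E.Z (E.f x) := by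
    rintro x (rfl | rfl | hx) h1
    · exact absurd rfl h1
    · exact IsConj.refl _
    · exact fu _ _ g₁ hx.1 hx.2.symm z₁
  set A := (F8 c).map E.f with hA
  have AZ : ∀ a ∈ A, a ≠ 1 → E.Z a := by
    rintro _ ⟨x, hx, rfl⟩ h1
    exact allZ x hx fun e => h1 (by rw [e, map_one])
  have eaA := ea_map E (F8_comm c) fun x hx => (F8_sq c x hx).1
  have cA : Nat.card A = 8 := by rw [hA, card_map_of_injective E.inj, card_F8]
  obtain ⟨Wd, oW, hW1, hW2⟩ := sig1 eaA cA.ge fun a ha a1 b hb b1 =>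
    Emb.bal_S h (AZ b hb b1) (E.Z_sq (AZ a ha a1)).1 (Abl.comm eaA.1 hb ha)
  have OW : ∀ a ∈ A, a ≠ 1 → OC a ≤ Wd := fun a ha a1 => (hW2 a ha a1).ge.trans inf_le_left
  set D := (F8 c ⊓ EE 0).map E.f with hD
  have cD : Nat.card D = 4 := by rw [hD, card_map_of_injective E.inj, card_F4]
  have DA : D ≤ A := map_mono inf_le_left
  have NA : N[A] ≤ N[Wd] := fun g hg => mem_N_of_le_cj (by
    conv_lhs => rw [hW1 D DA cD]
    refine iSup_le fun a p hp => mem_cj.2 (OW (g⁻¹ * a * g) (conj_mem' hg (DA a.2.1))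
      (fun e => a.2.2 (by
        calc a.1 = g * (g⁻¹ * a * g) * g⁻¹ := by group
          _ = 1 := by rw [e]; group)) ?_)
    have := (OC_conj g⁻¹).2 hp
    rwa [inv_inv] at this)
  have SM : ∀ d, E.f d ∈ N[Wd] := fun d => NA (norm_map E (F8_conj c d))
  have zA : E.z ∈ A := ⟨_, Or.inr (Or.inl rfl), rfl⟩
  have z1 : E.z ≠ 1 := (E.Z_sq (IsConj.refl _)).2
  have OM : OC E.z ≤ N[Wd] := (OW _ zA z1).trans le_normalizer
  have NE : N[(EE 0).map E.f] ≤ N[Wd] := fun g hg => by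
    have hn : (EE 0).map E.f ≤ N[cj g Wd] := fun e he => mem_N_of_finite fun p hp => by
      obtain ⟨x, -, ex⟩ := conj_mem' hg he
      have := conj_mem (SM x) (mem_cj.1 hp)
      rw [ex] at this
      refine mem_cj.2 ?_
      convert this using 1; group
    refine mem_N_of_cj_le (le_of_four (ea_map E (A := F8 c ⊓ EE 0) (fun x hx y hy => F8_comm c x hx.1 y hy.1)
      fun x hx => EE_sq x hx.2) cD.ge (by rwa [card_cj]) ((map_mono inf_le_right).trans hn) ?_)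
    rintro _ ⟨x, hx, rfl⟩ x1
    refine (Emb.inv_S h hx.2 (AZ _ ⟨x, hx.1, rfl⟩ x1) _
      (odd_of_le (by rwa [card_cj]) inf_le_left) inf_le_right fun y hy p hp =>
        ⟨conj_mem (hn ⟨y, hy, rfl⟩) hp.1, ?_⟩).trans (OW _ ⟨x, hx.1, rfl⟩ x1)
    have h1 : E.f y * E.f x = E.f x * E.f y := by rw [← map_mul, ← map_mul, EE_comm y hy x hx.2]
    have h2 := mem_centralizer_singleton_iff.1 hp.2
    refine mem_centralizer_singleton_iff.2 ?_
    calc E.f y * p * (E.f y)⁻¹ * E.f x = E.f y * p * (E.f y)⁻¹ * (E.f x * E.f y) * (E.f y)⁻¹ := by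
          group
      _ = E.f y * (p * E.f x) * (E.f y)⁻¹ := by rw [← h1]; group
      _ = E.f x * (E.f y * p * (E.f y)⁻¹) := by rw [h2, ← mul_assoc, h1]; group
  -- `C` permutes the groups `F8 c'` inside `Z`
  have mv : ∀ g ∈ E.C, ∃ o ∈ OC E.z, ∃ c', c' ≠ lab x₀ ∧ cj (o * g) A = (F8 c').map E.f := by
    intro g hg
    obtain ⟨o, ho, e⟩ := lift_Q h (A := F8 c) (fun x hx => (F8_sq c x hx).2) hg
    have hog := mem_centralizer_singleton_iff.1 (mul_mem (OC_le _ ho) hg : o * g ∈ E.C)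
    have im : ∀ x x', E.f x' = o * g * E.f x * (o * g)⁻¹ → x ∈ F8 c → x' ∈ Q 0 →
        x' = 1 ∨ x' = W.z 0 ∨ (gd x' ∧ lab x' ≠ lab x₀) := by
      intro x x' e1 hx hx'
      by_cases h1 : x' = 1
      · exact Or.inl h1
      by_cases h2 : x' = W.z 0
      · exact Or.inr (Or.inl h2)
      have h3 : E.Z (E.f x') := (allZ x hx fun e2 => h1 (E.inj (by
        rw [e1, e2, map_one, mul_one, mul_inv_cancel]))).trans (isConj_iff.2 ⟨_, e1.symm⟩)
      have h4 : gd x' := ⟨hx', (zsq _ h3).1, h1, h2⟩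
      exact Or.inr (Or.inr ⟨h4, nz _ h4 h3⟩)
    have m₁ : x₁ ∈ F8 c := Or.inr (Or.inr ⟨g₁, rfl⟩)
    obtain ⟨y₁, hy₁, ey₁⟩ := e x₁ m₁
    have gy₁ : gd y₁ ∧ lab y₁ ≠ lab x₀ := by
      rcases im _ _ ey₁ m₁ hy₁ with e1 | e1 | e1
      · rw [e1, map_one] at ey₁
        exact absurd (E.inj (by rw [map_one]; exact conj_eq_one_iff.1 ey₁.symm)) g₁.2.2.1
      · refine absurd (E.inj ?_) n₁
        rw [e1] at ey₁
        calc E.f x₁ = (o * g)⁻¹ * (o * g * E.f x₁ * (o * g)⁻¹) * (o * g) := by group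
          _ = (o * g)⁻¹ * (E.z * (o * g)) := by rw [← ey₁, mul_assoc]
          _ = E.z := by rw [← hog, inv_mul_cancel_left]
      · exact e1
    refine ⟨o, ho, lab y₁, gy₁.2, eq_of_le_of_card_ge ?_ (by
      rw [card_cj, cA, card_map_of_injective E.inj, card_F8])⟩
    intro t ht
    obtain ⟨_, ⟨x, hx, rfl⟩, rfl⟩ := mem_cj'.1 ht
    obtain ⟨y, hy, ey⟩ := e x hx
    refine ⟨y, ?_, ey⟩
    have ep : E.f (y * y₁) = o * g * E.f (x * x₁) * (o * g)⁻¹ := by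
      rw [map_mul, map_mul, ey, ey₁]; group
    have hp := im _ _ ep (mul_mem hx m₁) (mul_mem hy hy₁)
    rcases im _ _ ey hx hy with e1 | e1 | e1
    · exact Or.inl e1
    · exact Or.inr (Or.inl e1)
    · refine Or.inr (Or.inr ⟨e1.1, same y y₁ e1.1 gy₁.1 ?_ _ e1.2 gy₁.2
        (hp.imp_right fun hp => hp.imp_right And.right)⟩)
      rcases hp with e2 | e2 | e2
      · rw [e2, mul_one]
      · rw [e2, W.z_mul_z]
      · exact e2.1.2.1
  have CM : E.C ≤ N[Wd] := by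
    have key : ∀ g ∈ E.C, ∀ g' ∈ E.C, g ∉ N[Wd] → g' ∉ N[Wd] → g⁻¹ * g' ∈ N[Wd] := by
      intro g hg g' hg' n1 n2
      obtain ⟨o, ho, c1, a1, e1⟩ := mv g hg
      obtain ⟨o', ho', c2, a2, e2⟩ := mv g' hg'
      have b1 : c1 ≠ c := fun e => n1 (by
        simpa using mul_mem (inv_mem (OM ho)) (NA (mem_N_iff_cj.2 (e1.trans (by rw [e])))))
      have b2 : c2 ≠ c := fun e => n2 (by
        simpa using mul_mem (inv_mem (OM ho')) (NA (mem_N_iff_cj.2 (e2.trans (by rw [e])))))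
      have b3 : c ≠ lab x₀ := nz _ g₁ z₁
      have : c1 = c2 := by omega
      have h1 : (o * g)⁻¹ * (o' * g') ∈ N[A] := mem_N_iff_cj.2 (by
        rw [cj_mul, e2, ← this, ← e1, ← cj_mul, inv_mul_cancel, cj_one])
      have h2 : g⁻¹ * (o'⁻¹ * o) * g⁻¹⁻¹ ∈ OC E.z :=
        OC_norm (mem_centralizer_singleton_iff.1 (inv_mem hg)) (mul_mem (inv_mem ho') ho)
      have := mul_mem (OM h2) (NA h1)
      convert this using 1; group
    intro g hg
    by_contra n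
    have i2 : (N[Wd].subgroupOf E.C).index = 2 := index_eq_two_iff.2 ⟨⟨g, hg⟩, fun b => by
      by_cases hb : (b : G) ∈ N[Wd]
      · exact Or.inr ⟨hb, fun h' => n (by simpa using mul_mem (inv_mem hb) (show b * g ∈ _ from h'))⟩
      · refine Or.inl ⟨?_, hb⟩
        have := key _ (inv_mem b.2) g hg (fun h' => hb (by simpa using inv_mem h')) n
        rwa [inv_inv] at this⟩
    have := E.cen.odd.of_dvd_nat (index_dvd_of_le (K := N[Wd].subgroupOf E.C) (by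
      rintro _ ⟨x, rfl⟩; exact SM x))
    rw [i2] at this
    exact absurd this (by decide)
  by_cases hM : N[Wd] = ⊤
  · left
    have hn : Wd.Normal := normalizer_eq_top_iff.1 hM
    rcases hn.eq_bot_or_eq_top with e | e
    · refine eq_bot_iff.2 fun p hp => Subtype.ext ?_
      have := OW _ zA z1 (E.π_eq_one.1 ((QuotientGroup.eq_one_iff p).2 hp))
      rwa [e] at this
    · have h2 : orderOf E.z = 2 :=
        orderOf_eq_prime (by rw [pow_two]; exact (E.Z_sq (IsConj.refl _)).1) z1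
      exact absurd (h2 ▸ orderOf_dvd_natCard Wd (e ▸ mem_top E.z)) oW.not_two_dvd_nat
  · refine Or.inr (E.holt hM CM (fun x hx => ?_) ⟨x₀, g₀.2.1, n₀, z₀⟩)
    obtain ⟨x', hx', e⟩ := h.into_EE ht (zsq x hx).1
    obtain ⟨g, hg, e1⟩ := E.lift_conj e
    obtain ⟨k, k1, k2⟩ := E.ext_z (hx.trans (isConj_iff.2 ⟨g, e1⟩)) ((EE 0).map E.f)
      ((W_p.to_subgroup _).map E.f) (by
        rintro _ ⟨y, hy, rfl⟩
        rw [← map_mul, ← map_mul, EE_comm y hy x' hx'])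
    have hle : cj k ((EE 0).map E.f) ≤ E.f.range := fun t ht => by
      obtain ⟨y, hy, rfl⟩ := mem_cj'.1 ht
      exact k2 y hy
    have e2 := map_comap_eq_self hle
    have e3 : (cj k ((EE 0).map E.f)).comap E.f = EE 0 := by
      refine W.EE_unique _ (fun a ha => E.inj ?_) ?_
      · obtain ⟨_, ⟨y, hy, rfl⟩, e3⟩ := mem_cj'.1 (show E.f a ∈ _ from ha)
        rw [map_mul, e3, map_one, conj_mul, ← map_mul, EE_sq y hy, map_one, mul_one,
          mul_inv_cancel]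
      · rw [← card_map_of_injective (f := E.f) E.inj, e2, card_cj, card_map_of_injective E.inj,
          W.card_EE]
    refine ⟨k * g, mul_mem (NE (mem_N_iff_cj.2 (by rw [← e2, e3]))) (CM hg), ?_⟩
    rw [← k1, ← e1]; group
end PSN

end H20.P4
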