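import Mathlib
import Cfsg.Agent.H20.P0
import Cfsg.Agent.H20.PSB
import Cfsg.Agent.H20.PF6
import Cfsg.Agent.H20.PF9
import Cfsg.Agent.H25.Dich
import Cfsg.Agent.S0205

set_option autoImplicit false
set_option linter.unusedVariables false
set_option linter.unusedSectionVars false

namespace H20.P4

open Cfsg Subgroup
open scoped MatrixGroups

universe u

variable {m : ℕ} {G : Type u} [Group G] [Finite G]

namespace PSWx

/-- a solvable subgroup containing the images of all elements of odd order -/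
theorem solv_of {H K : Type*} [Group H] [Finite H] [Group K] (φ : H →* K) (hφ : Function.Surjective φ)
    (Y : Subgroup K) [Group.IsSolvable Y] (h : ∀ g : H, Odd (orderOf g) → φ g ∈ Y) :
    Group.IsSolvable K := by
  have : Finite K := Finite.of_surjective φ hφ
  have : Fact (Nat.Prime 2) := ⟨Nat.prime_two⟩
  have : Group.IsSolvable Y.normalCore :=
    Group.isSolvable_of_isSolvable_injective (inclusion_injective (normalCore_le Y))
  have p : IsPGroup 2 (K ⧸ Y.normalCore) := fun γ => by
    obtain ⟨k, rfl⟩ := QuotientGroup.mk'_surjective _ γ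
    obtain ⟨g, rfl⟩ := hφ k
    obtain ⟨n, r, hr, e⟩ := Nat.exists_eq_two_pow_mul_odd (orderOf_pos g).ne'
    refine ⟨n, ?_⟩
    rw [← map_pow, ← map_pow]
    refine (QuotientGroup.eq_one_iff _).2 fun c => ?_
    obtain ⟨c, rfl⟩ := hφ c
    rw [← map_inv, ← map_mul, ← map_mul]
    refine h _ (hr.of_dvd_nat (orderOf_dvd_of_pow_eq_one ?_))
    rw [conj_pow, ← pow_mul, ← e, pow_orderOf_eq_one, mul_one, mul_inv_cancel]
  have := p.isNilpotent
  exact Group.isSolvable_of_ker_le_range Y.normalCore.subtype (QuotientGroup.mk' Y.normalCore) (by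
    rw [QuotientGroup.ker_mk', range_subtype])

theorem no_comp {K : Type*} [Group K] [Group.IsSolvable K] : ¬ HasComponent K := fun ⟨L, _, h1, h2⟩ => by
  have := h1
  have := h2.toNontrivial
  have : Nontrivial L := (QuotientGroup.mk'_surjective (center L)).nontrivial
  exact Group.IsPerfect.not_isSolvable L inferInstance

theorem solv_conj {a b : G} (h : IsConj a b) [Group.IsSolvable (centralizer ({a} : Set G))] :
    Group.IsSolvable (centralizer ({b} : Set G)) := by
  obtain ⟨g, rfl⟩ := isConj_iff.1 h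
  refine Group.isSolvable_of_isSolvable_injective (f := ((MulAut.conj g⁻¹).toMonoidHom.comp (Subgroup.subtype _)).codRestrict
    (centralizer {a}) fun c => mem_centralizer_singleton_iff.2 ?_) fun c d e =>
      Subtype.ext ((MulAut.conj g⁻¹).injective (congrArg Subtype.val e))
  have := mem_centralizer_singleton_iff.1 c.2
  show g⁻¹ * c * g⁻¹⁻¹ * a = a * (g⁻¹ * c * g⁻¹⁻¹)
  calc _ = g⁻¹ * (c * (g * a * g⁻¹)) * g := by group
    _ = _ := by rw [this]; group

theorem solv_Z {E : Emb 0 G} (h : E.bar.CaseS) {a : G} (ha : E.Z a) :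
    Group.IsSolvable (centralizer ({a} : Set G)) := by
  have := h.solvable
  have : Group.IsSolvable (oddCore E.C) := Cfsg.Agent.S0205.result
    ((Nat.coprime_two_right (n := _)).1 (H2.pPrimeCore_coprime 2 _))
  have : Group.IsSolvable E.C := Group.isSolvable_of_ker_le_range (oddCore E.C).subtype E.π (by
    rw [QuotientGroup.ker_mk', range_subtype])
  exact solv_conj ha

theorem solv_H {E : Emb 0 G} (h : E.bar.CaseS) (hH : E.ZH) {a b : G} (p : E.Pair a b) :
    Group.IsSolvable (centralizer ({a * b} : Set G)) := by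
  have := solv_Z h p.za
  have aa := (E.Z_sq p.za).1
  have : Group.IsSolvable (oddCore (centralizer ({a * b} : Set G))) := Cfsg.Agent.S0205.result
    ((Nat.coprime_two_right (n := _)).1 (H2.pPrimeCore_coprime 2 _))
  let X := (centralizer {a}).subgroupOf (centralizer ({a * b} : Set G))
  let π := QuotientGroup.mk' (oddCore (centralizer ({a * b} : Set G)))
  have : Group.IsSolvable X :=
    Group.isSolvable_of_isSolvable_injective (f := ((centralizer ({a * b} : Set G)).subtype.comp
      X.subtype).codRestrict (centralizer {a}) fun c => c.2) fun c d e =>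
        Subtype.ext (Subtype.ext (congrArg (fun x : centralizer ({a} : Set G) => x.1) e))
  have : Group.IsSolvable (X.map π) := Group.isSolvable_of_surjective (π.subgroupMap_surjective X)
  have := solv_of π (QuotientGroup.mk'_surjective _) (X.map π) fun g hg => by
      obtain ⟨w, hw, e⟩ := hH a b p g (mem_centralizer_singleton_iff.1 g.2) (by rwa [orderOf_coe])
      obtain ⟨k, hk⟩ : Odd (orderOf w) := (Nat.coprime_two_right.1 (H2.pPrimeCore_coprime 2 _)).of_dvd_nat
        (orderOf_dvd_natCard _ hw)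
      have e : (w : G) = g * a * (g : G)⁻¹ * a := e
      have i : a * w * a⁻¹ = (w : G)⁻¹ := by
        rw [e, mul_inv_rev, mul_inv_rev, mul_inv_rev, inv_eq_of_mul_eq_one_left aa, inv_inv]
        calc _ = a * g * a * (g : G)⁻¹ * (a * a) := by group
          _ = _ := by rw [aa]; group
      have w1 : (w : G) ^ (k + 1) * w ^ (k + 1) = w := by
        rw [← pow_add, show k + 1 + (k + 1) = 2 * k + 1 + 1 by ring, pow_succ, ← hk, ← orderOf_coe,
          pow_orderOf_eq_one, one_mul]
      refine ⟨(w ^ (k + 1))⁻¹ * g, mem_centralizer_singleton_iff.2 ?_, by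
        rw [map_mul π, show π (w ^ (k + 1))⁻¹ = 1 from
          (QuotientGroup.eq_one_iff _).2 (inv_mem (pow_mem hw _)), one_mul]⟩
      have i2 : a * (w : G) ^ (k + 1) * a⁻¹ = ((w : G) ^ (k + 1))⁻¹ := by rw [← conj_pow, i, inv_pow]
      show ((w : G) ^ (k + 1))⁻¹ * g * a = a * (((w : G) ^ (k + 1))⁻¹ * g)
      generalize (w : G) ^ (k + 1) = s at w1 i2 ⊢
      calc _ = s⁻¹ * (g * a * (g : G)⁻¹ * a) * a⁻¹ * g := by group
        _ = a⁻¹ * (a * s * a⁻¹) * g := by rw [← e, ← w1]; group
        _ = _ := by rw [i2, inv_eq_of_mul_eq_one_left aa, mul_assoc]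
  exact Group.isSolvable_of_ker_le_range (oddCore (centralizer ({a * b} : Set G))).subtype
    (QuotientGroup.mk' (oddCore (centralizer ({a * b} : Set G)))) (by
      rw [QuotientGroup.ker_mk', range_subtype])

end PSWx

/-! ### PSW -/
section PSW
theorem Emb.PW.core_S [IsSimpleGroup G] {E : Emb 0 G} (hW : E.PW) (h : E.bar.CaseS) :
    oddCore E.C = ⊥ := by
  have o2 : ∀ {t : G}, t * t = 1 → t ≠ 1 → orderOf t = 2 := fun a b =>
    haveI : Fact (Nat.Prime 2) := ⟨Nat.prime_two⟩
    orderOf_eq_prime (by rw [pow_two, a]) b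
  have hz := E.Z_sq (IsConj.refl _)
  have hr : ¬ PRankLE 2 2 G := fun k => by
    have := k _ hW.frame0.ea.1 hW.frame0.ea.2
    rw [hW.frame0.card hW] at this
    omega
  have hO : oddCore G = ⊥ := ((inferInstance : (oddCore G).Normal).eq_bot_or_eq_top).resolve_right fun e => by
    have := (Nat.coprime_two_right.1 (H2.pPrimeCore_coprime 2 G)).of_dvd_nat
      (orderOf_dvd_natCard _ (e.ge (mem_top E.z)))
    rw [o2 hz.1 hz.2] at this
    exact absurd this (by decide)
  have hc : ¬ IsComponentType G := fun ⟨t, ht, k⟩ => by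
    have tt : t * t = 1 := by rw [← pow_two, ← ht, pow_orderOf_eq_one]
    suffices Group.IsSolvable (centralizer ({t} : Set G)) from PSWx.no_comp k
    obtain ⟨g, hg⟩ := H24.G2S.exists_conj_le_sylow E.S (zpowers t) (IsPGroup.of_card (n := 1) (by
      rw [Nat.card_zpowers, ht, pow_one]))
    obtain ⟨x, hx⟩ := E.exists_eq (hg t (mem_zpowers t))
    obtain ⟨x0, a1, a2, a3, c, hc, x1, a4, a5⟩ := E.tau
    obtain ⟨x', b1, b2⟩ := h.into_EE ⟨x0, a1, a2, a3, x1, a4, isConj_iff.2 ⟨E.π ⟨c, hc⟩, by
      rw [E.bar_f, E.bar_f, ← map_inv, ← map_mul, ← map_mul]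
      exact congrArg _ (Subtype.ext a5.symm)⟩⟩ (x := x) (E.inj (by
        rw [map_mul, hx, conj_mul, tt, map_one, mul_one, mul_inv_cancel]))
    obtain ⟨d, -, hd⟩ := E.lift_conj b2
    have cj : IsConj (E.f x') t := (isConj_iff.2 ⟨d * g, by rw [← hd, hx]; group⟩ : IsConj t _).symm
    rcases hW.frame0.mem (Emb.FG_fr0.ge ⟨x', b1, rfl⟩) with e | ⟨k, e⟩ | ⟨k, l, n, e⟩ <;> rw [e] at cj
    · rw [isConj_one_right.1 cj, orderOf_one] at ht
      omega
    · exact PSWx.solv_Z h ((hW.frame0.z k).trans cj)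
    · have := PSWx.solv_H h hW.zh (hW.frame0.pair n)
      exact PSWx.solv_conj cj
  exact (map_eq_bot_iff_of_injective _ (subtype_injective _)).1 (H25.Sg.cpp_eq_bot
    (H25.Sg.pLayer_eq_bot_of_not_componentType hc)
    (H25.Sg.big_of_no_index_two (fun N _ => E.no_idx2 N) hr) hO (o2 hz.1 hz.2))
end PSW


end H20.P4
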