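import Mathlib
import Cfsg.Agent.H20.PEM
import Cfsg.Agent.H20.PF4
import Cfsg.Agent.H20.PF7
import Cfsg.Agent.H20.PA7
import Cfsg.Agent.H20.PO7
import Cfsg.Agent.H20.PSW
import Cfsg.Agent.H20.PSN
import Cfsg.Agent.H20.PS9
import Cfsg.Agent.H20.PI3

/-! S0509: the final assembly. -/

set_option autoImplicit false

namespace H20.P4

open Cfsg Subgroup
open scoped MatrixGroups

universe u

variable {m : ℕ} {G : Type u} [Group G] [Finite G] [IsSimpleGroup G]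

theorem Emb.tri_bar (E : Emb m G) : E.bar.CaseS ∨ ((∃ N, E.bar.PN N ∧ E.bar.Conj4 N) ∧
    ((∃ (F : Type) (_ : Field F) (_ : Fintype F) (ψ : SL(2, F) →* E.Bar), E.bar.CaseL F ψ) ∨
      E.bar.CaseA)) := by
  refine E.bar.tri E.bar_Cen (H2.pPrimeCore_quotient_pPrimeCore 2 _) fun hm => ?_
  obtain ⟨⟨g, hg, e⟩, g', hg', e'⟩ := E.s_fuse hm
  exact ⟨E.π.map_isConj (isConj_iff.2 ⟨⟨g, hg⟩, Subtype.ext e⟩),
    E.π.map_isConj (isConj_iff.2 ⟨⟨g', hg'⟩, Subtype.ext e'⟩)⟩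

theorem Emb.PW.concl {E : Emb m G} (hW : E.PW) : Concl G := by
  rcases E.tri_bar with h | ⟨-, ⟨F, _, _, ψ, hL⟩ | hA⟩
  · obtain rfl := h.1
    exact Emb.concl_S h (hW.core_S h)
  · rcases hW.core_L hL with hO | h9
    · obtain ⟨ψ', h1, h2⟩ := Emb.CaseL.of_bar E hO hL (hW.cu hL)
      exact hW.concl_L h1 h2
    · exact Or.inr (Or.inr h9)
  · exact (hW.not_A hA).elim

theorem Emb.concl (E : Emb m G) : Concl G := by
  have key : (∀ x ∈ Q m, E.Z (E.f x) → x = W.z m) → Concl G := fun h =>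
    (E.pw h).elim Emb.PW.concl Emb.PW.concl
  rcases E.tri_bar with h | ⟨⟨N, h1, h2⟩, -⟩
  · obtain rfl := h.1
    by_cases hN : ∃ x ∈ Q 0, x ≠ W.z 0 ∧ E.Z (E.f x)
    · rcases Emb.core_N h hN with hO | h9
      · exact Emb.concl_S h hO
      · exact Or.inr (Or.inr h9)
    · exact key fun x hx hZ => by_contra fun e => hN ⟨x, hx, e, hZ⟩
  · exact key (E.zq h1 h2)

theorem s0509 {F : Type*} [Field F] [Fintype F] (hF : Odd (Fintype.card F)) (S : Sylow 2 G)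
    (P : Sylow 2 (Cfsg.PSp 2 F))
    (hS : Nonempty ((S : Subgroup G) ≃* (P : Subgroup (Cfsg.PSp 2 F)))) : Concl G := by
  obtain ⟨m, ⟨E⟩⟩ := exists_emb hF S P hS
  exact E.concl

end H20.P4
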