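import Mathlib
import Cfsg.Prelude.Def_ChevStructure
import Cfsg.Agent.H20.GoodD4
import Cfsg.Agent.H20.Poincare

set_option autoImplicit false
set_option maxRecDepth 100000

namespace H20

open Cfsg.Lie

theorem orbD4_0 : orbChk auxD4 4 24 [0, 1, 2, 3] [1, 2, 3] ([0, 1, 2, 3].map fun i => [i]) [1, 0, 0, 0]
    [[-1, 0, 0, 0], [1, -1, 0, 0], [0, 1, -1, -1], [0, 0, 1, -1], [0, 0, -1, 1], [0, -1, 1, 1], [-1, 1, 0, 0], [1, 0, 0, 0]]
    [[0, 0, 0, 1], [0, 0, 1, 0], [0, 1, 0, 0], [0, 1, 0, 1], [0, 1, 1, 0], [0, 1, 1, 1], [1, 0, 0, 0], [1, 1, 0, 0], [1, 1, 0, 1], [1, 1, 1, 0], [1, 1, 1, 1], [1, 2, 1, 1]]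
    [6, 5, 4, 3, 3, 2, 1, 0] := by decide +kernel

theorem orbD4_1 : orbChk auxD4 4 24 [1, 2, 3] [1, 3] ([1, 2, 3].map fun i => [i]) [0, 0, 1, 0]
    [[1, 0, 0, -1], [1, -1, 0, 1], [0, 1, -1, 0], [0, 0, 1, 0]]
    [[0, 0, 0, 1], [0, 0, 1, 0], [0, 1, 0, 0], [0, 1, 0, 1], [0, 1, 1, 0], [0, 1, 1, 1]]
    [3, 2, 1, 0] := by decide +kernel

theorem orbD4_2 : orbChk auxD4 4 24 [1, 3] [3] ([1, 3].map fun i => [i]) [0, 1, 0, 0]
    [[1, 0, 1, -1], [1, -1, 1, 1], [0, 1, 0, 0]]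
    [[0, 0, 0, 1], [0, 1, 0, 0], [0, 1, 0, 1]]
    [2, 1, 0] := by decide +kernel

theorem orbD4_3 : orbChk auxD4 4 24 [3] [] ([3].map fun i => [i]) [0, 0, 0, 1]
    [[0, 1, 0, -1], [0, 0, 0, 1]]
    [[0, 0, 0, 1]]
    [1, 0] := by decide +kernel

theorem JS_D4 : Good.JS chevD4 [0, 1, 2, 3] = Set.univ := Good.JS_range

theorem cardW_D4 : Nat.card goodD4.rs.W = 192 := by
  rw [RS.card_eq_poin _ le_rfl, ← JS_D4, goodD4.poin_W_of_orbChk orbD4_0, goodD4.poin_W_of_orbChk orbD4_1, goodD4.poin_W_of_orbChk orbD4_2, goodD4.poin_W_of_orbChk orbD4_3, Good.JS_nil, RS.poin_empty]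
  simp only [one_pow]
  decide +kernel

theorem poin_D4 {A : Type*} [CommRing A] (y : A) :
    (y - 1) ^ 4 * goodD4.rs.poin goodD4.rs.W Set.univ y = (y ^ 2 - 1) * (y ^ 4 - 1) * (y ^ 4 - 1) * (y ^ 6 - 1) := by
  rw [← JS_D4, goodD4.poin_W_of_orbChk orbD4_0, goodD4.poin_W_of_orbChk orbD4_1, goodD4.poin_W_of_orbChk orbD4_2, goodD4.poin_W_of_orbChk orbD4_3, Good.JS_nil, RS.poin_empty]
  simp only [List.map_cons, List.map_nil, List.sum_cons, List.sum_nil]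
  ring

theorem cox_D4 : ∃ e : goodD4.rs.W ≃* (coxeterD4).Group,
    ∀ i : Fin 4, e ⟨goodD4.rs.s i, goodD4.rs.s_mem_W i⟩ = (coxeterD4).simple i := by
  refine RS.exists_coxeter_equiv_W (R := goodD4.rs) (coxeterD4) fun i j => ?_
  have key : ∀ i j : Fin 4, ((coxeterD4).M i j != 0 && iterChk auxD4.CL [i, j] (List.replicate 4 1) ((coxeterD4).M i j - 1)
      (wordL auxD4.CL [i, j] (List.replicate 4 1))) = true := by decide +kernel
  simp only [Bool.and_eq_true, bne_iff_ne] at key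
  have h := goodD4.orderOf_wN (ω := [i, j]) (by simp) (key i j).2
  rw [Nat.sub_add_cancel (Nat.pos_of_ne_zero (key i j).1)] at h
  simpa [Good.wN, Good.sN_val] using h.symm

theorem orderOf_cox_D4 : orderOf (goodD4.wN (List.range 4)) = 6 :=
  goodD4.orderOf_wN (m := 5) (by decide) (by decide +kernel)

end H20
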