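import Mathlib
import Cfsg.Agent.H8.ReeTorus
import Cfsg.Agent.H8.ReeTransport
import Cfsg.Agent.H8.Transport
import Cfsg.Agent.H8.SzCount
import Cfsg.Agent.H5.CC

/-! The cyclic Hall subgroups of the small Ree groups, by counting. -/

set_option autoImplicit false

namespace H20.Ree

open H8 H8.Ree Subgroup MulAction
open scoped Pointwise

theorem ti_count {G : Type*} [Group G] (S : Set G) (N : Subgroup G) (h1 : ∀ x ∈ N, ∀ s ∈ S, x * s * x⁻¹ ∈ S)
    (h2 : ∀ x, ∀ s ∈ S, x * s * x⁻¹ ∈ S → x ∈ N) :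
    {g | ∃ x, x * g * x⁻¹ ∈ S}.ncard * Nat.card N = Nat.card G * S.ncard := by
  have hc : ∀ g : {g | ∃ x, x * g * x⁻¹ ∈ S}, ∃ x, x * (g : G) * x⁻¹ ∈ S := fun g => g.2
  choose c hc using hc
  let f : {g | ∃ x, x * g * x⁻¹ ∈ S} × N → G × S := fun p =>
    (p.2 * c p.1, ⟨p.2 * (c p.1 * p.1 * (c p.1)⁻¹) * (p.2 : G)⁻¹, h1 _ p.2.2 _ (hc p.1)⟩)
  have hf : Function.Bijective f := by
    constructor
    · rintro ⟨g, n⟩ ⟨g', n'⟩ h
      have e1 : (n : G) * c g = n' * c g' := congrArg Prod.fst h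
      have e2 : (n * c g) * (g : G) * (n * c g)⁻¹ = (n' * c g') * (g' : G) * (n' * c g')⁻¹ := by
        simpa [mul_assoc, f] using congrArg (fun p : G × S => (p.2 : G)) h
      obtain rfl : g = g' := Subtype.ext (by simpa [e1] using e2)
      obtain rfl : n = n' := Subtype.ext (mul_right_cancel e1)
      rfl
    · rintro ⟨x, a, ha⟩
      let g : {g | ∃ x, x * g * x⁻¹ ∈ S} := ⟨x⁻¹ * a * x, x, by simpa [mul_assoc] using ha⟩
      have hn : c g * x⁻¹ ∈ N := h2 _ a ha (by simpa [g, mul_assoc] using hc g)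
      exact ⟨(g, ⟨(c g * x⁻¹)⁻¹, N.inv_mem hn⟩), Prod.ext (by simp [f]) (Subtype.ext (by simp [f, g, mul_assoc]))⟩
  simpa [Nat.card_prod] using Nat.card_eq_of_bijective f hf

theorem card_cent_conj {G : Type*} [Group G] (x g : G) :
    Nat.card (centralizer ({x * g * x⁻¹} : Set G)) = Nat.card (centralizer ({g} : Set G)) := by
  rw [← card_map_equiv (MulAut.conj x) (centralizer {g}), map_centralizer_equiv]
  simp

theorem card_fix_conj {G Ω : Type*} [Group G] [MulAction G Ω] (x g : G) :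
    (fixedBy Ω (x * g * x⁻¹)).ncard = (fixedBy Ω g).ncard := by
  rw [← smul_fixedBy, Set.ncard_smul_set]

theorem ord_conj {G : Type*} [Group G] (x g : G) : orderOf (x * g * x⁻¹) = orderOf g :=
  (MulAut.conj x).orderOf_eq g

theorem ord_dvd {G : Type*} [Group G] {S : Subgroup G} {x g : G} (h : x * g * x⁻¹ ∈ S) : orderOf g ∣ Nat.card S :=
  ord_conj x g ▸ Subgroup.orderOf_dvd_natCard _ h

variable {K : Type*} [Field K] (T : Ctx K)

theorem fix_two {g : T.R} {p r : T.Ω} (h : p ≠ r) (hp : g • p = p) (hr : g • r = r) : ∃ x, x * g * x⁻¹ ∈ T.H := by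
  obtain ⟨x, rfl, rfl⟩ := T.exists_smul_pair h
  exact ⟨x⁻¹, T.mem_H'.2 ⟨by simp [mul_smul, hp], by simp [mul_smul, hr]⟩⟩

theorem fix_one {g : T.R} {p : T.Ω} (hp : g • p = p) : ∃ x, x * g * x⁻¹ ∈ T.B := by
  obtain ⟨x, rfl⟩ := T.exists_smul_inf p
  exact ⟨x⁻¹, by simp [mul_smul, hp]⟩

theorem fixedBy_H {g : T.R} (hg : g ∈ T.H) (h : g * g ≠ 1) : fixedBy T.Ω g = {T.inf, T.org} := by
  ext p
  refine ⟨fun hp => ?_, by rintro (rfl | rfl); exacts [(T.mem_H'.1 hg).1, (T.mem_H'.1 hg).2]⟩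
  obtain ⟨k, rfl⟩ := T.mem_H.1 hg
  rcases T.cases_Ω p with rfl | ⟨a, b, c, rfl⟩
  · exact Or.inl rfl
  by_cases h0 : a = 0 ∧ b = 0 ∧ c = 0
  · obtain ⟨rfl, rfl, rfl⟩ := h0
    exact Or.inr T.pt_zero
  rcases T.sq_eq_one_of_h_pt h0 hp with rfl | rfl
  · simp [T.h_one] at h
  · exact absurd T.h_neg_one_sq h

theorem mem_N_of_conj {g x : T.R} (hg : g ∈ T.H) (h : g * g ≠ 1) (hx : x * g * x⁻¹ ∈ T.H) : x ∈ T.N := by
  have := fixedBy_H T hx (by rwa [conj_mul, Ne, conj_eq_one_iff])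
  rwa [← smul_fixedBy, fixedBy_H T hg h] at this

theorem card_N [Finite K] : Nat.card T.N = 2 * (Nat.card K - 1) := by
  rw [← T.card_H]
  refine card_eq_two_mul _ _ (w := T.n) (fun h => T.n_notMem_B (T.H_le_B h)) fun x => ?_
  rw [T.mem_N', T.mem_H', T.mem_H', mul_smul, mul_smul, smul_eq_iff_eq_inv_smul T.n, smul_eq_iff_eq_inv_smul T.n,
    T.n_inv, T.n_inf, T.n_org]

theorem conj_mem_of_N {x g : T.R} (hx : x ∈ T.N) (hg : g ∈ T.H) : x * g * x⁻¹ = g ∨ x * g * x⁻¹ = g⁻¹ := by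
  obtain ⟨l, rfl⟩ := T.mem_H.1 hg
  obtain ⟨k, rfl | rfl⟩ := T.mem_N.1 hx
  · left; rw [T.h_comm, mul_inv_cancel_right]
  · right; rw [mul_assoc _ T.n, T.n_mul_h, ← mul_assoc, T.h_comm, mul_assoc _ _ T.n, mul_inv_cancel_right, T.h_inv]

variable [Finite K]

theorem mem_Tor_of_comm {x : T.R} (ha : x * T.a = T.a * x) (hn : x * T.n = T.n * x) :
    x ∈ T.Tor ∨ (x * x = 1 ∧ T.c * x ∈ T.Tor) := by
  have key : ∀ g, T.φ g * T.n = T.n * T.φ g → g ∈ D K ∨ (T.φ g * T.φ g = 1 ∧ T.ii * g ∈ D K) := by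
    intro g hg
    rcases T.φ_comm_n_iff.1 hg with h | ⟨h1, h2⟩
    · exact Or.inl (mem_D.2 h)
    refine Or.inr ⟨?_, mem_D.2 ?_⟩
    · rw [← map_mul, T.φ_eq_one_iff]
      simp only [sl_mul_apply, h1, h2]
      refine ⟨by ring, by ring, by ring⟩
    · simp only [sl_mul_apply, h1, h2]
      simp [Ctx.ii, add_comm]
  obtain ⟨g, rfl | rfl⟩ := T.mem_centralizer_a.1 (mem_centralizer_singleton_iff.2 ha)
  · exact (key g hn).imp (fun h => ⟨g, h, Or.inl rfl⟩) fun h => ⟨h.1, _, h.2, Or.inl (map_mul _ _ _).symm⟩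
  · rw [mul_assoc, ← mul_assoc T.n, ← T.a_comm_n, mul_assoc, mul_right_inj] at hn
    refine (key g hn).imp (fun h => ⟨g, h, Or.inr rfl⟩) fun h => ⟨?_, _, h.2, Or.inr ?_⟩
    · rw [(show Commute T.a (T.φ g) from T.a_comm_φ g).symm.mul_mul_mul_comm, h.1, T.a_mul_a, mul_one]
    · rw [← mul_assoc, ← T.a_comm_c, map_mul, mul_assoc, T.c_def]

theorem mem_norm_Tor {x y : T.R} (hx : x ∈ T.Tor) (h : x * x ≠ 1) (hy : y * x * y⁻¹ ∈ T.Tor) :
    y ∈ normalizer (T.Tor : Set T.R) := by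
  rw [mem_normalizer_iff]
  intro z
  conv_lhs => rw [← T.centralizer_eq_Tor hx h]
  conv_rhs => rw [← T.centralizer_eq_Tor hy (by rwa [conj_mul, Ne, conj_eq_one_iff])]
  exact (mem_centralizer_conj y x z).symm

omit [Finite K] in
theorem ncard_V4 : {x | x ∈ T.Tor ∧ x * x = 1}.ncard = 4 :=
  card_eq_of_list T.nodup_V4 fun x => ⟨fun h => (T.sq_eq_one_iff_Tor h.1).1 h.2, fun h => by
    have : x ∈ T.Tor := by
      simp only [List.mem_cons, List.not_mem_nil, or_false] at h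
      rcases h with rfl | rfl | rfl | rfl <;> simp only [one_mem, mul_mem, T.a_mem_Tor, T.n_mem_Tor]
    exact ⟨this, (T.sq_eq_one_iff_Tor this).2 h⟩⟩

theorem ncard_Tor' : {x | x ∈ T.Tor ∧ x * x ≠ 1}.ncard + 3 = Nat.card K := by
  have := Set.ncard_inter_add_ncard_sdiff_eq_ncard (T.Tor : Set T.R) {x | x * x = 1}
  rw [show (T.Tor : Set T.R).ncard = _ from T.card_Tor, show (T.Tor : Set T.R) ∩ {x | x * x = 1} = _ from rfl] at this
  have h := ncard_V4 T
  change _ + {x | x ∈ T.Tor ∧ x * x ≠ 1}.ncard = _ at this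
  change ((T.Tor : Set T.R) ∩ {x | x * x = 1}).ncard = 4 at h
  omega

theorem card_norm_Tor (hq : 3 < Nat.card K) :
    Nat.card (normalizer (T.Tor : Set T.R)) = 6 * (Nat.card K + 1) := by
  obtain ⟨x, hx, h⟩ : {x | x ∈ T.Tor ∧ x * x ≠ 1}.Nonempty :=
    Set.nonempty_of_ncard_ne_zero (by have := ncard_Tor' T; omega)
  have hnd := T.nodup_S0
  simp only [List.nodup_cons, List.mem_cons, not_or] at hnd
  have xa : Commute x T.a := T.Tor_comm hx T.a_mem_Tor
  have xn : Commute x T.n := T.Tor_comm hx T.n_mem_Tor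
  have key : ∀ y : T.R, Commute x (y⁻¹ * T.a * y) → Commute x (y⁻¹ * T.n * y) → y ∈ normalizer (T.Tor : Set T.R) :=
    fun y h1 h2 => mem_norm_Tor T hx h ((mem_Tor_of_comm T (by simpa [mul_assoc] using (h1.map (MulAut.conj y)).eq)
      (by simpa [mul_assoc] using (h2.map (MulAut.conj y)).eq)).resolve_right fun h' =>
        h (by simpa [conj_mul] using h'.1))
  have hv : ∀ g ∈ normalizer (T.Tor : Set T.R), ∀ t ∈ T.Tor, t * t = 1 → t ≠ 1 →
      g * t * g⁻¹ = T.n ∨ g * t * g⁻¹ = T.a ∨ g * t * g⁻¹ = T.a * T.n := fun g hg t ht h1 h2 => by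
    have := (T.sq_eq_one_iff_Tor ((mem_normalizer_iff.1 hg t).1 ht)).1 (by rw [conj_mul, h1]; simp)
    simpa [h2] using this
  have h3 : T.g3⁻¹ ∈ normalizer (T.Tor : Set T.R) := key _ (by simpa [T.g3_conj_a] using xn)
    (by simpa [T.g3_conj_n] using xa.mul_right xn)
  rw [inv_mem_iff] at h3
  have h1 : {y | ∃ g ∈ normalizer (T.Tor : Set T.R), g * T.a * g⁻¹ = y} = {T.n, T.a, T.a * T.n} := by
    apply Set.Subset.antisymm
    · rintro _ ⟨g, hg, rfl⟩
      exact hv g hg _ T.a_mem_Tor T.a_mul_a T.a_ne_one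
    · rintro _ (rfl | rfl | rfl)
      · exact ⟨_, h3, T.g3_conj_a⟩
      · exact ⟨1, one_mem _, by simp⟩
      · exact ⟨_, mul_mem h3 h3, by rw [← T.g3_conj_n, ← T.g3_conj_a]; group⟩
  rw [card_eq_ncard_conj_mul _ T.a, h1, Set.ncard_eq_three.2 ⟨_, _, _, hnd.2.1.2.2.1, hnd.2.1.2.2.2.1,
    hnd.2.2.2.2.1.1, rfl⟩, card_eq_two_mul T.Tor (_ ⊓ _) (w := T.c) ?_ ?_,
    T.card_Tor, ← mul_assoc]
  · rfl
  · intro hc
    have := (T.sq_eq_one_iff_Tor hc).1 T.c_mul_c
    simp only [List.mem_cons, List.not_mem_nil, or_false] at this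
    tauto
  refine fun y => ⟨fun ⟨hy, ha⟩ => ?_, ?_⟩
  · refine (mem_Tor_of_comm T (mem_centralizer_singleton_iff.1 ha) ?_).imp_right And.right
    obtain ⟨g, hg⟩ := T.conj_φ ha (ww K)
    rw [T.φ_ww] at hg
    rcases hv y hy _ T.n_mem_Tor T.n_mul_n T.n_ne_one with h' | h' | h'
    · exact mul_inv_eq_iff_eq_mul.1 h'
    · exact absurd (by rw [← hg, h', map_one, mul_one]) (T.φ_ne_a_mul g 1)
    · exact absurd (by rw [← hg, h', T.φ_ww]) (T.φ_ne_a_mul g (ww K))
  · have : ∀ y : T.R, Commute y T.a → Commute y T.n →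
        y ∈ normalizer (T.Tor : Set T.R) ⊓ centralizer ({T.a} : Set T.R) := fun y ha hn =>
      ⟨key y (by rwa [mul_assoc, ← ha.eq, inv_mul_cancel_left]) (by rwa [mul_assoc, ← hn.eq, inv_mul_cancel_left]),
        mem_centralizer_singleton_iff.2 ha⟩
    rintro (hy | hy)
    · exact this y (T.Tor_comm hy T.a_mem_Tor) (T.Tor_comm hy T.n_mem_Tor)
    · exact (mul_mem_cancel_left (this _ T.a_comm_c.symm T.n_comm_c.symm)).1
        (this _ (T.Tor_comm hy T.a_mem_Tor) (T.Tor_comm hy T.n_mem_Tor))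

theorem ncard_H' : {x | x ∈ T.H ∧ x * x ≠ 1}.ncard + 3 = Nat.card K := by
  have := Set.ncard_inter_add_ncard_sdiff_eq_ncard (T.H : Set T.R) {x | x * x = 1}
  have h : (T.H : Set T.R) ∩ {x | x * x = 1} = {1, T.a} := by
    ext x
    refine ⟨?_, by rintro (rfl | rfl); exacts [⟨one_mem _, one_mul _⟩, ⟨T.h_mem_H _, T.a_mul_a⟩]⟩
    rintro ⟨hx, h⟩
    obtain ⟨k, rfl⟩ := T.mem_H.1 hx
    rw [Set.mem_ofPred_eq, T.h_mul, ← T.h_one, T.h_inj, Units.ext_iff, Units.val_mul, Units.val_one,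
      mul_self_eq_one_iff] at h
    exact h.imp (fun h => by rw [← T.h_one, T.h_inj]; exact Units.ext h) fun h => T.h_inj.2 (Units.ext h)
  rw [show (T.H : Set T.R).ncard = _ from T.card_H, h, Set.ncard_pair T.a_ne_one.symm] at this
  change _ + {x | x ∈ T.H ∧ x * x ≠ 1}.ncard = _ at this
  have := Nat.card_pos (α := K)
  omega

theorem ncard_fix_a : (fixedBy T.Ω T.a).ncard = Nat.card K + 1 := by
  have : fixedBy T.Ω T.a = insert T.inf (Set.range fun b => T.pt 0 b 0) := by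
    ext p; simp [T.a_fix_iff, eq_comm]
  rw [this, Set.ncard_insert_of_notMem (by rintro ⟨b, hb⟩; exact T.pt_ne_inf _ _ _ hb),
    Set.ncard_range_of_injective fun a b h => (T.pt_inj.1 h).2.1]

/-- the number of elements without fixed points -/
theorem ncard_fpf (hq : Nat.card K % 8 = 3) : {g : T.R | ∀ p : T.Ω, g • p ≠ p}.ncard =
    Nat.card K ^ 3 + Nat.card K * {g | ∃ x, x * g * x⁻¹ ∈ ({T.a} : Set T.R)}.ncard +
      {g | ∃ x, x * g * x⁻¹ ∈ {x | x ∈ T.H ∧ x * x ≠ 1}}.ncard := by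
  classical
  have := Fintype.ofFinite T.R
  have := Fintype.ofFinite T.Ω
  have : Nonempty T.Ω := ⟨T.inf⟩
  have h1 := sum_card_fixedBy_eq_card_orbits_mul_card_group T.R T.Ω
  rw [Fintype.card_eq_one_iff_nonempty_unique.2 ((pretransitive_iff_unique_quotient_of_nonempty T.R T.Ω).1
    inferInstance), one_mul] at h1
  set F := {g : T.R | ∀ p : T.Ω, g • p ≠ p}
  set I := {g | ∃ x, x * g * x⁻¹ ∈ ({T.a} : Set T.R)}
  set H2 := {g | ∃ x, x * g * x⁻¹ ∈ {x | x ∈ T.H ∧ x * x ≠ 1}}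
  have key : ∀ g : T.R, Fintype.card (fixedBy T.Ω g) + (if g ∈ F then 1 else 0) =
      1 + (if g = 1 then Nat.card K ^ 3 else 0) + Nat.card K * (if g ∈ I then 1 else 0) +
        if g ∈ H2 then 1 else 0 := by
    intro g
    rw [← Nat.card_eq_fintype_card, Nat.card_coe_set_eq]
    have hF : 0 < (fixedBy T.Ω g).ncard → g ∉ F := fun h h' => by
      obtain ⟨p, hp⟩ := Set.nonempty_of_ncard_ne_zero h.ne'
      exact h' p hp
    have hI : g ∈ I ↔ g ≠ 1 ∧ g * g = 1 := by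
      constructor
      · rintro ⟨x, hx⟩
        rw [← conj_eq_one_iff (a := x), ← conj_mul, Ne, ← conj_eq_one_iff (a := x), Set.mem_singleton_iff.1 hx]
        exact ⟨T.a_ne_one, T.a_mul_a⟩
      · rintro ⟨h1, h2⟩
        obtain ⟨x, rfl⟩ := T.exists_conj_a hq h1 h2
        exact ⟨x⁻¹, by simp [mul_assoc]⟩
    have hH : g ∈ H2 → g * g ≠ 1 := by
      rintro ⟨x, -, hx⟩
      rwa [conj_mul, Ne, conj_eq_one_iff] at hx
    by_cases h0 : g = 1
    · have e : (fixedBy T.Ω g).ncard = Nat.card K ^ 3 + 1 := by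
        rw [h0, fixedBy_one_eq_univ, Set.ncard_univ, T.card_Ω]
      rw [if_neg (hF (by omega)), if_pos h0, if_neg (fun h => (hI.1 h).1 h0), if_neg fun h => hH h (by simp [h0])]
      omega
    rw [if_neg h0]
    by_cases h2 : g ∈ I
    · have e : (fixedBy T.Ω g).ncard = Nat.card K + 1 := by
        obtain ⟨x, hx⟩ := h2
        rw [← card_fix_conj x, Set.mem_singleton_iff.1 hx, ncard_fix_a]
      rw [if_neg (hF (by omega)), if_pos h2, if_neg fun h => hH h (hI.1 h2).2]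
      omega
    rw [if_neg h2]
    by_cases h3 : g ∈ H2
    · have e : (fixedBy T.Ω g).ncard = 2 := by
        obtain ⟨x, hx⟩ := h3
        rw [← card_fix_conj x, fixedBy_H T hx.1 hx.2, Set.ncard_pair T.org_ne_inf.symm]
      rw [if_neg (hF (by omega)), if_pos h3]
      omega
    rw [if_neg h3]
    by_cases h4 : g ∈ F
    · rw [if_pos h4, show fixedBy T.Ω g = ∅ from Set.eq_empty_of_forall_notMem h4]; simp
    rw [if_neg h4]
    obtain ⟨p, hp⟩ : ∃ p : T.Ω, g • p = p := by simpa [F] using h4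
    rw [show fixedBy T.Ω g = {p} from Set.eq_singleton_iff_unique_mem.2 ⟨hp, fun r hr => by_contra fun h => ?_⟩]
    · simp
    obtain ⟨x, hx⟩ := fix_two T h hr hp
    exact h3 ⟨x, hx, fun h' => h2 (hI.2 ⟨h0, by rwa [conj_mul, conj_eq_one_iff] at h'⟩)⟩
  have h2 := Finset.sum_congr rfl fun g (_ : g ∈ Finset.univ) => key g
  have e : ∀ (S : Set T.R) [DecidablePred (· ∈ S)], ∑ g : T.R, (if g ∈ S then 1 else 0) = S.ncard := fun S _ => by
    rw [Finset.sum_boole, Set.ncard_eq_toFinset_card']; simp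
  simp only [Finset.sum_add_distrib, ← Finset.mul_sum, h1, Finset.sum_ite_eq', Finset.mem_univ, if_true,
    Finset.sum_const, Finset.card_univ, smul_eq_mul, mul_one] at h2
  rw [e F, e I, e H2] at h2
  omega

/-- `q² - q + 1` -/
abbrev MM (q : ℕ) : ℕ := q * (q - 1) + 1

/-- the complementary factor of the order -/
abbrev EE (q : ℕ) : ℕ := q ^ 3 * (q - 1) * (q + 1)

theorem prime_MM {q p : ℕ} (h0 : 0 < q) (h3 : 3 ∣ q) (hp : p.Prime) (h : p ∣ MM q) :
    7 ≤ p ∧ ¬p ∣ q ∧ p ∣ q ^ 6 - 1 ∧ ∀ d, 0 < d → d < 6 → ¬p ∣ q ^ d - 1 := by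
  have a2 : ∀ x : ZMod 2, x * (x - 1) + 1 ≠ 0 := by decide
  have a3 : (0 : ZMod 3) * (0 - 1) + 1 ≠ 0 := by decide
  have a5 : ∀ x : ZMod 5, x * (x - 1) + 1 ≠ 0 := by decide
  have := Fact.mk hp
  have key : ∀ d, p ∣ q ^ d - 1 ↔ (q : ZMod p) ^ d = 1 := fun d => by
    rw [← ZMod.natCast_eq_zero_iff, Nat.cast_pred (by positivity), sub_eq_zero, Nat.cast_pow]
  rw [← ZMod.natCast_eq_zero_iff, Nat.cast_succ, Nat.cast_mul, Nat.cast_pred h0] at h
  have h7 : 7 ≤ p := by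
    by_contra! h7
    interval_cases p
    all_goals try exact absurd hp (by decide)
    · exact a2 _ h
    · rw [(ZMod.natCast_eq_zero_iff q 3).2 h3] at h
      exact a3 h
    · exact a5 _ h
  have e : ∀ k : ℕ, 0 < k → k < 7 → (k : ZMod p) ≠ 0 := fun k h1 h2 h3 => by
    have := Nat.le_of_dvd h1 ((ZMod.natCast_eq_zero_iff _ _).1 h3); omega
  have e2 := e 2 (by omega) (by omega)
  have e3 := e 3 (by omega) (by omega)
  rw [← ZMod.natCast_eq_zero_iff]
  simp only [key]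
  generalize (q : ZMod p) = x at h
  refine ⟨h7, fun h1 => by simp [h1] at h, by linear_combination (x ^ 3 - 1) * (x + 1) * h, fun d h1 h2 h4 => ?_⟩
  interval_cases d
  · exact one_ne_zero (by linear_combination h - x * h4 : (1 : ZMod p) = 0)
  · exact e3 (by push_cast; linear_combination (x + 2) * h - (x + 1) * h4)
  · exact e2 (by push_cast; linear_combination (x + 1) * h - h4)
  · exact e3 (by push_cast; linear_combination (1 - (x - 2) * x * (x + 1)) * h + (x - 2) * h4)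
  · exact one_ne_zero (by
      linear_combination (1 + (x - 1) * (1 - x ^ 2 * (x + 1))) * h + (x - 1) * h4 : (1 : ZMod p) = 0)

theorem coprime_EE {q : ℕ} (h0 : 0 < q) (h3 : 3 ∣ q) : (EE q).Coprime (MM q) := by
  refine Nat.Coprime.symm (Nat.coprime_of_dvd fun p hp h h' => ?_)
  obtain ⟨-, h1, -, h2⟩ := prime_MM h0 h3 hp h
  rw [EE, mul_assoc, hp.dvd_mul] at h'
  exact h'.elim (fun h => h1 (hp.dvd_of_dvd_pow h)) fun h =>
    h2 2 two_pos (by omega) (by rwa [← one_pow 2, Nat.sq_sub_sq, mul_comm])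

include T in
theorem cop : (EE (Nat.card K)).Coprime (MM (Nat.card K)) := coprime_EE Nat.card_pos T.three_dvd_card

theorem card_R' : Nat.card T.R = EE (Nat.card K) * MM (Nat.card K) := by
  rw [T.card_R]
  obtain ⟨r, hr⟩ := Nat.exists_eq_add_of_le' (Nat.card_pos (α := K))
  simp only [hr, EE, MM, Nat.add_sub_cancel]
  ring

include T in
theorem eq_three {s : ℕ} (hs : s.Prime) (h : s ∣ Nat.card K) : s = 3 := by
  have := Fintype.ofFinite K
  have := Fact.mk hs
  rw [Nat.card_eq_fintype_card, ← prime_dvd_char_iff_dvd_card] at h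
  exact (Nat.prime_dvd_prime_iff_eq hs Nat.prime_three).1 (h.trans (ringChar.dvd (by exact_mod_cast T.three)))

omit [Finite K] in
theorem sq_ne_one {G : Type*} [Group G] {y : G} {s : ℕ} (hs : s.Prime) (h2 : s ≠ 2) (hy : orderOf y = s) (x : G) :
    x * y * x⁻¹ * (x * y * x⁻¹) ≠ 1 := fun h => h2 ((Nat.prime_dvd_prime_iff_eq hs Nat.prime_two).1 (by
  rw [conj_mul, conj_eq_one_iff, ← sq] at h
  exact hy ▸ orderOf_dvd_of_pow_eq_one h))

theorem prime_cases {y : T.R} {s : ℕ} (hs : s.Prime) (hy : orderOf y = s) (h : ¬s ∣ MM (Nat.card K)) :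
    s = 2 ∨ (∃ x, x * y * x⁻¹ ∈ T.U) ∨ (∃ x, x * y * x⁻¹ ∈ T.H ∧ x * y * x⁻¹ * (x * y * x⁻¹) ≠ 1) ∨
      ∃ x, x * y * x⁻¹ ∈ T.Tor ∧ x * y * x⁻¹ * (x * y * x⁻¹) ≠ 1 := by
  have := Fact.mk hs
  refine or_iff_not_imp_left.2 fun h2 => ?_
  by_cases h3 : s = 3
  · subst h3
    exact Or.inl (exists_conj_mem_of_not_dvd_index _ T.not_three_dvd_index_U hy)
  have h4 : ¬s ∣ Nat.card K ^ 3 := fun h => h3 (eq_three T hs (hs.dvd_of_dvd_pow h))
  have h0 : 1 < Nat.card K := Finite.one_lt_card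
  refine Or.inr ?_
  by_cases h1 : s ∣ Nat.card K - 1
  · refine Or.inl ((exists_conj_mem_of_not_dvd_index _ ?_ hy).imp fun x hx => ⟨hx, sq_ne_one hs h2 hy x⟩)
    have e := T.H.index_mul_card
    rw [T.card_H, card_R', EE, mul_right_comm _ _ (Nat.card K + 1), mul_right_comm, mul_left_inj' (by omega)] at e
    simp only [e, hs.dvd_mul, h, h4, false_or, or_false]
    exact fun h5 => h2 ((Nat.prime_dvd_prime_iff_eq hs Nat.prime_two).1 (by
      simpa [show Nat.card K + 1 - (Nat.card K - 1) = 2 by omega] using Nat.dvd_sub h5 h1))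
  · refine Or.inr ((exists_conj_mem_of_not_dvd_index _ ?_ hy).imp fun x hx => ⟨hx, sq_ne_one hs h2 hy x⟩)
    have e := T.Tor.index_mul_card
    rw [T.card_Tor, card_R', EE, mul_right_comm, mul_left_inj' (by omega)] at e
    simp [e, hs.dvd_mul, h, h4, h1]

omit [Finite K] in
theorem cent_le_B {y : T.R} (hy : y ∈ T.U) (h1 : y ≠ 1) : centralizer ({y} : Set T.R) ≤ T.B := fun c hc =>
  T.eq_inf_of_U hy h1 (by rw [← mul_smul, ← mem_centralizer_singleton_iff.1 hc, mul_smul, T.U_le_B hy])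

omit [Finite K] in
theorem cent_le_N {y : T.R} (hy : y ∈ T.H) (h1 : y * y ≠ 1) : centralizer ({y} : Set T.R) ≤ T.N := fun c hc =>
  mem_N_of_conj T hy h1 (by rwa [mem_centralizer_singleton_iff.1 hc, mul_inv_cancel_right])

theorem card_cent_dvd (hq : Nat.card K % 8 = 3) {y : T.R} {s : ℕ} (hs : s.Prime) (hy : orderOf y = s)
    (h : ¬s ∣ MM (Nat.card K)) : Nat.card (centralizer ({y} : Set T.R)) ∣ EE (Nat.card K) := by
  have h1 : y ≠ 1 := by rintro rfl; exact hs.one_lt.ne (by simpa using hy)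
  rcases prime_cases T hs hy h with rfl | ⟨x, hx⟩ | ⟨x, hx, h2⟩ | ⟨x, hx, h2⟩
  · obtain ⟨x, rfl⟩ := T.exists_conj_a hq h1 (by rw [← sq, ← hy, pow_orderOf_eq_one])
    rw [card_cent_conj, T.card_centralizer_a, ← one_pow 2, Nat.sq_sub_sq]
    exact ⟨Nat.card K ^ 2, by rw [EE]; ring⟩
  · rw [← card_cent_conj x]
    exact (card_dvd_of_le (cent_le_B T hx (by simpa using h1))).trans (T.card_B ▸ dvd_mul_right _ _)
  · rw [← card_cent_conj x]
    refine (card_dvd_of_le (cent_le_N T hx h2)).trans ?_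
    rw [card_N, mul_comm]
    exact mul_dvd_mul (dvd_mul_left _ _) (by omega)
  · rw [← card_cent_conj x, T.centralizer_eq_Tor hx h2, T.card_Tor]
    exact dvd_mul_left _ _

theorem card_cent_dvd_MM (hq : Nat.card K % 8 = 3) {g : T.R} {p : ℕ} (hp : p.Prime) (hg : orderOf g = p)
    (h : p ∣ MM (Nat.card K)) : Nat.card (centralizer ({g} : Set T.R)) ∣ MM (Nat.card K) := by
  refine Nat.Coprime.dvd_of_dvd_mul_left (Nat.coprime_of_dvd fun s hs h1 h2 => ?_)
    ((card_subgroup_dvd_card _).trans (card_R' T).dvd)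
  have := Fact.mk hs
  obtain ⟨⟨y, hy⟩, h3⟩ := exists_prime_orderOf_dvd_card' s h1
  have h4 := card_cent_dvd T hq hs (y := y) (by simpa using h3) fun h' =>
    hs.one_lt.ne' (Nat.eq_one_of_dvd_coprimes (cop T) h2 h')
  have h5 := orderOf_dvd_natCard (⟨g, mem_centralizer_singleton_iff.2
    (mem_centralizer_singleton_iff.1 hy).symm⟩ : centralizer ({y} : Set T.R))
  rw [← orderOf_coe, hg] at h5
  exact hp.one_lt.ne' (Nat.eq_one_of_dvd_coprimes (cop T) (h5.trans h4) h)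

omit [Finite K] in
theorem finrank_quot {v : V K} (hv : v ≠ 0) : Module.finrank K (V K ⧸ K ∙ v) = 6 := by
  have := (K ∙ v).finrank_quotient_add_finrank
  rw [finrank_span_singleton hv, Module.finrank_fin_fun] at this
  omega

/-- the action on the quotient by an invariant line -/
noncomputable def rho (S : Subgroup T.R) {v : V K} (hv : v ≠ 0) (h : ∀ x ∈ S, x.1 v ∈ K ∙ v) :
    S →* Matrix (Fin 6) (Fin 6) K :=
  (LinearMap.toMatrixAlgEquiv (Module.finBasisOfFinrankEq K _ (finrank_quot hv))).toMonoidHom.comp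
    { toFun := fun x => (K ∙ v).mapQ (K ∙ v) x.1.1 ((Submodule.span_singleton_le_iff_mem _ _).2 (h x x.2))
      map_one' := by ext; rfl
      map_mul' := fun _ _ => by ext; rfl }

theorem rho_ker {S : Subgroup T.R} {v : V K} (hv : v ≠ 0) (h : ∀ x ∈ S, x.1 v ∈ K ∙ v) {x : S}
    (hx : rho T S hv h x = 1) : (x : T.R) ^ ((Nat.card K - 1) * 3) = 1 := by
  have := Fintype.ofFinite K
  obtain ⟨c, hc⟩ := Submodule.mem_span_singleton.1 (h x x.2)
  have h1 : ∀ n : ℕ, ((x : T.R) ^ n).1 v = c ^ n • v := fun n => by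
    induction n with
    | zero => simp
    | succ n ih => rw [pow_succ', T.mul_apply, ih, map_smul, ← hc, smul_smul, pow_succ]
  have h2 := h1 (Nat.card K - 1)
  rw [Nat.card_eq_fintype_card, FiniteField.pow_card_sub_one_eq_one c (by
    rintro rfl; exact T.apply_ne_zero x hv (by simp [← hc])), one_smul, ← Nat.card_eq_fintype_card] at h2
  have h3 : rho T S hv h (x ^ (Nat.card K - 1)) = 1 := by rw [map_pow, hx, one_pow]
  rw [pow_mul]
  refine T.ext_apply fun w => ?_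
  obtain ⟨d, hd⟩ := Submodule.mem_span_singleton.1 ((Submodule.Quotient.eq _).1
    (LinearMap.congr_fun ((map_eq_one_iff _ (LinearMap.toMatrixAlgEquiv _).injective).1 h3)
      (Submodule.Quotient.mk w)))
  change _ = ((x : T.R) ^ (Nat.card K - 1)).1 w - w at hd
  generalize (x : T.R) ^ (Nat.card K - 1) = y at h2 hd
  rw [eq_sub_iff_add_eq] at hd
  simp only [pow_three, T.mul_apply, ← hd, map_add, map_smul, h2, T.one_apply]
  linear_combination (norm := module) (T.three * d) • v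

theorem singer (hq : Nat.card K % 8 = 3) {g : T.R} {p : ℕ} (hp : p.Prime) (hg : orderOf g = p)
    (h : p ∣ MM (Nat.card K)) : IsCyclic (centralizer ({g} : Set T.R)) ∧ ∃ k ≤ 6,
      Nat.card (normalizer (centralizer ({g} : Set T.R) : Set T.R)) = k * Nat.card (centralizer ({g} : Set T.R)) := by
  have := Fact.mk hp
  obtain ⟨h7, h1, h6, hd⟩ := prime_MM Nat.card_pos T.three_dvd_card hp h
  have h0 : 1 < Nat.card K := Finite.one_lt_card
  have hE : (Nat.card K - 1) * 3 ∣ EE (Nat.card K) := by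
    rw [EE, mul_comm]
    exact (mul_dvd_mul_right (T.three_dvd_card.trans (dvd_pow_self _ (by omega))) _).mul_right _
  have one : ∀ y : T.R, orderOf y ∣ MM (Nat.card K) → y ^ ((Nat.card K - 1) * 3) = 1 → y = 1 := fun y h1 h2 =>
    orderOf_eq_one_iff.1 (Nat.eq_one_of_dvd_coprimes (cop T) ((orderOf_dvd_of_pow_eq_one h2).trans hE) h1)
  have hg1 : g ≠ 1 := by rintro rfl; exact hp.one_lt.ne (by simpa using hg)
  obtain ⟨v, hv, hgv⟩ : ∃ v : V K, v ≠ 0 ∧ ∀ y ∈ zpowers g, y.1 v = v := by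
    by_contra! hcon
    have h2 := (IsPGroup.of_card (n := 1) (by rw [Nat.card_zpowers, hg, pow_one]) :
      IsPGroup p (zpowers g)).card_modEq_card_fixedPoints (V K)
    rw [show fixedPoints (zpowers g) (V K) = {0} from Set.eq_singleton_iff_unique_mem.2 ⟨fun y => smul_zero _,
      fun v hv => by_contra fun h => by
        obtain ⟨y, h1, h2⟩ := hcon v h
        exact h2 (hv ⟨y, h1⟩)⟩, Nat.card_fun, Nat.card_eq_fintype_card (α := Fin 7),
      Fintype.card_fin, Nat.card_unique (α := ({0} : Set (V K)))] at h2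
    have h3 := ((Nat.modEq_iff_dvd' (Nat.one_le_pow _ _ (by omega))).2 h6).mul_right (Nat.card K)
    rw [one_mul, ← pow_succ] at h3
    exact hd 1 one_pos (by omega) (by simpa using (Nat.modEq_iff_dvd' h0.le).1 (h3.trans h2).symm)
  have irr : ∀ (S : Subgroup T.R) (hS : ∀ x ∈ S, x.1 v ∈ K ∙ v) (hgS : g ∈ S),
      Irreducible (minpoly K (rho T S hv hS ⟨g, hgS⟩)) ∧ (minpoly K (rho T S hv hS ⟨g, hgS⟩)).natDegree = 6 :=
    fun S hS hgS => minpoly_irreducible_of_prime_order _ hp (fun h => by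
      have : ((Nat.gcd p 3 : ℕ) : K) = 0 := (ringChar.spec K _).2
        (Nat.dvd_gcd (ringChar.dvd h) (ringChar.dvd (by exact_mod_cast T.three)))
      rw [(Nat.coprime_primes hp Nat.prime_three).2 (by omega)] at this
      simp at this) hd
      (by rw [← map_pow, show (⟨g, hgS⟩ : S) ^ p = 1 from Subtype.ext (by simp [← hg]), map_one])
      fun h' => hg1 (one g (hg ▸ h) (rho_ker T hv hS h'))
  have hL : ∀ x ∈ normalizer (zpowers g : Set T.R), x.1 v ∈ K ∙ v := fun x hx => by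
    obtain ⟨h2, h3⟩ := irr (zpowers g) (fun y hy => (hgv y hy).symm ▸ Submodule.mem_span_singleton_self v)
      (mem_zpowers g)
    erw [LinearMap.minpoly_toMatrix] at h2 h3
    by_contra h4
    have h5 := Polynomial.degree_eq_one_of_irreducible_of_root h2 (Module.End.isRoot_of_hasEigenvalue
      (Module.End.hasEigenvalue_of_hasEigenvector (μ := 1) (x := Submodule.Quotient.mk (x.1 v))
        ⟨Module.End.mem_eigenspace_iff.2 (by
          rw [one_smul]
          have := congrArg x.1 (hgv _ ((mem_normalizer_iff''.1 hx g).1 (mem_zpowers g)))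
          rw [← T.mul_apply, ← mul_assoc, mul_inv_cancel_left] at this
          exact congrArg Submodule.Quotient.mk this), by rwa [Ne, Submodule.Quotient.mk_eq_zero]⟩))
    exact absurd (h3.symm.trans (Polynomial.natDegree_eq_of_degree_eq_some h5)) (by decide)
  have inj : ∀ (S : Subgroup T.R) (hS : S ≤ normalizer (zpowers g : Set T.R)), g ∈ S →
      Function.Injective (rho T S hv fun x hx => hL x (hS hx)) := fun S hS hgS =>
    (injective_iff_map_eq_one _).2 fun x hx => by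
      have h2 := one (x * g * (x : T.R)⁻¹ * g⁻¹) ((orderOf_dvd_of_mem_zpowers (mul_mem
        ((mem_normalizer_iff.1 (hS x.2) g).1 (mem_zpowers g)) (inv_mem (mem_zpowers g)))).trans (hg ▸ h))
        (rho_ker T hv _ (x := x * ⟨g, hgS⟩ * x⁻¹ * ⟨g, hgS⟩⁻¹) (by
          rw [mul_assoc, ← mul_inv_rev, map_mul, map_mul, hx, one_mul, ← mul_one (rho _ _ _ _ ⟨g, hgS⟩), ← hx,
            ← map_mul, ← map_mul, mul_inv_cancel, map_one, hx]))
      rw [mul_inv_eq_one, mul_inv_eq_iff_eq_mul] at h2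
      exact Subtype.ext (one x ((Subgroup.orderOf_dvd_natCard _
        (mem_centralizer_singleton_iff.2 h2)).trans (card_cent_dvd_MM T hq hp hg h))
        (rho_ker T hv _ hx))
  have hgC : g ∈ centralizer ({g} : Set T.R) := mem_centralizer_singleton_iff.2 rfl
  have hC : centralizer ({g} : Set T.R) ≤ normalizer (zpowers g : Set T.R) := by
    rw [← centralizer_closure, ← zpowers_eq_closure]; exact centralizer_le_normalizer _
  have e : ∀ (S : Subgroup T.R) (hgS : g ∈ S),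
      centralizer ({⟨g, hgS⟩} : Set S) = (centralizer {g}).subgroupOf S := fun S hgS => by
    ext; simp [mem_centralizer_singleton_iff, mem_subgroupOf, Subtype.ext_iff]
  have hcyc : IsCyclic (centralizer ({g} : Set T.R)) := by
    have := isCyclic_centralizer_of_irreducible _ (inj _ hC hgC) _ (irr _ _ hgC).1 (irr _ _ hgC).2
    rw [e, subgroupOf_self] at this
    exact isCyclic_of_surjective _ topEquiv.surjective
  have hN := normalizer_le_of_isCyclic (zpowers_le_of_mem hgC)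
  have hgN := le_normalizer hgC
  obtain ⟨k, hk, h2⟩ := card_normalizer_le (⟨g, hgN⟩ : normalizer (centralizer ({g} : Set T.R) : Set T.R))
  refine ⟨hcyc, k, hk.trans (ncard_conj_commute_le _ (inj _ hN hgN) _ (irr _ _ hgN).1 (irr _ _ hgN).2), ?_⟩
  rwa [e, normalizer_eq_top_iff.2 normal_in_normalizer, card_top, Nat.card_congr (subgroupOfEquivOfLe le_normalizer).toEquiv] at h2

/-- the non-identity elements of order dividing `q² - q + 1` -/
def XX : Set T.R := {g | g ≠ 1 ∧ orderOf g ∣ MM (Nat.card K)}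

theorem XX_facts (hq : Nat.card K % 8 = 3) {g : T.R} (hg : g ∈ XX T) :
    IsCyclic (centralizer ({g} : Set T.R)) ∧ Nat.card (centralizer ({g} : Set T.R)) ∣ MM (Nat.card K) ∧
      7 ≤ Nat.card (centralizer ({g} : Set T.R)) ∧ ∃ k ≤ 6,
      Nat.card (normalizer (centralizer ({g} : Set T.R) : Set T.R)) = k * Nat.card (centralizer ({g} : Set T.R)) := by
  obtain ⟨p, hp, h1⟩ := Nat.exists_prime_and_dvd (orderOf_eq_one_iff.not.2 hg.1)
  have h2 := orderOf_pow_orderOf_div (orderOf_pos g).ne' h1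
  obtain ⟨h3, h4⟩ := singer T hq hp h2 (h1.trans hg.2)
  have h5 : ∀ c, Commute c g → c ∈ centralizer ({g ^ (orderOf g / p)} : Set T.R) := fun c hc =>
    mem_centralizer_singleton_iff.2 (hc.pow_right _)
  have e : centralizer ({g} : Set T.R) = centralizer {g ^ (orderOf g / p)} :=
    le_antisymm (fun c hc => h5 c (mem_centralizer_singleton_iff.1 hc)) fun c hc =>
      mem_centralizer_singleton_iff.2 (congrArg Subtype.val (h3.commGroup.mul_comm ⟨c, hc⟩ ⟨g, h5 g rfl⟩))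
  refine ⟨e ▸ h3, e ▸ card_cent_dvd_MM T hq hp h2 (h1.trans hg.2), ?_, e ▸ h4⟩
  exact (prime_MM Nat.card_pos T.three_dvd_card hp (h1.trans hg.2)).1.trans (Nat.le_of_dvd Nat.card_pos
    (h1.trans (Subgroup.orderOf_dvd_natCard _ (mem_centralizer_singleton_iff.2 rfl))))

theorem mem_XX (hq : Nat.card K % 8 = 3) {g y : T.R} (hg : g ∈ XX T) (hy : y ∈ conjInto (centralizer {g})) :
    y ∈ XX T := by
  obtain ⟨h1, x, hx⟩ := hy
  exact ⟨h1, (ord_dvd hx).trans (XX_facts T hq hg).2.1⟩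

theorem isCC (hq : Nat.card K % 8 = 3) {g : T.R} (hg : g ∈ XX T) : H5.IsCC (centralizer ({g} : Set T.R)) := by
  have key : ∀ g y, g ∈ XX T → Commute y g → centralizer ({g} : Set T.R) ≤ centralizer {y} := fun g y hg h c hc =>
    mem_centralizer_singleton_iff.2 (congrArg Subtype.val
      ((XX_facts T hq hg).1.commGroup.mul_comm ⟨c, hc⟩ ⟨y, mem_centralizer_singleton_iff.2 h⟩))
  intro y hy h1
  have h2 : Commute y g := mem_centralizer_singleton_iff.1 hy
  exact le_antisymm (key _ _ (mem_XX T hq hg ⟨h1, 1, by simpa using hy⟩) h2.symm) (key _ _ hg h2)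

theorem sq_of_four (hq : Nat.card K % 8 = 3) {z : T.R} (h : z ^ 2 ^ 2 = 1) : z * z = 1 := by
  obtain ⟨k, -, hk⟩ := (Nat.dvd_prime_pow Nat.prime_two).1 (orderOf_dvd_of_pow_eq_one h)
  obtain ⟨P, hP⟩ := (IsPGroup.of_card (by rw [Nat.card_zpowers, hk]) : IsPGroup 2 (zpowers z)).exists_le_sylow
  obtain ⟨g, hg⟩ := T.exists_conj_sylow_two hq P
  obtain ⟨s, hs, rfl⟩ : z ∈ T.S0.map (MulAut.conj g).toMonoidHom := hg ▸ hP (mem_zpowers z)
  rw [← map_mul, T.S0_sq hs, map_one]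

theorem fpf_eq (hq : Nat.card K % 8 = 3) : {g : T.R | ∀ p : T.Ω, g • p ≠ p} =
    {g | ∃ x, x * g * x⁻¹ ∈ {x | x ∈ T.Tor ∧ x * x ≠ 1}} ∪ XX T := by
  ext g
  have hB : ∀ p : T.Ω, g • p = p → orderOf g ∣ Nat.card K ^ 3 * (Nat.card K - 1) := fun p hp => by
    obtain ⟨x, hx⟩ := fix_one T hp
    exact T.card_B ▸ ord_dvd hx
  refine ⟨fun h => ?_, ?_⟩
  · have h' : ∀ x, x * g * x⁻¹ ∉ T.B := fun x hx => h (x⁻¹ • T.inf) (by
      rw [← mul_smul, eq_inv_smul_iff, ← mul_smul, ← mul_assoc]; exact hx)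
    have h1 : g ≠ 1 := fun e => h' 1 (by simp [e])
    have h2 : g * g ≠ 1 := fun e => by
      obtain ⟨x, rfl⟩ := T.exists_conj_a hq h1 e
      exact h' x⁻¹ (by simpa [mul_assoc, T.a_def] using T.h_inf (-1))
    obtain ⟨s, hs, h3⟩ := Nat.exists_prime_and_dvd (orderOf_eq_one_iff.not.2 h2)
    have h4 := orderOf_pow_orderOf_div (orderOf_pos _).ne' h3
    generalize orderOf (g * g) / s = j at h4
    have h5 : ∀ x, x * g * x⁻¹ ∈ centralizer ({x * (g * g) ^ j * x⁻¹} : Set T.R) := fun x =>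
      (mem_centralizer_conj _ _ _).2 (mem_centralizer_singleton_iff.2
        (((Commute.refl g).mul_right (Commute.refl g)).pow_right j))
    by_cases hM : s ∣ MM (Nat.card K)
    · exact Or.inr ⟨h1, (Subgroup.orderOf_dvd_natCard _ (by simpa using h5 1)).trans (card_cent_dvd_MM T hq hs h4 hM)⟩
    rcases prime_cases T hs h4 hM with rfl | ⟨x, hx⟩ | ⟨x, hx, h6⟩ | ⟨x, hx, h6⟩
    · rw [(Commute.refl g).mul_pow] at h4
      rw [sq_of_four T hq (z := g ^ j) (by rw [sq 2, pow_mul, sq (g ^ j), ← h4, pow_orderOf_eq_one])] at h4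
      simp at h4
    · exact absurd (cent_le_B T hx (by
        rw [Ne, conj_eq_one_iff, ← orderOf_eq_one_iff, h4]; exact hs.one_lt.ne') (h5 x)) (h' x)
    · obtain ⟨k, hk | hk⟩ := T.mem_N.1 (cent_le_N T hx h6 (h5 x))
      · exact absurd (hk ▸ T.H_le_B (T.h_mem_H k)) (h' x)
      · refine absurd ?_ h2
        rw [← conj_eq_one_iff (a := x), ← conj_mul, hk, mul_assoc, ← mul_assoc T.n, T.n_mul_h, mul_assoc, T.n_mul_n,
          mul_one, ← T.h_inv, mul_inv_cancel]
    · exact Or.inl ⟨x, T.centralizer_eq_Tor hx h6 ▸ h5 x, by rwa [conj_mul, Ne, conj_eq_one_iff]⟩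
  · rintro (⟨x, hx, h⟩ | h) p hp
    · have h1 : orderOf g ∣ Nat.card K + 1 := T.card_Tor ▸ ord_dvd hx
      have h2 := (hB p hp).add (h1.mul_right (2 * Nat.card K ^ 2 + 2))
      obtain ⟨r, hr⟩ := Nat.exists_eq_add_of_le' (Nat.card_pos (α := K))
      rw [show Nat.card K ^ 3 * (Nat.card K - 1) + (Nat.card K + 1) * (2 * Nat.card K ^ 2 + 2) =
        (Nat.card K + 1) * (Nat.card K ^ 3 + 2 * Nat.card K) + 2 by simp only [hr, Nat.add_sub_cancel]; ring,
        Nat.dvd_add_right (h1.mul_right _), orderOf_dvd_iff_pow_eq_one, sq] at h2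
      exact h (by rw [conj_mul, h2]; simp)
    · exact h.1 (orderOf_eq_one_iff.1 (Nat.eq_one_of_dvd_coprimes (cop T) ((hB p hp).mul_right _) h.2))

theorem ncard_XX (hq : Nat.card K % 8 = 3) (h3 : 3 < Nat.card K) :
    3 * (XX T).ncard = EE (Nat.card K) * (Nat.card K * (Nat.card K - 2)) := by
  have h1 := ncard_fpf T hq
  rw [fpf_eq T hq, Set.ncard_union_eq (Set.disjoint_left.2 (by
    rintro g ⟨x, hx, h⟩ hg
    have h1 : orderOf g ∣ Nat.card K + 1 := T.card_Tor ▸ ord_dvd hx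
    exact hg.1 (orderOf_eq_one_iff.1 (Nat.eq_one_of_dvd_coprimes (cop T) (h1.mul_left _) hg.2))))] at h1
  have h2 := ti_count {T.a} (centralizer {T.a}) (by
    rintro x hx _ rfl; exact mul_inv_eq_iff_eq_mul.2 (mem_centralizer_singleton_iff.1 hx)) (by
    rintro x _ rfl hx; exact mem_centralizer_singleton_iff.2 (mul_inv_eq_iff_eq_mul.1 hx))
  have h4 := ti_count {x | x ∈ T.H ∧ x * x ≠ 1} T.N (fun x hx s hs => ⟨by
    rcases conj_mem_of_N T hx hs.1 with h | h <;> simp [h, hs.1], by simpa [conj_mul] using hs.2⟩)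
    fun x s hs h => mem_N_of_conj T hs.1 hs.2 h.1
  have h5 := ti_count {x | x ∈ T.Tor ∧ x * x ≠ 1} (normalizer (T.Tor : Set T.R)) (fun x hx s hs =>
    ⟨(mem_normalizer_iff.1 hx s).1 hs.1, by simpa [conj_mul] using hs.2⟩)
    fun x s hs h => mem_norm_Tor T hs.1 hs.2 h.1
  have h6 := ncard_H' T
  have h7 := ncard_Tor' T
  rw [T.card_centralizer_a, card_R', Set.ncard_singleton, ← one_pow 2, Nat.sq_sub_sq] at h2
  rw [card_N, card_R'] at h4
  rw [card_norm_Tor T h3, card_R'] at h5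
  generalize Set.ncard _ = r at h6 h4
  rw [show Set.ncard {x | x ∈ T.Tor ∧ x * x ≠ 1} = r by omega] at h5
  simp only [← h6, EE, MM, show r + 3 - 1 = r + 2 from rfl, show r + 3 - 2 = r + 1 from rfl] at *
  have e2 := Nat.eq_of_mul_eq_mul_right (m := (r + 3) * ((r + 3 + 1) * (r + 2))) (by positivity)
    (h2.trans (by ring : _ = (r + 3) ^ 2 * ((r + 3) * (r + 2) + 1) * _))
  have e4 := Nat.eq_of_mul_eq_mul_right (m := r + 2) (by positivity)
    ((mul_assoc _ _ _).trans (h4.trans (by ring : _ = (r + 3) ^ 3 * (r + 4) * ((r + 3) * (r + 2) + 1) * r * _)))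
  have e5 := Nat.eq_of_mul_eq_mul_right (m := r + 3 + 1) (by positivity)
    ((mul_assoc _ _ _).trans (h5.trans (by ring : _ = (r + 3) ^ 3 * (r + 2) * ((r + 3) * (r + 2) + 1) * r * _)))
  rw [e2] at h1
  zify at h1 e4 e5 ⊢
  linarith

theorem mem_conjInto (hq : Nat.card K % 8 = 3) {g g' : T.R} (hg : g ∈ XX T) (hg' : g' ∈ XX T)
    (h : g' ∉ conjInto (centralizer {g})) :
    Disjoint (conjInto (centralizer ({g} : Set T.R))) (conjInto (centralizer {g'})) ∧
      (Nat.card (centralizer ({g} : Set T.R))).Coprime (Nat.card (centralizer ({g'} : Set T.R))) := by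
  have hd : Disjoint (conjInto (centralizer ({g} : Set T.R))) (conjInto (centralizer {g'})) := by
    refine Set.disjoint_left.2 fun y ⟨hy, x, hx⟩ ⟨_, x', hx'⟩ => h ⟨hg'.1, x * x'⁻¹, ?_⟩
    rw [← isCC T hq hg _ hx (by simpa using hy)]
    have := (mem_centralizer_conj (x * x'⁻¹) _ _).2
      (mem_centralizer_singleton_iff.2 (mem_centralizer_singleton_iff.1 hx').symm)
    simpa [mul_assoc] using this
  refine ⟨hd, Nat.coprime_of_dvd fun p hp h1 h2 => ?_⟩
  have := Fact.mk hp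
  obtain ⟨⟨y, hy⟩, h3⟩ := exists_prime_orderOf_dvd_card' p h2
  have h4 : orderOf y = p := by simpa using h3
  have h5 : y ≠ 1 := by rintro rfl; exact hp.one_lt.ne (by simpa using h4)
  exact Set.disjoint_left.1 hd ⟨h5, exists_conj_mem_of_not_dvd_index _ (fun h' =>
    hp.one_lt.ne' (Nat.eq_one_of_dvd_coprimes (isCC T hq hg).coprime_index h' h1)) h4⟩ ⟨h5, 1, by simpa using hy⟩

theorem class_facts (hq : Nat.card K % 8 = 3) (h5 : ¬5 ∣ Nat.card T.R) {g : T.R} (hg : g ∈ XX T) : ∃ k c,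
    (k ≤ 4 ∨ k = 6) ∧ Nat.card (centralizer ({g} : Set T.R)) * c = MM (Nat.card K) ∧ 7 * c ≤ MM (Nat.card K) ∧
      Nat.card (normalizer (centralizer ({g} : Set T.R) : Set T.R)) = k * Nat.card (centralizer ({g} : Set T.R)) ∧
      (conjInto (centralizer ({g} : Set T.R))).ncard * k + EE (Nat.card K) * c =
        EE (Nat.card K) * MM (Nat.card K) := by
  obtain ⟨-, ⟨c, hc⟩, h7, k, hk, h⟩ := XX_facts T hq hg
  have h1 := ncard_conjInto (centralizer {g}) (normalizer (centralizer ({g} : Set T.R) : Set T.R))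
    (fun x hx a ha => (mem_normalizer_iff.1 hx a).1 ha) fun x a ha h1 h => (isCC T hq hg).mem_normalizer ha h1 h
  have h2 : k ≠ 5 := by
    rintro rfl
    exact h5 ((Dvd.intro _ h.symm).trans (card_subgroup_dvd_card _))
  refine ⟨k, c, by omega, hc.symm, hc ▸ Nat.mul_le_mul_right _ h7, h, ?_⟩
  rw [h, card_R', hc] at h1
  rw [hc]
  obtain ⟨b, hb⟩ := Nat.exists_eq_add_of_le' (Nat.card_pos (α := centralizer ({g} : Set T.R)))
  rw [hb] at h1 ⊢
  refine Nat.eq_of_mul_eq_mul_right (m := b + 1) (by positivity) ?_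
  rw [Nat.add_sub_cancel] at h1
  linear_combination h1

theorem exists_tori (hq : Nat.card K % 8 = 3) (h3 : 3 < Nat.card K) (h5 : ¬5 ∣ Nat.card T.R) :
    ∃ g ∈ XX T, ∃ g' ∈ XX T,
      Nat.card (normalizer (centralizer ({g} : Set T.R) : Set T.R)) = 6 * Nat.card (centralizer ({g} : Set T.R)) ∧
      Nat.card (normalizer (centralizer ({g'} : Set T.R) : Set T.R)) = 6 * Nat.card (centralizer ({g'} : Set T.R)) ∧
      Nat.card (centralizer ({g} : Set T.R)) + Nat.card (centralizer ({g'} : Set T.R)) = 2 * Nat.card K + 2 ∧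
      Nat.card (centralizer ({g} : Set T.R)) * Nat.card (centralizer ({g'} : Set T.R)) = MM (Nat.card K) ∧
      XX T ⊆ conjInto (centralizer {g}) ∪ conjInto (centralizer {g'}) := by
  have hX := ncard_XX T hq h3
  have hc := cop T
  have hd1 : Nat.card K + 1 ∣ EE (Nat.card K) := dvd_mul_left _ _
  have hd2 : 2 * (Nat.card K + 1) ∣ EE (Nat.card K) := mul_dvd_mul_right (Dvd.dvd.mul_left (by omega) _) _
  have hE : 0 < EE (Nat.card K) := by
    have := (card_R' T).symm ▸ Nat.card_pos (α := T.R)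
    exact Nat.pos_of_mul_pos_right this
  obtain ⟨r, hr⟩ := Nat.exists_eq_add_of_le' (show 11 ≤ Nat.card K by omega)
  have hM : MM (Nat.card K) = r * r + 21 * r + 111 := by rw [hr, MM, show r + 11 - 1 = r + 10 from rfl]; ring
  rw [show Nat.card K * (Nat.card K - 2) = r * r + 20 * r + 99 by
    rw [hr, show r + 11 - 2 = r + 9 from rfl]; ring] at hX
  have hlt : 3 * (XX T).ncard < EE (Nat.card K) * MM (Nat.card K) := by
    rw [hX, hM]; exact Nat.mul_lt_mul_of_pos_left (by omega) hE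
  have big : ∀ {y k c : ℕ}, 7 * c ≤ MM (Nat.card K) → y * k + EE (Nat.card K) * c = EE (Nat.card K) * MM (Nat.card K) →
      6 * (EE (Nat.card K) * MM (Nat.card K)) ≤ 7 * (y * k) := fun h1 h2 => by
    have := Nat.mul_le_mul_left (EE (Nat.card K)) h1
    rw [mul_left_comm] at this
    omega
  have sub : ∀ g ∈ XX T, conjInto (centralizer {g}) ⊆ XX T := fun g hg y hy => mem_XX T hq hg hy
  obtain ⟨g, hg⟩ : (XX T).Nonempty := Set.nonempty_of_ncard_ne_zero fun h => by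
    rw [h] at hX; exact absurd hX (by positivity)
  obtain ⟨k, c, hk, h1, h2, h4, h6⟩ := class_facts T hq h5 hg
  obtain ⟨g', hg', hg2⟩ : ∃ g' ∈ XX T, g' ∉ conjInto (centralizer {g}) := by
    by_contra! hcon
    rw [Set.Subset.antisymm (sub g hg) hcon] at h6
    have e : (r * r + 20 * r + 99) * k + 3 * c = 3 * MM (Nat.card K) :=
      Nat.eq_of_mul_eq_mul_left hE (by linear_combination 3 * h6 - k * hX)
    have : c ≠ Nat.card K + 1 := fun h => by
      have := Nat.eq_one_of_dvd_coprimes hc hd1 (h ▸ Dvd.intro_left _ h1)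
      omega
    have hk' : k ≤ 6 := by omega
    rw [hM] at e h2
    interval_cases k <;> omega
  obtain ⟨k', c', hk', h1', h2', h4', h6'⟩ := class_facts T hq h5 hg'
  obtain ⟨hd, hcop⟩ := mem_conjInto T hq hg hg' hg2
  have b1 := big h2 h6
  have b2 := big h2' h6'
  have hXY : XX T ⊆ conjInto (centralizer {g}) ∪ conjInto (centralizer {g'}) := fun y hy => by_contra fun h => by
    obtain ⟨k'', c'', hk'', -, h2'', -, h6''⟩ := class_facts T hq h5 hy
    have b3 := big h2'' h6''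
    have := Set.ncard_le_ncard (Set.union_subset (Set.union_subset (sub g hg) (sub g' hg')) (sub y hy))
    rw [Set.ncard_union_eq (Set.disjoint_union_left.2 ⟨(mem_conjInto T hq hg hy fun h' => h (Or.inl h')).1,
      (mem_conjInto T hq hg' hy fun h' => h (Or.inr h')).1⟩), Set.ncard_union_eq hd] at this
    have a1 := Nat.mul_le_mul_left (conjInto (centralizer {g})).ncard (show k ≤ 6 by omega)
    have a2 := Nat.mul_le_mul_left (conjInto (centralizer {g'})).ncard (show k' ≤ 6 by omega)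
    have a3 := Nat.mul_le_mul_left (conjInto (centralizer {y})).ncard (show k'' ≤ 6 by omega)
    omega
  have hs := Set.ncard_union_eq hd
  rw [← Set.Subset.antisymm hXY (Set.union_subset (sub g hg) (sub g' hg'))] at hs
  obtain ⟨rfl, rfl⟩ : k = 6 ∧ k' = 6 := by
    have a1 := Nat.mul_le_mul_left (conjInto (centralizer {g})).ncard (show k ≤ 6 by omega)
    have a2 := Nat.mul_le_mul_left (conjInto (centralizer {g'})).ncard (show k' ≤ 6 by omega)
    refine ⟨hk.resolve_left fun h => ?_, hk'.resolve_left fun h => ?_⟩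
    · have := Nat.mul_le_mul_left (conjInto (centralizer {g})).ncard h
      omega
    · have := Nat.mul_le_mul_left (conjInto (centralizer {g'})).ncard h
      omega
  have e : c + c' = 2 * Nat.card K + 2 := by
    refine Nat.eq_of_mul_eq_mul_left hE ?_
    rw [hM] at h6 h6'
    conv_rhs => rw [show 2 * Nat.card K + 2 = 2 * r + 24 by omega]
    linear_combination h6 + h6' + 6 * hs - 2 * hX
  obtain ⟨d, hd⟩ := hcop.mul_dvd_of_dvd_of_dvd (Dvd.intro _ h1) (Dvd.intro _ h1')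
  have e1 := Nat.eq_of_mul_eq_mul_left Nat.card_pos (h1.trans (hd.trans (mul_assoc _ _ _)))
  have e2 := Nat.eq_of_mul_eq_mul_left Nat.card_pos (h1'.trans (hd.trans (mul_right_comm _ _ _ |>.trans (mul_comm _ _))))
  obtain rfl : d = 1 := Nat.eq_one_of_dvd_coprimes hc
    (Dvd.dvd.trans ⟨_, by rw [mul_add, mul_one, ← e, e1, e2, ← add_mul, mul_comm]⟩ hd2) (Dvd.intro_left _ hd.symm)
  exact ⟨g, hg, g', hg', h4, h4', by omega, by omega, hXY⟩

/-- A cyclic subgroup of order `k` with normalizer of order `n` which normalizes no more than each of its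
non-trivial subgroups. -/
def Tori (G : Type*) [Group G] (k n : ℕ) : Prop :=
  ∃ A : Subgroup G, IsCyclic A ∧ Nat.card A = k ∧ Nat.card (normalizer (A : Set G)) = n ∧
    ∀ A₀ : Subgroup G, A₀ ≤ A → A₀ ≠ ⊥ → normalizer (A₀ : Set G) = normalizer (A : Set G)

omit [Finite K] in
theorem Tori.equiv {G G' : Type*} [Group G] [Group G'] (e : G ≃* G') {k n : ℕ} (h : Tori G k n) : Tori G' k n := by
  obtain ⟨A, h1, h2, h3, h4⟩ := h
  refine ⟨A.map e.toMonoidHom, isCyclic_of_surjective _ (e.subgroupMap A).surjective, (card_map_equiv e A).trans h2,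
    by rw [← map_equiv_normalizer_eq, ← h3]; exact card_map_equiv e _, fun A₀ h5 h6 => ?_⟩
  obtain ⟨B, rfl⟩ : ∃ B : Subgroup G, B.map e.toMonoidHom = A₀ := ⟨_, map_comap_eq_self_of_surjective e.surjective A₀⟩
  rw [← map_equiv_normalizer_eq, ← map_equiv_normalizer_eq, h4 B ((map_le_map_iff_of_injective e.injective).1 h5)
    fun h => h6 (by simp [h])]

omit [Finite K] in
theorem Tori.mk' {G : Type*} [Group G] [Finite G] (A N : Subgroup G) [IsCyclic A] (h0 : A ≠ ⊥)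
    (h1 : N ≤ normalizer (A : Set G)) (h2 : ∀ x, ∀ a ∈ A, a ≠ 1 → x * a * x⁻¹ ∈ A → x ∈ N) :
    Tori G (Nat.card A) (Nat.card N) := by
  have key : ∀ A₀ : Subgroup G, A₀ ≤ A → A₀ ≠ ⊥ → normalizer (A₀ : Set G) = N := fun A₀ h h' => by
    obtain ⟨⟨a, ha⟩, h3⟩ := ne_bot_iff_exists_ne_one.1 h'
    exact le_antisymm (fun x hx => h2 x a (h ha) (by simpa using h3) (h ((mem_normalizer_iff.1 hx a).1 ha)))
      (h1.trans (normalizer_le_of_isCyclic h))
  exact ⟨A, inferInstance, rfl, by rw [key A le_rfl h0], fun A₀ h h' => by rw [key A le_rfl h0, key A₀ h h']⟩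

theorem tori_H (h3 : 3 < Nat.card K) : Tori T.R ((Nat.card K - 1) / 2) (2 * (Nat.card K - 1)) := by
  have h4 := T.card_mod_four
  have e : Nat.card ((powMonoidHom 2 : Kˣ →* Kˣ).range.map T.hHom) = (Nat.card K - 1) / 2 := by
    rw [card_map_of_injective T.hHom_injective, IsCyclic.card_powMonoidHom_range, Nat.card_units,
      Nat.gcd_eq_right (by omega)]
  have : IsCyclic ((powMonoidHom 2 : Kˣ →* Kˣ).range.map T.hHom) :=
    isCyclic_of_surjective _ (T.hHom.subgroupMap_surjective _)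
  rw [← card_N T, ← e]
  refine Tori.mk' _ _ (fun h => by rw [h, card_bot] at e; omega) (fun x hx => mem_normalizer_fintype fun a ha => ?_)
    fun x a ha h1 h2 => mem_N_of_conj T (map_le_range _ _ ha) (fun h => h1 ?_) (map_le_range _ _ h2)
  · rcases conj_mem_of_N T hx (map_le_range _ _ ha) with h | h <;> rw [h]
    exacts [ha, inv_mem ha]
  · exact orderOf_eq_one_iff.1 (Nat.eq_one_of_dvd_coprimes (show Nat.Coprime 2 _ by
      rw [e, Nat.coprime_two_left, Nat.odd_iff]; omega) (orderOf_dvd_of_pow_eq_one (by rwa [sq]))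
      (Subgroup.orderOf_dvd_natCard _ ha))

theorem tori_A (hq : Nat.card K % 8 = 3) (h3 : 3 < Nat.card K) :
    Tori T.R ((Nat.card K + 1) / 4) (6 * (Nat.card K + 1)) := by
  have e := T.four_mul_card_A
  have := T.isCyclic_A
  rw [← card_norm_Tor T h3, show (Nat.card K + 1) / 4 = Nat.card T.A by omega]
  refine Tori.mk' _ _ (fun h => by rw [h, card_bot] at e; omega) (fun x hx => mem_normalizer_fintype fun a ha => ?_)
    fun x a ha h1 h2 => mem_norm_Tor T (T.A_le_Tor ha) (fun h => h1 ?_) (T.A_le_Tor h2)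
  · obtain ⟨y, hy, rfl⟩ := T.mem_A.1 ha
    exact T.mem_A.2 ⟨_, (mem_normalizer_iff.1 hx y).1 hy, conj_mul⟩
  · exact orderOf_eq_one_iff.1 (Nat.eq_one_of_dvd_coprimes (show Nat.Coprime 2 _ by
      rw [Nat.coprime_two_left, Nat.odd_iff]; omega) (orderOf_dvd_of_pow_eq_one (by rwa [sq]))
      (Subgroup.orderOf_dvd_natCard _ ha))

theorem tori_X (hq : Nat.card K % 8 = 3) {g : T.R} (hg : g ∈ XX T) : Tori T.R (Nat.card (centralizer ({g} : Set T.R)))
    (Nat.card (normalizer (centralizer ({g} : Set T.R) : Set T.R))) := by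
  obtain ⟨_, -, h7, -⟩ := XX_facts T hq hg
  exact Tori.mk' _ _ (fun h => by rw [h, card_bot] at h7; omega) le_rfl
    fun x a ha h1 h => (isCC T hq hg).mem_normalizer ha h1 h

theorem exists_tori' (hq : Nat.card K % 8 = 3) (h3 : 3 < Nat.card K) (h5 : ¬5 ∣ Nat.card T.R) {r : ℕ}
    (hr : r * r = 3 * Nat.card K) :
    Tori T.R (Nat.card K - r + 1) (6 * (Nat.card K - r + 1)) ∧ Tori T.R (Nat.card K + r + 1) (6 * (Nat.card K + r + 1)) ∧
      ∀ y ∈ XX T, orderOf y ∣ Nat.card K - r + 1 ∨ orderOf y ∣ Nat.card K + r + 1 := by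
  obtain ⟨g, hg, g', hg', h1, h2, h4, h6, h7⟩ := exists_tori T hq h3 h5
  wlog hle : Nat.card (centralizer ({g} : Set T.R)) ≤ Nat.card (centralizer ({g'} : Set T.R)) generalizing g g'
  · exact this g' hg' g hg h2 h1 (by omega) (by rwa [mul_comm]) (by rwa [Set.union_comm]) (by omega)
  have t1 := tori_X T hq hg
  have t2 := tori_X T hq hg'
  rw [h1] at t1
  rw [h2] at t2
  obtain ⟨t, ht⟩ := Nat.exists_eq_add_of_le hle
  obtain ⟨s, hs⟩ := Nat.exists_eq_add_of_le' (Nat.card_pos (α := K))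
  rw [ht, MM, show Nat.card K - 1 = s by omega] at h6
  have e : t = 2 * r := by
    refine Nat.mul_self_inj.1 ?_
    rw [ht] at h4
    zify at h4 h6 hr hs ⊢
    linear_combination (2 * (Nat.card (centralizer ({g} : Set T.R)) : ℤ) + t + 2 * Nat.card K + 2) * h4 - 4 * h6 -
      4 * hr + 4 * Nat.card K * hs
  have : r ≤ Nat.card K := Nat.mul_self_le_mul_self_iff.1 (hr ▸ Nat.mul_le_mul_right _ h3.le)
  have e1 : Nat.card (centralizer ({g} : Set T.R)) = Nat.card K - r + 1 := by omega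
  have e2 : Nat.card (centralizer ({g'} : Set T.R)) = Nat.card K + r + 1 := by omega
  exact ⟨e1 ▸ t1, e2 ▸ t2, fun y hy => (h7 hy).imp (fun ⟨_, x, h⟩ => e1 ▸ ord_dvd h) fun ⟨_, x, h⟩ => e2 ▸ ord_dvd h⟩

theorem sylow_cyclic (hq : Nat.card K % 8 = 3) {p : ℕ} [hp : Fact p.Prime] (h3 : 3 < p) (P : Sylow p T.R) :
    IsCyclic (P : Subgroup T.R) := by
  rcases subsingleton_or_nontrivial (P : Subgroup T.R) with h | h
  · infer_instance
  have := P.isPGroup'.center_nontrivial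
  obtain ⟨n, hn, h1⟩ := (P.isPGroup'.to_subgroup (center P)).nontrivial_iff_card.1 this
  obtain ⟨⟨y, hy⟩, h2⟩ := exists_prime_orderOf_dvd_card' (G := center P) p (h1 ▸ dvd_pow_self _ hn.ne')
  have h4 : orderOf (y : T.R) = p := by simpa using h2
  have hP : ∀ x : T.R, ∀ z ∈ P, x * z * x⁻¹ ∈ centralizer ({x * (y : T.R) * x⁻¹} : Set T.R) := fun x z hz =>
    (mem_centralizer_conj _ _ _).2 (mem_centralizer_singleton_iff.2 (congrArg Subtype.val (mem_center_iff.1 hy ⟨z, hz⟩)))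
  have key : ∀ (A : Subgroup T.R) [IsCyclic A] (x : T.R), (∀ z ∈ P, x * z * x⁻¹ ∈ A) → IsCyclic (P : Subgroup T.R) :=
    fun A _ x h => isCyclic_of_injective (((MulAut.conj x).toMonoidHom.comp P.1.subtype).codRestrict A
      fun z => h z z.2) fun a b h => by simpa using h
  have odd : ∀ x, ∀ z ∈ P, ∃ w ∈ P, x * z * x⁻¹ = x * w * x⁻¹ * (x * w * x⁻¹) := fun x z hz => by
    obtain ⟨w, hw⟩ := (powCoprime (G := P) (n := 2) (by
      obtain ⟨k, hk⟩ := P.isPGroup'.exists_card_eq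
      exact hk ▸ ((Nat.coprime_primes hp.out Nat.prime_two).2 (by omega)).pow_left k)).surjective ⟨z, hz⟩
    exact ⟨w, w.2, by rw [conj_mul, ← sq]; exact congrArg (x * · * x⁻¹) (congrArg Subtype.val hw).symm⟩
  by_cases hM : p ∣ MM (Nat.card K)
  · have := (singer T hq hp.out h4 hM).1
    exact key (centralizer {(y : T.R)}) 1 (by simpa using hP 1)
  rcases prime_cases T hp.out h4 hM with h | ⟨x, hx⟩ | ⟨x, hx, h5⟩ | ⟨x, hx, h5⟩
  · omega
  · have := ord_dvd hx
    rw [h4, T.card_U] at this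
    have := eq_three T hp.out (hp.out.dvd_of_dvd_pow this)
    omega
  · have : IsCyclic T.H := isCyclic_of_surjective _ T.hEquiv.surjective
    refine key T.H x fun z hz => ?_
    obtain ⟨w, hw, e⟩ := odd x z hz
    obtain ⟨k, hk | hk⟩ := T.mem_N.1 (cent_le_N T hx h5 (hP x w hw)) <;> rw [e, hk]
    · exact mul_mem (T.h_mem_H k) (T.h_mem_H k)
    · rw [mul_assoc, ← mul_assoc T.n, T.n_mul_h, mul_assoc, T.n_mul_n, mul_one]
      exact mul_mem (T.h_mem_H _) (T.h_mem_H _)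
  · have := T.isCyclic_A
    refine key T.A x fun z hz => ?_
    obtain ⟨w, hw, e⟩ := odd x z hz
    exact T.mem_A.2 ⟨_, T.centralizer_eq_Tor hx h5 ▸ hP x w hw, e.symm⟩

omit [Finite K] in
theorem Tori.exists_orderOf {G : Type*} [Group G] {k n : ℕ} (h : Tori G k n) : ∃ g : G, orderOf g = k := by
  obtain ⟨A, h1, rfl, -⟩ := h
  obtain ⟨g, hg⟩ := h1.exists_ofOrder_eq_natCard
  exact ⟨g, by simpa using hg⟩

theorem orders (hq : Nat.card K % 8 = 3) (h3 : 3 < Nat.card K) (h5 : ¬5 ∣ Nat.card T.R) {r : ℕ}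
    (hr : r * r = 3 * Nat.card K) (d : ℕ) : (∃ g : T.R, orderOf g = d) ↔ d ∣ 6 ∨ d ∣ 9 ∨ d ∣ Nat.card K - 1 ∨
      d ∣ (Nat.card K + 1) / 2 ∨ d ∣ Nat.card K - r + 1 ∨ d ∣ Nat.card K + r + 1 := by
  obtain ⟨t1, t2, hX⟩ := exists_tori' T hq h3 h5 hr
  have e := T.four_mul_card_A
  constructor
  · rintro ⟨g, rfl⟩
    by_cases h : g ∈ {g : T.R | ∀ p : T.Ω, g • p ≠ p}
    · rcases (fpf_eq T hq).subset h with ⟨x, hx, -⟩ | h
      · have := Subgroup.orderOf_dvd_natCard _ (T.mem_A.2 ⟨_, hx, rfl⟩)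
        rw [orderOf_dvd_iff_pow_eq_one, ← sq, ← pow_mul, ← orderOf_dvd_iff_pow_eq_one, ord_conj,
          show 2 * Nat.card T.A = (Nat.card K + 1) / 2 by omega] at this
        tauto
      · have := hX g h
        tauto
    obtain ⟨p, hp⟩ : ∃ p : T.Ω, g • p = p := by simpa using h
    obtain ⟨x, hx⟩ := fix_one T hp
    rw [← ord_conj x]
    obtain ⟨a, b, c, k, hk⟩ := T.mem_B.1 hx
    rw [hk] at hx ⊢
    by_cases h1 : k = 1
    · rw [h1, T.h_one, mul_one]
      exact Or.inr (Or.inl (orderOf_dvd_of_pow_eq_one (T.u_pow_nine a b c)))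
    by_cases h2 : k = -1
    · refine Or.inl (orderOf_dvd_of_pow_eq_one ?_)
      rw [h2, show 6 = 2 * 3 from rfl, pow_mul, sq, mul_assoc, ← mul_assoc (T.h _), T.h_mul_u, mul_assoc,
        T.h_neg_one_sq, mul_one, T.u_mul, T.u_cube, T.u_eq_one]
      simp
    have h4 : (k : K) ≠ 1 := fun h => h1 (Units.ext h)
    have h6 : (k : K) * T.σ k ≠ 1 := fun h => (sq_eq_one_iff.1 (T.sq_eq_one_of_mul_σ h)).elim h4
      fun h => h2 (Units.ext h)
    have h7 : (k : K) ^ 2 * T.σ k ≠ 1 := fun h => h4 (T.eq_one_of_sq_mul_σ h)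
    have sol : ∀ {u : K}, u ≠ 1 → ∀ v, ∃ x, v + u * x = x := fun {u} h v =>
      ⟨v / (1 - u), by field_simp [sub_ne_zero.2 h.symm]; ring⟩
    obtain ⟨x₁, e1⟩ := sol h4 a
    obtain ⟨x₂, e2⟩ := sol h6 (b - T.σ (k * x₁) * a)
    obtain ⟨x₃, e3⟩ := sol h7 (c - b * (k * x₁) - T.σ (k * x₁) * a ^ 2 + T.σ (k * x₁) * a * (k * x₁))
    obtain ⟨y, hy⟩ := fix_two T (T.pt_ne_inf x₁ x₂ x₃) (by
      rw [mul_smul, T.h_pt, T.u_pt, T.pt_inj]
      exact ⟨e1, by linear_combination e2, by linear_combination e3⟩) hx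
    exact Or.inr (Or.inr (Or.inl (T.card_H ▸ ord_dvd hy)))
  have key : ∀ {n : ℕ}, (∃ g : T.R, orderOf g = n) → d ∣ n → ∃ g : T.R, orderOf g = d := by
    rintro _ ⟨g, rfl⟩ h
    exact ⟨_, orderOf_pow_orderOf_div (orderOf_pos g).ne' h⟩
  have ha : orderOf T.a = 2 := orderOf_eq_prime (by rw [sq, T.a_mul_a]) T.a_ne_one
  rintro (h | h | h | h | h | h)
  · have hu : orderOf (T.u 0 1 0) = 3 := T.orderOf_u_eq_three.2 (by simp)
    exact key ⟨_, by rw [(show Commute _ _ from T.t3_a).orderOf_mul_eq_mul_orderOf_of_coprime (by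
      rw [ha, hu]; decide), ha, hu]⟩ h
  · exact key ⟨T.u 1 0 0, orderOf_eq_prime_pow (p := 3) (n := 1) (by rw [pow_one, T.u_cube, T.u_eq_one]; simp)
      (T.u_pow_nine _ _ _)⟩ h
  · obtain ⟨k, hk⟩ := IsCyclic.exists_ofOrder_eq_natCard (α := Kˣ)
    exact key ⟨T.hHom k, by rw [orderOf_injective _ T.hHom_injective, hk, Nat.card_units]⟩ h
  · obtain ⟨⟨y, hy⟩, hk⟩ := T.isCyclic_A.exists_ofOrder_eq_natCard
    have hk' : orderOf y = Nat.card T.A := by simpa using hk
    exact key ⟨_, by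
      rw [(show Commute _ _ from T.Tor_comm T.a_mem_Tor (T.A_le_Tor hy)).orderOf_mul_eq_mul_orderOf_of_coprime (by
        rw [ha, hk', Nat.coprime_two_left, Nat.odd_iff]; omega), ha, hk']; omega⟩ h
  · exact key t1.exists_orderOf h
  · exact key t2.exists_orderOf h

theorem not_five {m : ℕ} (hK : Nat.card K = 3 ^ (2 * m + 1)) : ¬5 ∣ Nat.card T.R := by
  rw [T.card_R, ← ZMod.natCast_eq_zero_iff, Nat.cast_mul, Nat.cast_mul, Nat.cast_pred Nat.card_pos, hK]
  push_cast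
  have : ((3 : ZMod 5) ^ (2 * m + 1)) ^ 2 = -1 := by
    rw [← pow_mul, mul_comm, pow_mul, show (3 : ZMod 5) ^ 2 = -1 from rfl, Odd.neg_one_pow ⟨m, rfl⟩]
  generalize (3 : ZMod 5) ^ (2 * m + 1) = x at this
  revert x
  decide

end H20.Ree
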