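import Mathlib
import Cfsg.Agent.H20.ReeCnt
import Cfsg.Agent.H21.Suz4
import Cfsg.Agent.H7.SmallTools
import Cfsg.Agent.S0727

/-! The derived group of the smallest Ree group. -/

set_option autoImplicit false

namespace H20.Ree

open H8 H8.Ree Subgroup MulAction
open scoped commutatorElement

variable (T : Ctx (ZMod 3))

theorem σ_id (x : ZMod 3) : T.σ x = x := by rw [Subsingleton.elim T.σ (RingHom.id _)]; rfl

theorem t_notMem : T.u 0 1 0 ∉ commutator T.R := by
  let U0 : Subgroup T.R :=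
    { carrier := {g | ∃ a c, g = T.u a (a ^ 2) c}
      one_mem' := ⟨0, 0, by simp [T.u_zero]⟩
      mul_mem' := by
        rintro _ _ ⟨a, c, rfl⟩ ⟨d, f, rfl⟩
        exact ⟨_, _, by rw [T.u_mul, T.u_inj, σ_id]; exact ⟨rfl, by revert a d; decide, rfl⟩⟩
      inv_mem' := by
        rintro _ ⟨a, c, rfl⟩
        exact ⟨_, _, by rw [T.u_inv, T.u_inj, σ_id]; exact ⟨rfl, by revert a; decide, rfl⟩⟩ }
  intro h
  have h1 : T.u 0 1 0 ∈ commutator T.R ⊓ T.sylowU := ⟨h, T.u_mem_U _ _ _⟩
  rw [commutator_inf_eq_focalSubgroup] at h1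
  obtain ⟨a, c, h2⟩ : T.u 0 1 0 ∈ U0 := by
    refine (closure_le _).2 ?_ h1
    rintro _ ⟨h2, x, hx, y, rfl⟩
    by_cases h0 : x = 1
    · simp [h0]
    have h3 : y * x⁻¹ * y⁻¹ ∈ T.U := by
      simpa [commutatorElement_def, mul_assoc, T.coe_sylowU] using mul_mem (inv_mem hx) h2
    obtain ⟨d, e, f, k, rfl⟩ := T.mem_B.1 (T.eq_inf_of_U h3 (by simpa using h0) (p := y • T.inf) (by
      rw [← mul_smul, inv_mul_cancel_right, mul_smul, T.U_le_B (inv_mem hx)]))
    obtain ⟨a, b, c, rfl⟩ := hx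
    rw [show ⁅T.u a b c, T.u d e f * T.h k⁆ = T.u a b c * (T.u d e f * (T.h k * (T.u a b c)⁻¹ * (T.h k)⁻¹) *
      (T.u d e f)⁻¹) by group]
    simp only [T.u_inv, T.h_conj_u, T.u_mul, σ_id]
    refine ⟨_, _, T.u_inj.2 ⟨rfl, ?_, rfl⟩⟩
    have := k.ne_zero
    generalize (k : ZMod 3) = k at this
    clear h0 h2 h3
    revert a b d e k
    decide
  obtain ⟨rfl, h3, -⟩ := T.u_inj.1 h2
  exact absurd h3 (by decide)

theorem index_comm : (commutator T.R).index = 3 := by
  let π : T.R →* Abelianization T.R := Abelianization.of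
  have h0 : ∀ x y : T.R, π (x * y * x⁻¹) = π y := fun x y => by simp
  have h1 : ∀ a b c, π (T.u (-a) b (-c)) = π (T.u a b c) := fun a b c => by
    rw [← h0 (T.h (-1)), T.h_conj_u]; simp
  have h2 : ∀ a b c, π (T.u a b c) ^ 2 ∈ zpowers (π (T.u 0 1 0)) → π (T.u a b c) ∈ zpowers (π (T.u 0 1 0)) :=
    fun a b c h => by
      have := pow_mem h 5
      rwa [← pow_mul, show 2 * 5 = 9 + 1 from rfl, pow_succ, ← map_pow, T.u_pow_nine, map_one, one_mul] at this
  have h3 : ∀ b c, π (T.u 0 b c) ∈ zpowers (π (T.u 0 1 0)) := fun b c => h2 _ _ _ (by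
    rw [sq, show ∀ t, π (T.u _ b c) * t = _ from fun t => congrArg (· * t) (h1 _ b c).symm]
    have : ∀ b : ZMod 3, b = 0 ∨ b = 1 ∨ b = 1 + 1 := by decide
    rw [← map_mul, T.u_mul]
    simp only [neg_zero, add_zero, map_zero, zero_mul, sub_zero, neg_add_cancel, mul_zero]
    rcases this (b + b) with h | h | h <;> rw [h]
    · simp [T.u_zero]
    · exact mem_zpowers _
    · simpa [← map_mul, T.u_mul] using mul_mem (mem_zpowers (π (T.u 0 1 0))) (mem_zpowers _))
  have h4 : ∀ a b c, π (T.u a b c) ∈ zpowers (π (T.u 0 1 0)) := fun a b c => h2 _ _ _ (by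
    rw [sq, show ∀ t, π (T.u _ b c) * t = _ from fun t => congrArg (· * t) (h1 _ b c).symm]
    rw [← map_mul, T.u_mul, neg_add_cancel]
    exact h3 _ _)
  have h5 := T.eq_top_of_U_V (S := (zpowers (π (T.u 0 1 0))).comap π) h4 fun a b c => by
    have := h0 T.n (T.u a b c)
    rw [T.n_inv] at this
    exact mem_comap.2 (this ▸ h4 a b c)
  have h6 : zpowers (π (T.u 0 1 0)) = ⊤ := by
    rw [← map_comap_eq_self_of_surjective (f := π) QuotientGroup.mk_surjective (zpowers _), h5]
    exact map_top_of_surjective _ QuotientGroup.mk_surjective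
  change Nat.card (Abelianization T.R) = 3
  rw [← card_top, ← h6, Nat.card_zpowers]
  exact orderOf_eq_prime (by rw [← map_pow, T.u_cube]; simp [T.u_zero])
    fun h => t_notMem T ((QuotientGroup.eq_one_iff _).1 h)

theorem card_inf {N : Subgroup T.R} (x : T.R) (h : x * T.u 0 1 0 * x⁻¹ ∈ N) :
    3 * Nat.card ↥(commutator T.R ⊓ N) = Nat.card N := by
  have h1 := relIndex_dvd_index_of_normal (commutator T.R) N
  rw [index_comm, Nat.dvd_prime Nat.prime_three] at h1
  have h2 := h1.resolve_left fun h' => t_notMem T (by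
    simpa [mul_assoc] using (inferInstance : (commutator T.R).Normal).conj_mem _ (relIndex_eq_one.1 h' h) x⁻¹)
  rw [← inf_relIndex_right] at h2
  rw [← Nat.card_congr (subgroupOfEquivOfLe (inf_le_right : commutator T.R ⊓ N ≤ N)).toEquiv]
  exact (congrArg (· * _) h2).symm.trans (index_mul_card _)

theorem card_R3 : Nat.card T.R = 1512 := by simp [T.card_R]

theorem card_comm : Nat.card (commutator T.R) = 504 := by
  have := (commutator T.R).index_mul_card
  rw [index_comm, card_R3] at this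
  omega

theorem card_syl : Nat.card (Sylow 2 T.R) = 9 := by
  have := (normalizer (T.S0 : Set T.R)).index_mul_card
  rw [T.card_normalizer_S0, card_R3] at this
  rw [(T.sylowS0 (by simp)).card_eq_index_normalizer]
  exact Nat.eq_of_mul_eq_mul_right (by omega) this

theorem inv_fix {y : T.R} (hy : orderOf y = 2) {P Q : Sylow 2 T.R} (hP : y • P = P) (hQ : y • Q = Q) : P = Q := by
  obtain ⟨x, rfl⟩ := T.exists_conj_a (by simp) (t := y) (by rintro rfl; simp at hy)
    (by rw [← sq, ← hy, pow_orderOf_eq_one])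
  have h1 := card_inf T x ((mem_centralizer_conj _ _ _).2 (mem_centralizer_singleton_iff.2 T.t3_a))
  rw [card_cent_conj, T.card_centralizer_a] at h1
  have key : ∀ P : Sylow 2 T.R, (x * T.a * x⁻¹) • P = P →
      (P : Subgroup T.R) = commutator T.R ⊓ centralizer {x * T.a * x⁻¹} := fun P hP => by
    have h2 : x * T.a * x⁻¹ ∈ P := ((IsPGroup.of_card (n := 1) (by rw [Nat.card_zpowers, hy, pow_one]) :
      IsPGroup 2 (zpowers _)).inf_normalizer_sylow P).le ⟨mem_zpowers _, Sylow.smul_eq_iff_mem_normalizer.1 hP⟩ |>.2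
    obtain ⟨g, hg⟩ := T.exists_conj_sylow_two (by simp) P
    refine eq_of_le_of_card_ge (fun z hz => ?_) (by
      rw [hg, card_map_equiv, T.card_S0]; rw [Nat.card_zmod] at h1; omega)
    obtain ⟨s, hs, e⟩ : x * T.a * x⁻¹ ∈ T.S0.map (MulAut.conj g).toMonoidHom := hg ▸ h2
    rw [hg] at hz
    obtain ⟨z, hz, rfl⟩ := hz
    refine ⟨?_, mem_centralizer_singleton_iff.2 (by rw [← e, ← map_mul, ← map_mul, T.S0_comm hz hs])⟩
    have := (commutator T.R).pow_index_mem ((MulAut.conj g).toMonoidHom z)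
    rwa [index_comm, pow_three, ← map_mul _ z, T.S0_sq hz, map_one, mul_one] at this
  exact Sylow.ext ((key P hP).trans (key Q hQ).symm)

theorem eq_one_of_fix {g : T.R} (hg : g ∈ commutator T.R) (x : Fin 3 ↪ Sylow 2 T.R) (h : ∀ i, g • x i = x i) :
    g = 1 := by
  by_contra h1
  obtain ⟨s, hs, h2⟩ := Nat.exists_prime_and_dvd (orderOf_eq_one_iff.not.2 h1)
  have h3 := orderOf_pow_orderOf_div (orderOf_pos _).ne' h2
  have h4 : ∀ i, g ^ (orderOf g / s) ∈ stabilizer T.R (x i) := fun i => pow_mem (h i) _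
  have h5 := pow_mem hg (orderOf g / s)
  generalize g ^ (orderOf g / s) = y at h3 h4 h5
  obtain ⟨z, hz⟩ := exists_smul_eq T.R (T.sylowS0 (by simp)) (x 0)
  have h6 := card_inf T z (N := stabilizer T.R (x 0)) (by
    rw [mem_stabilizer_iff, ← hz, ← mul_smul, inv_mul_cancel_right, mul_smul,
      (Sylow.smul_eq_iff_mem_normalizer (P := T.sylowS0 (by simp))).2 T.t3_mem_normalizer])
  have h7 := (stabilizer T.R (x 0)).index_mul_card
  rw [index_stabilizer_of_transitive, card_syl, card_R3] at h7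
  have h8 := Subgroup.orderOf_dvd_natCard (commutator T.R ⊓ stabilizer T.R (x 0)) ⟨h5, h4 0⟩
  rw [h3, show Nat.card ↥(commutator T.R ⊓ stabilizer T.R (x 0)) = 2 ^ 3 * 7 by omega, hs.dvd_mul] at h8
  rcases h8 with h8 | h8
  · rw [(Nat.prime_dvd_prime_iff_eq hs Nat.prime_two).1 (hs.dvd_of_dvd_pow h8)] at h3
    exact absurd (x.injective (inv_fix T h3 (h4 0) (h4 1))) (by decide)
  obtain rfl := (Nat.prime_dvd_prime_iff_eq hs (by decide : Nat.Prime 7)).1 h8
  have := Fact.mk hs
  have h9 := (IsPGroup.of_card (n := 1) (by rw [Nat.card_zpowers, h3, pow_one]) :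
    IsPGroup 7 (zpowers y)).card_modEq_card_fixedPoints (Sylow 2 T.R)
  have h10 := Set.ncard_le_ncard (show Set.range x ⊆ fixedPoints (zpowers y) (Sylow 2 T.R) by
    rintro _ ⟨i, rfl⟩ w; exact zpowers_le_of_mem (h4 i) w.2)
  have h11 := Set.ncard_le_card (fixedPoints (zpowers y) (Sylow 2 T.R))
  rw [Set.ncard_range_of_injective x.injective, Nat.card_eq_fintype_card, Fintype.card_fin] at h10
  rw [Nat.card_coe_set_eq, card_syl, Nat.ModEq] at h9
  have h11' : fixedPoints (zpowers y) (Sylow 2 T.R) = Set.univ :=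
    (Set.eq_univ_iff_ncard _).2 (by rw [card_syl] at h11 ⊢; omega)
  have h12 : y ∈ (toPermHom T.R (Sylow 2 T.R)).ker := Equiv.ext fun P =>
    mem_fixedPoints.1 (h11'.ge (Set.mem_univ P)) ⟨y, mem_zpowers y⟩
  rcases T.normal_eq_bot_or (toPermHom T.R (Sylow 2 T.R)).ker with h' | h'
  · rw [h', mem_bot] at h12
    simp [h12] at h3
  have h13 := relIndex_sup_right T.B (toPermHom T.R (Sylow 2 T.R)).ker
  have h14 := (toPermHom T.R (Sylow 2 T.R)).ker.index_mul_card
  have h15 : (toPermHom T.R (Sylow 2 T.R)).ker.relIndex T.B ∣ _ := index_dvd_card _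
  rw [← h13, h', relIndex_top_right, T.card_B] at h15
  obtain ⟨⟨t, ht⟩, h16⟩ := exists_prime_orderOf_dvd_card' (G := (toPermHom T.R (Sylow 2 T.R)).ker) 2 (by
    obtain ⟨c, hc⟩ := h15
    have := congrArg (· * c) (h14.trans (card_R3 T))
    simp only [mul_right_comm _ _ c, ← hc, Nat.card_zmod] at this
    omega)
  exact absurd (x.injective (inv_fix T (by simpa using h16) (congr($ht (x 0))) (congr($ht (x 1))))) (by decide)

theorem iso_psl {L : Type*} [Field L] [Fintype L] (hL : Fintype.card L = 8) :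
    Nonempty (commutator T.R ≃* Matrix.ProjectiveSpecialLinearGroup (Fin 2) L) := by
  classical
  have := Fintype.ofFinite (Sylow 2 T.R)
  have h9 : Fintype.card (Sylow 2 T.R) = 2 ^ 3 + 1 := Nat.card_eq_fintype_card.symm.trans (card_syl T)
  let ρ := (toPermHom T.R (Sylow 2 T.R)).comp (commutator T.R).subtype
  have h1 : ∀ x : Fin 3 ↪ Sylow 2 T.R, stabilizer ρ.range x = ⊥ := fun x => eq_bot_iff.2 (by
    rintro ⟨_, g, rfl⟩ h
    obtain rfl : g = 1 := Subtype.ext (eq_one_of_fix T g.2 x fun i => congr($h i))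
    exact Subtype.ext (map_one _))
  obtain ⟨x⟩ : Nonempty (Fin 3 ↪ Sylow 2 T.R) := Function.Embedding.nonempty_of_card_le (by simp [h9])
  have e := MonoidHom.ofInjective ((injective_iff_map_eq_one ρ).2 fun g h =>
    Subtype.ext (eq_one_of_fix T g.2 x fun i => congr($h (x i))))
  have h2 := index_stabilizer ρ.range x
  rw [h1, index_bot, ← Nat.card_congr e.toEquiv, card_comm] at h2
  obtain ⟨F, _, _, hF, ⟨e'⟩⟩ := Cfsg.Agent.S0727.result (by omega) h9 ρ.range ((isPretransitive_iff_orbit_eq_univ x).2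
    ((Set.eq_univ_iff_ncard _).2 (by rw [← h2, Nat.card_eq_fintype_card, Fintype.card_embedding_eq, h9]; rfl))) h1
  obtain ⟨e''⟩ := H21.pgl_iso_psl_of_even F (by rw [Nat.card_eq_fintype_card, hF]; decide)
  exact ⟨e.trans (e'.trans (e''.trans (H7.pslCongr (FiniteField.ringEquivOfCardEq (hF.trans hL.symm)))))⟩

end H20.Ree
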