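import Mathlib

/-!
# Models of the `2`-groups of order `64` and `256`
-/

set_option autoImplicit false
set_option maxRecDepth 100000
set_option linter.all false

namespace H20.SB

/-- the field with four elements -/
inductive F4 | f0 | f1 | fw | fv
  deriving DecidableEq

namespace F4

def add : F4 → F4 → F4
  | f0, b => b
  | f1, f0 => f1 | f1, f1 => f0 | f1, fw => fv | f1, fv => fw
  | fw, f0 => fw | fw, f1 => fv | fw, fw => f0 | fw, fv => f1
  | fv, f0 => fv | fv, f1 => fw | fv, fw => f1 | fv, fv => f0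

def mul : F4 → F4 → F4
  | f0, _ => f0
  | f1, b => b
  | fw, f0 => f0 | fw, f1 => fw | fw, fw => fv | fw, fv => f1
  | fv, f0 => f0 | fv, f1 => fv | fv, fw => f1 | fv, fv => fw

/-- the Frobenius map, which is also the inversion -/
def bar : F4 → F4
  | f0 => f0 | f1 => f1 | fw => fv | fv => fw

instance : Add F4 := ⟨add⟩
instance : Mul F4 := ⟨mul⟩

instance decAll (P : F4 → Prop) [DecidablePred P] : Decidable (∀ a, P a) :=
  decidable_of_iff (P f0 ∧ P f1 ∧ P fw ∧ P fv)
    ⟨fun h a => by cases a; exacts [h.1, h.2.1, h.2.2.1, h.2.2.2], fun h => ⟨h _, h _, h _, h _⟩⟩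

instance decEx (P : F4 → Prop) [DecidablePred P] : Decidable (∃ a, P a) :=
  decidable_of_iff (P f0 ∨ P f1 ∨ P fw ∨ P fv)
    ⟨fun h => by rcases h with h | h | h | h <;> exact ⟨_, h⟩, fun ⟨a, h⟩ => by cases a <;> simp [h]⟩

instance : Fintype F4 := ⟨{f0, f1, fw, fv}, fun a => by cases a <;> simp⟩

theorem card : Nat.card F4 = 4 := by rw [Nat.card_eq_fintype_card]; rfl

/-- identity or Frobenius -/
def sg (σ : Bool) (a : F4) : F4 := cond σ a.bar a

/-- the additive map with two given values -/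
def lin {β : Type*} [Mul β] [One β] (p q : β) : F4 → β
  | f0 => 1 | f1 => p | fw => q | fv => p * q

end F4

open F4

/-- the groups of order `64` -/
@[ext] structure Qm (ε : Bool) where
  a : F4
  b : F4
  c : F4
  deriving DecidableEq

namespace Qm

variable {ε : Bool}

def tw (ε : Bool) (b : F4) : F4 := cond ε b f0

instance : Mul (Qm ε) :=
  ⟨fun x y => ⟨x.a + y.a, x.b + y.b, x.c + y.c + y.a * x.b + tw ε (x.b * y.b).bar⟩⟩
instance : One (Qm ε) := ⟨⟨f0, f0, f0⟩⟩
instance : Inv (Qm ε) := ⟨fun x => ⟨x.a, x.b, x.c + x.a * x.b + tw ε x.b⟩⟩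

instance decAll (P : Qm ε → Prop) [DecidablePred P] : Decidable (∀ n, P n) :=
  decidable_of_iff (∀ a b c, P ⟨a, b, c⟩) ⟨fun h n => h n.a n.b n.c, fun h _ _ _ => h _⟩

instance decEx (P : Qm ε → Prop) [DecidablePred P] : Decidable (∃ n, P n) :=
  decidable_of_iff (∃ a b c, P ⟨a, b, c⟩) ⟨fun ⟨_, _, _, h⟩ => ⟨_, h⟩, fun ⟨n, h⟩ => ⟨n.a, n.b, n.c, h⟩⟩

theorem add3 : ∀ a b c : F4, a + b + c = a + (b + c) := by decide +kernel

theorem assoc_c : ∀ (ε : Bool) (a' a'' b b' b'' : F4),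
    a' * b + tw ε (b * b').bar + (a'' * (b + b') + tw ε ((b + b') * b'').bar) =
      a'' * b' + tw ε (b' * b'').bar + ((a' + a'') * b + tw ε (b * (b' + b'')).bar) := by
  decide +kernel

theorem add5 : ∀ c c' c'' p q : F4, c + c' + p + c'' + q = c + c' + c'' + (p + q) := by
  decide +kernel
theorem add5' : ∀ c c' c'' p q : F4, c + (c' + c'' + p) + q = c + c' + c'' + (p + q) := by
  decide +kernel

instance : Group (Qm ε) := Group.ofLeftAxioms
  (fun x y z => Qm.ext (add3 _ _ _) (add3 _ _ _) (by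
    show x.c + y.c + y.a * x.b + tw ε (x.b * y.b).bar + z.c + z.a * (x.b + y.b) +
        tw ε ((x.b + y.b) * z.b).bar = x.c + (y.c + z.c + z.a * y.b + tw ε (y.b * z.b).bar) +
        (y.a + z.a) * x.b + tw ε (x.b * (y.b + z.b)).bar
    rw [add3 (x.c + y.c), add3 _ (z.a * (x.b + y.b)), add5, assoc_c, add3 (y.c + z.c),
      add3 _ ((y.a + z.a) * x.b), add5']))
  (by revert ε; decide +kernel) (by revert ε; decide +kernel)

instance : Finite (Qm ε) :=
  Finite.of_injective (fun n => (n.a, n.b, n.c)) fun n m h => by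
    simp only [Prod.mk.injEq] at h; exact Qm.ext h.1 h.2.1 h.2.2

end Qm

variable {ε : Bool}

/-- the elements of `R` -/
def ρ (a : F4) : Qm ε := ⟨a, f0, f0⟩
/-- the elements of `F` -/
def κ (b : F4) : Qm ε := ⟨f0, b, f0⟩
/-- the elements of `V` -/
def ν (c : F4) : Qm ε := ⟨f0, f0, c⟩

/-- the action of the powers of `h` -/
def η (l : F4) (n : Qm ε) : Qm ε := ⟨n.a, l * n.b, l * n.c⟩
/-- the field automorphism -/
def br (n : Qm ε) : Qm ε := ⟨n.a.bar, n.b.bar, n.c.bar⟩
/-- the graph automorphism -/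
def sw (n : Qm ε) : Qm ε := cond ε n ⟨n.b, n.a, n.c + n.a * n.b⟩
/-- the action of the four-group -/
def α : F4 → Qm ε → Qm ε
  | f0, n => n | f1, n => br n | fw, n => sw n | fv, n => br (sw n)

theorem br_mul : ∀ n m : Qm ε, br (n * m) = br n * br m := by revert ε; decide +kernel
theorem sw_mul : ∀ n m : Qm ε, sw (n * m) = sw n * sw m := by revert ε; decide +kernel
theorem α_mul (s : F4) (n m : Qm ε) : α s (n * m) = α s n * α s m := by
  cases s
  · rfl
  · exact br_mul n m
  · exact sw_mul n m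
  · show br (sw (n * m)) = _; rw [sw_mul, br_mul]; rfl
theorem α_add : ∀ (s t : F4) (n : Qm ε), α (s + t) n = α s (α t n) := by revert ε; decide +kernel

/-- the groups of order `256` -/
@[ext] structure M (ε : Bool) where
  n : Qm ε
  s : F4
  deriving DecidableEq

namespace M

instance : Mul (M ε) := ⟨fun x y => ⟨x.n * α x.s y.n, x.s + y.s⟩⟩
instance : One (M ε) := ⟨⟨1, f0⟩⟩
instance : Inv (M ε) := ⟨fun x => ⟨α x.s x.n⁻¹, x.s⟩⟩

instance decAll (P : M ε → Prop) [DecidablePred P] : Decidable (∀ x, P x) :=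
  decidable_of_iff (∀ s n, P ⟨n, s⟩) ⟨fun h x => h x.s x.n, fun h _ _ => h _⟩

instance decEx (P : M ε → Prop) [DecidablePred P] : Decidable (∃ x, P x) :=
  decidable_of_iff (∃ s n, P ⟨n, s⟩) ⟨fun ⟨_, _, h⟩ => ⟨_, h⟩, fun ⟨x, h⟩ => ⟨x.s, x.n, h⟩⟩

instance : Group (M ε) := Group.ofLeftAxioms
  (fun x y z => M.ext (by
    show x.n * α x.s y.n * α (x.s + y.s) z.n = x.n * α x.s (y.n * α y.s z.n)
    rw [α_mul, α_add, mul_assoc]) (Qm.add3 _ _ _))
  (by revert ε; decide +kernel) (by revert ε; decide +kernel)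

instance : Finite (M ε) :=
  Finite.of_injective (fun n => (n.n, n.s)) fun n m h => by
    simp only [Prod.mk.injEq] at h; exact M.ext h.1 h.2

end M

/-- inclusion of `Q` -/
def iq (n : Qm ε) : M ε := ⟨n, f0⟩
/-- the outer elements -/
def ou (s : F4) : M ε := ⟨1, s⟩

theorem noE (s : F4) (hs : s ≠ f0) : ∀ b : M false, b * b = 1 → ou s * b = b * ou s → b ≠ 1 → b ≠ ou s →
    ∀ c : M false, c * c = 1 → ou s * c = c * ou s → b * c = c * b → c ≠ 1 → c ≠ ou s → c ≠ b →
      c ≠ ou s * b → ∀ d : M false, d * d = 1 → ou s * d = d * ou s → b * d = d * b → c * d = d * c →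
        d = 1 ∨ d = ou s ∨ d = b ∨ d = ou s * b ∨ d = c ∨ d = ou s * c ∨ d = b * c ∨
          d = ou s * b * c := by
  cases s
  · exact absurd rfl hs
  all_goals decide +kernel

end H20.SB
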