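import Mathlib
import Cfsg.Agent.H20.SB0

/-!
# Facts on the groups of order `64`
-/

set_option autoImplicit false
set_option maxRecDepth 100000
set_option linter.all false
set_option synthInstance.maxSize 8000
set_option synthInstance.maxHeartbeats 400000

namespace H20.SB

open F4

variable {ε : Bool}

def E0 : Subgroup (Qm ε) where
  carrier := {n | n.b = f0}
  one_mem' := rfl
  mul_mem' := fun {x y} (hx : x.b = f0) (hy : y.b = f0) => show x.b + y.b = f0 by rw [hx, hy]; rfl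
  inv_mem' := fun hx => hx

def P0 : Subgroup (Qm ε) where
  carrier := {n | n.a = f0}
  one_mem' := rfl
  mul_mem' := fun {x y} (hx : x.a = f0) (hy : y.a = f0) => show x.a + y.a = f0 by rw [hx, hy]; rfl
  inv_mem' := fun hx => hx

theorem ρ_add : ∀ a b, (ρ (a + b) : Qm ε) = ρ a * ρ b := by revert ε; decide
theorem ν_add : ∀ a b, (ν (a + b) : Qm ε) = ν a * ν b := by revert ε; decide
theorem κ_add : ∀ a b, (κ (a + b) : Qm false) = κ a * κ b := by decide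
theorem E_eq : ∀ n : Qm ε, n.b = f0 → n = ρ n.a * ν n.c := by revert ε; decide
theorem P_eq : ∀ n : Qm ε, n.a = f0 → n = κ n.b * ν n.c := by revert ε; decide
theorem V_eq : ∀ n : Qm ε, n.a = f0 → n.b = f0 → n = ν n.c := by revert ε; decide
theorem ν_comm : ∀ c (n : Qm ε), n * ν c = ν c * n := by revert ε; decide +kernel
theorem E_comm : ∀ n : Qm ε, n.b = f0 → ∀ m : Qm ε, m.b = f0 → n * m = m * n := by
  revert ε; decide +kernel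
theorem P_comm : ∀ n : Qm ε, n.a = f0 → ∀ m : Qm ε, m.a = f0 → n * m = m * n := by
  revert ε; decide +kernel
theorem pow4 : ∀ n : Qm ε, n * n * (n * n) = 1 := by revert ε; decide +kernel
theorem κρ : ∀ a b, (κ b * ρ a * (κ b)⁻¹ : Qm ε) = ρ a * ν (a * b) := by revert ε; decide
theorem ρκ : ∀ a b, (ρ a * κ b * (ρ a)⁻¹ : Qm ε) = κ b * ν (a * b) := by revert ε; decide
theorem conjR : ∀ (n : Qm ε) a, n * ρ a * n⁻¹ = ρ a * ν (a * n.b) := by revert ε; decide +kernel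
theorem conjP : ∀ n p : Qm ε, p.a = f0 → n * p * n⁻¹ = p * ν (n.a * p.b) := by
  revert ε; decide +kernel
theorem toR : ∀ m : Qm ε, m.b = f0 → m.a ≠ f0 → ∃ b, (κ b)⁻¹ * m * (κ b)⁻¹⁻¹ = ρ m.a := by
  revert ε; decide +kernel
theorem inv0 : ∀ n : Qm false, n * n = 1 → n.a = f0 ∨ n.b = f0 := by decide +kernel

theorem gen_top (H : Subgroup (Qm ε)) (h1 : ρ f1 ∈ H) (h2 : ρ fw ∈ H) (h3 : κ f1 ∈ H)
    (h4 : κ fw ∈ H) (n : Qm ε) : n ∈ H := by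
  have a1 : ∀ a, ρ a ∈ H := fun a => by
    cases a
    exacts [H.one_mem, h1, h2, (ρ_add f1 fw).symm ▸ mul_mem h1 h2]
  have a2 : ∀ a, ν a ∈ H := fun a => by
    have := mul_mem (inv_mem (a1 a)) (mul_mem (mul_mem h3 (a1 a)) (inv_mem h3))
    rwa [κρ, inv_mul_cancel_left, (by clear_aux_decl; clear * -; decide +revert : a * f1 = a)] at this
  have a3 : ∀ a, κ a ∈ H := fun a => by
    cases a
    exacts [H.one_mem, h3, h4, (by decide : ∀ ε, (κ f1 * κ fw * ν (Qm.tw ε fv) : Qm ε) = κ fv) ε ▸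
      mul_mem (mul_mem h3 h4) (a2 _)]
  rw [(by decide +kernel : ∀ (ε) (n : Qm ε), n = ρ n.a * κ n.b * ν n.c) ε n]
  exact mul_mem (mul_mem (a1 _) (a3 _)) (a2 _)

/-- `α` as a homomorphism -/
def αH (s : F4) : Qm ε →* Qm ε := MonoidHom.mk' (α s) (α_mul s)

theorem αα : ∀ s (n : Qm ε), α s (α s n) = n := by revert ε; decide +kernel

/-- relabelling -/
def rl (l : F4) (n : Qm ε) : Qm ε := ⟨l * n.a, l.bar * n.b, n.c⟩

theorem rl_mul : ∀ (ε : Bool) (l : F4), l ≠ f0 → (ε = true → l = f1) → ∀ n m : Qm ε,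
    rl l (n * m) = rl l n * rl l m := by decide +kernel
theorem rl_inj : ∀ (ε : Bool) (l : F4), l ≠ f0 → ∀ n : Qm ε, rl l n = 1 → n = 1 := by decide +kernel

theorem cls0 : ∀ (ε : Bool) (a1 a2 : F4) (k1 : Qm ε), k1 * ρ a1 * k1⁻¹ * (ρ a1)⁻¹ ≠ 1 →
    k1 * ρ a2 * k1⁻¹ * (ρ a2)⁻¹ ≠ 1 → a1 ≠ a2 →
    k1 * k1 = cond ε (k1 * ρ a1 * k1⁻¹ * (ρ a1)⁻¹) 1 → ∀ k2 : Qm ε, k1 * k2 = k2 * k1 →
    k2 * ρ a1 * k2⁻¹ * (ρ a1)⁻¹ = k1 * ρ a2 * k1⁻¹ * (ρ a2)⁻¹ →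
    k2 * ρ a2 * k2⁻¹ * (ρ a2)⁻¹ = k1 * ρ a1 * k1⁻¹ * (ρ a1)⁻¹ * (k1 * ρ a2 * k1⁻¹ * (ρ a2)⁻¹) →
    k2 * k2 = cond ε (k1 * ρ a2 * k1⁻¹ * (ρ a2)⁻¹) 1 →
    a1 ≠ f0 ∧ k1.b ≠ f0 ∧ (ε = true → a1 = f1) ∧ k1.a = f0 ∧ ∃ σ,
      (∀ a, lin (ρ a1) (ρ a2) a = (ρ (a1 * sg σ a) : Qm ε)) ∧
      (∀ c, lin (k1 * ρ a1 * k1⁻¹ * (ρ a1)⁻¹) (k1 * ρ a2 * k1⁻¹ * (ρ a2)⁻¹) c =
        ν (a1 * k1.b * sg σ c)) ∧ k2.a = f0 ∧ k2.b = k1.b * sg σ fw := by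
  decide +kernel

theorem map_lin {β γ : Type*} [Group β] [Group γ] (θ : β →* γ) (p q : β) (a : F4) :
    θ (lin p q a) = lin (θ p) (θ q) a := by
  cases a <;> simp [lin]

theorem cls (θ : Qm ε →* Qm ε) (hθ : Function.Injective θ) (h : ∀ a, ∃ a', θ (ρ a) = ρ a') :
    ∃ l m σ, l ≠ f0 ∧ m ≠ f0 ∧ (ε = true → l = f1) ∧ (∀ a, θ (ρ a) = ρ (l * sg σ a)) ∧
      (∀ c, θ (ν c) = ν (l * m * sg σ c)) ∧ (∃ c, θ (κ f1) = κ m * ν c) ∧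
      ∃ c, θ (κ fw) = κ (m * sg σ fw) * ν c := by
  obtain ⟨a1, e1⟩ := h f1
  obtain ⟨a2, e2⟩ := h fw
  have n1 : ∀ {n}, n ≠ 1 → θ n ≠ 1 := fun h e => h (hθ (e.trans θ.map_one.symm))
  have c1 : ∀ a b, θ (κ b) * θ (ρ a) * (θ (κ b))⁻¹ * (θ (ρ a))⁻¹ = θ (ν (a * b)) := fun a b => by
    simp only [← map_mul, ← map_inv]
    rw [κρ, ν_comm, mul_inv_cancel_right]
  have c2 : ∀ b, θ (κ b) * θ (κ b) = cond ε (θ (ν b)) 1 := fun b => by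
    rw [← map_mul, (by decide : ∀ ε b, (κ b * κ b : Qm ε) = cond ε (ν b) 1) ε b]
    cases ε
    exacts [θ.map_one, rfl]
  obtain ⟨b1, b2, b3, b4, σ, b5, b6, b7, b8⟩ := cls0 ε a1 a2 (θ (κ f1))
    (by rw [← e1, c1]; exact n1 (by clear_aux_decl; clear * -; decide +revert))
    (by rw [← e2, c1]; exact n1 (by clear_aux_decl; clear * -; decide +revert))
    (by rintro rfl; exact absurd (hθ (e1.trans e2.symm)) (by clear_aux_decl; clear * -; decide +revert))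
    (by rw [← e1, c1, c2]; rfl) (θ (κ fw))
    (by rw [← map_mul, ← map_mul, P_comm _ rfl _ rfl])
    (by rw [← e1, ← e2, c1, c1]; rfl)
    (by rw [← e1, ← e2, c1, c1, c1, ← map_mul, ← ν_add]; rfl)
    (by rw [← e2, c1, c2]; rfl)
  refine ⟨a1, _, σ, b1, b2, b3, fun a => ?_, fun c => ?_, ⟨_, P_eq _ b4⟩, _, b8 ▸ P_eq _ b7⟩
  · rw [← b5, ← e1, ← e2, ← map_lin,
      (by decide : ∀ ε a, (lin (ρ f1) (ρ fw) a : Qm ε) = ρ a)]
  · rw [← b6, ← e1, ← e2, c1, c1, ← map_lin,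
      (by decide : ∀ ε a, (lin (ν (f1 * f1)) (ν (fw * f1)) a : Qm ε) = ν a)]

theorem toF : ∀ x1 : Qm false, x1.a = f0 → ∀ x2 : Qm false, x2.a = f0 → x1.b ≠ f0 → x2.b ≠ f0 →
    x1.b ≠ x2.b → ∀ e : Qm false, e.b = f0 → ∀ a1, η fw x1 = e * lin x1 x2 a1 * e⁻¹ →
      ∀ a2, η fw x2 = e * lin x1 x2 a2 * e⁻¹ → ∃ a, ∀ b, ∃ b', ρ a * lin x1 x2 b * (ρ a)⁻¹ = κ b' := by
  decide +kernel

end H20.SB
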