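import Mathlib
import Cfsg.Agent.H5.SA1
import Cfsg.Agent.H20.SB0

/-!
# Points isomorphic to `A₅`: the first configuration
-/

set_option autoImplicit false
set_option maxRecDepth 100000
set_option linter.all false
set_option synthInstance.maxSize 4000
set_option synthInstance.maxHeartbeats 200000

namespace H20.SB

open Cfsg H24 H26 H26.Gold Subgroup Equiv Equiv.Perm H5.SA F4
open H23.TC (R2 exists_norm_lt conj_of_comm comm_of_conj inv_sq)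

universe u

instance : DecidablePred (Ev : Perm (Fin 5) → Prop) :=
  fun σ => inferInstanceAs (Decidable (sign σ = 1))

theorem p_odd : ∀ σ : Perm (Fin 5), σ * σ = 1 → ¬ Ev σ → ∀ τ : Perm (Fin 5), τ * τ = 1 → Ev τ →
    τ ≠ 1 → σ * τ = τ * σ → ∃ y, Ev y ∧ τ * y = y * τ ∧
      y * (σ * y⁻¹ * σ⁻¹) * (y * (σ * y⁻¹ * σ⁻¹)) = 1 ∧ y * (σ * y⁻¹ * σ⁻¹) ≠ 1 := by
  decide +kernel

theorem p_cent : ∀ σ : Perm (Fin 5), σ * σ = 1 → Ev σ → σ ≠ 1 → ∀ τ : Perm (Fin 5), τ * τ = 1 →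
    Ev τ → τ ≠ 1 → σ ≠ τ → σ * τ = τ * σ → ∀ π : Perm (Fin 5), π * σ = σ * π → π * τ = τ * π →
      π = 1 ∨ π * σ = 1 ∨ π * τ = 1 ∨ π * (σ * τ) = 1 := by
  decide +kernel

theorem p_h : ∀ σ : Perm (Fin 5), σ * σ = 1 → Ev σ → σ ≠ 1 → ∀ τ : Perm (Fin 5), τ * τ = 1 →
    Ev τ → τ ≠ 1 → σ ≠ τ → σ * τ = τ * σ → ∃ η : Perm (Fin 5), Ev η ∧ η * η * η = 1 ∧
      η * σ * η⁻¹ = τ ∧ η * τ * η⁻¹ = σ * τ := by
  decide +kernel

theorem p_three : ∀ σ : Perm (Fin 5), σ * σ = 1 → ∀ τ : Perm (Fin 5), τ * τ = 1 →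
    σ * τ = τ * σ → ∀ π : Perm (Fin 5), π * π = 1 → π * σ = σ * π → π * τ = τ * π →
      σ = 1 ∨ τ = 1 ∨ σ * τ = 1 ∨ π = 1 ∨ π * σ = 1 ∨ π * τ = 1 ∨ π * (σ * τ) = 1 := by
  decide +kernel

variable {G : Type u} [Group G] [Finite G] {P : Subgroup G → Prop} {A B C U : Subgroup G}
  {r v : F4 → G} {g h t x y z : G} {a b c : F4}

theorem p2 : Nat.Prime 2 := Nat.prime_two

theorem twoE_mul (hU : TwoG U) (hx : x ∈ N[U]) (h2 : TwoE x) (hy : y ∈ U) : TwoE (y * x) :=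
  (hU.sup h2.isPi (zpowers_le.2 hx)).piElt (mul_mem (mem_sup_left hy) (mem_sup_right (mem_zpowers x)))

theorem mem_of_cube (h2 : TwoE x) (h : x * x * x ∈ U) : x ∈ U := by
  obtain ⟨k, hk⟩ := h2.exists_pow p2
  have : x ∈ zpowers (x ^ 3) := mem_zpowers_pow_iff.2 (by
    rw [hk]; exact (Nat.Coprime.pow_right k (by norm_num : Nat.Coprime 3 2)))
  exact zpowers_le.2 (by rwa [pow_succ, pow_two]) this

/-- an injective homomorphism from the additive group of `F4` -/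
structure Hm (v : F4 → G) : Prop where
  add : ∀ a b, v (a + b) = v a * v b
  inj : ∀ a, v a = 1 → a = f0

namespace Hm

variable (hv : Hm v)
include hv

theorem zero : v f0 = 1 := by
  have := hv.add f0 f0
  exact mul_eq_left.1 this.symm
theorem sq (a : F4) : v a * v a = 1 := by
  rw [← hv.add, (by clear_aux_decl; clear * -; decide +revert : a + a = f0), hv.zero]
theorem inv (a : F4) : (v a)⁻¹ = v a := inv_sq (hv.sq a)
theorem comm (a b : F4) : v a * v b = v b * v a := by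
  rw [← hv.add, ← hv.add, (by clear_aux_decl; clear * -; decide +revert : a + b = b + a)]
theorem eq (h : v a = v b) : a = b := by
  have := hv.inj (a + b) (by rw [hv.add, h, hv.sq])
  revert this; clear_aux_decl; clear * -; decide +revert
theorem ne (h : a ≠ f0) : v a ≠ 1 := fun e => h (hv.inj a e)

/-- the image -/
def sub : Subgroup G where
  carrier := {x | ∃ a, v a = x}
  one_mem' := ⟨f0, hv.zero⟩
  mul_mem' := by rintro _ _ ⟨a, rfl⟩ ⟨b, rfl⟩; exact ⟨_, hv.add a b⟩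
  inv_mem' := by rintro _ ⟨a, rfl⟩; exact ⟨a, (hv.inv a).symm⟩

theorem mem (a : F4) : v a ∈ hv.sub := ⟨a, rfl⟩
theorem le (h : ∀ a, v a ∈ U) : hv.sub ≤ U := by rintro _ ⟨a, rfl⟩; exact h a
theorem ea : EA hv.sub := ea_of_sq (by rintro _ ⟨a, rfl⟩; exact hv.sq a)
theorem two : TwoG hv.sub := hv.ea.two
theorem card : ♯hv.sub = 4 := by
  rw [← F4.card]
  exact (Nat.card_congr (Equiv.ofBijective (fun a => (⟨v a, hv.mem a⟩ : hv.sub))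
    ⟨fun a b e => hv.eq (congrArg Subtype.val e), by rintro ⟨_, a, rfl⟩; exact ⟨a, rfl⟩⟩)).symm

theorem cj (g : G) : Hm fun a => g * v a * g⁻¹ :=
  ⟨fun a b => by rw [hv.add]; group, fun a e => hv.inj a (by simpa using e)⟩

theorem scale (hb : b ≠ f0) : Hm fun a => v (a * b) :=
  ⟨fun a c => by rw [← hv.add, (by clear_aux_decl; clear * -; decide +revert : (a + c) * b = a * b + c * b)],
    fun a e => by have := hv.inj _ e; revert this hb; clear_aux_decl; clear * -; decide +revert⟩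

/-- the action of an element on a four-group -/
theorem act' {w : F4 → G} (hw : Hm w) (h : ∀ a, ∃ b, g * v a * g⁻¹ = w b) :
    ∃ l, l ≠ f0 ∧ ∃ σ, ∀ a, g * v a * g⁻¹ = w (l * sg σ a) := by
  obtain ⟨p, hp⟩ := h f1
  obtain ⟨q, hq⟩ := h fw
  have h1 : p ≠ f0 := fun e => (hv.cj g).ne (a := f1) (by decide) (by rw [hp, e, hw.zero])
  have h2 : q ≠ f0 := fun e => (hv.cj g).ne (a := fw) (by decide) (by rw [hq, e, hw.zero])
  have h3 : p ≠ q := fun e => absurd ((hv.cj g).eq (a := f1) (b := fw) (by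
    show g * v f1 * g⁻¹ = g * v fw * g⁻¹
    rw [hp, hq, e])) (by decide)
  obtain ⟨σ, e1, e2⟩ : ∃ σ, q = p * sg σ fw ∧ p + q = p * sg σ fv := by
    revert h1 h2 h3; clear_aux_decl; clear * -; decide +revert
  refine ⟨p, h1, σ, fun a => ?_⟩
  cases a
  · rw [hv.zero, (by clear_aux_decl; clear * -; decide +revert : p * sg σ f0 = f0), hw.zero]; simp
  · rw [hp, (by clear_aux_decl; clear * -; decide +revert : p * sg σ f1 = p)]
  · rw [hq, e1]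
  · rw [← e2, hw.add, ← hp, ← hq, show fv = f1 + fw from rfl, hv.add]; group

theorem act (h : g ∈ N[hv.sub]) : ∃ l, l ≠ f0 ∧ ∃ σ, ∀ a, g * v a * g⁻¹ = v (l * sg σ a) :=
  hv.act' hv fun a => by
    obtain ⟨b, e⟩ := H23.TC.cN h (hv.mem a)
    exact ⟨b, e.symm⟩

theorem lin2 {l : F4} (hl : l ≠ f0) (h2 : TwoE g) (h : ∀ a, g * v a * g⁻¹ = v (l * a)) (a : F4) :
    g * v a = v a * g := by
  refine mem_C1.1 (mem_of_cube h2 (mem_C1_iff_conj.2 ?_))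
  rw [show g * g * g * v a * (g * g * g)⁻¹ = g * (g * (g * v a * g⁻¹) * g⁻¹) * g⁻¹ by group, h, h, h,
    (by revert hl; clear_aux_decl; clear * -; decide +revert : l * (l * (l * a)) = a)]

end Hm

theorem hm_lin (x2 : x * x = 1) (y2 : y * y = 1) (x1 : x ≠ 1) (y1 : y ≠ 1) (xy : x ≠ y)
    (hc : x * y = y * x) : Hm (lin x y) := by
  refine ⟨fun a b => ?_, fun a e => ?_⟩
  · have e1 : x * (x * y) = y := by rw [← mul_assoc, x2, one_mul]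
    have e2 : y * (x * y) = x := by rw [hc, ← mul_assoc, y2, one_mul]
    have e3 : x * y * x = y := by rw [hc, mul_assoc, x2, mul_one]
    have e4 : x * y * y = x := by rw [mul_assoc, y2, mul_one]
    have e5 : x * y * (x * y) = 1 := by rw [← mul_assoc, e3, y2]
    cases a <;> cases b <;>
      simp only [HAdd.hAdd, Add.add, F4.add, lin, one_mul, mul_one, x2, y2, ← hc, e1, e2, e3, e4, e5]
  · cases a
    · rfl
    · exact absurd e x1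
    · exact absurd e y1
    · exact absurd (by rw [← inv_sq y2]; exact mul_eq_one_iff_eq_inv.1 e) xy

/-- powers of an element of order three -/
def hh (h : G) : F4 → G
  | f0 => 1 | f1 => 1 | fw => h | fv => h * h

theorem hh_mem (hh' : h ∈ U) (l : F4) : hh h l ∈ U := by
  cases l
  exacts [one_mem _, one_mem _, hh', mul_mem hh' hh']

theorem hh_conj {w : F4 → G} (hw : ∀ c, h * w c * h⁻¹ = w (fw * c)) {l : F4} (hl : l ≠ f0) (c : F4) :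
    hh h l * w c * (hh h l)⁻¹ = w (l * c) := by
  cases l
  · exact absurd rfl hl
  · simp only [hh, one_mul, inv_one, mul_one]; rfl
  · exact hw c
  · rw [show hh h fv * w c * (hh h fv)⁻¹ = h * (h * w c * h⁻¹) * h⁻¹ by simp only [hh]; group, hw, hw,
      (by clear_aux_decl; clear * -; decide +revert : fw * (fw * c) = fv * c)]

/-- the hypotheses -/
structure Hyp (P : Subgroup G → Prop) : Prop extends Geo (Fin 5) P where
  nd : ∀ B, P B → ∀ a ∈ B, ¬ DD P a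

theorem n4 : 4 ≤ Fintype.card (Fin 5) := by simp

theorem act5 {φ : Perm (Fin 5) → G} (hφ : Fr φ A) (hx : x ∈ N[A]) : ∃ σ, Act φ x σ :=
  hφ.exists_act (by simp) (by simp) hx

namespace Hyp

variable (H : Hyp P)
include H

theorem inf (hA : P A) (h1 : x ∈ A) (h2 : x ∈ C[A]) : x = 1 := H.toGeo.inf_C hA h1 h2

theorem odd_inf (hA : P A) (hB : P B) (hne : A ≠ B) : OddG (C[A] ⊓ C[B]) := by
  refine (isPi_compl_iff p2).2 fun h => ?_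
  have := Fact.mk p2
  obtain ⟨x, hx⟩ := exists_prime_orderOf_dvd_card' 2 h
  have h2 : orderOf (x : G) = 2 := by rwa [Subgroup.orderOf_coe]
  exact H6.ne_one_of_orderOf_two h2 (H.te1 hA hB hne x.2.1 x.2.2 (H6.mul_self_of_orderOf_two h2))

theorem comm_inner (hA : P A) (hx : x ∈ N[A]) (hc : x * t = t * x) (hy : y ∈ A)
    (ht : t * y ∈ C[A]) : x * y = y * x := by
  have h1 := (C[A]).mul_mem (inv_mem ht) (cC hx ht)
  rw [show (t * y)⁻¹ * (x * (t * y) * x⁻¹) = y⁻¹ * (t⁻¹ * (x * t)) * y * x⁻¹ by group, hc,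
    show y⁻¹ * (t⁻¹ * (t * x)) * y * x⁻¹ = y⁻¹ * (x * y * x⁻¹) by group] at h1
  have := H.inf hA (A.mul_mem (inv_mem hy) (H23.TC.cN hx hy)) h1
  rw [inv_mul_eq_one] at this
  exact comm_of_conj this.symm

theorem frame (hA : P A) (hv : Hm v) (hvA : ∀ c, v c ∈ A) : ∃ φ : Perm (Fin 5) → G, Fr φ A ∧
    ∃ σ τ, φ σ = v f1 ∧ φ τ = v fw ∧ σ * σ = 1 ∧ Ev σ ∧ σ ≠ 1 ∧ τ * τ = 1 ∧ Ev τ ∧ τ ≠ 1 ∧ σ ≠ τ ∧
      σ * τ = τ * σ := by
  obtain ⟨φ, hφ⟩ := H.fr A hA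
  obtain ⟨σ, s1, s2⟩ := hφ.surj (hvA f1)
  obtain ⟨τ, t1, t2⟩ := hφ.surj (hvA fw)
  refine ⟨φ, hφ, σ, τ, s2, t2, hφ.sq' s1 (by rw [s2, hv.sq]), s1, ?_, hφ.sq' t1 (by rw [t2, hv.sq]),
    t1, ?_, ?_, hφ.comm' s1 t1 (by rw [s2, t2, hv.comm])⟩
  · rintro rfl; exact hv.ne (a := f1) (by decide) (s2.symm.trans hφ.one)
  · rintro rfl; exact hv.ne (a := fw) (by decide) (t2.symm.trans hφ.one)
  · rintro rfl; exact absurd (hv.eq (s2.symm.trans t2)) (by decide)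

theorem cent (hA : P A) (hv : Hm v) (hvA : ∀ c, v c ∈ A) (hx : x ∈ N[A])
    (hc : ∀ c, x * v c = v c * x) : ∃ c, x * v c ∈ C[A] := by
  obtain ⟨φ, hφ, σ, τ, e1, e2, s2, s0, s1, t2, t0, t1, st, hst⟩ := H.frame hA hv hvA
  obtain ⟨π, hπ⟩ := act5 hφ hx
  rcases p_cent σ s2 s0 s1 τ t2 t0 t1 st hst π (hπ.comm' hφ s0 (by rw [e1, hc]))
    (hπ.comm' hφ t0 (by rw [e2, hc])) with e | e | e | e
  · exact ⟨f0, by rw [hv.zero, mul_one]; exact Act.mem_C hφ (e ▸ hπ)⟩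
  · exact ⟨f1, by rw [← e1]; exact Act.mem_C hφ (e ▸ hπ.mul (hφ.act s0))⟩
  · exact ⟨fw, by rw [← e2]; exact Act.mem_C hφ (e ▸ hπ.mul (hφ.act t0))⟩
  · exact ⟨f1 + fw, by
      rw [hv.add, ← e1, ← e2, ← hφ.mul s0 t0]; exact Act.mem_C hφ (e ▸ hπ.mul (hφ.act (s0.mul t0)))⟩

theorem exists_h (hA : P A) (hv : Hm v) (hvA : ∀ c, v c ∈ A) :
    ∃ h ∈ A, h * h * h = 1 ∧ ∀ c, h * v c * h⁻¹ = v (fw * c) := by
  obtain ⟨φ, hφ, σ, τ, e1, e2, s2, s0, s1, t2, t0, t1, st, hst⟩ := H.frame hA hv hvA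
  obtain ⟨η, a1, a2, a3, a4⟩ := p_h σ s2 s0 s1 τ t2 t0 t1 st hst
  have b1 : φ η * v f1 * (φ η)⁻¹ = v fw := by rw [← e1, hφ.conj a1 s0, a3, e2]
  have b2 : φ η * v fw * (φ η)⁻¹ = v (f1 + fw) := by
    rw [← e2, hφ.conj a1 t0, a4, hφ.mul s0 t0, e1, e2, hv.add]
  refine ⟨φ η, hφ.mem a1, by rw [← hφ.mul a1 a1, ← hφ.mul (a1.mul a1) a1, a2, hφ.one], fun c => ?_⟩
  cases c
  · show φ η * v f0 * (φ η)⁻¹ = v f0
    rw [hv.zero]; simp
  · exact b1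
  · exact b2
  · show φ η * v (f1 + fw) * (φ η)⁻¹ = v (fw + (f1 + fw))
    rw [hv.add, hv.add fw, ← b2, H23.TC.conj_mul, b1]

theorem syl_V (hA : P A) (hv : Hm v) (hvA : ∀ c, v c ∈ A) : Syl 2 A hv.sub := by
  obtain ⟨φ, hφ⟩ := H.fr A hA
  have h1 : ♯A = 60 := by
    rw [hφ.card, Nat.card_eq_fintype_card, card_alternatingGroup]; rfl
  have h2 := card_mul_relIndex (hv.le hvA)
  rw [h1, hv.card] at h2
  exact Syl.mk' p2 (hv.le hvA) hv.two (by omega)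

theorem no_odd (hA : P A) (hB : P B) (hne : A ≠ B) {φ : Perm (Fin 5) → G} (hφ : Fr φ A) {t' : G}
    {σ τ : Perm (Fin 5)} (h1 : t ∈ C[B]) (h2 : t' ∈ C[B]) (t2 : t * t = 1) (t2' : t' * t' = 1)
    (t1 : t' ≠ 1) (hc : t * t' = t' * t) (a1 : Act φ t σ) (a2 : Act φ t' τ) (o : ¬ Ev σ)
    (e : Ev τ) : False := by
  obtain ⟨y, y1, y2, y3, y4⟩ := p_odd σ (a1.sq hφ n4 (t2 ▸ one_mem _)) o τ
    (a2.sq hφ n4 (t2' ▸ one_mem _)) e (by
      rintro rfl; exact t1 (H.te1 hA hB hne (a2.mem_C hφ) h2 t2')) (a1.comm2 hφ n4 a2 hc)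
  have y5 : Ev (y * (σ * y⁻¹ * σ⁻¹)) := y1.mul (y1.inv.conj σ)
  refine H.nd A hA _ (hφ.mem y5) ⟨hφ.sq y5 y3, hφ.ne_one y5 y4, B, hB, ?_⟩
  rw [hφ.mul y1 (y1.inv.conj σ), ← a1 _ y1.inv, hφ.inv y1]
  have := (C[B]).mul_mem (cC (H.cN' hB h2 t2' t1 (a2.comm y1 y2)) h1) (inv_mem h1)
  simpa [mul_assoc] using this

theorem inner (hA : P A) (hB : P B) (hne : A ≠ B) {t' : G} (h1 : t ∈ C[B]) (h2 : t' ∈ C[B])
    (n1 : t ∈ N[A]) (n2 : t' ∈ N[A]) (t2 : t * t = 1) (t2' : t' * t' = 1) (t1 : t ≠ 1)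
    (t1' : t' ≠ 1) (tt : t ≠ t') (hc : t * t' = t' * t) :
    ∃ y ∈ A, y * y = 1 ∧ y ≠ 1 ∧ t * y ∈ C[A] := by
  obtain ⟨φ, hφ⟩ := H.fr A hA
  obtain ⟨σ, a1⟩ := act5 hφ n1
  obtain ⟨τ, a2⟩ := act5 hφ n2
  have s2 := a1.sq hφ n4 (t2 ▸ one_mem _)
  by_cases e : Ev σ
  · refine ⟨φ σ, hφ.mem e, hφ.sq e s2, hφ.ne_one e ?_, Act.mem_C hφ (s2 ▸ a1.mul (hφ.act e))⟩
    rintro rfl; exact t1 (H.te1 hA hB hne (a1.mem_C hφ) h1 t2)
  by_cases e' : Ev τ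
  · exact (H.no_odd hA hB hne hφ h1 h2 t2 t2' t1' hc a1 a2 e e').elim
  · exact (H.no_odd hA hB hne hφ h1 (mul_mem h1 h2) t2 (H23.TC.sq_mul t2 t2' hc)
      (fun c => tt (by rw [← inv_sq t2']; exact mul_eq_one_iff_eq_inv.1 c))
      (by rw [mul_assoc, ← hc]) a1 (a1.mul a2) e (ev_odd e e')).elim

theorem three (hA : P A) (hv : Hm v) (hvA : ∀ c, v c ∈ N[A]) (hx : x ∈ N[A]) (x2 : x * x = 1)
    (hc : ∀ c, x * v c = v c * x) : (∃ c, c ≠ f0 ∧ v c ∈ C[A]) ∨ ∃ c, x * v c ∈ C[A] := by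
  obtain ⟨φ, hφ⟩ := H.fr A hA
  obtain ⟨σ, a1⟩ := act5 hφ (hvA f1)
  obtain ⟨τ, a2⟩ := act5 hφ (hvA fw)
  obtain ⟨π, a3⟩ := act5 hφ hx
  have a4 : Act φ (v (f1 + fw)) (σ * τ) := hv.add f1 fw ▸ a1.mul a2
  rcases p_three σ (a1.sq hφ n4 (hv.sq _ ▸ one_mem _)) τ (a2.sq hφ n4 (hv.sq _ ▸ one_mem _))
    (a1.comm2 hφ n4 a2 (hv.comm _ _)) π (a3.sq hφ n4 (x2 ▸ one_mem _)) (a3.comm2 hφ n4 a1 (hc _))
    (a3.comm2 hφ n4 a2 (hc _)) with e | e | e | e | e | e | e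
  · exact Or.inl ⟨f1, by decide, Act.mem_C hφ (e ▸ a1)⟩
  · exact Or.inl ⟨fw, by decide, Act.mem_C hφ (e ▸ a2)⟩
  · exact Or.inl ⟨f1 + fw, by decide, Act.mem_C hφ (e ▸ a4)⟩
  · exact Or.inr ⟨f0, by rw [hv.zero, mul_one]; exact Act.mem_C hφ (e ▸ a3)⟩
  · exact Or.inr ⟨f1, Act.mem_C hφ (e ▸ a3.mul a1)⟩
  · exact Or.inr ⟨fw, Act.mem_C hφ (e ▸ a3.mul a2)⟩
  · exact Or.inr ⟨f1 + fw, Act.mem_C hφ (e ▸ a3.mul a4)⟩

theorem sq_inner (hA : P A) (hx : x ∈ N[A]) : ∃ y ∈ A, x * x * y ∈ C[A] := by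
  obtain ⟨φ, hφ⟩ := H.fr A hA
  obtain ⟨σ, a1⟩ := act5 hφ hx
  exact ⟨φ (σ * σ)⁻¹, hφ.mem (ev_sq σ).inv, Act.mem_C hφ
    (mul_inv_cancel (σ * σ) ▸ (a1.mul a1).mul (hφ.act (ev_sq σ).inv))⟩

end Hyp

end H20.SB
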