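import Mathlib
import Cfsg.Agent.H20.SB2

/-!
# The local configuration
-/

set_option autoImplicit false
set_option maxRecDepth 100000
set_option linter.all false

namespace H20.SB

open Cfsg H24 H26 H26.Gold Subgroup H5.SA F4
open H23.TC (R2 exists_norm_lt conj_of_comm comm_of_conj inv_sq)

universe u

variable {G : Type u} [Group G] [Finite G] {P : Subgroup G → Prop} {A B C U : Subgroup G}
  {r v : F4 → G} {g h t x y z : G} {a b c : F4}

/-- a point and two four-groups -/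
structure C0 (P : Subgroup G → Prop) (A : Subgroup G) (r v : F4 → G) : Prop where
  H : Hyp P
  pA : P A
  hr : Hm r
  hv : Hm v
  rK : ∀ a, r a ∈ C[A]
  vA : ∀ c, v c ∈ A

/-- two points and two four-groups -/
structure Cf (P : Subgroup G → Prop) (A B : Subgroup G) (r v : F4 → G) : Prop
    extends C0 P A r v where
  pB : P B
  ne : A ≠ B
  tK : ∀ a, r a * v a ∈ C[B]

theorem Hyp.exists_cf (H : Hyp P) (hA : P A) (hB : P B) (hne : A ≠ B) (hT : R2 (C[B] ⊓ N[A])) :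
    ∃ r v, Cf P A B r v := by
  obtain ⟨s, hs, t, ht, s2, t2, s1, t1, st, hc⟩ := hT
  obtain ⟨x, x0, x2, x1, x3⟩ := H.inner hA hB hne hs.1 ht.1 hs.2 ht.2 s2 t2 s1 t1 st hc
  obtain ⟨y, y0, y2, y1, y3⟩ := H.inner hA hB hne ht.1 hs.1 ht.2 hs.2 t2 s2 t1 s1 st.symm hc.symm
  have sx : s * x = x * s := H.comm_inner hA hs.2 rfl x0 x3
  have sy : s * y = y * s := H.comm_inner hA hs.2 hc y0 y3
  have tx : t * x = x * t := H.comm_inner hA ht.2 hc.symm x0 x3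
  have ty : t * y = y * t := H.comm_inner hA ht.2 rfl y0 y3
  have xy : x * y = y * x := by
    have := mem_C'.1 x3 y y0
    rw [mul_assoc, ← mul_assoc y, ← sy, mul_assoc] at this
    exact mul_left_cancel this
  have st2 := H23.TC.sq_mul s2 t2 hc
  have st1 : s * t ≠ 1 := fun c => st (by rw [← inv_sq t2]; exact mul_eq_one_iff_eq_inv.1 c)
  have e1 : s * x * (t * y) = s * t * (x * y) := by
    rw [mul_assoc, ← mul_assoc x, ← tx]; group
  have nd : ∀ {w z}, w ∈ C[B] → w * w = 1 → w ≠ 1 → z ∈ A → w * z ≠ 1 := fun {w z} a1 a2 a3 a4 e =>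
    H.nd A hA w (by rw [mul_eq_one_iff_eq_inv.1 e]; exact inv_mem a4) ⟨a2, a3, B, hB, a1⟩
  have xy' : x ≠ y := by
    rintro rfl
    refine st1 (H.te1 hA hB hne ?_ (mul_mem hs.1 ht.1) st2)
    have := mul_mem x3 y3
    rwa [e1, x2, mul_one] at this
  have hv := hm_lin x2 y2 x1 y1 xy' xy
  have hr := hm_lin (H23.TC.sq_mul s2 x2 sx) (H23.TC.sq_mul t2 y2 ty) (nd hs.1 s2 s1 x0)
    (nd ht.1 t2 t1 y0) (fun e => nd (mul_mem hs.1 ht.1) st2 st1 (mul_mem x0 y0) (by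
      rw [← e1, e]; exact H23.TC.sq_mul t2 y2 ty)) (by
      rw [e1, hc, xy, mul_assoc t y, ← mul_assoc y, ← sy]; group)
  refine ⟨_, _, ⟨H, hA, hr, hv, fun a => ?_, fun a => ?_⟩, hB, hne, fun a => ?_⟩ <;> cases a
  exacts [one_mem _, x3, y3, mul_mem x3 y3, one_mem _, x0, y0, mul_mem x0 y0,
    by simp only [lin, mul_one]; exact one_mem _,
    by simp only [lin, mul_assoc, x2, mul_one]; exact hs.1,
    by simp only [lin, mul_assoc, y2, mul_one]; exact ht.1,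
    by simp only [lin, e1]; rw [mul_assoc, H23.TC.sq_mul x2 y2 xy, mul_one]; exact mul_mem hs.1 ht.1]

/-- `x` acts on `E` as a transvection-like map -/
def Tv (r v : F4 → G) (x : G) (b : F4) : Prop :=
  (∀ c, x * v c = v c * x) ∧ ∀ a, x * r a * x⁻¹ = r a * v (a * b)

namespace C0

variable (K : C0 P A r v)
include K

theorem rv (a c : F4) : r a * v c = v c * r a := mem_C'.1 (K.rK a) _ (K.vA c)

theorem mulE (a c a' c' : F4) : r a * v c * (r a' * v c') = r (a + a') * v (c + c') := by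
  rw [K.hr.add, K.hv.add, mul_assoc, ← mul_assoc (v c), ← K.rv]; group

theorem commE (a c a' c' : F4) : r a * v c * (r a' * v c') = r a' * v c' * (r a * v c) := by
  rw [K.mulE, K.mulE, (by clear_aux_decl; clear * -; decide +revert : a + a' = a' + a),
    (by clear_aux_decl; clear * -; decide +revert : c + c' = c' + c)]

theorem sqE (a c : F4) : r a * v c * (r a * v c) = 1 := H23.TC.sq_mul (K.hr.sq a) (K.hv.sq c) (K.rv a c)

theorem eqE {a' c' : F4} (e : r a * v c = r a' * v c') : a = a' ∧ c = c' := by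
  have h1 : r (a + a') * v (c + c') = 1 := by rw [← K.mulE, e, K.sqE]
  have h2 := K.hv.inj _ (K.H.inf K.pA (K.vA (c + c')) (by
    rw [eq_inv_of_mul_eq_one_right h1]; exact inv_mem (K.rK _)))
  rw [h2, K.hv.zero, mul_one] at h1
  have h3 := K.hr.inj _ h1
  revert h2 h3; clear_aux_decl; clear * -; decide +revert

theorem neE (ha : a ≠ f0) : r a * v c ≠ 1 := fun e =>
  ha (K.eqE (a' := f0) (c' := f0) (by rw [e, K.hr.zero, K.hv.zero, mul_one])).1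

theorem nA (ha : a ≠ f0) (hx : x * r a = r a * x) : x ∈ N[A] :=
  K.H.cN K.pA (K.rK a) (K.hr.sq _) (K.hr.ne ha) hx

theorem r_eq (a : F4) : r a = r a * v f0 := by rw [K.hv.zero, mul_one]
theorem v_eq (c : F4) : v c = r f0 * v c := by rw [K.hr.zero, one_mul]

theorem commx (hr : ∀ a, x * r a = r a * x) (hc : ∀ c, x * v c = v c * x) (a c : F4) :
    x * (r a * v c) = r a * v c * x := by rw [← mul_assoc, hr, mul_assoc, hc, mul_assoc]

theorem tv_mul {b' : F4} (h1 : Tv r v x b) (h2 : Tv r v y b') : Tv r v (x * y) (b + b') :=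
  ⟨fun c => by rw [mul_assoc, h2.1, ← mul_assoc, h1.1, mul_assoc], fun a => by
    rw [show x * y * r a * (x * y)⁻¹ = x * (y * r a * y⁻¹) * x⁻¹ by group, h2.2, H23.TC.conj_mul, h1.2,
      conj_of_comm (h1.1 _), mul_assoc, ← K.hv.add,
      (by clear_aux_decl; clear * -; decide +revert : a * b + a * b' = a * (b + b'))]⟩

theorem tv_inv (h1 : Tv r v x b) : Tv r v x⁻¹ b :=
  ⟨fun c => by rw [inv_mul_eq_iff_eq_mul, ← mul_assoc, h1.1]; group, fun a => by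
    have := h1.2 a
    rw [mul_inv_eq_iff_eq_mul, mul_assoc, ← h1.1, ← mul_assoc] at this
    rw [inv_inv, mul_assoc, inv_mul_eq_iff_eq_mul, ← mul_assoc, this, mul_assoc (r a * x), K.hv.sq,
      mul_one]⟩

theorem tv_zero : Tv r v x f0 ↔ (∀ a, x * r a = r a * x) ∧ ∀ c, x * v c = v c * x := by
  have : ∀ a, r a * v (a * f0) = r a := fun a => by
    rw [(by clear_aux_decl; clear * -; decide +revert : a * f0 = f0), ← K.r_eq]
  simp only [Tv, this, mul_inv_eq_iff_eq_mul]; exact and_comm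

theorem tv_E (a c : F4) : Tv r v (r a * v c) f0 :=
  K.tv_zero.2 ⟨fun a' => by rw [K.r_eq a', K.commE], fun c' => by rw [K.v_eq c', K.commE]⟩

theorem tv_uniq {b' : F4} (h1 : Tv r v x b) (h2 : Tv r v x b') : b = b' := by
  have := (K.eqE ((h1.2 f1).symm.trans (h2.2 f1))).2
  revert this; clear_aux_decl; clear * -; decide +revert

theorem tv_conj {l : F4} (hl : l ≠ f0) (g1 : ∀ a, g * r a = r a * g)
    (g2 : ∀ c, g * v c * g⁻¹ = v (l * c)) (h1 : Tv r v x b) : Tv r v (g * x * g⁻¹) (l * b) :=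
  ⟨fun c => by
    rw [← (by revert hl; clear_aux_decl; clear * -; decide +revert : l * (l.bar * c) = c), ← g2]
    exact H23.TC.conj_comm (h1.1 _) g, fun a => by
    rw [← conj_of_comm (g1 a), show g * x * g⁻¹ * (g * r a * g⁻¹) * (g * x * g⁻¹)⁻¹ =
      g * (x * r a * x⁻¹) * g⁻¹ by group, h1.2, H23.TC.conj_mul, g2,
      (by clear_aux_decl; clear * -; decide +revert : l * (a * b) = a * (l * b))]⟩

end C0

namespace Cf

variable (K : Cf P A B r v)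
include K

theorem dE (ha : a ≠ f0) (c : F4) : DD P (r a * v c) := by
  by_cases hc : c = f0
  · exact ⟨K.sqE _ _, K.neE ha, A, K.pA, by rw [hc, K.hv.zero, mul_one]; exact K.rK a⟩
  obtain ⟨h, h1, -, h2⟩ := K.H.exists_h K.pA K.hv K.vA
  have := DD.conj K.H.toGeo ⟨K.sqE a a, K.neE ha, B, K.pB, K.tK a⟩ (hh h (c * a.bar))
  rwa [H23.TC.conj_mul, hh_conj h2 (by revert ha hc; clear_aux_decl; clear * -; decide +revert),
    conj_of_comm (mem_C'.1 (K.rK a) _ (hh_mem h1 _)).symm,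
    (by revert ha; clear_aux_decl; clear * -; decide +revert : c * a.bar * a = c)] at this

theorem nB (hx : x * (r f1 * v f1) = r f1 * v f1 * x) : x ∈ N[B] :=
  K.H.cN K.pB (K.tK f1) (K.sqE _ _) (K.neE (by decide)) hx

theorem vB (a : F4) : v a ∈ B := by
  by_cases ha : a = f0
  · rw [ha, K.hv.zero]; exact one_mem _
  have n1 : ∀ a, r a ∈ N[B] := fun a => K.nB (by rw [K.r_eq a, K.commE])
  obtain ⟨y, y0, y2, y1, y3⟩ := K.H.inner K.pB K.pA K.ne.symm (K.rK a) (K.rK (fw * a)) (n1 _) (n1 _)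
    (K.hr.sq _) (K.hr.sq _) (K.hr.ne ha) (K.hr.ne (by revert ha; clear_aux_decl; clear * -; decide +revert))
    (fun e => absurd (K.hr.eq e) (by revert ha; clear_aux_decl; clear * -; decide +revert)) (K.hr.comm _ _)
  have c1 : r a * y = y * r a := K.H.comm_inner K.pB (n1 a) rfl y0 y3
  have c2 : ∀ c, r a * y * (r c * v c) = r c * v c * (r a * y) := fun c => by
    rw [mul_assoc, ← mem_C'.1 (K.tK c) y y0, ← mul_assoc, ← mul_assoc (r c * v c), K.r_eq a, K.commE]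
  have n2 : r a * y ∈ N[A] := K.nA ha (by rw [mul_assoc, ← c1])
  obtain ⟨c, hc⟩ := K.H.cent K.pA K.hv K.vA n2 fun c => K.H.comm_inner K.pA n2 (c2 c) (K.vA c) (by
    rw [mul_assoc, K.hv.sq, mul_one]; exact K.rK c)
  have e := K.H.te1 K.pA K.pB K.ne (u := r a * y * (r c * v c)) (by
    rw [K.rv c c, ← mul_assoc]; exact mul_mem hc (K.rK c)) (mul_mem y3 (K.tK c))
    (H23.TC.sq_mul (H23.TC.sq_mul (K.hr.sq a) y2 c1) (K.sqE c c) (c2 c))
  have e' : y = r (a + c) * v c := by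
    rw [mul_eq_one_iff_eq_inv, inv_sq (K.sqE c c)] at e
    rw [K.hr.add, mul_assoc, ← e, ← mul_assoc, K.hr.sq, one_mul]
  by_cases hac : a + c = f0
  · rw [hac, ← K.v_eq, ← (by revert hac; clear_aux_decl; clear * -; decide +revert : a = c)] at e'
    exact e' ▸ y0
  · exact absurd (e' ▸ K.dE hac c) (K.H.nd B K.pB y y0)

theorem centB (hx : x * (r f1 * v f1) = r f1 * v f1 * x) (hc : ∀ c, x * v c = v c * x) :
    ∃ a, x * r a ∈ C[B] := by
  obtain ⟨a, ha⟩ := K.H.cent K.pB K.hv K.vB (K.nB hx) hc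
  refine ⟨a, ?_⟩
  have := mul_mem ha (K.tK a)
  rwa [K.rv, mul_assoc, ← mul_assoc (v a), K.hv.sq, one_mul] at this

theorem sylR : Syl 2 C[A] K.hr.sub := by
  refine syl_of_max p2 K.hr.two (K.hr.le K.rK) fun U h1 h2 h3 => by_contra fun h4 => ?_
  obtain ⟨s, s1, s2, s3⟩ := exists_norm_lt h1 h2 h4
  have sv : ∀ c, s * v c = v c * s := fun c => mem_C'.1 (h3 s1) _ (K.vA c)
  obtain ⟨l, hl, σ, e⟩ := K.hr.act s2
  cases σ
  · have c1 := K.hr.lin2 hl (h1.piElt s1) e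
    obtain ⟨a, ha⟩ := K.centB (x := s) (by rw [← mul_assoc, c1, mul_assoc, sv, mul_assoc]) sv
    have := K.H.two K.pA K.pB K.ne (mul_mem (h3 s1) (K.rK a)) ha
      (h1.piElt (mul_mem s1 (h2 (K.hr.mem a))))
    exact s3 (by rw [eq_inv_of_mul_eq_one_left this]; exact inv_mem (K.hr.mem a))
  · obtain ⟨a, a1, a2, b, b1⟩ : ∃ a, a ≠ f0 ∧ l * sg true a = a ∧ ∃ b, l * sg true b + b ≠ f0 := by
      revert hl; clear_aux_decl; clear * -; decide +revert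
    have c1 : ∀ a c, s * (r a * v c) * s⁻¹ = r (l * sg true a) * v c := fun a c => by
      rw [H23.TC.conj_mul, e, conj_of_comm (sv c)]
    have n1 : s ∈ N[B] := K.H.cjN K.pB (K.tK a) (K.sqE _ _) (K.neE a1) (by rw [c1, a2]; exact K.tK a)
    have := mul_mem (K.tK (l * sg true b)) (cC n1 (K.tK b))
    rw [c1, K.mulE, (by generalize l * sg true b = d; clear_aux_decl; clear * -; decide +revert :
      l * sg true b + l * sg true b = f0), ← K.v_eq] at this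
    exact b1 (K.hv.inj _ (K.H.inf K.pB (K.vB _) this))

theorem cE (hr : ∀ a, x * r a = r a * x) (hc : ∀ c, x * v c = v c * x) :
    ∃ a c, x * (r a * v c) ∈ C[A] ⊓ C[B] := by
  obtain ⟨c, h1⟩ := K.H.cent K.pA K.hv K.vA (K.nA (a := f1) (by decide) (hr _)) hc
  obtain ⟨a, h2⟩ := K.centB (x := x * v c) (by
    rw [mul_assoc, K.v_eq c, K.commE, ← mul_assoc, K.commx hr hc, mul_assoc])
    (fun c' => by rw [mul_assoc, K.hv.comm, ← mul_assoc, hc, mul_assoc])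
  exact ⟨a, c, by rw [K.rv, ← mul_assoc]; exact ⟨mul_mem h1 (K.rK a), h2⟩⟩

theorem inE (h2 : TwoE x) (hr : ∀ a, x * r a = r a * x) (hc : ∀ c, x * v c = v c * x) :
    ∃ a c, x = r a * v c := by
  obtain ⟨a, c, h⟩ := K.cE hr hc
  have := K.H.two K.pA K.pB K.ne h.1 h.2 (h2.mul (twoE_of_sq (K.sqE a c)) (K.commx hr hc a c))
  exact ⟨a, c, by rw [eq_inv_of_mul_eq_one_left this, inv_sq (K.sqE a c)]⟩

theorem tv_sq (h1 : Tv r v x b) (h2 : TwoE x) : ∃ c, x * x = v c := by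
  by_cases hb : b = f0
  · obtain ⟨a, c, rfl⟩ := K.inE h2 (K.tv_zero.1 (hb ▸ h1)).1 h1.1
    exact ⟨f0, by rw [K.sqE, K.hv.zero]⟩
  have h3 := K.tv_zero.1 ((by clear_aux_decl; clear * -; decide +revert : b + b = f0) ▸ K.tv_mul h1 h1)
  obtain ⟨a, c, e⟩ := K.inE (h2.mul h2 rfl) h3.1 h3.2
  have h4 : x * (r a * v c) * x⁻¹ = r a * v c := by rw [← e]; group
  rw [H23.TC.conj_mul, h1.2, conj_of_comm (h1.1 c), mul_assoc, ← K.hv.add] at h4
  have h5 := (K.eqE h4).2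
  exact ⟨c, by rw [e, (by revert hb h5; clear_aux_decl; clear * -; decide +revert : a = f0), ← K.v_eq]⟩

/-- the group `M` -/
def Mq (O : Subgroup G) : Subgroup G where
  carrier := {x | x ∈ C[O] ∧ ∃ b, Tv r v x b}
  one_mem' := ⟨one_mem _, f0, K.tv_zero.2 ⟨by simp, by simp⟩⟩
  mul_mem' := fun ⟨h1, _, h2⟩ ⟨h3, _, h4⟩ => ⟨mul_mem h1 h3, _, K.tv_mul h2 h4⟩
  inv_mem' := fun ⟨h1, _, h2⟩ => ⟨inv_mem h1, _, K.tv_inv h2⟩

/-- the odd part -/
def O : Subgroup G := C[A] ⊓ C[B] ⊓ C[K.hr.sub]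

theorem O_tv (hz : z ∈ K.O) : Tv r v z f0 :=
  K.tv_zero.2 ⟨fun a => mem_C'.1 hz.2 _ (K.hr.mem a), fun c => mem_C'.1 hz.1.1 _ (K.vA c)⟩

theorem O_odd : OddG K.O := (K.H.odd_inf K.pA K.pB K.ne).inf_left _

theorem E_O (a c : F4) : r a * v c ∈ C[K.O] := mem_C.2 fun z hz =>
  K.commx (K.tv_zero.1 (K.O_tv hz)).1 (K.O_tv hz).1 a c

theorem cE' (h : Tv r v x f0) : ∃ a c, ∃ z ∈ K.O, x = r a * v c * z := by
  have h' := K.tv_zero.1 h
  obtain ⟨a, c, e⟩ := K.cE h'.1 h'.2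
  refine ⟨a, c, _, ⟨e, mem_C'.2 ?_⟩, by rw [K.commx h'.1 h'.2, ← mul_assoc, K.sqE, one_mul]⟩
  rintro _ ⟨a', rfl⟩
  exact (K.tv_zero.1 (K.tv_mul h (K.tv_E a c))).1 a'

theorem two_mul (hx : x ∈ K.Mq K.O) (hy : y ∈ K.Mq K.O) (x2 : TwoE x) (y2 : TwoE y) :
    TwoE (x * y) := by
  obtain ⟨S, hS⟩ := Sylow_exists p2 (K.Mq K.O)
  have h1 : K.O ⊓ C[K.O] ≤ K.Mq K.O := fun z hz => ⟨hz.2, f0, K.O_tv hz.1⟩
  have h2 : K.Mq K.O ≤ C[K.O ⊓ C[K.O]] := fun x hx => mem_C'.2 fun z hz => mem_C'.1 hx.1 z hz.1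
  have h3 : K.Mq K.O ≤ N[K.O ⊓ C[K.O]] := h2.trans (C_le_N _)
  have h4 := hS.isProd_of_idx h1 ((isPi_quo_iff h3).1 (isPi_iff_piElt.2 fun w hw => by
    obtain ⟨x, x1, x2, rfl⟩ := mem_quo.1 hw
    obtain ⟨b, hb⟩ := x1.2
    obtain ⟨a, c, z, z1, e⟩ := K.cE' ((by clear_aux_decl; clear * -; decide +revert : b + b = f0) ▸ K.tv_mul hb hb)
    have z2 : z ∈ C[K.O] := (mul_mem_cancel_left (K.E_O a c)).1 (e ▸ mul_mem x1.1 x1.1)
    refine H23.TC.twoE_of_sq2 (twoE_of_sq ?_)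
    rw [← ap_mul _ x2 x2, ← ap_mul _ (mul_mem x2 x2) (mul_mem x2 x2), e,
      H23.TC.sq_mul_comm (mem_C'.1 (K.E_O a c) z z1), K.sqE, one_mul]
    exact (cs_eq_one (h3 (h1 (mul_mem ⟨z1, z2⟩ ⟨z1, z2⟩)))).2 (mul_mem ⟨z1, z2⟩ ⟨z1, z2⟩)))
  have h5 : K.Mq K.O ≤ N[S] := fun w hw => by
    obtain ⟨s, s1, z, z1, rfl⟩ := h4.mul w hw
    exact mul_mem (norm_self S s1) (C_le_N S (mem_C.2 fun s hs => mem_C'.1 (h2 (hS.le hs)) z z1))
  exact hS.pi.piElt (mul_mem (hS.mem_of_nml h5 x2 hx) (hS.mem_of_nml h5 y2 hy))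

theorem exists_q : ∃ h ∈ A, h * h * h = 1 ∧ (∀ c, h * v c * h⁻¹ = v (fw * c)) ∧ ∃ q ∈ C[K.O],
    ∃ b, b ≠ f0 ∧ Tv r v q b ∧ (∃ c, q * q = v c) ∧ q * (h * q * h⁻¹) = h * q * h⁻¹ * q ∧
      q * (h * q * h⁻¹) * (h * (h * q * h⁻¹) * h⁻¹) = 1 := by
  obtain ⟨h, h1, h3, h2⟩ := K.H.exists_h K.pA K.hv K.vA
  obtain ⟨k, k1, -, k2⟩ := K.H.exists_h K.pB K.hv K.vB
  have hr : ∀ a, h * r a = r a * h := fun a => (mem_C'.1 (K.rK a) h h1).symm
  have hO : h ∈ C[K.O] := mem_C.2 fun z hz => mem_C'.1 hz.1.1 h h1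
  have m1 : Tv r v (k * h⁻¹) fv := ⟨fun c => by
    rw [← (by clear_aux_decl; clear * -; decide +revert : fw * (fv * c) = c)]
    nth_rw 1 [← h2]
    rw [← k2]; group, fun a => by
    have := conj_of_comm (mem_C'.1 (K.tK a) k k1).symm
    rw [H23.TC.conj_mul, k2] at this
    rw [show k * h⁻¹ * r a * (k * h⁻¹)⁻¹ = k * (h⁻¹ * (r a * h)) * k⁻¹ by group, ← hr,
      inv_mul_cancel_left, eq_mul_inv_of_mul_eq this, K.hv.inv, mul_assoc, ← K.hv.add,
      (by clear_aux_decl; clear * -; decide +revert : a + fw * a = a * fv)]⟩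
  have m2 : k * h⁻¹ ∈ K.Mq K.O :=
    ⟨mul_mem (mem_C.2 fun z hz => mem_C'.1 hz.1.2 k k1) (inv_mem hO), _, m1⟩
  obtain ⟨y, z, y2, z2, y1, z1, e⟩ := exists_piElt_decomp {2} (k * h⁻¹)
  have y3 := zpowers_le.2 m2 y1
  obtain ⟨b, hb⟩ := y3.2
  obtain ⟨b', hb'⟩ := (zpowers_le.2 m2 z1).2
  have z3 : z ∈ C[K.hr.sub] := H7.SJ.mem_of_odd z2 (mem_C'.2 (by
    rintro _ ⟨a, rfl⟩
    exact (K.tv_zero.1 ((by clear_aux_decl; clear * -; decide +revert : b' + b' = f0) ▸ K.tv_mul hb' hb')).1 a))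
  have b1 := K.tv_uniq m1 (e ▸ K.tv_mul hb (K.tv_zero.2 ⟨fun a => mem_C'.1 z3 _ (K.hr.mem a), hb'.1⟩))
  have cj : ∀ {x b}, Tv r v x b → Tv r v (h * x * h⁻¹) (fw * b) := K.tv_conj (by decide) hr h2
  have cm : ∀ {x}, x ∈ K.Mq K.O → h * x * h⁻¹ ∈ K.Mq K.O := fun hx =>
    ⟨H23.TC.cmem hO hx.1, _, cj hx.2.choose_spec⟩
  have q0 := mul_mem (inv_mem y3) (cm y3)
  have q1 := K.tv_mul (K.tv_inv hb) (cj hb)
  have q2 := K.two_mul (inv_mem y3) (cm y3) y2.inv (y2.conj h)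
  have q3 : y⁻¹ * (h * y * h⁻¹) * (h * (y⁻¹ * (h * y * h⁻¹)) * h⁻¹) *
      (h * (h * (y⁻¹ * (h * y * h⁻¹)) * h⁻¹) * h⁻¹) = 1 := by
    rw [show y⁻¹ * (h * y * h⁻¹) * (h * (y⁻¹ * (h * y * h⁻¹)) * h⁻¹) *
      (h * (h * (y⁻¹ * (h * y * h⁻¹)) * h⁻¹) * h⁻¹) = y⁻¹ * (h * h * h) * y * (h * h * h)⁻¹ by group, h3]
    group
  generalize y⁻¹ * (h * y * h⁻¹) = q at q0 q1 q2 q3
  obtain ⟨c, q4⟩ := K.tv_sq q1 q2
  refine ⟨h, h1, h3, h2, q, q0.1, _, by revert b1; clear_aux_decl; clear * -; decide +revert, q1, ⟨c, q4⟩, ?_, q3⟩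
  have s1 : h * q * h⁻¹ * (h * q * h⁻¹) = v (fw * c) := by rw [← H23.TC.conj_mul, q4, h2]
  have s2 : h * (h * q * h⁻¹) * h⁻¹ * (h * (h * q * h⁻¹) * h⁻¹) = v (fw * (fw * c)) := by
    rw [← H23.TC.conj_mul, s1, h2]
  have s3 := (cj q1).1
  generalize h * q * h⁻¹ = p at *
  rw [← eq_inv_iff_mul_eq_one] at q3
  have s4 : q * p * (q * p) = v (fw * (fw * c)) := by
    rw [q3, ← mul_inv_rev, s2, K.hv.inv]
  have s5 : q * q * (p * p) = v (fw * (fw * c)) := by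
    rw [q4, s1, ← K.hv.add, (by clear_aux_decl; clear * -; decide +revert : c + fw * c = fw * (fw * c))]
  rw [← s5] at s4
  have : q * (p * q) * p = q * (q * p) * p := by simpa only [mul_assoc] using s4
  exact (mul_left_cancel (mul_right_cancel this)).symm

end Cf

end H20.SB
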