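import Mathlib
import Cfsg.Agent.H20.SB3

/-!
# The group of order `64`
-/

set_option autoImplicit false
set_option maxRecDepth 100000
set_option linter.all false

namespace H20.SB

open Cfsg H24 H26 H26.Gold Subgroup H5.SA F4
open H23.TC (R2 exists_norm_lt conj_of_comm comm_of_conj inv_sq)

universe u

variable {G : Type u} [Group G] [Finite G] {P : Subgroup G → Prop} {A B C U : Subgroup G}
  {r v : F4 → G} {g h q t x y z : G} {a b c : F4} {ε : Bool}

/-- the local structure -/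
structure Loc (P : Subgroup G → Prop) (A : Subgroup G) (f : Qm ε →* G) (h : G) : Prop where
  H : Hyp P
  pA : P A
  inj : Function.Injective f
  rK : ∀ a, f (ρ a) ∈ C[A]
  vA : ∀ c, f (ν c) ∈ A
  hA : h ∈ A
  h3 : h * h * h = 1
  hη : ∀ n, h * f n * h⁻¹ = f (η fw n)
  cE : ∀ x, (∀ a, x * f (ρ a) = f (ρ a) * x) → (∀ c, x * f (ν c) = f (ν c) * x) →
    ∃ a c z, OddE z ∧ (∀ n, z * f n = f n * z) ∧ x = f (ρ a * ν c) * z

/-- the conjugates of `q` -/
def kq (h q : G) : F4 → G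
  | f0 => 1 | f1 => q | fw => h * q * h⁻¹ | fv => h * (h * q * h⁻¹) * h⁻¹

theorem C0.mk_loc (K : C0 P A r v) (ε : Bool) (hA : h ∈ A) (h3 : h * h * h = 1)
    (h2 : ∀ c, h * v c * h⁻¹ = v (fw * c)) (tq : Tv r v q f1) (q2 : q * q = v (Qm.tw ε f1))
    (c12 : q * (h * q * h⁻¹) = h * q * h⁻¹ * q)
    (p3 : q * (h * q * h⁻¹) * (h * (h * q * h⁻¹) * h⁻¹) = 1)
    (cE : ∀ x, Tv r v x f0 → ∃ a c z, OddE z ∧ Tv r v z f0 ∧ z * q = q * z ∧ z * h = h * z ∧
      x = r a * v c * z) : ∃ f : Qm ε →* G, Loc P A f h := by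
  have hr : ∀ a, h * r a = r a * h := fun a => (mem_C'.1 (K.rK a) h hA).symm
  have cj : ∀ {x b}, Tv r v x b → Tv r v (h * x * h⁻¹) (fw * b) := K.tv_conj (by decide) hr h2
  have t1 : Tv r v 1 f0 := K.tv_zero.2 ⟨by simp, by simp⟩
  have tk : ∀ b, Tv r v (kq h q b) b := fun b => by
    cases b
    exacts [t1, tq, cj tq, cj (cj tq)]
  have hk : ∀ b, h * kq h q b * h⁻¹ = kq h q (fw * b) := fun b => by
    cases b
    · show h * 1 * h⁻¹ = 1; group
    · rfl
    · rfl
    · show h * (h * (h * q * h⁻¹) * h⁻¹) * h⁻¹ = q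
      rw [show h * (h * (h * q * h⁻¹) * h⁻¹) * h⁻¹ = h * h * h * q * (h * h * h)⁻¹ by group, h3]; group
  have cs : ∀ {b b'}, kq h q b * kq h q b' = kq h q (b + b') * v (Qm.tw ε (b * b').bar) →
      kq h q (fw * b) * kq h q (fw * b') =
        kq h q (fw * b + fw * b') * v (Qm.tw ε (fw * b * (fw * b')).bar) := fun {b b'} e => by
    rw [← hk, ← hk, ← H23.TC.conj_mul, e, H23.TC.conj_mul, hk, h2,
      (by clear_aux_decl; clear * -; decide +revert : fw * (b + b') = fw * b + fw * b'),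
      (by clear_aux_decl; clear * -; decide +revert : fw * Qm.tw ε (b * b').bar = Qm.tw ε (fw * b * (fw * b')).bar)]
  have s11 : kq h q f1 * kq h q f1 = kq h q (f1 + f1) * v (Qm.tw ε (f1 * f1).bar) :=
    q2.trans (one_mul _).symm
  have svv := cs (cs s11)
  have s1w : kq h q f1 * kq h q fw = kq h q (f1 + fw) * v (Qm.tw ε (f1 * fw).bar) := by
    refine (eq_inv_of_mul_eq_one_left p3).trans (inv_eq_of_mul_eq_one_right ?_)
    have : kq h q fv * kq h q fv = 1 * v (Qm.tw ε fv) := svv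
    show kq h q fv * (kq h q fv * v (Qm.tw ε fv)) = 1
    rw [← mul_assoc, this, one_mul, K.hv.sq]
  have sw1 : kq h q fw * kq h q f1 = kq h q (fw + f1) * v (Qm.tw ε (fw * f1).bar) := c12.symm.trans s1w
  have z0 : v (Qm.tw ε f0) = 1 := by rw [(by clear_aux_decl; clear * -; decide +revert : Qm.tw ε f0 = f0), K.hv.zero]
  have kk : ∀ b b', kq h q b * kq h q b' = kq h q (b + b') * v (Qm.tw ε (b * b').bar) := by
    intro b b'
    cases b <;> cases b'
    exacts [(one_mul _).trans (z0 ▸ (mul_one _).symm), (one_mul _).trans (z0 ▸ (mul_one _).symm),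
      (one_mul _).trans (z0 ▸ (mul_one _).symm), (one_mul _).trans (z0 ▸ (mul_one _).symm),
      z0 ▸ rfl, s11, s1w, cs (cs sw1), z0 ▸ rfl, sw1, cs s11, cs s1w, z0 ▸ rfl, cs (cs s1w),
      cs sw1, svv]
  let f : Qm ε →* G := MonoidHom.mk' (fun n => r n.a * kq h q n.b * v n.c) fun n m => by
    show r (n.a + m.a) * kq h q (n.b + m.b) * v (n.c + m.c + m.a * n.b + Qm.tw ε (n.b * m.b).bar) = _
    have e1 := mul_inv_eq_iff_eq_mul.1 ((tk n.b).2 m.a)
    calc _ = r n.a * r m.a * (kq h q (n.b + m.b) * v (Qm.tw ε (n.b * m.b).bar)) *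
          (v (m.a * n.b) * v n.c * v m.c) := by
          rw [← K.hr.add, ← K.hv.add, ← K.hv.add, mul_assoc _ (_ * _), mul_assoc (kq _ _ _), ← K.hv.add,
            mul_assoc, (by generalize Qm.tw ε _ = d; generalize m.a * n.b = e; generalize n.c = p
                           generalize m.c = q; clear_aux_decl; clear * -; decide +revert :
              n.c + m.c + m.a * n.b + Qm.tw ε (n.b * m.b).bar =
              Qm.tw ε (n.b * m.b).bar + (m.a * n.b + n.c + m.c))]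
      _ = r n.a * (r m.a * v (m.a * n.b) * kq h q n.b) * (kq h q m.b * v n.c) * v m.c := by
          rw [← kk, mul_assoc (r m.a), ← (tk n.b).1]
          simp only [mul_assoc]
          rw [← mul_assoc (kq h q m.b) (v _), (tk m.b).1, mul_assoc]
      _ = _ := by
          rw [← e1, (tk m.b).1]
          simp only [mul_assoc]
          rw [← mul_assoc (r m.a), K.rv, mul_assoc]
  have fr : ∀ a, f (ρ a) = r a := fun a => by
    show r a * 1 * v f0 = r a
    rw [K.hv.zero]; simp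
  have fv' : ∀ c, f (ν c) = v c := fun c => by
    show r f0 * 1 * v c = v c
    rw [K.hr.zero]; simp
  refine ⟨f, K.H, K.pA, (injective_iff_map_eq_one f).2 fun n e => ?_, fun a => fr a ▸ K.rK a,
    fun c => fv' c ▸ K.vA c, hA, h3, fun n => ?_, fun x h1 h2 => ?_⟩
  · replace e : r n.a * kq h q n.b * v n.c = 1 := e
    have a1 := K.tv_mul (K.tv_mul (K.tv_E n.a f0) (tk n.b)) (K.tv_E f0 n.c)
    rw [← K.r_eq, ← K.v_eq, e] at a1
    have a2 : n.b = f0 := by
      have := K.tv_uniq a1 t1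
      revert this; generalize n.b = b; clear_aux_decl; clear * -; decide +revert
    rw [a2, show kq h q f0 = 1 from rfl, mul_one] at e
    have a3 := K.eqE (a' := f0) (c' := f0) (e.trans (by rw [K.hr.zero, K.hv.zero, mul_one]))
    exact Qm.ext a3.1 a2 a3.2
  · show h * (r n.a * kq h q n.b * v n.c) * h⁻¹ = r n.a * kq h q (fw * n.b) * v (fw * n.c)
    rw [H23.TC.conj_mul, H23.TC.conj_mul, hk, h2, conj_of_comm (hr _)]
  · obtain ⟨a, c, z, z1, z2, z3, z4, e⟩ := cE x (K.tv_zero.2 ⟨fun a => fr a ▸ h1 a, fun c => fv' c ▸ h2 c⟩)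
    refine ⟨a, c, z, z1, fun n => mem_C1.1 (mem_C1_comm.1 ?_), by rw [map_mul, fr, fv', e]⟩
    have b1 : q ∈ C{z} := mem_C1.2 z3.symm
    have b2 : h ∈ C{z} := mem_C1.2 z4.symm
    refine mul_mem (mul_mem (mem_C1.2 ((K.tv_zero.1 z2).1 _).symm) ?_) (mem_C1.2 (z2.1 _).symm)
    cases n.b
    exacts [one_mem _, b1, H23.TC.cmem b2 b1, H23.TC.cmem b2 (H23.TC.cmem b2 b1)]

theorem hh_comm (l : F4) : hh h l * h = h * hh h l := by
  cases l <;> simp [hh, mul_assoc]

theorem Cf.exists_loc (K : Cf P A B r v) : ∃ (ε : Bool) (f : Qm ε →* G) (h : G), Loc P A f h := by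
  obtain ⟨h, h1, h3, h2, q, q0, b, b1, q1, ⟨c, q2⟩, q3, q4⟩ := K.exists_q
  obtain ⟨ε, l, m, l1, m1, e1, e2⟩ : ∃ ε l m, l ≠ f0 ∧ m ≠ f0 ∧ l * c = Qm.tw ε f1 ∧
      ∀ a, a * m * (l * b) = a * f1 := by
    revert b1; clear_aux_decl; clear * -; decide +revert
  have hr : ∀ a, hh h l * r a = r a * hh h l := fun a => (mem_C'.1 (K.rK a) _ (hh_mem h1 l)).symm
  have hO : h ∈ C[K.O] := mem_C.2 fun z hz => mem_C'.1 hz.1.1 h h1
  have K' : C0 P A (fun a => r (a * m)) v := ⟨K.H, K.pA, K.hr.scale m1, K.hv, fun a => K.rK _, K.vA⟩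
  have t1 := K.tv_conj l1 hr (hh_conj h2 l1) q1
  have c1 : ∀ x, h * (hh h l * x * (hh h l)⁻¹) * h⁻¹ = hh h l * (h * x * h⁻¹) * (hh h l)⁻¹ :=
    fun x => by
    rw [show h * (hh h l * x * (hh h l)⁻¹) * h⁻¹ = h * hh h l * x * (h * hh h l)⁻¹ by group,
      ← hh_comm]; group
  have z0 : ∀ {x}, Tv (fun a => r (a * m)) v x f0 ↔ Tv r v x f0 := fun {x} => by
    rw [K'.tv_zero, K.tv_zero]
    exact and_congr_left' ⟨fun e a => by
      simpa only [(by revert m1; clear_aux_decl; clear * -; decide +revert : a * m.bar * m = a)] using e (a * m.bar),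
      fun e a => e _⟩
  obtain ⟨f, hf⟩ := K'.mk_loc ε (q := hh h l * q * (hh h l)⁻¹) h1 h3 h2
    ⟨t1.1, fun a => by rw [← e2]; exact t1.2 _⟩
    (by rw [← H23.TC.conj_mul, q2, hh_conj h2 l1, e1])
    (by rw [c1]; exact H23.TC.conj_comm q3 _)
    (by rw [c1, c1, ← H23.TC.conj_mul, ← H23.TC.conj_mul, q4]; group) fun x hx => by
      obtain ⟨a, c, z, z1, e⟩ := K.cE' (z0.1 hx)
      exact ⟨a * m.bar, c, z, K.O_odd.piElt z1, z0.2 (K.O_tv z1),
        mem_C.1 (H23.TC.cmem (hh_mem hO l) q0) z z1, mem_C.1 hO z z1, by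
          simpa only [(by revert m1; clear_aux_decl; clear * -; decide +revert : a * m.bar * m = a)] using e⟩
  exact ⟨ε, f, h, hf⟩

end H20.SB
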