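import Mathlib
import Cfsg.Agent.H20.SB1
import Cfsg.Agent.H20.SB4

/-!
# The normaliser of `E`
-/

set_option autoImplicit false
set_option maxRecDepth 100000
set_option linter.all false

namespace H20.SB

open Cfsg H24 H26 H26.Gold Subgroup H5.SA F4
open H23.TC (R2 exists_norm_lt conj_of_comm comm_of_conj inv_sq cN cN' cmem mem_syl conj_into)

universe u

variable {G : Type u} [Group G] [Finite G] {P : Subgroup G → Prop} {A B C U : Subgroup G}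
  {g h k q t x y z : G} {a b c l : F4} {ε : Bool} {f : Qm ε →* G} {n m : Qm ε}
  {θ θ' : Qm ε → Qm ε}

/-- `g` induces `θ` -/
def Ac (f : Qm ε →* G) (g : G) (θ : Qm ε → Qm ε) : Prop := ∀ n, g * f n * g⁻¹ = f (θ n)

theorem Ac.mul (h1 : Ac f x θ) (h2 : Ac f y θ') : Ac f (x * y) fun n => θ (θ' n) := fun n => by
  rw [← h1, ← h2]; group
theorem Ac.congr (h1 : Ac f x θ) (e : ∀ n, θ n = θ' n) : Ac f x θ' := fun n => e n ▸ h1 n
theorem Ac.inv (h1 : Ac f x θ) (e : ∀ n, θ (θ' n) = n) : Ac f x⁻¹ θ' := fun n => by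
  nth_rw 1 [← e n]
  rw [← h1]; group
theorem ac_self (m : Qm ε) : Ac f (f m) fun n => m * n * m⁻¹ := fun n => by simp
theorem f_conj (m n : Qm ε) : f m * f n * (f m)⁻¹ = f (m * n * m⁻¹) := by simp
theorem ac_one : Ac f 1 fun n => n := fun n => by simp
theorem Ac.memN (h1 : Ac f x θ) : x ∈ N[f.range] :=
  mem_N_of_finite (by rintro _ ⟨n, rfl⟩; exact ⟨_, (h1 n).symm⟩)
theorem Ac.pow (h1 : Ac f x θ) (e : ∀ n, θ (θ n) = n) {j : ℕ} (hj : Odd j) : Ac f (x ^ j) θ := by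
  obtain ⟨i, rfl⟩ := hj
  induction i with
  | zero => simpa using h1
  | succ i ih =>
    rw [show 2 * (i + 1) + 1 = 2 * i + 1 + 1 + 1 by ring, pow_succ, pow_succ]
    exact ((ih.mul h1).mul h1).congr fun n => by rw [e]
theorem Ac.comm (h1 : Ac f x θ) (e : θ n = n) : x * f n = f n * x := comm_of_conj (by rw [h1, e])

theorem ac_ext (θ : Qm ε →* Qm ε) (h1 : g * f (ρ f1) * g⁻¹ = f (θ (ρ f1)))
    (h2 : g * f (ρ fw) * g⁻¹ = f (θ (ρ fw))) (h3 : g * f (κ f1) * g⁻¹ = f (θ (κ f1)))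
    (h4 : g * f (κ fw) * g⁻¹ = f (θ (κ fw))) : Ac f g θ :=
  gen_top (((MulAut.conj g).toMonoidHom.comp f).eqLocus (f.comp θ)) h1 h2 h3 h4

theorem twoE_f (n : Qm ε) : TwoE (f n) :=
  H23.TC.twoE_of_sq2 (twoE_of_sq (by rw [← map_mul, ← map_mul, pow4, map_one]))

theorem two_range : TwoG f.range := isPi_iff_piElt.2 (by rintro _ ⟨n, rfl⟩; exact twoE_f n)
theorem two_map (H : Subgroup (Qm ε)) : TwoG (H.map f) := two_range.of_le (map_le_range _ _)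

theorem memE (hn : n.b = f0) : f n ∈ E0.map f := ⟨n, hn, rfl⟩
theorem memP (hn : n.a = f0) : f n ∈ P0.map f := ⟨n, hn, rfl⟩

theorem exE (hg : g ∈ N[E0.map f]) (hn : n.b = f0) : ∃ m, m.b = f0 ∧ g * f n * g⁻¹ = f m := by
  obtain ⟨m, h1, h2⟩ := cN hg (memE hn)
  exact ⟨m, h1, h2.symm⟩

theorem Ac.memE (h1 : Ac f x θ) (e : ∀ n, n.b = f0 → (θ n).b = f0) : x ∈ N[E0.map f] :=
  mem_N_of_finite (by rintro _ ⟨n, hn, rfl⟩; exact ⟨_, e n hn, (h1 n).symm⟩)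
theorem Ac.memP (h1 : Ac f x θ) (e : ∀ n, n.a = f0 → (θ n).a = f0) : x ∈ N[P0.map f] :=
  mem_N_of_finite (by rintro _ ⟨n, hn, rfl⟩; exact ⟨_, e n hn, (h1 n).symm⟩)

theorem f_NE (m : Qm ε) : f m ∈ N[E0.map f] := (ac_self m).memE (by clear_aux_decl; clear * -; decide +kernel +revert)
theorem f_NP (m : Qm ε) : f m ∈ N[P0.map f] := (ac_self m).memP (by clear_aux_decl; clear * -; decide +kernel +revert)

theorem DD.of_conj (H : Hyp P) (h : DD P (g * x * g⁻¹)) : DD P x := by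
  have := DD.conj H.toGeo h g⁻¹
  rwa [show g⁻¹ * (g * x * g⁻¹) * g⁻¹⁻¹ = x by group] at this

namespace Loc

variable (L : Loc P A f h)
include L

theorem eq : f n = f m ↔ n = m := L.inj.eq_iff
theorem ne (hn : n ≠ 1) : f n ≠ 1 := fun e => hn (L.inj (e.trans f.map_one.symm))

theorem c0 : C0 P A (fun a => f (ρ a)) fun c => f (ν c) :=
  ⟨L.H, L.pA, ⟨fun a b => by rw [ρ_add, map_mul], fun a e => by
    have := L.inj (e.trans f.map_one.symm); revert this; clear_aux_decl; clear * -; decide +revert⟩,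
   ⟨fun a b => by rw [ν_add, map_mul], fun a e => by
    have := L.inj (e.trans f.map_one.symm); revert this; clear_aux_decl; clear * -; decide +revert⟩, L.rK, L.vA⟩

theorem vK (hc : f (ν c) ∈ C[A]) : c = f0 := L.c0.hv.inj c (L.H.inf L.pA (L.vA c) hc)

theorem cf : Cf P A (cj (f (κ f1)) A) (fun a => f (ρ a)) fun c => f (ν c) := by
  have h1 : ∀ a, f (ρ a) * f (ν a) ∈ C[cj (f (κ f1)) A] := fun a => by
    have := conj_mem_cj (f (κ f1)) (L.rK a)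
    rwa [cj_C, f_conj, κρ, (by clear_aux_decl; clear * -; decide +revert : a * f1 = a), map_mul] at this
  refine ⟨L.c0, L.H.cj _ _ L.pA, fun e => ?_, h1⟩
  have := h1 f1
  rw [← e] at this
  exact absurd (L.vK ((mul_mem_cancel_left (L.rK f1)).1 this)) (by decide)

theorem dE (hb : n.b = f0) (ha : n.a ≠ f0) : DD P (f n) := by
  rw [E_eq n hb, map_mul]; exact L.cf.dE ha _

theorem nV (c : F4) : ¬ DD P (f (ν c)) := L.H.nd A L.pA _ (L.vA c)

theorem sylV : Syl 2 A L.c0.hv.sub := L.H.syl_V L.pA _ L.vA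

theorem two_sq (hC : P C) (hk : k ∈ C[C]) (h2 : TwoE k) : k * k = 1 := by
  obtain ⟨g, rfl⟩ := L.H.tr C A hC L.pA
  obtain ⟨x, -, hx⟩ := conj_into L.cf.sylR (by rw [← cj_C]; exact conj_mem_cj g hk) (h2.conj g)
  have := L.c0.hr.ea.sq hx
  rwa [← H23.TC.conj_mul, ← H23.TC.conj_mul, conj_eq_one_iff, conj_eq_one_iff] at this

theorem two_sqA (hC : P C) (hk : k ∈ C) (h2 : TwoE k) : k * k = 1 := by
  obtain ⟨g, rfl⟩ := L.H.tr C A hC L.pA
  obtain ⟨x, -, hx⟩ := conj_into L.sylV (conj_mem_cj g hk) (h2.conj g)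
  have := L.c0.hv.ea.sq hx
  rwa [← H23.TC.conj_mul, ← H23.TC.conj_mul, conj_eq_one_iff, conj_eq_one_iff] at this

theorem four (hC : P C) (hx : x ∈ N[C]) (h2 : TwoE x) : x * x * (x * x) = 1 := by
  obtain ⟨y, y1, y2⟩ := L.H.sq_inner hC hx
  have c1 : x * x * y = y * (x * x) := mul_right_cancel (b := y) (by
    rw [mem_C'.1 y2 y y1, mul_assoc y])
  obtain ⟨j, hj⟩ := (h2.mul h2 rfl).exists_pow p2
  have e : (x * x * y) ^ 2 ^ j = y ^ 2 ^ j := by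
    rw [Commute.mul_pow c1, ← hj, pow_orderOf_eq_one, one_mul]
  have y3 : TwoE y := piElt_of_pow_eq_one (piNat_self_pow p2 j)
    (L.H.inf hC (pow_mem y1 _) (e ▸ pow_mem y2 _))
  have := L.two_sq hC y2 ((h2.mul h2 rfl).mul y3 c1)
  rwa [H23.TC.sq_mul_comm c1, L.two_sqA hC y1 y3, mul_one] at this

theorem ach (hl : l ≠ f0) : Ac f (hh h l) (η l) := by
  cases l
  · exact absurd rfl hl
  · exact ac_one.congr (by clear_aux_decl; clear * -; decide +kernel +revert)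
  · exact L.hη
  · exact (Ac.mul L.hη L.hη).congr (by clear_aux_decl; clear * -; decide +kernel +revert)

theorem hh_NE (l : F4) : hh h l ∈ N[E0.map f] :=
  hh_mem (Ac.memE L.hη (by clear_aux_decl; clear * -; decide +kernel +revert)) l

theorem NV (hg : g ∈ N[E0.map f]) (c : F4) : ∃ c', g * f (ν c) * g⁻¹ = f (ν c') := by
  obtain ⟨m, h1, h2⟩ := exE hg (n := ν c) rfl
  by_cases h3 : m.a = f0
  · exact ⟨_, h2.trans (congrArg f (V_eq m h3 h1))⟩
  · exact absurd (DD.of_conj L.H (h2 ▸ L.dE h1 h3)) (L.nV c)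

theorem actV (hg : g ∈ N[E0.map f]) :
    ∃ l, l ≠ f0 ∧ ∃ σ, ∀ c, g * f (ν c) * g⁻¹ = f (ν (l * sg σ c)) :=
  L.c0.hv.act' L.c0.hv (L.NV hg)

theorem adj (hg : g ∈ N[E0.map f]) : ∃ b, (f (κ b))⁻¹ * g ∈ N[A] := by
  obtain ⟨m, h1, h2⟩ := exE hg (n := ρ f1) rfl
  by_cases h3 : m.a = f0
  · exact absurd (V_eq m h3 h1 ▸ h2 ▸ DD.conj L.H.toGeo (L.dE (n := ρ f1) rfl (by clear_aux_decl; clear * -; decide +revert)) g) (L.nV _)
  obtain ⟨b, hb⟩ := toR m h1 h3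
  refine ⟨b, L.H.cjN L.pA (L.rK f1) (L.c0.hr.sq _) (L.c0.hr.ne (by decide)) ?_⟩
  rw [show (f (κ b))⁻¹ * g * f (ρ f1) * ((f (κ b))⁻¹ * g)⁻¹ =
    (f (κ b))⁻¹ * (g * f (ρ f1) * g⁻¹) * (f (κ b))⁻¹⁻¹ by group, h2, ← map_inv, f_conj, hb]
  exact L.rK _

theorem NR (hg : g ∈ N[E0.map f]) (hA : g ∈ N[A]) (a : F4) :
    ∃ a', g * f (ρ a) * g⁻¹ = f (ρ a') := by
  obtain ⟨m, h1, h2⟩ := exE hg (n := ρ a) rfl
  have h3 := cC hA (L.rK a)
  rw [h2, E_eq m h1, map_mul] at h3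
  refine ⟨m.a, ?_⟩
  have h4 := L.vK ((mul_mem_cancel_left (L.rK _)).1 h3)
  rw [h2]
  exact congrArg f (Qm.ext rfl h1 h4)

theorem inQ (h2 : TwoE y) (hv : ∀ c, y * f (ν c) = f (ν c) * y)
    (hr : ∀ a, ∃ c, y * f (ρ a) * y⁻¹ = f (ρ a * ν c)) : y ∈ f.range := by
  have h1 : y ∈ N[E0.map f] := mem_N_of_finite (by
    rintro _ ⟨n, hn, rfl⟩
    obtain ⟨c, hc⟩ := hr n.a
    rw [E_eq n hn, map_mul, H23.TC.conj_mul, hc, conj_of_comm (hv _), ← map_mul]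
    exact memE rfl)
  obtain ⟨b, hb⟩ := L.adj h1
  obtain ⟨a, c, z, z1, z2, e⟩ := L.cE ((f (κ b))⁻¹ * y) (fun a => comm_of_conj (by
    obtain ⟨a', h3⟩ := L.NR (mul_mem (inv_mem (f_NE _)) h1) hb a
    obtain ⟨c, hc⟩ := hr a
    have h4 := h3
    rw [show (f (κ b))⁻¹ * y * f (ρ a) * ((f (κ b))⁻¹ * y)⁻¹ =
      (f (κ b))⁻¹ * (y * f (ρ a) * y⁻¹) * (f (κ b))⁻¹⁻¹ by group, hc, ← map_inv, f_conj, L.eq] at h4
    rw [h3, (by revert h4; clear_aux_decl; clear * -; decide +kernel +revert : a' = a)])) fun c => by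
      rw [mul_assoc, hv, ← mul_assoc, ← map_inv, ← map_mul, ν_comm, map_mul, mul_assoc]
  rw [inv_mul_eq_iff_eq_mul, ← mul_assoc, ← map_mul] at e
  have z3 : TwoE z := by
    rw [← inv_mul_cancel_left (f (κ b * (ρ a * ν c))) z, ← e]
    exact (twoE_f _).inv.mul h2 (by rw [e, ← mul_assoc, inv_mul_cancel, one_mul, ← z2]; group)
  rw [e, z3.eq_one z1, mul_one]
  exact ⟨_, rfl⟩

theorem NQ' (hV : ∀ c, ∃ c', g * f (ν c) * g⁻¹ = f (ν c'))
    (hr : ∀ a, ∃ m, g * f m * g⁻¹ = f (ρ a) ∧ ∀ n, ∃ c, n * m * n⁻¹ = m * ν c) : g ∈ N[f.range] := by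
  obtain ⟨l, hl, σ, e⟩ := L.c0.hv.act' L.c0.hv hV
  refine mem_N_of_finite ?_
  rintro _ ⟨n, rfl⟩
  refine L.inQ ((twoE_f n).conj g) (fun c => ?_) fun a => ?_
  · rw [← (by revert hl; clear_aux_decl; clear * -; decide +revert : l * sg σ (sg σ (l.bar * c)) = c), ← e]
    exact H23.TC.conj_comm (by rw [← map_mul, ← map_mul, ν_comm]) g
  · obtain ⟨m, m1, m2⟩ := hr a
    obtain ⟨c, hc⟩ := m2 n
    refine ⟨l * sg σ c, ?_⟩
    rw [map_mul, ← m1, ← e, ← H23.TC.conj_mul g (f m), ← map_mul, ← hc, ← f_conj]; group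

theorem NQ (hg : g ∈ N[E0.map f]) : g ∈ N[f.range] := L.NQ' (L.NV hg) fun a => by
  obtain ⟨m, h1, h2⟩ := exE (inv_mem hg) (n := ρ a) rfl
  exact ⟨m, by rw [← h2]; group, by revert h1; clear_aux_decl; clear * -; decide +kernel +revert⟩

theorem theta (hg : g ∈ N[f.range]) : ∃ θ : Qm ε →* Qm ε, Function.Injective θ ∧ Ac f g θ := by
  choose θ hθ using fun n => cN hg (⟨n, rfl⟩ : f n ∈ f.range)
  exact ⟨MonoidHom.mk' θ fun n m => L.inj (by rw [hθ, map_mul, map_mul, hθ, hθ]; group),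
    fun n m e => L.inj (H23.TC.conj_inj' (g := g) (by rw [← hθ, ← hθ]; exact congrArg f e)),
    fun n => (hθ n).symm⟩

theorem linQ (hx : x ∈ N[E0.map f]) (h2 : TwoE x) (hl : l ≠ f0)
    (e : ∀ c, x * f (ν c) * x⁻¹ = f (ν (l * c))) : x ∈ f.range := by
  have h1 := L.c0.hv.lin2 hl h2 e
  obtain ⟨b, hb⟩ := L.adj hx
  have h3 := mul_mem (inv_mem (f_NE (κ b))) hx
  obtain ⟨c, hc⟩ := L.H.cent L.pA L.c0.hv L.vA hb fun c => by
    rw [mul_assoc, h1, ← mul_assoc, ← map_inv, ← map_mul, ν_comm, map_mul, mul_assoc]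
  have h4 : TwoE ((f (κ b))⁻¹ * x * f (ν c)) := by
    rw [mul_assoc, h1, ← mul_assoc, ← map_inv, ← map_mul]
    exact twoE_mul two_range (L.NQ hx) h2 ⟨_, rfl⟩
  obtain ⟨a, ha⟩ := mem_syl L.cf.sylR hc h4 (mem_N_of_finite (by
    rintro _ ⟨a, rfl⟩
    obtain ⟨a', e⟩ := L.NR (mul_mem h3 (f_NE (ν c))) (mul_mem hb (norm_self A (L.vA c))) a
    exact ⟨a', e.symm⟩))
  exact ⟨κ b * ρ a * (ν c)⁻¹, by rw [map_mul, map_mul, show f (ρ a) = _ from ha, map_inv]; group⟩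

theorem cls (hg : g ∈ N[E0.map f]) (hA : g ∈ N[A]) :
    ∃ l m σ, l ≠ f0 ∧ m ≠ f0 ∧ (ε = true → l = f1) ∧
      (∀ a, g * f (ρ a) * g⁻¹ = f (ρ (l * sg σ a))) ∧
      (∀ c, g * f (ν c) * g⁻¹ = f (ν (l * m * sg σ c))) ∧
      ∃ c, g * f (κ f1) * g⁻¹ = f (κ m * ν c) := by
  obtain ⟨θ, h1, h2⟩ := L.theta (L.NQ hg)
  obtain ⟨l, m, σ, a1, a2, a3, a4, a5, ⟨c, a6⟩, -⟩ := SB.cls θ h1 fun a => by
    obtain ⟨a', e⟩ := L.NR hg hA a
    exact ⟨a', L.inj ((h2 _).symm.trans e)⟩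
  exact ⟨l, m, σ, a1, a2, a3, fun a => by rw [h2, a4], fun a => by rw [h2, a5], c, by rw [h2, a6]⟩

theorem relabel (hl : l ≠ f0) (h1 : ε = true → l = f1) :
    Loc P A (f.comp (MonoidHom.mk' (rl l) (rl_mul ε l hl h1))) h := by
  have e1 : ∀ a, (rl l (ρ a) : Qm ε) = ρ (l * a) := by clear_aux_decl; clear * -; decide +revert
  have e2 : ∀ a, (rl l (ν a) : Qm ε) = ν a := by clear_aux_decl; clear * -; decide +revert
  have e3 : ∀ a, (ρ a : Qm ε) = rl l (ρ (l.bar * a)) := by clear h1; revert hl; clear_aux_decl; clear * -; decide +revert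
  refine ⟨L.H, L.pA, L.inj.comp ((injective_iff_map_eq_one _).2 (rl_inj ε l hl)),
    fun a => (congrArg f (e1 a)).symm ▸ L.rK _, fun a => (congrArg f (e2 a)).symm ▸ L.vA _, L.hA, L.h3,
    fun n => (L.hη (rl l n)).trans (congrArg f (by show η fw (rl l n) = rl l (η fw n); clear_aux_decl; clear * -; decide +kernel +revert)),
    fun x a1 a2 => ?_⟩
  obtain ⟨a, c, z, z1, z2, e⟩ := L.cE x (fun a => by rw [e3]; exact a1 _) fun c => by
    rw [← e2]; exact a2 _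
  exact ⟨l.bar * a, c, z, z1, fun n => z2 _, by
    show x = f (rl l (ρ (l.bar * a) * ν c)) * z
    rw [rl_mul ε l hl h1, ← e3, e2, e]⟩

theorem pw (hy : Ac f y fun n => n) : ∃ j, Odd j ∧ ∃ c, y ^ j = f (ν c) := by
  obtain ⟨a, c, z, z1, z2, e⟩ := L.cE y (fun a => hy.comm rfl) fun c => hy.comm rfl
  have h1 := hy.comm (n := κ f1) rfl
  rw [e, mul_assoc, z2, ← mul_assoc, ← mul_assoc, mul_left_inj, ← map_mul, ← map_mul, L.eq] at h1
  have h2 := oddE_iff.1 z1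
  refine ⟨_, h2, c, ?_⟩
  rw [e, (by revert h1; clear_aux_decl; clear * -; decide +revert : ρ a * ν c = (ν c : Qm ε)), Commute.mul_pow (z2 _).symm,
    pow_orderOf_eq_one, mul_one]
  obtain ⟨i, hi⟩ := h2
  rw [hi, pow_succ, pow_mul, pow_two, L.c0.hv.sq, one_pow, one_mul]

theorem exists_t (hx : x ∈ N[E0.map f]) (h2 : TwoE x) (hQ : x ∉ f.range) :
    ∃ (f' : Qm ε →* G) (t : G), Loc P A f' h ∧ t * t = 1 ∧ Ac f' t br := by
  obtain ⟨b, x1⟩ := L.adj hx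
  have x2 := mul_mem (inv_mem (f_NE (κ b))) hx
  have x3 : TwoE ((f (κ b))⁻¹ * x) := twoE_mul two_range (L.NQ hx) h2 (inv_mem ⟨_, rfl⟩)
  have x4 : (f (κ b))⁻¹ * x ∉ f.range := fun e => hQ ((mul_mem_cancel_left (inv_mem (show f (κ b) ∈ f.range from ⟨_, rfl⟩))).1 e)
  generalize (f (κ b))⁻¹ * x = y at x1 x2 x3 x4
  obtain ⟨l, hl, σ, e⟩ := L.actV x2
  cases σ
  · exact absurd (L.linQ x2 x3 hl e) x4
  have hN := norm_self A L.hA
  have y1 := cmem (hh_mem hN l) x1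
  have y2 := cmem (L.hh_NE l) x2
  have y3 := x3.conj (hh h l)
  have y4 : ∀ c, hh h l * y * (hh h l)⁻¹ * f (ν c) * (hh h l * y * (hh h l)⁻¹)⁻¹ = f (ν c.bar) :=
    fun c => by
    rw [show hh h l * y * (hh h l)⁻¹ * f (ν c) * (hh h l * y * (hh h l)⁻¹)⁻¹ =
      hh h l * (y * ((hh h l)⁻¹ * f (ν c) * (hh h l)⁻¹⁻¹) * y⁻¹) * (hh h l)⁻¹ by group,
      (L.ach hl).inv (θ' := η l.bar) (by revert hl; clear_aux_decl; clear * -; decide +kernel +revert), show η l.bar (ν c) = ν (l.bar * c) by clear_aux_decl; clear * -; decide +revert,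
      e, L.ach hl]
    exact congrArg f (by revert hl; clear_aux_decl; clear * -; decide +revert)
  generalize hh h l * y * (hh h l)⁻¹ = s at y1 y2 y3 y4
  have hv : ∀ c, h * f (ν c) * h⁻¹ = f (ν (fw * c)) := fun c => (L.hη _).trans (congrArg f (by clear_aux_decl; clear * -; decide +revert))
  obtain ⟨c, hc⟩ := L.H.cent L.pA L.c0.hv L.vA (mul_mem (cmem y1 hN) hN) fun c => comm_of_conj (by
    rw [show s * h * s⁻¹ * h * f (ν c) * (s * h * s⁻¹ * h)⁻¹ =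
      s * (h * (s⁻¹ * (h * f (ν c) * h⁻¹) * s) * h⁻¹) * s⁻¹ by group, hv,
      ← (by clear_aux_decl; clear * -; decide +revert : (fw * c).bar.bar = fw * c), ← y4,
      show s⁻¹ * (s * f (ν (fw * c).bar) * s⁻¹) * s = f (ν (fw * c).bar) by group, hv, y4,
      (by clear_aux_decl; clear * -; decide +revert : (fw * (fw * c).bar).bar = c)])
  have s1 := L.H.inf L.pA (mul_mem (mul_mem (cN y1 L.hA) L.hA) (L.vA c)) hc
  have s2 : f (ν (fv * c)) * s * h * (f (ν (fv * c)) * s)⁻¹ = h⁻¹ := by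
    rw [eq_inv_iff_mul_eq_one, show f (ν (fv * c)) * s * h * (f (ν (fv * c)) * s)⁻¹ * h =
      f (ν (fv * c)) * (s * h * s⁻¹ * h) * (h⁻¹ * (f (ν (fv * c)))⁻¹ * h) by group,
      eq_inv_of_mul_eq_one_left s1, ← (by clear_aux_decl; clear * -; decide +revert : fw * (fw * c) = fv * c), ← hv,
      show h⁻¹ * (h * f (ν (fw * c)) * h⁻¹)⁻¹ * h = (f (ν (fw * c)))⁻¹ by group, hv, ← map_inv,
      ← map_inv, ← map_mul, ← map_mul, (by clear_aux_decl; clear * -; decide +revert : (ν (fw * (fw * c)) * (ν c)⁻¹ * (ν (fw * c))⁻¹ : Qm ε) = 1),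
      map_one]
  have u1 := mul_mem (norm_self A (L.vA (fv * c))) y1
  have u2 := mul_mem (f_NE (ν (fv * c))) y2
  have u3 := twoE_mul two_range (L.NQ y2) y3 ⟨ν (fv * c), rfl⟩
  have u4 : ∀ d, f (ν (fv * c)) * s * f (ν d) * (f (ν (fv * c)) * s)⁻¹ = f (ν d.bar) := fun d => by
    rw [show f (ν (fv * c)) * s * f (ν d) * (f (ν (fv * c)) * s)⁻¹ =
      f (ν (fv * c)) * (s * f (ν d) * s⁻¹) * (f (ν (fv * c)))⁻¹ by group, y4, f_conj, ← ν_comm,
      mul_inv_cancel_right]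
  generalize f (ν (fv * c)) * s = u at s2 u1 u2 u3 u4
  obtain ⟨l, m, σ, a1, a2, a3, a4, a5, d, a6⟩ := L.cls u2 u1
  have b1 := L.inj ((a5 f1).symm.trans (u4 f1))
  have b2 := L.inj ((a5 fw).symm.trans (u4 fw))
  obtain ⟨rfl, rfl⟩ : σ = true ∧ m = l.bar := by revert b1 b2; clear_aux_decl; clear * -; decide +revert
  have cj : ∀ x, f (ρ (d * l)) * u * x * (f (ρ (d * l)) * u)⁻¹ =
    f (ρ (d * l)) * (u * x * u⁻¹) * (f (ρ (d * l)))⁻¹ := fun x => by group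
  have t1 : ∀ a, f (ρ (d * l)) * u * f (ρ a) * (f (ρ (d * l)) * u)⁻¹ = f (ρ (l * a.bar)) := fun a => by
    rw [cj, a4, f_conj]; exact congrArg f (by clear_aux_decl; clear * -; decide +revert)
  have t2 : f (ρ (d * l)) * u * f (κ f1) * (f (ρ (d * l)) * u)⁻¹ = f (κ (l.bar * f1.bar)) := by
    rw [cj, a6, f_conj]; exact congrArg f (by revert a1; clear_aux_decl; clear * -; decide +revert)
  have t3 : f (ρ (d * l)) * u * h * (f (ρ (d * l)) * u)⁻¹ = h⁻¹ := by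
    rw [cj, s2]; exact conj_of_comm (mem_C'.1 (L.rK _) _ (inv_mem L.hA))
  have t4 := twoE_mul two_range (L.NQ u2) u3 ⟨ρ (d * l), rfl⟩
  generalize f (ρ (d * l)) * u = t at t1 t2 t3 t4
  have t5 : ∀ b, t * f (κ b) * t⁻¹ = f (κ (l.bar * b.bar)) →
      t * f (κ (fw * b)) * t⁻¹ = f (κ (l.bar * (fw * b).bar)) := fun b e => by
    rw [show κ (fw * b) = η fw (κ b) by clear_aux_decl; clear * -; decide +revert, ← L.hη, show t * (h * f (κ b) * h⁻¹) * t⁻¹ =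
      t * h * t⁻¹ * (t * f (κ b) * t⁻¹) * (t * h * t⁻¹)⁻¹ by group, t3, e,
      Ac.inv L.hη (θ' := η fv) (by clear_aux_decl; clear * -; decide +kernel +revert)]
    exact congrArg f (by clear_aux_decl; clear * -; decide +revert)
  have t6 : ∀ b, t * f (κ b) * t⁻¹ = f (κ (l.bar * b.bar)) := fun b => by
    cases b
    · rw [show κ f0 = 1 from rfl, map_one, mul_one, mul_inv_cancel, ← f.map_one]
      exact congrArg f (by clear_aux_decl; clear * -; decide +revert)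
    exacts [t2, t5 _ t2, t5 _ (t5 _ t2)]
  have l1 : l.bar ≠ f0 := by revert a1; clear_aux_decl; clear * -; decide +revert
  have l2 : ε = true → l.bar = f1 := fun e => by rw [a3 e]; rfl
  have L' := L.relabel l1 l2
  have r1 : ∀ a, (rl l.bar (ρ a) : Qm ε) = ρ (l.bar * a) := by clear_aux_decl; clear * -; decide +revert
  have r2 : ∀ a, (rl l.bar (κ a) : Qm ε) = κ (l * a) := by clear_aux_decl; clear * -; decide +revert
  have r3 : ∀ a, t * f (rl l.bar (ρ a)) * t⁻¹ = f (rl l.bar (br (ρ a))) := fun a => by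
    rw [r1, t1]; exact congrArg f (by clear_aux_decl; clear * -; decide +revert)
  have r4 : ∀ a, t * f (rl l.bar (κ a)) * t⁻¹ = f (rl l.bar (br (κ a))) := fun a => by
    rw [r2, t6]; exact congrArg f (by clear_aux_decl; clear * -; decide +revert)
  have ac := ac_ext (f := f.comp (MonoidHom.mk' (rl l.bar) (rl_mul ε _ l1 l2))) (αH f1)
    (r3 _) (r3 _) (r4 _) (r4 _)
  refine ⟨_, t, L', ?_, ac⟩
  have ac2 := (ac.mul ac).congr (θ' := fun n => n) (αα f1)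
  obtain ⟨a, c, e⟩ := L'.cf.inE (t4.mul t4 rfl) (fun a => ac2.comm rfl) fun a => ac2.comm rfl
  rw [← map_mul] at e
  have c1 := ac2.comm (n := κ f1) rfl
  have c2 : h * (t * t) * h⁻¹ = t * t := conj_of_comm (by
    have := congrArg (·⁻¹) t3
    simp only [mul_inv_rev, inv_inv, ← mul_assoc] at this
    calc h * (t * t) = t * (h⁻¹ * t) := by nth_rw 1 [← this]; group
      _ = _ := by rw [← t3]; group)
  rw [e, ← map_mul, ← map_mul, L'.eq] at c1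
  rw [e, L'.hη, L'.eq] at c2
  rw [e, (by revert c1 c2; clear_aux_decl; clear * -; decide +revert : (ρ a * ν c : Qm ε) = 1), map_one]

end Loc

end H20.SB
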