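import Mathlib
import Cfsg.Agent.H20.SB5

/-!
# Elements interchanging `E` and `P`
-/

set_option autoImplicit false
set_option maxRecDepth 100000
set_option linter.all false
set_option synthInstance.maxSize 8000

namespace H20.SB

open Cfsg H24 H26 H26.Gold Subgroup H5.SA F4
open H23.TC (R2 exists_norm_lt conj_of_comm comm_of_conj inv_sq cN cN' cmem mem_syl conj_into)

universe u

variable {G : Type u} [Group G] [Finite G] {P : Subgroup G → Prop} {A B C U : Subgroup G}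
  {g h k q t x y z : G} {a b c l : F4} {ε : Bool}

theorem Loc.conjP {f : Qm ε →* G} (L : Loc P A f h) {p : Qm ε} (ha : p.a = f0) (hb : p.b ≠ f0) :
    ∃ g, g * f (κ f1) * g⁻¹ = f p := by
  obtain ⟨a, e⟩ : ∃ a, ρ a * η p.b (κ f1) * (ρ a)⁻¹ = p := by revert ha hb; clear_aux_decl; clear * -; decide +revert
  exact ⟨_, (((ac_self (ρ a)).mul (L.ach hb)) _).trans (congrArg f e)⟩

namespace Loc

variable {f : Qm false →* G} {n m : Qm false} (L : Loc P A f h)
include L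

theorem hκ : Hm fun b => f (κ b) :=
  ⟨fun a b => by rw [κ_add, map_mul], fun a e => by
    have := L.inj (e.trans f.map_one.symm); revert this; clear_aux_decl; clear * -; decide +revert⟩

theorem exists_g0 (hD : DD P (f (κ f1))) : ∃ g, g ∈ N[f.range] ∧ cj g (P0.map f) ≤ E0.map f ∧
    ∀ c, ∃ c', g * f (ν c) * g⁻¹ = f (ν c') := by
  obtain ⟨k2, k1, C, hC, k0⟩ := hD
  have nC : ∀ p : Qm false, p.a = f0 → f p ∈ N[C] := fun p hp =>
    L.H.cN hC k0 k2 k1 (by rw [← map_mul, ← map_mul, P_comm p hp _ rfl])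
  have vC : ∀ c, f (ν c) ∈ C[C] → c = f0 := fun c hc => by_contra fun c0 =>
    L.nV c ⟨L.c0.hv.sq c, L.c0.hv.ne c0, C, hC, hc⟩
  obtain ⟨c, hc⟩ := (L.H.three hC L.c0.hv (fun c => nC _ rfl) (nC (κ fw) rfl) (L.hκ.sq fw)
    fun c => by rw [← map_mul, ← map_mul, ν_comm]).resolve_left fun ⟨c, c0, e⟩ => c0 (vC c e)
  rw [← map_mul] at hc
  let p : F4 → Qm false := lin (κ f1) (κ fw * ν c)
  have p1 : ∀ a, (p a).a = f0 ∧ (p a).b = a := by clear_aux_decl; clear * -; decide +revert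
  have p2' : ∀ a, f (p a) ∈ C[C] := fun a => by
    cases a
    exacts [f.map_one ▸ one_mem _, k0, hc, (f.map_mul _ _) ▸ mul_mem k0 hc]
  have hp : Hm fun a => f (p a) := ⟨fun a b => by
    rw [← map_mul]; exact congrArg f (by clear_aux_decl; clear * -; decide +revert), fun a e => by
    have := L.inj (e.trans f.map_one.symm); revert this; clear_aux_decl; clear * -; decide +revert⟩
  obtain ⟨g0, e0⟩ := L.H.tr C A hC L.pA
  obtain ⟨k, kA, kR⟩ := Sylow_Jsub p2 L.cf.sylR (hp.two.cj g0)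
    (by rw [← e0, ← cj_C]; exact cj_mono g0 (hp.le p2'))
  have e1 : cj (k * g0) C = A := by rw [cj_mul, e0, cj_of_mem_C kA]
  rw [← cj_mul] at kR
  generalize k * g0 = g at e1 kR
  obtain ⟨l, hl, σ, e2⟩ := hp.act' L.c0.hr (g := g) fun a => by
    obtain ⟨b, e⟩ := kR (conj_mem_cj g (hp.mem a))
    exact ⟨b, e.symm⟩
  have e3 : ∀ a, f (ρ a) = g * f (p (sg σ (l.bar * a))) * g⁻¹ := fun a => by
    rw [e2, (by revert hl; clear_aux_decl; clear * -; decide +revert : l * sg σ (sg σ (l.bar * a)) = a)]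
  have e4 : ∀ a, f (ρ f1) * f (p a) * (f (ρ f1))⁻¹ = f (p a * ν a) := fun a =>
    (f_conj _ _).trans (congrArg f (by clear_aux_decl; clear * -; decide +revert))
  have t0 : ∀ a, f (p a * ν a) ∈ C[cj (f (ρ f1)) C] := fun a => by
    rw [← e4, ← cj_C]; exact conj_mem_cj _ (p2' a)
  have ne : A ≠ cj g (cj (f (ρ f1)) C) := fun e => by
    have := t0 f1
    rw [← cj_inj.1 (e1.trans e), map_mul] at this
    exact absurd (vC _ ((mul_mem_cancel_left (p2' _)).1 this)) (by decide)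
  have nA : ∀ p : Qm false, p.a = f0 → g * f p * g⁻¹ ∈ N[A] := fun p hp => by
    rw [← e1, ← cj_N]; exact conj_mem_cj g (nC p hp)
  have ht : Hm fun a => g * f (p a * ν a) * g⁻¹ := Hm.cj (v := fun a => f (p a * ν a)) ⟨fun a b => by
    rw [← map_mul]; exact congrArg f (by clear_aux_decl; clear * -; decide +revert), fun a e => by
    have := L.inj (e.trans f.map_one.symm); revert this; clear_aux_decl; clear * -; decide +revert⟩ g
  have vA : ∀ a, g * f (ν a) * g⁻¹ ∈ A := fun a => by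
    by_cases ha : a = f0
    · rw [ha, show (ν f0 : Qm false) = 1 from rfl, map_one, mul_one, mul_inv_cancel]; exact one_mem _
    have t1 : ∀ a, g * f (p a * ν a) * g⁻¹ ∈ C[cj g (cj (f (ρ f1)) C)] := fun a => by
      rw [← cj_C]; exact conj_mem_cj _ (t0 a)
    have t2 : ∀ a, g * f (p a * ν a) * g⁻¹ ∈ N[A] := fun a => nA _ (by clear_aux_decl; clear * -; decide +revert)
    obtain ⟨y, y0, y2, y1, y3⟩ := L.H.inner L.pA (L.H.cj _ _ (L.H.cj _ _ hC)) ne (t1 a) (t1 (fw * a))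
      (t2 a) (t2 _) (ht.sq _) (ht.sq _) (ht.ne ha) (ht.ne (by revert ha; clear_aux_decl; clear * -; decide +revert))
      (fun e => absurd (ht.eq e) (by revert ha; clear_aux_decl; clear * -; decide +revert)) (ht.comm _ _)
    rw [map_mul, H23.TC.conj_mul, e2, mul_assoc, mul_mem_cancel_left (L.rK _)] at y3
    have x2 := (L.c0.hv.cj g).sq a
    obtain ⟨a', e⟩ := mem_syl L.cf.sylR y3
      (twoE_of_sq (H23.TC.sq_mul x2 y2 (L.H.comm_inner L.pA (nA _ rfl) rfl y0 y3)))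
      (C_le_N _ (mul_mem (mem_C'.2 (by
        rintro _ ⟨b, rfl⟩
        show _ * f (ρ b) = f (ρ b) * _
        rw [e3]; exact H23.TC.conj_comm (by rw [← map_mul, ← map_mul, ν_comm]) g))
        (mem_C.2 (by rintro _ ⟨b, rfl⟩; exact mem_C'.1 (L.rK b) y y0))))
    replace e : g * f (ν a) * g⁻¹ = f (ρ a') * y := by
      rw [show f (ρ a') = _ from e, mul_assoc _ y, y2, mul_one]
    by_cases ha' : a' = f0
    · rw [e, ha', show (ρ f0 : Qm false) = 1 from rfl, map_one, one_mul]; exact y0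
    obtain ⟨s, s1, d, s2⟩ := conj_into L.sylV y0 (twoE_of_sq y2)
    refine absurd (DD.of_conj L.H (g := g) (DD.of_conj L.H (g := s) ?_)) (L.nV a)
    rw [e, H23.TC.conj_mul, ← s2, conj_of_comm (mem_C'.1 (L.rK a') s s1).symm]
    exact L.cf.dE ha' d
  obtain ⟨s, s1, s2⟩ := Sylow_Jsub p2 L.sylV (L.c0.hv.cj g).two ((L.c0.hv.cj g).le vA)
  have v1 : ∀ c, ∃ c', s * g * f (ν c) * (s * g)⁻¹ = f (ν c') := fun c => by
    obtain ⟨d, e⟩ := s2 (conj_mem_cj s ((L.c0.hv.cj g).mem c))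
    exact ⟨d, by rw [show f (ν d) = _ from e]; group⟩
  have v2 : ∀ a, s * g * f (p (sg σ (l.bar * a))) * (s * g)⁻¹ = f (ρ a) := fun a => by
    rw [← conj_of_comm (mem_C'.1 (L.rK a) s s1).symm, e3 a]; group
  refine ⟨s * g, L.NQ' v1 fun a => ⟨_, v2 a, fun n => ⟨_, SB.conjP n _ (p1 _).1⟩⟩, fun x hx => ?_, v1⟩
  obtain ⟨_, ⟨n, hn, rfl⟩, rfl⟩ := mem_cj'.1 hx
  obtain ⟨a, d, rfl⟩ : ∃ a d, n = p (sg σ (l.bar * a)) * ν d := by
    replace hn : n.a = f0 := hn
    revert hl hn; clear_aux_decl; clear * -; decide +kernel +revert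
  obtain ⟨d', e⟩ := v1 d
  rw [map_mul, H23.TC.conj_mul, v2, e, ← map_mul]
  exact memE rfl

theorem swap (hg : g ∈ N[f.range]) (h1 : cj g (P0.map f) ≤ E0.map f) :
    cj g (E0.map f) = P0.map f ∧ cj g (P0.map f) = E0.map f := by
  obtain ⟨θ, t1, t2⟩ := L.theta hg
  have h2 : cj g (E0.map f) ≤ P0.map f := fun x hx => by
    obtain ⟨_, ⟨n, hn, rfl⟩, rfl⟩ := mem_cj'.1 hx
    have a1 : ∀ p : Qm false, p.a = f0 → (θ p).b = f0 := fun p hp => by
      obtain ⟨m, m1, m2⟩ := h1 (conj_mem_cj g (memP hp))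
      rw [t2, L.eq] at m2
      exact m2 ▸ m1
    rw [t2]
    by_cases ha : n.a = f0
    · refine memP ((by clear_aux_decl; clear * -; decide +kernel +revert : ∀ m : Qm false, (∀ k, m * k = k * m) → m.a = f0) _ fun k => ?_)
      obtain ⟨k, rfl⟩ := Finite.injective_iff_surjective.1 t1 k
      rw [← map_mul, ← map_mul, V_eq n ha hn, ν_comm]
    refine memP ((inv0 _ (by
      rw [← map_mul, (by clear_aux_decl; clear * -; decide +kernel +revert : ∀ n : Qm false, n.b = f0 → n * n = 1) n hn, map_one])).resolve_right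
        fun e => ha ?_)
    have := E_comm _ e _ (a1 (κ f1) rfl)
    rw [← map_mul, ← map_mul, t1.eq_iff] at this
    revert this; clear_aux_decl; clear * -; decide +revert
  have h3 : cj (g * g) (E0.map f) = E0.map f :=
    cj_of_mem_N (mem_N_of_cj_le (by rw [cj_mul]; exact (cj_mono g h2).trans h1))
  have h4 : cj (g * g) (P0.map f) = P0.map f :=
    cj_of_mem_N (mem_N_of_cj_le (by rw [cj_mul]; exact (cj_mono g h1).trans h2))
  exact ⟨h2.antisymm (h4.ge.trans (by rw [cj_mul]; exact cj_mono g h1)),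
    h1.antisymm (h3.ge.trans (by rw [cj_mul]; exact cj_mono g h2))⟩

theorem exists_g (hD : DD P (f (κ f1))) : ∃ g σ, Ac f g (α (cond σ fv fw)) := by
  obtain ⟨g, g1, g2, g3⟩ := L.exists_g0 hD
  obtain ⟨s1, s2⟩ := L.swap g1 g2
  obtain ⟨θ, t1, t2⟩ := L.theta g1
  have hP : h ∈ N[P0.map f] := Ac.memP L.hη (by clear_aux_decl; clear * -; decide +kernel +revert)
  have k1 : g⁻¹ * h * g ∈ N[E0.map f] := mem_N_iff_cj.2 (by
    rw [cj_mul, cj_mul, s1, cj_of_mem_N hP, ← s1, cj_inv_cj])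
  obtain ⟨b, k2⟩ := L.adj k1
  have a1 : ∀ p : Qm false, p.a = f0 → (θ p).b = f0 := fun p hp => by
    obtain ⟨m, m1, m2⟩ := s2.le (conj_mem_cj g (memP hp))
    rw [t2, L.eq] at m2
    exact m2 ▸ m1
  have a2 : ∀ p : Qm false, p.b = f0 → (θ p).a = f0 := fun p hp => by
    obtain ⟨m, m1, m2⟩ := s1.le (conj_mem_cj g (memE hp))
    rw [t2, L.eq] at m2
    exact m2 ▸ m1
  have a3 : ∀ a, a ≠ f0 → (θ (ρ a)).b ≠ f0 := fun a ha e => by
    have := E_comm _ e _ (a1 (κ f1) rfl)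
    rw [← map_mul, ← map_mul, t1.eq_iff] at this
    revert this ha; clear_aux_decl; clear * -; decide +revert
  have a4 : ∀ a, lin (θ (ρ f1)) (θ (ρ fw)) a = θ (ρ a) := fun a => by
    rw [← map_lin, (by clear_aux_decl; clear * -; decide +revert : lin (ρ f1) (ρ fw) a = (ρ a : Qm false))]
  have a5 : ∀ a, ∃ a', η fw (θ (ρ a)) = θ (κ b) * lin (θ (ρ f1)) (θ (ρ fw)) a' * (θ (κ b))⁻¹ :=
    fun a => by
    obtain ⟨a', e⟩ := L.NR (mul_mem (inv_mem (f_NE _)) k1) k2 a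
    refine ⟨a', L.inj ?_⟩
    rw [a4, ← L.hη, ← f_conj, ← t2, ← t2, ← t2, ← e]; group
  obtain ⟨b1, e1⟩ := a5 f1
  obtain ⟨b2, e2⟩ := a5 fw
  obtain ⟨a, e3⟩ := toF _ (a2 _ rfl) _ (a2 _ rfl) (a3 _ (by decide)) (a3 _ (by decide)) (fun e => by
    refine a3 fv (by decide) ?_
    rw [← a4]
    show (θ (ρ f1)).b + (θ (ρ fw)).b = f0
    rw [e]; generalize (θ (ρ fw)).b = d; clear_aux_decl; clear * -; decide +revert) _ (a1 (κ b) rfl) _ e1 _ e2
  have u1 : ∀ b, ∃ b', f (ρ a) * g * f (ρ b) * (f (ρ a) * g)⁻¹ = f (κ b') := fun b => by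
    obtain ⟨b', e⟩ := e3 b
    exact ⟨b', by rw [← e, a4]; exact ((ac_self (ρ a)).mul t2) _⟩
  have u2 : cj (f (ρ a) * g) (E0.map f) = P0.map f := by rw [cj_mul, s1, cj_of_mem_N (f_NP _)]
  have u3 : cj (f (ρ a) * g) (P0.map f) = E0.map f := by rw [cj_mul, s2, cj_of_mem_N (f_NE _)]
  have u4 := mul_mem (norm_self _ (⟨ρ a, rfl⟩ : f (ρ a) ∈ f.range)) g1
  generalize f (ρ a) * g = x at u1 u2 u3 u4
  obtain ⟨l, hl, σ, u5⟩ := L.c0.hr.act' L.hκ u1
  have u6 : x * x ∈ N[E0.map f] := mem_N_iff_cj.2 (by rw [cj_mul, u2, u3])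
  obtain ⟨d, u7⟩ := L.adj u6
  have w1 : ∀ a, ∃ b, (f (κ d))⁻¹ * x * f (ρ a) * ((f (κ d))⁻¹ * x)⁻¹ = f (κ b) := fun a =>
    ⟨l * sg σ a, by
      rw [← conj_of_comm (x := (f (κ d))⁻¹) (t := f (κ (l * sg σ a))) (by
        rw [L.hκ.inv]; exact L.hκ.comm _ _), ← u5]; group⟩
  have w2 : ∀ b, ∃ a, (f (κ d))⁻¹ * x * f (κ b) * ((f (κ d))⁻¹ * x)⁻¹ = f (ρ a) := fun b => by
    obtain ⟨a', e⟩ := L.NR (mul_mem (inv_mem (f_NE _)) u6) u7 (sg σ (l.bar * b))
    exact ⟨a', by rw [← e, ← (by revert hl; clear_aux_decl; clear * -; decide +revert : l * sg σ (sg σ (l.bar * b)) = b), ← u5,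
      (by revert hl; clear_aux_decl; clear * -; decide +revert : l * sg σ (sg σ (l.bar * b)) = b)]; group⟩
  have w3 := mul_mem (inv_mem (norm_self _ (⟨κ d, rfl⟩ : f (κ d) ∈ f.range))) u4
  generalize (f (κ d))⁻¹ * x = y at w1 w2 w3
  obtain ⟨ψ, p1, p2⟩ := L.theta w3
  have q1 : ∀ {n m}, αH fw (ψ n) = m → ψ n = sw m := fun e => by rw [← e]; exact (αα fw _).symm
  obtain ⟨l, m, σ, c1, c2, -, c3, -, ⟨d1, c4⟩, d2, c5⟩ := SB.cls ((αH fw).comp ψ)
    ((Function.LeftInverse.injective (αα fw)).comp p1) fun a => by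
      obtain ⟨b, e⟩ := w1 a
      rw [p2, L.eq] at e
      exact ⟨b, (congrArg (αH fw) e).trans (by clear_aux_decl; clear * -; decide +revert)⟩
  have ac := ((L.ach (l := l.bar) (by revert c1; clear_aux_decl; clear * -; decide +revert)).mul p2).mul
    (L.ach (l := sg σ m.bar) (by revert c2; clear_aux_decl; clear * -; decide +revert))
  have r1 : ∀ a, η l.bar (ψ (η (sg σ m.bar) (ρ a))) = α (cond σ fv fw) (ρ a) := fun a => by
    rw [show η (sg σ m.bar) (ρ a) = ρ a by clear_aux_decl; clear * -; decide +revert, q1 (c3 a)]; revert c1; clear_aux_decl; clear * -; decide +revert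
  have r2 : ∀ b d, ψ (κ b) = sw (κ (m * sg σ b) * ν d) → ψ (κ b) = ρ (m * sg σ b) := fun b d e => by
    obtain ⟨a, e'⟩ := w2 b
    rw [p2, L.eq, e] at e'
    rw [e]; revert e'; clear_aux_decl; clear * -; decide +revert
  have r3 := r2 f1 d1 (by rw [q1 c4]; clear_aux_decl; clear * -; decide +revert)
  have r4 := r2 fw d2 (q1 c5)
  have r5 : ∀ b, ψ (κ b) = ρ (m * sg σ b) := fun b => by
    cases b
    · exact ψ.map_one.trans (by clear_aux_decl; clear * -; decide +revert)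
    exacts [r3, r4, by rw [show (κ fv : Qm false) = κ f1 * κ fw from rfl, map_mul, r3, r4]; clear_aux_decl; clear * -; decide +revert]
  have r6 : ∀ b, η l.bar (ψ (η (sg σ m.bar) (κ b))) = α (cond σ fv fw) (κ b) := fun b => by
    rw [show η (sg σ m.bar) (κ b) = κ (sg σ m.bar * b) by clear_aux_decl; clear * -; decide +revert, r5]; revert c2; clear_aux_decl; clear * -; decide +revert
  exact ⟨_, σ, ac_ext (αH (cond σ fv fw)) ((ac _).trans (congrArg f (r1 _)))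
    ((ac _).trans (congrArg f (r1 _))) ((ac _).trans (congrArg f (r6 _)))
    ((ac _).trans (congrArg f (r6 _)))⟩

theorem exists_u (hg : Ac f g (α fw)) : ∃ u, u * u = 1 ∧ Ac f u (α fw) := by
  have a1 := (Ac.mul L.hη ((hg.mul L.hη).mul (hg.inv (αα fw)))).mul hg
  generalize h * (g * h * g⁻¹) * g = y at a1
  have a2 := ((a1.mul a1).mul a1).congr (θ' := α fw) (by clear_aux_decl; clear * -; decide +kernel +revert)
  obtain ⟨j, hj, c, e⟩ := L.pw ((a2.mul a2).congr (αα fw))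
  have a3 : y * f (ν c) * y⁻¹ = f (ν c) := by
    rw [← e]; exact conj_of_comm (Commute.pow_right (by unfold Commute SemiconjBy; group) j)
  rw [a1, L.eq] at a3
  refine ⟨_, ?_, a2.pow (αα fw) hj⟩
  rw [← Commute.mul_pow (Commute.refl _), e, (by revert a3; clear_aux_decl; clear * -; decide +revert : c = f0)]
  exact f.map_one

theorem fix_w (hy : Ac f y (α fv)) : ∃ j d, y ^ j * f (ν d) * (y ^ j * f (ν d)) = 1 ∧
    Ac f (y ^ j * f (ν d)) (α fv) ∧ (y ^ j)⁻¹ * f (ν d.bar) = y ^ j * f (ν d) := by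
  obtain ⟨j, hj, c, e⟩ := L.pw ((hy.mul hy).congr (αα fv))
  rw [Commute.mul_pow (Commute.refl _)] at e
  have a1 := hy.pow (αα fv) hj
  refine ⟨j, ?_⟩
  generalize y ^ j = x at e a1
  have a2 : x * f (ν c) * x⁻¹ = f (ν c) := by rw [← e]; group
  rw [a1, L.eq] at a2
  obtain ⟨d, d1, d2⟩ : ∃ d, α fv (ν d) * ν c * ν d = (1 : Qm false) ∧
      ν d.bar = (ν c * ν d : Qm false) := by revert a2; clear_aux_decl; clear * -; decide +revert
  refine ⟨d, ?_, (a1.mul (ac_self (ν d))).congr (by clear_aux_decl; clear * -; decide +kernel +revert), by rw [d2, map_mul, ← e]; group⟩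
  rw [← f.map_one, ← d1, map_mul, map_mul, ← a1, ← e]; group

theorem exists_tu (t2 : t * t = 1) (ht : Ac f t br) (hg : Ac f g (α fw)) :
    ∃ w, w * w = 1 ∧ Ac f w (α fv) ∧ t * w = w * t := by
  obtain ⟨u, u2, hu⟩ := L.exists_u hg
  obtain ⟨j, d, a1, a2, a3⟩ := L.fix_w (y := t * u) (ht.mul hu)
  refine ⟨_, a1, a2, comm_of_conj ?_⟩
  rw [H23.TC.conj_mul, ht, ← conj_pow, ← a3, ← inv_pow, mul_inv_rev, inv_sq u2, inv_sq t2,
    show t * (t * u) * t = t * t * u * t by group, t2, one_mul]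
  rfl

end Loc

end H20.SB
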