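import Mathlib
import Cfsg.Agent.H20.SB6

/-!
# The Sylow `2`-subgroup
-/

set_option autoImplicit false
set_option maxRecDepth 100000
set_option linter.all false
set_option synthInstance.maxSize 8000

namespace H20.SB

open Cfsg H24 H26 H26.Gold Subgroup H5.SA F4
open H23.TC (R2 exists_norm_lt conj_of_comm comm_of_conj inv_sq cN cN' cmem mem_syl conj_into)

universe u

variable {G : Type u} [Group G] [Finite G] {P : Subgroup G → Prop} {A B C U : Subgroup G}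
  {g h k q t y z : G} {a b c l s : F4} {ε : Bool} {ok : F4 → Prop} {γ : F4 → G}

/-- the extended structure -/
structure PE (P : Subgroup G → Prop) (A : Subgroup G) (f : Qm ε →* G) (h : G) (ok : F4 → Prop)
    (γ : F4 → G) : Prop extends Loc P A f h where
  ok0 : ok f0
  okadd : ∀ s t, ok s → ok t → ok (s + t)
  add : ∀ s t, γ (s + t) = γ s * γ t
  ac : ∀ s, ok s → Ac f (γ s) (α s)
  e1 : ε = true → ∀ s, ok s → s = f0 ∨ s = f1
  hT : ok f1 ∨ ∀ x ∈ N[E0.map f], TwoE x → x ∈ f.range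
  hU : ε = false → DD P (f (κ f1)) → ok fw ∨ ok fv

theorem lin_add {x y : G} (x2 : x * x = 1) (y2 : y * y = 1) (hc : x * y = y * x) (a b : F4) :
    lin x y (a + b) = lin x y a * lin x y b := by
  have e1 : x * (x * y) = y := by rw [← mul_assoc, x2, one_mul]
  have e2 : y * (x * y) = x := by rw [hc, ← mul_assoc, y2, one_mul]
  have e3 : x * y * x = y := by rw [hc, mul_assoc, x2, mul_one]
  have e4 : x * y * y = x := by rw [mul_assoc, y2, mul_one]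
  have e5 : x * y * (x * y) = 1 := by rw [← mul_assoc, e3, y2]
  cases a <;> cases b <;>
    simp only [HAdd.hAdd, Add.add, F4.add, lin, one_mul, mul_one, x2, y2, ← hc, e1, e2, e3, e4, e5]

theorem Loc.exists_pe {f : Qm ε →* G} (L : Loc P A f h) :
    ∃ (f : Qm ε →* G) (ok : F4 → Prop) (γ : F4 → G), PE P A f h ok γ := by
  by_cases hT : ∀ x ∈ N[E0.map f], TwoE x → x ∈ f.range
  · by_cases hU : ε = false ∧ DD P (f (κ f1))
    · obtain ⟨rfl, hD⟩ := hU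
      obtain ⟨g, σ, hg⟩ := L.exists_g hD
      cases σ
      · obtain ⟨u, u2, hu⟩ := L.exists_u hg
        refine ⟨f, fun s => s = f0 ∨ s = fw, lin 1 u, L, by decide, by decide,
          lin_add (by simp) u2 (by simp), ?_, nofun, Or.inr hT, fun _ _ => by decide⟩
        rintro _ (rfl | rfl)
        exacts [ac_one, hu]
      · obtain ⟨j, d, u2, hu, -⟩ := L.fix_w hg
        refine ⟨f, fun s => s = f0 ∨ s = fv, lin 1 _, L, by decide, by decide,
          lin_add (by simp) u2 (by simp), ?_, nofun, Or.inr hT, fun _ _ => by decide⟩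
        rintro _ (rfl | rfl)
        exacts [ac_one, ac_one.mul hu]
    · refine ⟨f, fun s => s = f0, fun _ => 1, L, rfl, by decide, by simp, ?_, fun _ _ => Or.inl,
        Or.inr hT, fun a b => absurd ⟨a, b⟩ hU⟩
      rintro _ rfl
      exact ac_one
  push Not at hT
  obtain ⟨x, x1, x2, x3⟩ := hT
  obtain ⟨f, t, L, t2, ht⟩ := L.exists_t x1 x2 x3
  by_cases hU : ε = false ∧ DD P (f (κ f1))
  · obtain ⟨rfl, hD⟩ := hU
    obtain ⟨g, hg⟩ : ∃ g, Ac f g (α fw) := by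
      obtain ⟨g, σ, hg⟩ := L.exists_g hD
      cases σ
      exacts [⟨g, hg⟩, ⟨_, (ht.mul hg).congr fun n => αα f1 _⟩]
    obtain ⟨w, w2, hw, c⟩ := L.exists_tu t2 ht hg
    have hu : Ac f (t * w) (α fw) := (ht.mul hw).congr fun n => αα f1 _
    refine ⟨f, fun _ => True, lin t (t * w), L, trivial, fun _ _ _ _ => trivial,
      lin_add t2 (H23.TC.sq_mul t2 w2 c) (by rw [mul_assoc, ← c]), fun s _ => ?_, nofun,
      Or.inl trivial, fun _ _ => Or.inl trivial⟩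
    cases s
    exacts [ac_one, ht, hu, ht.mul hu]
  · refine ⟨f, fun s => s = f0 ∨ s = f1, lin t 1, L, by decide, by decide,
      lin_add t2 (by simp) (by simp), ?_, fun _ _ => id, Or.inl (by decide),
      fun a b => absurd ⟨a, b⟩ hU⟩
    rintro _ (rfl | rfl)
    exacts [ac_one, ht]

/-- the embedding -/
def ι (f : Qm ε →* G) (γ : F4 → G) (x : M ε) : G := f x.n * γ x.s

/-- a basis of an elementary abelian group of order `16` -/
def T16 {β : Type*} [Group β] (a b c d : β) : Prop :=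
  a * a = 1 ∧ b * b = 1 ∧ a * b = b * a ∧ b ≠ 1 ∧ b ≠ a ∧ c * c = 1 ∧ a * c = c * a ∧
    b * c = c * b ∧ c ≠ 1 ∧ c ≠ a ∧ c ≠ b ∧ c ≠ a * b ∧ d * d = 1 ∧ a * d = d * a ∧ b * d = d * b ∧
    c * d = d * c ∧ d ≠ 1 ∧ d ≠ a ∧ d ≠ b ∧ d ≠ a * b ∧ d ≠ c ∧ d ≠ a * c ∧ d ≠ b * c ∧ d ≠ a * b * c

instance (a b c d : Qm ε) : Decidable (T16 a b c d) := by unfold T16; infer_instance

theorem T16.map {β β' : Type*} [Group β] [Group β'] {a b c d : β} (h : T16 a b c d) (θ : β →* β')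
    (hθ : Function.Injective θ) : T16 (θ a) (θ b) (θ c) (θ d) := by
  simpa only [T16, ← map_mul, Ne, hθ.eq_iff, map_eq_one_iff θ hθ] using h

theorem inv_out : ∀ x : M false, x.s ≠ f0 → x * x = 1 → ∃ n, iq n * x * (iq n)⁻¹ = ou x.s := by
  decide +kernel

theorem T16.inn {a b c d : M false} (h : T16 a b c d) : a.s = f0 := by
  by_contra hs
  obtain ⟨n, e⟩ := inv_out a hs h.1
  have := h.map (MulAut.conj (iq n)).toMonoidHom (MulAut.conj (iq n)).injective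
  rw [show (MulAut.conj (iq n)).toMonoidHom a = ou a.s from e] at this
  obtain ⟨-, a1, a2, a3, a4, a5, a6, a7, a8, a9, b1, b2, b3, b4, b5, b6, c⟩ := this
  have := noE _ hs _ a1 a2 a3 a4 _ a5 a6 a7 a8 a9 b1 b2 _ b3 b4 b5 b6
  tauto

namespace PE

variable {f : Qm ε →* G} {x x' : M ε} {n : Qm ε} (L : PE P A f h ok γ)
include L

theorem g0 : γ f0 = 1 := mul_eq_left.1 (L.add f0 f0).symm
theorem gsq (s : F4) : γ s * γ s = 1 := by rw [← L.add, (by clear_aux_decl; clear * -; decide +revert : s + s = f0), L.g0]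

theorem iq' (n : Qm ε) : ι f γ (iq n) = f n := by
  show f n * γ f0 = f n
  rw [L.g0, mul_one]
theorem ou' (s : F4) : ι f γ (ou s) = γ s := by
  show f 1 * γ s = γ s
  rw [map_one, one_mul]
theorem one : ι f γ 1 = 1 := (L.iq' 1).trans f.map_one

theorem mul (hx : ok x.s) (x' : M ε) : ι f γ (x * x') = ι f γ x * ι f γ x' := by
  show f (x.n * α x.s x'.n) * γ (x.s + x'.s) = f x.n * γ x.s * (f x'.n * γ x'.s)
  rw [map_mul, ← L.ac _ hx, L.add]; group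

theorem okmul (hx : ok x.s) (hx' : ok x'.s) : ok (x * x').s := L.okadd _ _ hx hx'

theorem inv (hx : ok x.s) : ι f γ x⁻¹ = (ι f γ x)⁻¹ := by
  rw [eq_inv_iff_mul_eq_one, ← L.mul (x := x⁻¹) hx, inv_mul_cancel, L.one]

theorem conj (hx : ok x.s) (hx' : ok x'.s) :
    ι f γ x * ι f γ x' * (ι f γ x)⁻¹ = ι f γ (x * x' * x⁻¹) := by
  rw [L.mul (L.okmul hx hx'), L.mul hx, L.inv hx]

theorem eq_one (hx : ok x.s) (e : ι f γ x = 1) : x = 1 := by
  have h1 : γ x.s = f x.n⁻¹ := by rw [map_inv]; exact eq_inv_of_mul_eq_one_right e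
  have h2 : ∀ m, α x.s m = x.n⁻¹ * m * x.n⁻¹⁻¹ := fun m => L.inj (by rw [← L.ac _ hx, h1, f_conj])
  have h3 := fun e => L.e1 e _ hx
  have h4 : x.s = f0 := by
    revert h2 h3; generalize x.s = s; generalize x.n = n; clear_aux_decl; clear * -; decide +kernel +revert
  rw [ι, h4, L.g0, mul_one] at e
  exact M.ext (L.inj (e.trans f.map_one.symm)) h4

theorem eq' (hx : ok x.s) (hx' : ok x'.s) : ι f γ x = ι f γ x' ↔ x = x' :=
  ⟨fun e => inv_mul_eq_one.1 (L.eq_one (L.okmul (x := x⁻¹) hx hx') (by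
    rw [L.mul (x := x⁻¹) hx, L.inv hx, e, inv_mul_cancel])), congrArg _⟩

theorem comm (hx : ok x.s) (hx' : ok x'.s) :
    ι f γ x * ι f γ x' = ι f γ x' * ι f γ x ↔ x * x' = x' * x := by
  rw [← L.mul hx, ← L.mul hx', L.eq' (L.okmul hx hx') (L.okmul hx' hx)]

theorem sq (hx : ok x.s) : ι f γ x * ι f γ x = 1 ↔ x * x = 1 := by
  rw [← L.mul hx, ← L.one, L.eq' (L.okmul hx hx) L.ok0]

/-- images of subgroups -/
def im (H : Subgroup (M ε)) : Subgroup G where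
  carrier := {g | ∃ x ∈ H, ok x.s ∧ ι f γ x = g}
  one_mem' := ⟨1, H.one_mem, L.ok0, L.one⟩
  mul_mem' := by
    rintro _ _ ⟨x, x1, x2, rfl⟩ ⟨y, y1, y2, rfl⟩
    exact ⟨_, mul_mem x1 y1, L.okmul x2 y2, L.mul x2 y⟩
  inv_mem' := by
    rintro _ ⟨x, x1, x2, rfl⟩
    exact ⟨_, inv_mem x1, x2, L.inv x2⟩

theorem memS (hx : ok x.s) : ι f γ x ∈ L.im ⊤ := ⟨x, trivial, hx, rfl⟩
theorem fS (n : Qm ε) : f n ∈ L.im ⊤ := L.iq' n ▸ L.memS L.ok0
theorem gS (hs : ok s) : γ s ∈ L.im ⊤ := L.ou' s ▸ L.memS hs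
theorem QS : f.range ≤ L.im ⊤ := by rintro _ ⟨n, rfl⟩; exact L.fS n
theorem mem_im {H : Subgroup (M ε)} (hx : ok x.s) : ι f γ x ∈ L.im H ↔ x ∈ H :=
  ⟨fun ⟨y, y1, y2, e⟩ => (L.eq' y2 hx).1 e ▸ y1, fun h => ⟨x, h, hx, rfl⟩⟩

theorem twoS : TwoG (L.im ⊤) := isPi_iff_piElt.2 (by
  rintro _ ⟨x, -, hx, rfl⟩
  refine H23.TC.twoE_of_sq2 ?_
  rw [← L.mul hx, ι, show (x * x).s = x.s + x.s from rfl, (by generalize x.s = s; clear_aux_decl; clear * -; decide +revert : x.s + x.s = f0),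
    L.g0, mul_one]
  exact twoE_f _)

theorem sylE (hU : TwoG U) (hS : L.im ⊤ ≤ U) (hg : g ∈ U) (hE : g ∈ N[E0.map f]) : g ∈ L.im ⊤ := by
  obtain ⟨l, hl, σ, e⟩ := L.actV hE
  cases σ
  · exact L.QS (L.linQ hE (hU.piElt hg) hl e)
  rcases L.hT with h1 | h1
  · refine (mul_mem_cancel_left (L.gS h1)).1 (L.QS (L.linQ (l := l.bar)
      (mul_mem ((L.ac _ h1).memE (by clear_aux_decl; clear * -; decide +kernel +revert)) hE) (hU.piElt (mul_mem (hS (L.gS h1)) hg))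
      (by revert hl; clear_aux_decl; clear * -; decide +revert) fun c => ?_))
    rw [show γ f1 * g * f (ν c) * (γ f1 * g)⁻¹ = γ f1 * (g * f (ν c) * g⁻¹) * (γ f1)⁻¹ by group, e,
      L.ac _ h1]
    exact congrArg f (by clear_aux_decl; clear * -; decide +revert)
  · exact L.QS (h1 g hE (hU.piElt hg))

theorem syl_of (h : ∀ g ∈ N[L.im ⊤], ∃ s, ok s ∧ γ s * g ∈ N[E0.map f]) : Syl 2 ⊤ (L.im ⊤) := by
  refine syl_of_max p2 L.twoS le_top fun U h1 h2 _ => by_contra fun h4 => ?_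
  obtain ⟨g, g1, g2, g3⟩ := exists_norm_lt h1 h2 h4
  obtain ⟨s, s1, s2⟩ := h g g2
  exact g3 ((mul_mem_cancel_left (L.gS s1)).1 (L.sylE h1 h2 (mul_mem (h2 (L.gS s1)) g1) s2))

end PE

theorem PE.syl0 {f : Qm false →* G} (L : PE P A f h ok γ) : Syl 2 ⊤ (L.im ⊤) := by
  refine L.syl_of fun g hg => ?_
  choose ψ _ h1 h2 using fun n => cN hg (L.fS n)
  let ψ' : Qm false →* M false := MonoidHom.mk' ψ fun n m => (L.eq' (h1 _) (L.okmul (h1 _) (h1 _))).1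
    (by rw [L.mul (h1 _), h2, h2, h2, map_mul]; group)
  have h3 : Function.Injective ψ' := fun n m e =>
    L.inj (H23.TC.conj_inj' (g := g) (by rw [← h2, ← h2]; exact congrArg _ e))
  have h4 : ∀ {a} b c d, T16 a b c d → a ∈ f.range.comap ((MulAut.conj g).toMonoidHom.comp f) :=
    fun {a} b c d e => ⟨(ψ a).n, by
      have : (ψ a).s = f0 := (e.map ψ' h3).inn
      rw [← L.iq', show iq (ψ a).n = ψ a from M.ext rfl this.symm]; exact h2 a⟩
  obtain ⟨θ, t1, t2⟩ := L.theta (g := g) (mem_N_of_finite (by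
    rintro _ ⟨n, rfl⟩
    exact gen_top _ (h4 (ρ fw) (ν f1) (ν fw) (by decide)) (h4 (ρ f1) (ν f1) (ν fw) (by decide))
      (h4 (κ fw) (ν f1) (ν fw) (by decide)) (h4 (κ f1) (ν f1) (ν fw) (by decide)) n))
  have d1 : DD P (f (θ (ρ f1))) := t2 _ ▸ DD.conj L.H.toGeo (L.dE (n := ρ f1) rfl (by decide)) g
  have c1 : ∀ n : Qm false, n.b = f0 → θ n * θ (ρ f1) = θ (ρ f1) * θ n := fun n hn => by
    rw [← map_mul, ← map_mul, E_comm n hn _ rfl]
  have d2 : ¬ ((θ (ρ f1)).a = f0 ∧ (θ (ρ f1)).b = f0) := fun e =>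
    L.nV _ (V_eq _ e.1 e.2 ▸ d1)
  rcases inv0 (θ (ρ f1)) (by rw [← map_mul, ← θ.map_one]; rfl) with e | e
  · obtain ⟨k, hk⟩ := L.conjP e fun e' => d2 ⟨e, e'⟩
    obtain ⟨s, s1, s2⟩ : ∃ s, ok s ∧ (s = fw ∨ s = fv) := by
      rcases L.hU rfl (DD.of_conj L.H (hk ▸ d1)) with c | c
      exacts [⟨_, c, Or.inl rfl⟩, ⟨_, c, Or.inr rfl⟩]
    refine ⟨s, s1, ((L.ac s s1).mul t2).memE fun n hn => ?_⟩
    have := c1 n hn
    revert this e d2 s2; generalize θ n = p; generalize θ (ρ f1) = p'; clear_aux_decl; clear * -; decide +kernel +revert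
  · refine ⟨f0, L.ok0, ((L.ac _ L.ok0).mul t2).memE fun n hn => ?_⟩
    have := c1 n hn
    revert this e d2; generalize θ n = p; generalize θ (ρ f1) = p'; clear_aux_decl; clear * -; decide +kernel +revert

namespace Loc

variable {f : Qm true →* G} (L : Loc P A f h)
include L

theorem cρ (a0 : a ≠ f0) (a1 : a ≠ f1) (hy : y * f (ρ a) = f (ρ a) * y) (h2 : TwoE y) :
    y * y = 1 := by
  have hS : Syl 2 C{f (ρ a)} (E0.map f) := by
    refine syl_of_max p2 (two_map _) (by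
      rintro _ ⟨n, hn, rfl⟩
      exact mem_C1.2 (by rw [← map_mul, ← map_mul, E_comm n hn _ rfl])) fun U h1 h2 h3 =>
      by_contra fun h4 => ?_
    obtain ⟨s, s1, s2, s3⟩ := exists_norm_lt h1 h2 h4
    have s4 := mem_C1.1 (h3 s1)
    obtain ⟨l, m, σ, b1, b2, b3, b4, b5, -⟩ := L.cls s2 (L.c0.nA a0 s4)
    have b6 := b4 a
    rw [conj_of_comm s4, L.eq, b3 rfl] at b6
    obtain rfl : σ = false := by revert b6 a0 a1; clear_aux_decl; clear * -; decide +revert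
    obtain ⟨n, rfl⟩ := L.linQ s2 (h1.piElt s1) (l := l * m) (by revert b1 b2; clear_aux_decl; clear * -; decide +revert) b5
    rw [← map_mul, ← map_mul, L.eq] at s4
    exact s3 (memE (by revert s4 a0; clear_aux_decl; clear * -; decide +kernel +revert))
  obtain ⟨g, -, n, hn, e⟩ := conj_into hS (mem_C1.2 hy) h2
  replace hn : n.b = f0 := hn
  rw [← conj_eq_one_iff (a := g), H23.TC.conj_mul, ← e, ← map_mul,
    (by revert hn; clear_aux_decl; clear * -; decide +kernel +revert : n * n = 1), map_one]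

theorem nρ (e : g * f (ρ f1) * g⁻¹ = f (ρ a)) : a = f1 := by
  have g1 : g ∈ N[A] := L.H.cjN L.pA (L.rK f1) (L.c0.hr.sq _) (L.c0.hr.ne (by decide)) (e ▸ L.rK a)
  have hR := L.c0.hr.cj g
  obtain ⟨k, k1, k2⟩ := Sylow_Jsub p2 (L.cf.sylR.of_le (L := C[A] ⊓ C{f (ρ a)})
    (L.c0.hr.le fun b => ⟨L.rK b, mem_C1.2 (L.c0.hr.comm _ _)⟩) inf_le_left) hR.two
    (hR.le fun b => ⟨cC g1 (L.rK b), mem_C1.2 (e ▸ hR.comm b f1)⟩)
  have k3 := mul_mem (C_le_N A k1.1) g1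
  have hV := L.c0.hv.cj (k * g)
  obtain ⟨s, s1, s2⟩ := Sylow_Jsub p2 L.sylV hV.two (hV.le fun c => cN k3 (L.vA c))
  have r1 : ∀ b, ∃ b', s * (k * g) * f (ρ b) * (s * (k * g))⁻¹ = f (ρ b') := fun b => by
    obtain ⟨b', e'⟩ := k2 (conj_mem_cj k (hR.mem b))
    exact ⟨b', by rw [← conj_of_comm (mem_C'.1 (L.rK b') s s1).symm, show f (ρ b') = _ from e']; group⟩
  obtain ⟨l, m, σ, -, -, b3, b4, -⟩ := L.cls (g := s * (k * g)) (mem_N_of_finite (by
    rintro _ ⟨n, hn, rfl⟩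
    obtain ⟨b', e1⟩ := r1 n.a
    obtain ⟨c', e2⟩ := s2 (conj_mem_cj s (hV.mem n.c))
    rw [E_eq n hn, map_mul, H23.TC.conj_mul, e1, show s * (k * g) * f (ν n.c) * (s * (k * g))⁻¹ =
      f (ν c') by rw [show f (ν c') = _ from e2]; group, ← map_mul]
    exact memE rfl)) (mul_mem (norm_self A s1) k3)
  have b5 := b4 f1
  rw [show s * (k * g) * f (ρ f1) * (s * (k * g))⁻¹ = s * (k * (g * f (ρ f1) * g⁻¹) * k⁻¹) * s⁻¹ by group,
    e, mem_C1_iff_conj.1 k1.2, conj_of_comm (mem_C'.1 (L.rK a) s s1).symm, L.eq, b3 rfl] at b5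
  revert b5; clear_aux_decl; clear * -; decide +revert

end Loc

namespace PE

variable {f : Qm true →* G} (L : PE P A f h ok γ)
include L

theorem clsρ {x : M true} (a0 : a ≠ f0) (a1 : a ≠ f1) (hx : ok x.s)
    (e : g * f (ρ a) * g⁻¹ = ι f γ x) : x.s = f0 ∧ x.n.b = f0 ∧ x.n.a ≠ f0 ∧ x.n.a ≠ f1 := by
  have x2 : x * x = 1 := (L.sq hx).1 (e ▸ H7.SJ.conj_sq (L.c0.hr.sq a) g)
  have h1 := L.e1 rfl _ hx
  rcases (by revert h1 x2; clear_aux_decl; clear * -; decide +kernel +revert : (x.s = f0 ∧ x.n.b = f0 ∧ x.n.a ≠ f0 ∧ x.n.a ≠ f1) ∨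
    (∃ n, iq n * x = x * iq n ∧ n * n ≠ 1) ∨ ∃ n, x = iq (n * ρ f1 * n⁻¹)) with
    c | ⟨n, c1, c2⟩ | ⟨n, rfl⟩
  · exact c
  · rw [← L.comm L.ok0 hx, L.iq', ← e] at c1
    have := L.cρ a0 a1 (y := g⁻¹ * f n * g⁻¹⁻¹) (by
      simpa [mul_assoc] using H23.TC.conj_comm c1 g⁻¹) ((twoE_f n).conj _)
    rw [← H23.TC.conj_mul, conj_eq_one_iff, ← map_mul] at this
    exact absurd this (L.ne c2)
  · rw [L.iq', ← f_conj] at e
    exact absurd (L.nρ (g := g⁻¹ * f n) (by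
      rw [show g⁻¹ * f n * f (ρ f1) * (g⁻¹ * f n)⁻¹ = g⁻¹ * (f n * f (ρ f1) * (f n)⁻¹) * g by group,
        ← e]; group)) a1

theorem syl1 : Syl 2 ⊤ (L.im ⊤) := by
  refine L.syl_of fun g hg => ⟨f0, L.ok0, ?_⟩
  rw [L.g0, one_mul]
  have h1 : ∀ n : Qm true, n.b = f0 → n.a ≠ f0 → n.a ≠ f1 →
      n ∈ (E0.map f).comap ((MulAut.conj g).toMonoidHom.comp f) := fun n b0 a0 a1 => by
    obtain ⟨x, -, x1, x2⟩ := cN hg (L.fS n)
    obtain ⟨m, hm⟩ : ∃ m, m * ρ n.a * m⁻¹ = n := by revert b0 a0; clear_aux_decl; clear * -; decide +kernel +revert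
    obtain ⟨c1, c2, -⟩ := L.clsρ (g := g * f m) a0 a1 x1 (by rw [x2]; nth_rw 2 [← hm]; rw [← f_conj]; group)
    exact ⟨x.n, c2, by rw [← L.iq', show iq x.n = x from M.ext rfl c1.symm]; exact x2⟩
  refine mem_N_of_finite ?_
  rintro _ ⟨n, hn, rfl⟩
  replace hn : n.b = f0 := hn
  obtain ⟨p, q, r, e, a⟩ : ∃ p q r : F4, (n = ⟨p, f0, n.c⟩ * (ρ q * ρ r) ∨ n = ⟨p, f0, n.c⟩ * ρ q) ∧
      p ≠ f0 ∧ p ≠ f1 ∧ q ≠ f0 ∧ q ≠ f1 ∧ r ≠ f0 ∧ r ≠ f1 := by revert hn; clear_aux_decl; clear * -; decide +kernel +revert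
  have b1 := h1 ⟨p, f0, n.c⟩ rfl a.1 a.2.1
  have b2 := h1 (ρ q) rfl a.2.2.1 a.2.2.2.1
  have b3 := h1 (ρ r) rfl a.2.2.2.2.1 a.2.2.2.2.2
  have b4 := mul_mem b1 (mul_mem b2 b3)
  have b5 := mul_mem b1 b2
  rcases e with e | e <;> rw [e]
  exacts [b4, b5]

end PE

end H20.SB
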