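import Mathlib
import Cfsg.Agent.H23.T1
import Cfsg.Agent.H7.SyD
import Cfsg.Agent.H11.ZNEnd2
import Cfsg.Agent.S0949
import Cfsg.Agent.S1741

/-!
# Recognition and transfer theorems for a simple subgroup
-/

set_option autoImplicit false
set_option maxRecDepth 100000
set_option linter.all false

namespace H7.SJ.Emb

open Cfsg H24 H26 H26.Gold Subgroup H7.Sy Equiv

universe u

variable {G : Type u} [Group G] [Finite G]

theorem main_two [IsSimpleGroup G] (E : Emb G)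
    (h2c : ∃ s t : G, orderOf s = 2 ∧ orderOf t = 2 ∧ ¬ IsConj s t) : Nonempty (J2.S ≃* G) := by
  obtain ⟨g, g1, g2⟩ := fuse_u E.noidx
  obtain ⟨n, hn, h⟩ := fuse_n g1 g2
  obtain ⟨h1, h2⟩ := E.consQ hn h
  rw [Cons, X_bot hn h, bot_sup_eq] at h1
  rw [X_bot hn h, bot_sup_eq] at h2
  obtain ⟨π, h3, h4, -⟩ := exists_pi h1 E.S_le hn.1 h
  let ι : Sy →* C{E.ι z} := E.ι.codRestrict _ E.cz'
  have hι : Function.Injective ι := (MonoidHom.injective_codRestrict _ _ _).2 E.inj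
  have h5 : π.ker = Q.map ι := by
    ext x
    rw [MonoidHom.mem_ker, h4]
    refine ⟨fun c => ?_, ?_⟩
    · obtain ⟨k, k1, k2⟩ := h2 x x.2 (mv_Q c x.2)
      exact ⟨k, k1, Subtype.ext k2⟩
    · rintro ⟨k, k1, rfl⟩ i
      exact ⟨_, Cj.self k _, Q_Q k k1 _ (pt_Q i).1⟩
  have zz : ∀ {k}, k ∈ Z → k ∈ zpowers z := fun {k} hk => by
    rcases memZ k hk with rfl | rfl
    exacts [one_mem _, mem_zpowers _]
  have z2 : z * z = 1 := by decide +kernel
  have h6 : H3.XS 2 z Q := ⟨H6.orderOf_eq_two_of z2 (by decide), by decide,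
    fun x _ => (z_comm x).symm, fun x hx y hy => zz (Q_comm x hx y hy),
    fun x hx => zz (pow_two x ▸ Q_sq x hx), fun x hx c => zz (Q_cent x hx c)⟩
  have h7 : ♯π.ker = 32 := by rw [h5, card_map_of_injective hι, card_Q]
  obtain ⟨s, t, s2, t2, st⟩ := h2c
  exact ((JP.main_simple (H6.orderOf_eq_two_of (E.sq1 z2) (E.ne (by decide)))
    ((h5 ▸ h6.map ι hι).isExtraspecial fun c => by
      rw [← c, Nat.card_zpowers, orderOf_injective ι hι, h6.ord] at h7; omega) h7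
    ((QuotientGroup.quotientKerEquivRange π).trans (MulEquiv.subgroupCongr h3))).resolve_right
    fun c => st (c.2 s t s2 t2)).1

end H7.SJ.Emb

namespace H20.SX

open Cfsg H24 H26 H26.Gold Subgroup
open scoped commutatorElement

universe u

variable {G : Type u} [Group G] [Finite G] {X S K V N : Subgroup G} [IsSimpleGroup X]
  {a b u : G}

theorem p2 : Nat.Prime 2 := Nat.prime_two

theorem simp_nml (h : K ⊴ X) : K = ⊥ ∨ K = X :=
  h.normal.eq_bot_or_eq_top.imp (fun e => by rw [← map_subgroupOf' h.le, e, Subgroup.map_bot])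
    fun e => by rw [← map_subgroupOf' h.le, e, map_subtype_top]

theorem perf (h : ¬ Abl X) : ⁅X, X⁆ = X :=
  (simp_nml (der1_nml X)).resolve_left fun e => h (der1_eq_bot.1 e)

theorem sylX (hS : Syl 2 X S) : Syl 2 ⊤ (S.subgroupOf X) := (hall_subgroupOf_top hS.le).2 hS

theorem two_cls (ha : a ∈ X) (hb : b ∈ X) (a2 : a * a = 1) (a1 : a ≠ 1) (b2 : b * b = 1)
    (b1 : b ≠ 1) (hab : ∀ g, g * a * g⁻¹ ≠ b) :
    ∃ s t : X, orderOf s = 2 ∧ orderOf t = 2 ∧ ¬ IsConj s t :=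
  ⟨⟨a, ha⟩, ⟨b, hb⟩, by rw [← orderOf_coe]; exact H23.TC.ord2 a1 a2,
    by rw [← orderOf_coe]; exact H23.TC.ord2 b1 b2, fun h => by
      obtain ⟨g, e⟩ := isConj_iff.1 h
      exact hab g (congrArg Subtype.val e)⟩

theorem abl_of (hS : S ≤ X) (h : Abl (S.subgroupOf X)) : Abl S := by
  rw [← map_subgroupOf' hS]; exact h.map _

theorem sc_contra (hS : Syl 2 X S) (hV : V ≤ S) (h1 : V ≠ ⊥) (h2 : Abl V) (h3 : ¬ Abl S)
    (sc : ∀ v ∈ V, ∀ g, g * v * g⁻¹ ∈ S → g * v * g⁻¹ ∈ V)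
    (h : ∃ s t : X, orderOf s = 2 ∧ orderOf t = 2 ∧ ¬ IsConj s t) : False := by
  obtain ⟨T, hT⟩ := (sylX hS).exists_sylow_top p2
  obtain ⟨s, t, s2, t2, st⟩ := h
  rcases Cfsg.Agent.S1169.result T (V.subgroupOf X) (fun e => h1 (by
    rw [← map_subgroupOf' (hV.trans hS.le), e, Subgroup.map_bot])) (h2.subgroupOf X)
    ⟨hT ▸ subgroupOf_mono X hV, fun v hv g hg => sc v hv g (by rw [hT] at hg; exact hg)⟩ with
    c | ⟨H, c⟩
  · exact h3 (abl_of hS.le (hT ▸ c))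
  · exact st (isConj_iff.2 (H26.BR.conj_of_se c s2 t2))

theorem exists_hom {M : Type} [Group M] (j : M →* G) (hj : Function.Injective j)
    (hS : Syl 2 X j.range) : ∃ i : M →* X, Function.Injective i ∧ Syl 2 ⊤ i.range := by
  refine ⟨j.codRestrict X fun m => hS.le ⟨m, rfl⟩, (MonoidHom.injective_codRestrict _ _ _).2 hj, ?_⟩
  convert sylX hS
  ext x
  exact ⟨fun ⟨m, e⟩ => ⟨m, congrArg Subtype.val e⟩, fun ⟨m, e⟩ => ⟨m, Subtype.ext e⟩⟩

theorem exists_iso {M : Type} [Group M] (j : M →* G) (hj : Function.Injective j)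
    (hS : Syl 2 X j.range) : ∃ T : Sylow 2 X, Nonempty ((T : Subgroup X) ≃* M) := by
  obtain ⟨i, h1, h2⟩ := exists_hom j hj hS
  obtain ⟨T, hT⟩ := h2.exists_sylow_top p2
  exact ⟨T, ⟨(MulEquiv.subgroupCongr hT).trans (MonoidHom.ofInjective h1).symm⟩⟩

theorem isoM12 (j : H25.Tw.S0 →* G) (hj : Function.Injective j) (hS : Syl 2 X j.range)
    (h : ∃ s t : X, orderOf s = 2 ∧ orderOf t = 2 ∧ ¬ IsConj s t) : Spor.IsoM12 X := by
  obtain ⟨T, ⟨e⟩⟩ := exists_iso j hj hS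
  have := Fact.mk p2
  obtain ⟨e'⟩ := H25.Tw.exists_equiv default
  exact Cfsg.Agent.S1741.result T default ⟨e.trans e'⟩ h

theorem isoJ2 (j : H7.Sy →* G) (hj : Function.Injective j) (hS : Syl 2 X j.range)
    (h : ∃ s t : X, orderOf s = 2 ∧ orderOf t = 2 ∧ ¬ IsConj s t) : Spor.IsoJ2 X := by
  obtain ⟨i, h1, h2⟩ := exists_hom j hj hS
  obtain ⟨e⟩ := H7.SJ.Emb.main_two ⟨i, h1, i.range_eq_map ▸ h2⟩ h
  exact H7.J2.isoJ2 e

theorem not_odd (ha : a ∈ X) (a2 : a * a = 1) (a1 : a ≠ 1) (K : Subgroup X) (hK : K.Normal)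
    (ho : OddG K) : K = ⊥ :=
  hK.eq_bot_or_eq_top.resolve_right fun e => a1 (congrArg Subtype.val
    (eq_one_of_odd_sq (x := (⟨a, ha⟩ : X)) (ho.piElt (e.ge (mem_top _))) (Subtype.ext a2)))

theorem not_nml (hX : ¬ Abl X) (hS : S ≤ X) (h1 : S ≠ ⊥) (h2 : Abl S)
    (h : (S.subgroupOf X).Normal) : False := by
  rcases simp_nml (nml_of_normal hS h) with e | e
  exacts [h1 e, hX (e ▸ h2)]

theorem no44 (hX : ¬ Abl X) (j : Multiplicative (ZMod (2 ^ 2) × ZMod (2 ^ 2)) →* G)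
    (hj : Function.Injective j) (hS : Syl 2 X j.range) (ha : a ∈ j.range) (a2 : a * a = 1)
    (a1 : a ≠ 1) : False := by
  obtain ⟨T, hT⟩ := (sylX hS).exists_sylow_top p2
  obtain ⟨T', ⟨e⟩⟩ := exists_iso j hj hS
  have := Fact.mk p2
  refine not_nml hX hS.le (ne_bot_of_mem ha a1) (abl_iff.2 (le_C_iff.2 ?_)) (hT ▸
    (Cfsg.Agent.S0949.result T 2 le_rfl ((T.equiv T').trans e) fun N h1 h2 =>
      not_odd (hS.le ha) a2 a1 N h1 (oddG_iff.2 h2)).1)
  rintro _ ⟨x, rfl⟩ _ ⟨y, rfl⟩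
  rw [← map_mul, mul_comm, map_mul]

theorem no_transfer (hS : Syl 2 X S) (hN : ⁅S, S⁆ ≤ N) (hu : u ∈ S) (h2 : u * u = 1)
    (huN : u ∉ N) (hc : ∀ g, g * u * g⁻¹ ∈ S → g * u * g⁻¹ * u ∈ N) (ha : a ∈ X)
    (a3 : a * a * a = 1) (a1 : a ≠ 1) : False := by
  refine H11.ZN.transfer_not_mem (sylX hS) (N := N.subgroupOf X) (by
    rw [← subgroupOf_comm hS.le hS.le]; exact subgroupOf_mono X hN) (u := ⟨u, hS.le hu⟩) hu
    (Subtype.ext h2) huN (fun g hg => by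
      have := hc (g : G)⁻¹ (by rw [inv_inv]; exact hg)
      rw [inv_inv] at this; exact this) ?_
  have hn : (closure {g : X | Odd (orderOf g)}).Normal := ⟨fun x hx g => by
    refine closure_induction (fun y hy => subset_closure ?_) (by simp) (fun y z _ _ h1 h2 => ?_)
      (fun y _ h1 => ?_) hx
    · show Odd (orderOf (g * y * g⁻¹))
      rwa [show orderOf (g * y * g⁻¹) = orderOf y from
        orderOf_injective (MulAut.conj g).toMonoidHom (MulAut.conj g).injective y]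
    · rw [H23.TC.conj_mul]; exact mul_mem h1 h2
    · rw [← conj_inv]; exact inv_mem h1⟩
  rcases hn.eq_bot_or_eq_top with e | e
  · have : (⟨a, ha⟩ : X) ∈ closure {g : X | Odd (orderOf g)} := subset_closure
      (Odd.of_dvd_nat (show Odd 3 by decide) (orderOf_dvd_of_pow_eq_one
        (Subtype.ext (by rw [pow_succ, pow_two]; exact a3))))
    rw [e, mem_bot] at this
    exact (a1 (congrArg Subtype.val this)).elim
  · exact e.ge (mem_top _)

theorem no_lemN (hX : ¬ Abl X) (hS : Syl 2 X S) (hE : EA S) (h8 : 8 ≤ ♯S)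
    (hN : ∀ b ∈ S, b ≠ 1 → X ⊓ N[S] ⊓ C{b} ≤ C[S]) (ha : a ∈ S) (a1 : a ≠ 1) (hb : b ∈ S)
    (b1 : b ≠ 1) (hab : ∀ g ∈ X, g * a * g⁻¹ ≠ b) : False := by
  have := H25.Tw.lemN (sylX hS) (ea_of_sq fun x hx => Subtype.ext (hE.sq hx))
    (by rwa [card_subgroupOf_of_le hS.le]) (fun y hy y1 x hx => mem_C'.2 fun s hs => Subtype.ext
      (mem_C'.1 (hN y hy (fun e => y1 (Subtype.ext e)) ⟨⟨x.2, mem_N_of_finite fun t ht =>
        H23.TC.cN hx.1 (x := ⟨t, hS.le ht⟩) ht⟩, mem_C1.2 (congrArg Subtype.val (mem_C1.1 hx.2))⟩) s hs))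
    (a := ⟨a, hS.le ha⟩) ha (fun e => a1 (congrArg Subtype.val e)) (b := ⟨b, hS.le hb⟩) hb
    (fun e => b1 (congrArg Subtype.val e)) fun g e => hab g g.2 (congrArg Subtype.val e)
  rw [not_odd (hS.le ha) (hE.sq ha) a1 _ (nml_top_iff.1 (pcore_nml _ ⊤)) (Od_odd ⊤), bot_sup_eq] at this
  exact not_nml hX hS.le (ne_bot_of_mem ha a1) hE.abl (normalizer_eq_top_iff.1 (top_le_iff.1 this))

end H20.SX
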