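import Mathlib
import Cfsg.Agent.H20.SB7
import Cfsg.Agent.H20.SB8

/-!
# The case of `M₁₂`
-/

set_option autoImplicit false
set_option maxRecDepth 100000
set_option linter.all false
set_option synthInstance.maxSize 8000

namespace H20.SB

open Cfsg H24 H26 H26.Gold Subgroup H5.SA F4 H20.SX
open H23.TC (R2 exists_norm_lt conj_of_comm comm_of_conj inv_sq cN cN' cmem mem_syl conj_into)
open scoped commutatorElement

universe u

variable {G : Type u} [Group G] [Finite G] {P : Subgroup G → Prop} {A B C U X : Subgroup G}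
  {g h k q t y z : G} {a b c l s : F4} {ε : Bool} {ok : F4 → Prop} {γ : F4 → G}

def F4.of : ℕ → F4
  | 0 => f0 | 1 => f1 | 2 => fw | _ => fv

/-- decoding -/
def dec (T i : ℕ) : M ε :=
  ⟨⟨F4.of (Nat.mod (Nat.shiftRight T (Nat.mul 8 i)) 4), F4.of (Nat.mod (Nat.shiftRight T (Nat.add (Nat.mul 8 i) 2)) 4),
    F4.of (Nat.mod (Nat.shiftRight T (Nat.add (Nat.mul 8 i) 4)) 4)⟩,
    F4.of (Nat.mod (Nat.shiftRight T (Nat.add (Nat.mul 8 i) 6)) 4)⟩

def jS (s : H25.Tw.S0) : M true := dec 0x556d754d79515971655d457d49616941445c647c58507870746c544c68604840152d350d39111931251d053d09212901041c243c18103830342c140c28200800 s.n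

theorem jS_mul : ∀ s t, jS (s * t) = jS s * jS t := by decide +kernel
theorem jS_inj : ∀ s, jS s = 1 → s = 1 := by decide +kernel
theorem jS_im : ∀ x : M true, (∃ s, jS s = x) ↔ (x.s = f0 ∨ x.s = f1) ∧ (x.n.a = f0 ∨ x.n.a = f1) := by
  decide +kernel

def j4 (p : Multiplicative (ZMod (2 ^ 2) × ZMod (2 ^ 2))) : M true :=
  iq (κ f1 ^ p.toAdd.1.val * κ fw ^ p.toAdd.2.val)

theorem j4_mul : ∀ s t, j4 (s * t) = j4 s * j4 t := by decide +kernel
theorem j4_inj : ∀ s, j4 s = 1 → s = 1 := by decide +kernel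
theorem j4_im : ∀ x : M true, (∃ s, j4 s = x) ↔ x.s = f0 ∧ x.n.a = f0 := by decide +kernel

namespace PE

variable {f : Qm ε →* G} {x x' : M ε} {n : Qm ε} (L : PE P A f h ok γ)
include L

theorem exists_hom (hS : Syl 2 X (L.im ⊤ ⊓ X)) {β : Type} [Group β] (j : β → M ε)
    (h1 : ∀ s t, j (s * t) = j s * j t) (h2 : ∀ s, j s = 1 → s = 1) (h3 : ∀ s, ok (j s).s)
    (h4 : ∀ x, ok x.s → (ι f γ x ∈ X ↔ ∃ s, j s = x)) :
    ∃ i : β →* G, Function.Injective i ∧ Syl 2 X i.range ∧ ∀ s, i s = ι f γ (j s) := by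
  refine ⟨MonoidHom.mk' (fun s => ι f γ (j s)) fun s t => by rw [h1, L.mul (h3 s)],
    (injective_iff_map_eq_one _).2 fun s e => h2 s (L.eq_one (h3 s) e), ?_, fun _ => rfl⟩
  convert hS
  ext g
  refine ⟨?_, ?_⟩
  · rintro ⟨s, rfl⟩
    exact ⟨L.memS (h3 s), (h4 _ (h3 s)).2 ⟨s, rfl⟩⟩
  · rintro ⟨⟨x, -, x1, rfl⟩, x2⟩
    obtain ⟨s, rfl⟩ := (h4 x x1).1 x2
    exact ⟨s, rfl⟩

variable [hn : X.Normal] (hX : ∀ B, P B → B ≤ X)
include hn hX

theorem nab : ¬ Abl X := fun e => L.H.nc A A L.pA L.pA (e.of_le (hX A L.pA)).le_C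

theorem PX (hn' : n.a = f0) : f n ∈ X := by
  obtain ⟨b, c, rfl⟩ : ∃ b c, n = κ b * (η fw (κ b))⁻¹ * ν c := by revert hn'; clear_aux_decl; clear * -; decide +kernel +revert
  have h1 := hX A L.pA L.hA
  rw [map_mul, map_mul, map_inv, ← L.hη]
  refine mul_mem ?_ (hX A L.pA (L.vA c))
  have := mul_mem (hn.conj_mem _ h1 (f (κ b))) (inv_mem h1)
  simpa [mul_assoc] using this

theorem red : ι f γ x ∈ X ↔ f (ρ x.n.a) * γ x.s ∈ X := by
  have : ι f γ x = f (x.n * (ρ x.n.a)⁻¹) * (f (ρ x.n.a) * γ x.s) := by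
    rw [ι, map_mul, map_inv]; group
  rw [this, mul_mem_cancel_left (L.PX hX (by generalize x.n = n; clear_aux_decl; clear * -; decide +kernel +revert))]

theorem red0 (hs : x.s = f0) : ι f γ x ∈ X ↔ f (ρ x.n.a) ∈ X := by
  rw [L.red hX, hs, L.g0, mul_one]

theorem red1 (hx : ok x.s) (hs : x.s = f1) (h : ι f γ x ∈ X) : f (ρ f1) ∈ X := by
  have := mul_mem (hn.conj_mem _ h (ι f γ (iq (ρ fw)))) (inv_mem h)
  rw [L.conj L.ok0 hx, ← L.inv hx, ← L.mul (L.okmul (L.okmul L.ok0 hx) L.ok0),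
    L.red0 hX (by revert hs; clear_aux_decl; clear * -; decide +kernel +revert)] at this
  rwa [← (by revert hs; clear_aux_decl; clear * -; decide +kernel +revert : (iq (ρ fw) * x * (iq (ρ fw))⁻¹ * x⁻¹).n.a = f1)]

theorem two_cls (ha : a ≠ f0) (h : f (ρ a) ∈ X) [IsSimpleGroup X] :
    ∃ s t : X, orderOf s = 2 ∧ orderOf t = 2 ∧ ¬ IsConj s t :=
  SX.two_cls h (hX A L.pA (L.vA f1)) (L.c0.hr.sq a) (L.c0.hr.ne ha) (L.c0.hv.sq f1)
    (L.c0.hv.ne (by decide)) fun g e =>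
      L.nV f1 (e ▸ DD.conj L.H.toGeo (L.dE (n := ρ a) rfl ha) g)

end PE

/-- the subgroup of index two in the case of `M₁₂` -/
def H1 : Subgroup (M true) where
  carrier := {x | x.n.a = f0 ∨ x.n.a = f1}
  one_mem' := Or.inl rfl
  mul_mem' := by
    intro x y; simp only [Set.mem_setOf_eq]; revert x y; decide +kernel
  inv_mem' := by
    intro x; simp only [Set.mem_setOf_eq]; revert x; decide +kernel

theorem PE.m12 {f : Qm true →* G} (L : PE P A f h ok γ) [hn : X.Normal] [IsSimpleGroup X]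
    (hX : ∀ B, P B → B ≤ X) : Spor.IsoM12 X := by
  have hS : Syl 2 X (L.im ⊤ ⊓ X) := L.syl1.inf_nml (nml_top_iff.2 hn)
  have nρ : ∀ a, f (ρ a) ∈ X → a = f0 ∨ a = f1 := fun a ha => by
    by_contra hc
    push Not at hc
    obtain ⟨k, -, x, x1, x2, e⟩ := H23.TC.thompson (Q := L.im H1) (perf (L.nab hX)) hS (by
      rintro _ ⟨⟨x, -, x1, rfl⟩, -⟩ _ ⟨⟨y, -, y1, rfl⟩, -⟩ h1 h2
      rw [L.mem_im x1] at h1
      rw [L.mem_im y1] at h2
      rw [← L.mul x1, L.mem_im (L.okmul x1 y1)]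
      simp only [H1, mem_mk, Submonoid.mem_mk, Subsemigroup.mem_mk, Set.mem_setOf_eq] at h1 h2 ⊢
      revert h1 h2; clear_aux_decl; clear * -; decide +kernel +revert) ⟨L.fS _, ha⟩ (L.c0.hr.sq a)
    have := L.clsρ hc.1 hc.2 x2 e.symm
    rcases x1 with c | c
    exacts [this.2.2.1 c, this.2.2.2 c]
  by_cases r1 : f (ρ f1) ∈ X
  swap
  · obtain ⟨i, i1, i2, i3⟩ := L.exists_hom hS j4 j4_mul j4_inj (fun _ => L.ok0) fun x hx => by
      rw [j4_im]
      rcases L.e1 rfl _ hx with e | e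
      · rw [L.red0 hX e]
        exact ⟨fun c => ⟨e, (nρ _ c).resolve_right fun c' => r1 (c' ▸ c)⟩,
          fun c => by rw [c.2]; exact L.PX hX rfl⟩
      · exact ⟨fun c => absurd (L.red1 hX hx e c) r1, fun c => absurd (e.symm.trans c.1) (by decide)⟩
    obtain ⟨s, hs⟩ := (j4_im (iq (ν f1))).2 ⟨rfl, rfl⟩
    exact (no44 (L.nab hX) i i1 i2 ⟨s, by rw [i3, hs, L.iq']⟩ (L.c0.hv.sq f1)
      (L.c0.hv.ne (by decide))).elim
  have rX : ∀ a, a = f0 ∨ a = f1 → f (ρ a) ∈ X := by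
    rintro _ (rfl | rfl)
    exacts [L.PX hX rfl, r1]
  by_cases t1 : ok f1 ∧ γ f1 ∈ X
  · obtain ⟨i, i1, i2, -⟩ := L.exists_hom hS jS jS_mul jS_inj (fun s => by
      rcases ((jS_im _).1 ⟨s, rfl⟩).1 with e | e <;> rw [e]
      exacts [L.ok0, t1.1]) fun x hx => by
      have e := L.e1 rfl _ hx
      rw [jS_im, L.red hX, mul_mem_cancel_right (by
        rcases e with e | e <;> rw [e]
        exacts [L.g0 ▸ one_mem _, t1.2])]
      exact ⟨fun c => ⟨e, nρ _ c⟩, fun c => rX _ c.2⟩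
    exact isoM12 i i1 i2 (L.two_cls hX (by decide) r1)
  have h2 : ∀ x : M true, ok x.s → ι f γ x ∈ X → x.s = f0 ∧ (x.n.a = f0 ∨ x.n.a = f1) ∨
      x.s = f1 ∧ x.n.a ≠ f0 ∧ x.n.a ≠ f1 := fun x hx c => by
    rcases L.e1 rfl _ hx with e | e
    · exact Or.inl ⟨e, nρ _ ((L.red0 hX e).1 c)⟩
    · refine Or.inr ⟨e, not_or.1 fun c' => t1 ⟨e ▸ hx, ?_⟩⟩
      rwa [L.red hX, mul_mem_cancel_left (rX _ c'), e] at c
  have mP : ∀ x : M true, x.s = f0 ∧ x.n.a = f0 → ι f γ x ∈ P0.map f := fun x c => by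
    rw [ι, c.1, L.g0, mul_one]; exact memP c.2
  refine (no_transfer hS (N := P0.map f) (commutator_le.2 ?_) ⟨L.fS _, r1⟩ (L.c0.hr.sq f1)
    (fun ⟨n, c1, c2⟩ => absurd (L.inj c2 ▸ c1 : (ρ f1 : Qm true).a = f0) (by decide)) ?_
    (hX A L.pA L.hA) L.h3 fun e => ?_).elim
  · rintro _ ⟨⟨x, -, x1, rfl⟩, x2⟩ _ ⟨⟨y, -, y1, rfl⟩, y2⟩
    rw [commutatorElement_def, L.conj x1 y1, ← L.inv y1, ← L.mul (x := x * y * x⁻¹) (L.okmul (x := x * y) (x' := x⁻¹) (L.okmul x1 y1) x1)]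
    have a1 := h2 x x1 x2
    have a2 := h2 y y1 y2
    exact mP _ (by revert a1 a2; clear_aux_decl; clear * -; decide +kernel +revert)
  · rintro g ⟨⟨x, -, x1, e⟩, x2⟩
    have a1 := h2 x x1 (e ▸ x2)
    have a2 := (L.sq x1).1 (e ▸ H7.SJ.conj_sq (L.c0.hr.sq f1) g)
    rw [← e, ← L.iq', ← L.mul x1]
    rcases (by revert a1 a2; clear_aux_decl; clear * -; decide +kernel +revert : (∃ c, x = iq (ν c)) ∨
      (x * iq (ρ f1)).s = f0 ∧ (x * iq (ρ f1)).n.a = f0) with ⟨c, rfl⟩ | c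
    · rw [L.iq'] at e
      exact absurd (e ▸ DD.conj L.H.toGeo (L.dE (n := ρ f1) rfl (by decide)) g) (L.nV c)
    · exact mP _ c
  · have := L.hη (ν f1)
    rw [e, one_mul, inv_one, mul_one, L.eq] at this
    exact absurd this (by decide)

end H20.SB
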