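import Mathlib
import Cfsg.Agent.H20.SB9

/-!
# The case of `J₂`
-/

set_option autoImplicit false
set_option maxRecDepth 100000
set_option linter.all false
set_option synthInstance.maxSize 8000

namespace H20.SB

open Cfsg H24 H26 H26.Gold Subgroup H5.SA F4 H20.SX
open H23.TC (R2 exists_norm_lt conj_of_comm comm_of_conj inv_sq cN cN' cmem mem_syl conj_into)

universe u

variable {G : Type u} [Group G] [Finite G] {P : Subgroup G → Prop} {A B C U X : Subgroup G}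
  {g h k q t y z : G} {a b c l s : F4} {ok : F4 → Prop} {γ : F4 → G} {f : Qm false →* G}

def jY (k : H7.Sy) : M false := dec 0xd2c2e2f2e7f7d7c7e9f9d9c9ecfcdcccd6c6e6f6e3f3d3c3edfdddcde8f8d8c8dacaeafaefffdfcfe1f1d1c1e4f4d4c4deceeefeebfbdbcbe5f5d5c5e0f0d0c01202223227371707293919092c3c1c0c16062636233313032d3d1d0d283818081a0a2a3a2f3f1f0f21311101243414041e0e2e3e2b3b1b0b2535150520301000 k.val

theorem jY_mul : ∀ s t, jY (s * t) = jY s * jY t := by decide +kernel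
theorem jY_inj : ∀ s, jY s = 1 → s = 1 := by decide +kernel
theorem jY_im : ∀ x : M false, (∃ s, jY s = x) ↔ x.s = f0 ∨ x.s = fv := by decide +kernel

theorem gen_quo {R K D W : Subgroup G} (hR : EA R) (h4 : 4 ≤ ♯R) (hK : R ≤ N[K]) (hi : K ⊓ R = ⊥)
    (hD : D ≤ N[K]) (hS : Syl 2 D K) (hn : R ≤ N[D]) (hW : K ⊴ W)
    (h : ∀ a ∈ R, a ≠ 1 → ∀ x ∈ D, x * a * x⁻¹ * a⁻¹ ∈ K → x ∈ W) : D ≤ W := by
  refine le_of_quo_le hD hW (H7.SJ.gen1 (A := quo R K) (ea_of_sq fun z hz => ?_)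
    (by rwa [card_quo_of_inf hK hi]) ((isPi_quo_iff hD).2 hS.idx) (quo_norm K hn)
    fun z hz z1 w hw => ?_)
  · obtain ⟨a, a1, a2, rfl⟩ := mem_quo.1 hz
    rw [cs, ← ap_mul _ a2 a2, hR.sq a1]; exact cs_of_mem (one_mem _)
  · obtain ⟨a, a1, a2, rfl⟩ := mem_quo.1 hz
    obtain ⟨x, x1, x2, rfl⟩ := mem_quo.1 hw.1
    refine cs_mem_quo (h a a1 (by rintro rfl; exact z1 (cs_of_mem (one_mem _))) x x1
      ((cs_eq_one (mul_mem (cmem x2 a2) (inv_mem a2))).1 ?_)) x2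
    have := mem_C1.1 hw.2
    rw [cs, ap_mul _ (cmem x2 a2) (inv_mem a2), ap_mul _ (mul_mem x2 a2) (inv_mem x2), ap_mul _ x2 a2,
      ap_inv _ x2, ap_inv _ a2, show ap (coset K) x * ap (coset K) a = _ from this]
    group

/-- conjugate to the central involution -/
def vc (f : Qm false →* G) (x : G) : Prop := ∃ g, g * f (ν f1) * g⁻¹ = x

theorem vc.conj (h : vc f y) (g : G) : vc f (g * y * g⁻¹) := by
  obtain ⟨k, rfl⟩ := h; exact ⟨g * k, by group⟩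
theorem vc.of_conj (h : vc f (g * y * g⁻¹)) : vc f y := by
  have := h.conj g⁻¹
  rwa [show g⁻¹ * (g * y * g⁻¹) * g⁻¹⁻¹ = y by group] at this

theorem inv_fus : ∀ x : M false, x * x = 1 →
    (∃ c, x = iq (ν c)) ∨ ∃ n, iq n * x * (iq n)⁻¹ = x * iq (ν f1) := by decide +kernel

/-- the elements acting on `P` as a power of `h` -/
def Lh (f : Qm false →* G) : Subgroup G where
  carrier := {x | ∃ l, l ≠ f0 ∧ ∀ p : Qm false, p.a = f0 → x * f p * x⁻¹ = f (η l p)}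
  one_mem' := ⟨f1, by decide, fun p _ => by
    rw [(by clear_aux_decl; clear * -; decide +revert : η f1 p = p)]; group⟩
  mul_mem' := by
    rintro x y ⟨l, l0, e⟩ ⟨m, m0, e'⟩
    refine ⟨l * m, by revert l0 m0; clear_aux_decl; clear * -; decide +revert, fun p hp => ?_⟩
    rw [← (by clear_aux_decl; clear * -; decide +kernel +revert : η l (η m p) = η (l * m) p), ← e (η m p) hp, ← e' p hp]; group
  inv_mem' := by
    rintro x ⟨l, l0, e⟩
    refine ⟨l.bar, by revert l0; clear_aux_decl; clear * -; decide +revert, fun p hp => ?_⟩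
    nth_rw 1 [← (by revert l0; clear_aux_decl; clear * -; decide +kernel +revert : η l (η l.bar p) = p)]
    rw [← e (η l.bar p) hp]; group

theorem C_le_Lh : C[P0.map f] ≤ Lh f := fun x hx => ⟨f1, by decide, fun p hp => by
  rw [(by clear_aux_decl; clear * -; decide +revert : η f1 p = p)]; exact conj_eq_of_mem_C hx (memP hp)⟩

/-- a subgroup of index two -/
def Hs (s : F4) : Subgroup (M false) where
  carrier := {x | x.s = f0 ∨ x.s = s}
  one_mem' := Or.inl rfl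
  mul_mem' := fun {x y} (hx : x.s = f0 ∨ x.s = s) (hy : y.s = f0 ∨ y.s = s) =>
    show x.s + y.s = f0 ∨ x.s + y.s = s by
      revert hx hy; generalize x.s = a; generalize y.s = b; clear_aux_decl; clear * -; decide +revert
  inv_mem' := id

namespace PE

variable {x : M false} (L : PE P A f h ok γ)
include L

theorem vc_nD (hy : vc f y) : ¬ DD P y := fun d => by
  obtain ⟨g, rfl⟩ := hy; exact L.nV f1 (DD.of_conj L.H d)
theorem vc_sq (hy : vc f y) : y * y = 1 := by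
  obtain ⟨g, rfl⟩ := hy; exact H7.SJ.conj_sq (L.c0.hv.sq f1) g
theorem vcV (hc : c ≠ f0) : vc f (f (ν c)) := ⟨hh h c, (L.ach hc _).trans (congrArg f (by clear_aux_decl; clear * -; decide +revert))⟩
theorem sylC : Syl 2 (⊤ ⊓ C{f (ν f1)}) (L.im ⊤) := L.syl0.of_le (by
  rintro _ ⟨x, -, x1, rfl⟩
  rw [top_inf_eq, mem_C1, ← L.iq', L.comm x1 L.ok0]
  clear_aux_decl; clear * -; decide +kernel +revert) le_top

theorem fus (hy : vc f y) (z2 : z * z = 1) (z1 : z ≠ 1) (hc : z * y = y * z) :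
    vc f z ∨ ∃ g, g * z * g⁻¹ = z * y := by
  obtain ⟨g, rfl⟩ := hy
  obtain ⟨k, k1, x, -, x1, e⟩ := conj_into L.sylC (x := g⁻¹ * z * g⁻¹⁻¹) ⟨trivial, mem_C1.2 (by
    simpa [mul_assoc] using H23.TC.conj_comm hc g⁻¹)⟩ ((twoE_of_sq z2).conj _)
  rcases inv_fus x ((L.sq x1).1 (e ▸ H7.SJ.conj_sq (H7.SJ.conj_sq z2 _) _)) with ⟨c, rfl⟩ | ⟨n, hn⟩
  · rw [L.iq'] at e
    refine Or.inl (vc.of_conj (vc.of_conj (e ▸ L.vcV ?_)))
    rintro rfl
    exact H23.TC.conj_ne (H23.TC.conj_ne z1 _) _ (e.symm.trans L.c0.hv.zero)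
  · refine Or.inr ⟨g * k⁻¹ * f n * k * g⁻¹, ?_⟩
    have := L.conj (x := iq n) L.ok0 x1
    rw [hn, L.mul x1, L.iq', L.iq', e] at this
    calc _ = g * k⁻¹ * (f n * (k * (g⁻¹ * z * g⁻¹⁻¹) * k⁻¹) * (f n)⁻¹) * k * g⁻¹ := by group
      _ = z * (g * (k⁻¹ * f (ν f1) * k⁻¹⁻¹) * g⁻¹) := by rw [this]; group
      _ = _ := by rw [mem_C1_iff_conj.1 (inv_mem k1.2)]

theorem nt (h1 : ok f1) : ¬ vc f (γ f1) := fun ht => by
  have d := L.dE (n := ρ f1) rfl (by decide)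
  rcases L.fus ht d.1 d.2.1 ((L.ac _ h1).comm rfl).symm with c | ⟨g, e⟩
  · exact L.vc_nD c d
  · refine L.vc_nD ?_ (DD.conj L.H.toGeo d g)
    rw [e, ← L.iq', ← L.ou', ← L.mul L.ok0,
      ← (by decide : iq (ρ fw) * ou f1 * (iq (ρ fw))⁻¹ = (iq (ρ f1) * ou f1 : M false)),
      ← L.conj L.ok0 h1, L.ou']
    exact ht.conj _

theorem out (hx : ok x.s) (hs : x.s ≠ f0) (x2 : x * x = 1) : ∃ g, g * ι f γ x * g⁻¹ = γ x.s := by
  obtain ⟨n, e⟩ := inv_out x hs x2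
  exact ⟨_, by rw [L.conj (x := iq n) L.ok0 hx, e, L.ou']⟩

theorem ι0 (hs : x.s = f0) : ι f γ x = f x.n := by rw [ι, hs, L.g0, mul_one]

theorem vc_cases (hx : ok x.s) (hv : vc f (ι f γ x)) :
    (x.s = f0 ∧ x.n.a = f0) ∨ ((x.s = fw ∨ x.s = fv) ∧ vc f (γ x.s)) := by
  have x2 : x * x = 1 := (L.sq hx).1 (L.vc_sq hv)
  by_cases hs : x.s = f0
  · refine Or.inl ⟨hs, by_contra fun a0 => L.vc_nD hv ?_⟩
    rw [L.ι0 hs]
    exact L.dE (by revert hs x2 a0; clear_aux_decl; clear * -; decide +kernel +revert) a0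
  · obtain ⟨g, e⟩ := L.out hx hs x2
    have h1 := e ▸ hv.conj g
    have h2 : x.s ≠ f1 := fun e => L.nt (e ▸ hx) (e ▸ h1)
    exact Or.inr ⟨by revert hs h2; generalize x.s = s; clear_aux_decl; clear * -; decide +revert, h1⟩

theorem dκ (hs : ok s) (h1 : s = fw ∨ s = fv) : DD P (f (κ f1)) := by
  have := DD.conj L.H.toGeo (L.dE (n := ρ f1) rfl (by decide)) (γ s)
  rwa [L.ac s hs, (by revert h1; clear_aux_decl; clear * -; decide +revert : α s (ρ f1) = (κ f1 : Qm false))] at this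

theorem dP (hD : DD P (f (κ f1))) {p : Qm false} (ha : p.a = f0) (hb : p.b ≠ f0) : DD P (f p) := by
  obtain ⟨g, e⟩ := L.conjP ha hb
  exact e ▸ DD.conj L.H.toGeo hD g

variable [hn : X.Normal] [IsSimpleGroup X] (hX : ∀ B, P B → B ≤ X)
include hn hX

theorem sylX : Syl 2 X (L.im ⊤ ⊓ X) := L.syl0.inf_nml (nml_top_iff.2 hn)

theorem sc (ha : a ≠ f0) (hr : f (ρ a) ∈ X) (W : Subgroup (Qm false)) (h1 : ν f1 ∈ W) (h2 : W ≤ P0)
    (h3 : ∀ n ∈ W, n ≠ 1 → vc f (f n))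
    (h4 : ∀ x, ok x.s → ι f γ x ∈ X → vc f (ι f γ x) → x.s = f0 ∧ x.n ∈ W) : False := by
  refine sc_contra (L.sylX hX) (V := W.map f) ?_ (ne_bot_of_mem ⟨_, h1, rfl⟩ (L.c0.hv.ne (by decide)))
    (abl_iff.2 (le_C_iff.2 ?_)) (fun e => ?_) ?_ (L.two_cls hX ha hr)
  · rintro _ ⟨n, hn, rfl⟩
    exact ⟨L.fS n, L.PX hX (h2 hn)⟩
  · rintro _ ⟨x, hx, rfl⟩ _ ⟨y, hy, rfl⟩
    rw [← map_mul, P_comm x (h2 hx) y (h2 hy), map_mul]
  · have := e.comm (x := f (ρ a)) (y := f (κ f1)) ⟨L.fS _, hr⟩ ⟨L.fS _, L.PX hX rfl⟩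
    rw [← map_mul, ← map_mul, L.eq] at this
    revert this ha; clear_aux_decl; clear * -; decide +revert
  · rintro _ ⟨n, n0, rfl⟩ g ⟨⟨x, -, x1, e⟩, x2⟩
    by_cases n1 : n = 1
    · rw [n1, map_one, mul_one, mul_inv_cancel]; exact one_mem _
    have := h4 x x1 (e ▸ x2) (e ▸ (h3 n n0 n1).conj g)
    exact ⟨x.n, this.2, by rw [← e, L.ι0 this.1]⟩

theorem scV (ha : a ≠ f0) (hr : f (ρ a) ∈ X) (hk : ¬ vc f (f (κ f1)))
    (h4 : ∀ s, ok s → γ s ∈ X → s = fw ∨ s = fv → ¬ vc f (γ s))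
    (h5 : ∀ x, ok x.s → ι f γ x ∈ X → x.s = fw ∨ x.s = fv → γ x.s ∈ X) : False := by
  refine L.sc hX ha hr (E0 ⊓ P0) ⟨rfl, rfl⟩ inf_le_right (fun n c n1 => ?_) fun x x1 x2 x3 => ?_
  · rw [V_eq n c.2 c.1] at n1 ⊢
    exact L.vcV fun e => n1 (by rw [e]; rfl)
  · obtain ⟨c1, c2⟩ := (L.vc_cases x1 x3).resolve_right fun c => h4 _ x1 (h5 x x1 x2 c.1) c.1 c.2
    refine ⟨c1, by_contra fun c3 => ?_, c2⟩
    obtain ⟨g, e⟩ := L.conjP c2 c3
    exact hk (vc.of_conj (by rwa [e, ← L.ι0 c1]))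

theorem key (hS : Syl 2 X (P0.map f)) : X ⊓ N[P0.map f] ≤ Lh f := by
  have hP : P0.map f ≤ C[P0.map f] := le_C_iff.2 (by
    rintro _ ⟨x, hx, rfl⟩ _ ⟨y, hy, rfl⟩
    rw [← map_mul, P_comm x hx y hy, map_mul])
  have hD : Syl 2 (X ⊓ N[P0.map f]) (P0.map f) :=
    hS.of_le (le_inf hS.le (norm_self _)) inf_le_left
  have exP : ∀ {y}, y ∈ N[P0.map f] → ∀ p : Qm false, p.a = f0 →
      ∃ m : Qm false, m.a = f0 ∧ y * f p * y⁻¹ = f m := fun hy p hp => by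
    obtain ⟨m, h1, h2⟩ := cN hy (memP hp)
    exact ⟨m, h1, h2.symm⟩
  have cen : ∀ {w}, w ∈ X ⊓ N[P0.map f] → (∀ c, w * f (ν c) * w⁻¹ = f (ν c)) →
      (∀ p : Qm false, p.a = f0 → ∃ c, w * f p * w⁻¹ = f (p * ν c)) → w ∈ C[P0.map f] :=
    fun {w} w1 w2 w3 => H7.SJ.mem_of_sq hD inf_le_right hP w1 (mem_C'.2 (by
      rintro _ ⟨p, hp, rfl⟩
      obtain ⟨c, e⟩ := w3 p hp
      refine comm_of_conj ?_
      rw [show w * w * f p * (w * w)⁻¹ = w * (w * f p * w⁻¹) * w⁻¹ by group, e, map_mul,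
        H23.TC.conj_mul, e, w2, map_mul, mul_assoc, L.c0.hv.sq, mul_one]))
  refine gen_quo L.c0.hr.ea L.c0.hr.card.ge (L.c0.hr.le fun a => f_NP _) (eq_bot_iff.2 ?_) inf_le_right hD
    (L.c0.hr.le fun a => mem_N_of_finite fun x hx => ⟨hn.conj_mem x hx.1 _, cmem (f_NP _) hx.2⟩)
    ⟨hP.trans C_le_Lh, fun x ⟨l, _, e⟩ => mem_N_of_finite ?_⟩ ?_
  · rintro _ ⟨⟨p, hp, rfl⟩, a, e⟩
    have := L.inj e
    replace hp : p.a = f0 := hp
    rw [mem_bot, (by revert this hp; clear_aux_decl; clear * -; decide +revert : p = 1), map_one]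
  · rintro _ ⟨p, hp, rfl⟩
    rw [e p hp]; exact memP hp
  rintro _ ⟨a, rfl⟩ a1 x x1 ⟨p, hp, e⟩
  replace hp : p.a = f0 := hp
  have a0 : a ≠ f0 := by rintro rfl; exact a1 L.c0.hr.zero
  rw [eq_mul_inv_iff_mul_eq, ← map_mul] at e
  have e2 : p * ρ a * (p * ρ a) = 1 := L.inj (by
    rw [map_mul, map_one, e]; exact H7.SJ.conj_sq (L.c0.hr.sq a) x)
  obtain ⟨b, hb⟩ : ∃ b, (κ b)⁻¹ * (p * ρ a) * (κ b)⁻¹⁻¹ = ρ a := by revert hp a0 e2; clear_aux_decl; clear * -; decide +kernel +revert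
  have y1 : f (κ b)⁻¹ * x ∈ X ⊓ N[P0.map f] := mul_mem ⟨L.PX hX rfl, f_NP _⟩ x1
  have y2 : f (κ b)⁻¹ * x * f (ρ a) * (f (κ b)⁻¹ * x)⁻¹ = f (ρ a) := by
    nth_rw 2 [← hb]
    rw [← f_conj, e]; group
  rw [← mul_mem_cancel_left (C_le_Lh (hP (memP (n := (κ b)⁻¹) rfl)))]
  generalize f (κ b)⁻¹ * x = y at y1 y2
  have y3 := L.c0.nA a0 (comm_of_conj y2)
  obtain ⟨l, l0, σ, y4⟩ := L.c0.hv.act' L.c0.hv (g := y) fun c => by
    obtain ⟨m, m1, m2⟩ := exP y1.2 (ν c) rfl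
    obtain ⟨c', e⟩ := mem_syl L.sylV (cN y3 (L.vA c)) ((twoE_f _).conj y) (C_le_N _ (mem_C'.2 (by
      rintro _ ⟨d, rfl⟩
      rw [m2, ← map_mul, ← map_mul, ν_comm])))
    exact ⟨c', e.symm⟩
  have y5 : ∀ p : Qm false, p.a = f0 → ∃ m : Qm false, m.a = f0 ∧ a * m.b = l * sg σ (a * p.b) ∧
      y * f p * y⁻¹ = f m := fun p hp => by
    obtain ⟨m, m1, m2⟩ := exP y1.2 p hp
    refine ⟨m, m1, ?_, m2⟩
    have := y4 (a * p.b)
    rw [← (by revert hp; clear_aux_decl; clear * -; decide +kernel +revert : p⁻¹ * (ρ a * p * (ρ a)⁻¹) = ν (a * p.b)), map_mul, ← f_conj, map_inv,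
      show y * ((f p)⁻¹ * (f (ρ a) * f p * (f (ρ a))⁻¹)) * y⁻¹ = (y * f p * y⁻¹)⁻¹ *
        (y * f (ρ a) * y⁻¹ * (y * f p * y⁻¹) * (y * f (ρ a) * y⁻¹)⁻¹) by group, y2, m2, f_conj,
      ← map_inv, ← map_mul, L.eq] at this
    revert this m1; generalize l * sg σ (a * p.b) = d; clear_aux_decl; clear * -; decide +kernel +revert
  cases σ
  · have h1 : hh h l.bar ∈ Lh f := ⟨l.bar, by revert l0; clear_aux_decl; clear * -; decide +revert, fun p _ => L.ach (by revert l0; clear_aux_decl; clear * -; decide +revert) p⟩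
    have h2 := L.ach (l := l.bar) (by revert l0; clear_aux_decl; clear * -; decide +revert)
    have cj : ∀ x, hh h l.bar * y * x * (hh h l.bar * y)⁻¹ =
      hh h l.bar * (y * x * y⁻¹) * (hh h l.bar)⁻¹ := fun x => by group
    refine (mul_mem_cancel_left h1).1 (C_le_Lh (cen (mul_mem ⟨hh_mem (hX A L.pA L.hA) _,
      h2.memP fun n c => c⟩ y1) (fun c => ?_) fun p hp => ?_))
    · rw [cj, y4, h2]; exact congrArg f (by revert l0; clear_aux_decl; clear * -; decide +revert)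
    · obtain ⟨m, m1, m2, m3⟩ := y5 p hp
      rw [cj, m3, h2]
      simp only [L.eq]
      revert m1 m2 hp l0 a0; clear_aux_decl; clear * -; decide +kernel +revert
  · have cj : ∀ x, y * y * x * (y * y)⁻¹ = y * (y * x * y⁻¹) * y⁻¹ := fun x => by group
    refine C_le_Lh (H7.SJ.mem_of_sq hD inf_le_right hP y1 (cen (mul_mem y1 y1) (fun c => ?_)
      fun p hp => ?_))
    · rw [cj, y4, y4]; exact congrArg f (by revert l0; clear_aux_decl; clear * -; decide +revert)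
    · obtain ⟨m, m1, m2, m3⟩ := y5 p hp
      obtain ⟨m', n1, n2, n3⟩ := y5 m m1
      have : m'.b = p.b := by
        revert m2 n2 l0 a0; generalize m.b = b1; generalize m'.b = b2; generalize p.b = b3; clear_aux_decl; clear * -; decide +kernel +revert
      rw [cj, m3, n3]
      simp only [L.eq]
      revert n1 hp this; clear_aux_decl; clear * -; decide +kernel +revert

theorem b1 (hD : ¬ DD P (f (κ f1))) : False := by
  have o1 : ∀ s, ok s → ¬ (s = fw ∨ s = fv) := fun s hs c => hD (L.dκ hs c)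
  by_cases hr : ∃ a, a ≠ f0 ∧ f (ρ a) ∈ X
  · obtain ⟨a, ha, hr⟩ := hr
    by_cases hk : vc f (f (κ f1))
    · refine L.sc hX ha hr P0 rfl le_rfl (fun n c n1 => ?_) fun x x1 _ x3 =>
        (L.vc_cases x1 x3).resolve_right fun c => o1 _ x1 c.1
      by_cases hb : n.b = f0
      · rw [V_eq n c hb] at n1 ⊢
        exact L.vcV fun e => n1 (by rw [e]; rfl)
      · obtain ⟨g, e⟩ := L.conjP c hb
        exact e ▸ hk.conj g
    · exact L.scV hX ha hr hk (fun s h1 _ h2 => absurd h2 (o1 s h1)) fun x h1 _ h2 =>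
        absurd h2 (o1 _ h1)
  push Not at hr
  have hS : Syl 2 X (P0.map f) := by
    convert L.sylX hX
    refine le_antisymm ?_ ?_
    · rintro _ ⟨n, c, rfl⟩
      exact ⟨L.fS n, L.PX hX c⟩
    · rintro _ ⟨⟨x, -, x1, rfl⟩, x2⟩
      have h1 := o1 _ x1
      have h2 : x.s ≠ f1 := fun e => hr f1 (by decide) (L.red1 hX x1 e x2)
      have h3 : x.s = f0 := by revert h1 h2; generalize x.s = s; clear_aux_decl; clear * -; decide +revert
      rw [L.ι0 h3]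
      exact memP (by_contra fun c => hr _ c ((L.red0 hX h3).1 x2))
  have hE : EA (P0.map f) := ea_of_sq (by
    rintro _ ⟨n, c, rfl⟩
    replace c : n.a = f0 := c
    rw [← map_mul, (by revert c; clear_aux_decl; clear * -; decide +revert : n * n = 1), map_one])
  refine no_lemN (L.nab hX) hS hE ?_ ?_ (memP (n := ν f1) rfl) (L.ne (by decide))
    (memP (n := κ f1) rfl) (L.ne (by decide)) fun g g1 e => ?_
  · rw [card_map_of_injective L.inj]
    have := Nat.card_le_card_of_injective (β := (P0 : Subgroup (Qm false)))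
      (fun p : F4 × F4 => ⟨⟨f0, p.1, p.2⟩, rfl⟩) fun p q e =>
        Prod.ext (congrArg (·.1.b) e) (congrArg (·.1.c) e)
    rw [Nat.card_prod, F4.card] at this
    omega
  · rintro _ ⟨p, hp, rfl⟩ p1 x ⟨x1, x2⟩
    replace hp : p.a = f0 := hp
    obtain ⟨l, l0, e⟩ := L.key hX hS x1
    have h1 := L.inj ((e p hp).symm.trans (mem_C1_iff_conj.1 x2))
    have h2 : p ≠ 1 := by rintro rfl; exact p1 f.map_one
    obtain rfl : l = f1 := by revert h1 h2 hp; clear_aux_decl; clear * -; decide +kernel +revert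
    refine mem_C'.2 ?_
    rintro _ ⟨m, hm, rfl⟩
    exact comm_of_conj (by rw [e m hm, (by clear_aux_decl; clear * -; decide +revert : η f1 m = m)])
  · have hC : ∀ n : Qm false, n.a = f0 → P0.map f ≤ X ⊓ C{f n} := fun n c =>
      le_inf hS.le (mem_C_iff_le_C1.1 (hE.le_C (memP c)))
    obtain ⟨k, k1, k2, k3⟩ := H7.SJ.ext_conj (hS.of_le (hC _ rfl) inf_le_left) hE.two (hC _ rfl) g1 e
    obtain ⟨l, -, e⟩ := L.key hX hS ⟨k1, mem_N_of_cj_le k3⟩
    have := L.inj ((e (ν f1) rfl).symm.trans k2)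
    revert this; clear_aux_decl; clear * -; decide +revert

theorem j2 : Spor.IsoJ2 X := by
  have hD : DD P (f (κ f1)) := by_contra (L.b1 hX)
  have hS := L.sylX hX
  have QX : ∀ n, f n ∈ X := fun n => by
    obtain ⟨s, s1, s2⟩ : ∃ s, ok s ∧ (s = fw ∨ s = fv) := by
      rcases L.hU rfl hD with c | c
      exacts [⟨_, c, Or.inl rfl⟩, ⟨_, c, Or.inr rfl⟩]
    obtain ⟨p, q, p1, q1, rfl⟩ : ∃ b, ∃ p : Qm false, p.a = f0 ∧ True ∧ n = α s (κ b) * p := by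
      revert s2; clear_aux_decl; clear * -; decide +kernel +revert
    rw [map_mul, ← L.ac s s1]
    exact mul_mem (hn.conj_mem _ (L.PX hX rfl) _) (L.PX hX p1)
  have red : ∀ x : M false, ι f γ x ∈ X ↔ γ x.s ∈ X := fun x => mul_mem_cancel_left (QX _)
  obtain ⟨s, s1, s2, s3, s4⟩ : ∃ s, ok s ∧ γ s ∈ X ∧ (s = fw ∨ s = fv) ∧ vc f (γ s) := by
    by_contra hc
    exact L.scV hX (a := f1) (by decide) (QX _) (fun c => L.vc_nD c hD)
      (fun s h1 h2 h3 h4 => hc ⟨s, h1, h2, h3, h4⟩) fun x _ h1 _ => (red x).1 h1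
  have nt : ¬ (ok f1 ∧ γ f1 ∈ X) := fun ⟨t1, t2⟩ => by
    have ow : ok fw := by
      rcases s3 with rfl | rfl
      exacts [s1, L.okadd _ _ t1 s1]
    have t3 : γ f1 ≠ 1 := fun e => absurd (L.eq_one (x := ou f1) t1 ((L.ou' _).trans e)) (by decide)
    obtain ⟨k, -, x, x1, x2, e⟩ := H23.TC.thompson (Q := L.im (Hs s)) (perf (L.nab hX)) hS (by
      rintro _ ⟨⟨x, -, x1, rfl⟩, -⟩ _ ⟨⟨y, -, y1, rfl⟩, -⟩ h1 h2
      rw [L.mem_im x1] at h1
      rw [L.mem_im y1] at h2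
      rw [← L.mul x1, L.mem_im (L.okmul x1 y1)]
      replace h1 : ¬ (x.s = f0 ∨ x.s = s) := h1
      replace h2 : ¬ (y.s = f0 ∨ y.s = s) := h2
      show x.s + y.s = f0 ∨ x.s + y.s = s
      revert h1 h2 s3; generalize x.s = a; generalize y.s = b; clear_aux_decl; clear * -; decide +revert) ⟨L.gS t1, t2⟩ (L.gsq f1)
    have x3 := e ▸ H7.SJ.conj_sq (L.gsq f1) k
    have x4 := e ▸ H23.TC.conj_ne t3 k
    have nv : ¬ vc f (ι f γ x) := fun c => L.nt t1 (vc.of_conj (e ▸ c))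
    have nd : ¬ DD P (ι f γ x) := fun c => by
      obtain ⟨-, -, C, c1, c2⟩ := DD.of_conj L.H (e ▸ c)
      have y1 : ok (iq (κ f1) * ou fw : M false).s := ow
      have := L.four c1 (x := ι f γ (iq (κ f1) * ou fw)) (L.H.cN c1 c2 (L.gsq f1) t3 (by
        rw [← L.ou', L.comm y1 t1]; decide)) (L.twoS.piElt (L.memS y1))
      rw [← L.mul y1, L.sq (L.okmul y1 y1)] at this
      exact absurd this (by decide)
    replace x3 := (L.sq x2).1 x3
    rcases x1 with c | c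
    · rw [L.ι0 c] at nv nd x4
      have x5 : x.n ≠ 1 := fun e => x4 (by rw [e, map_one])
      rcases (by revert x3 x5 c; clear_aux_decl; clear * -; decide +kernel +revert : (x.n.b = f0 ∧ x.n.a ≠ f0) ∨ (x.n.a = f0 ∧ x.n.b ≠ f0) ∨
        ∃ c, c ≠ f0 ∧ x.n = ν c) with c | c | ⟨c, c1, c2⟩
      exacts [nd (L.dE c.1 c.2), nd (L.dP hD c.1 c.2), nv (c2 ▸ L.vcV c1)]
    · obtain ⟨g, e⟩ := L.out x2 (by rw [c]; revert s3; clear_aux_decl; clear * -; decide +revert) x3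
      exact nv (vc.of_conj (by rwa [e, c]))
  have inS : ∀ x : M false, ok x.s → ι f γ x ∈ X → x.s = f0 ∨ x.s = s := fun x x1 x2 => by
    by_contra hc
    rcases (by revert hc s3; generalize x.s = a; clear_aux_decl; clear * -; decide +revert : x.s = f1 ∨ x.s + s = f1) with c | c
    · exact nt ⟨c ▸ x1, c ▸ (red x).1 x2⟩
    · exact nt ⟨c ▸ L.okadd _ _ x1 s1, c ▸ L.add _ _ ▸ mul_mem ((red x).1 x2) s2⟩
  rcases s3 with rfl | rfl
  swap
  · obtain ⟨i, i1, i2, -⟩ := L.exists_hom hS jY jY_mul jY_inj (fun s => by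
      rcases (jY_im _).1 ⟨s, rfl⟩ with e | e <;> rw [e]
      exacts [L.ok0, s1]) fun x hx => by
      rw [jY_im]
      refine ⟨inS x hx, fun c => (red x).2 ?_⟩
      rcases c with e | e <;> rw [e]
      exacts [L.g0 ▸ one_mem _, s2]
    exact isoJ2 i i1 i2 (L.two_cls hX (a := f1) (by decide) (QX _))
  exfalso
  have SC : L.im ⊤ ⊓ X ≤ C[L.c0.hv.sub] := by
    rintro _ ⟨⟨x, -, x1, rfl⟩, x2⟩
    refine mem_C'.2 ?_
    rintro _ ⟨c, rfl⟩
    have := inS x x1 x2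
    beta_reduce
    rw [← L.iq', L.comm x1 L.ok0]
    revert this; clear_aux_decl; clear * -; decide +kernel +revert
  obtain ⟨g, e⟩ := s4
  obtain ⟨k, -, k1, k2⟩ := H7.SJ.ext_conj (x := γ fw) (g := g⁻¹) L.sylC L.c0.hv.two (le_inf le_top
    (L.c0.hv.le fun c => mem_C1.2 ((L.ac _ s1).comm (by clear_aux_decl; clear * -; decide +revert)).symm)) trivial (by rw [← e]; group)
  obtain ⟨c, c0, c', k3⟩ : ∃ c, c ≠ f0 ∧ ∃ c', k * f (ν c) * k⁻¹ = f (ν c') := by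
    choose ψ _ p1 p2 using fun c => k2 (conj_mem_cj k (L.c0.hv.mem c))
    have p3 := fun c => inS _ (p1 c) (p2 c ▸ hn.conj_mem _ (QX _) k)
    have p4 : ψ fv = ψ f1 * ψ fw := (L.eq' (p1 _) (L.okmul (p1 _) (p1 _))).1 (by
      rw [L.mul (p1 _), p2, p2, p2, ← H23.TC.conj_mul, ← L.c0.hv.add]; rfl)
    obtain ⟨c, c0, c1⟩ : ∃ c, c ≠ f0 ∧ (ψ c).s = f0 := by
      by_contra hc
      push Not at hc
      have a1 := (p3 f1).resolve_left (hc _ (by decide))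
      have a2 := (p3 fw).resolve_left (hc _ (by decide))
      exact hc fv (by decide) (by rw [p4]; show (ψ f1).s + (ψ fw).s = f0; rw [a1, a2]; rfl)
    have v1 : vc f (ι f γ (ψ c)) := p2 c ▸ (L.vcV c0).conj k
    have a0 : (ψ c).n.a = f0 := by
      rcases L.vc_cases (p1 c) v1 with d | d
      exacts [d.2, absurd (c1 ▸ d.1) (by decide)]
    rw [L.ι0 c1] at v1
    have b0 : (ψ c).n.b = f0 := by_contra fun d => L.vc_nD v1 (L.dP hD a0 d)
    exact ⟨c, c0, _, by rw [← V_eq _ a0 b0, ← L.ι0 c1, p2]⟩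
  have z1 : f (ρ c.bar * κ c.bar) * γ fw * (f (ρ c.bar * κ c.bar))⁻¹ = f (ν c) * γ fw := by
    rw [← L.iq', ← L.iq', ← L.ou', L.conj L.ok0 s1, ← L.mul L.ok0]
    exact congrArg _ (by clear_aux_decl; clear * -; decide +revert)
  have z2 : f (ρ c.bar * κ c.bar) * f (ν c) * (f (ρ c.bar * κ c.bar))⁻¹ = f (ν c) := by
    rw [f_conj, ν_comm, mul_inv_cancel_right]
  have z3 := hn.conj_mem _ (QX (ρ c.bar * κ c.bar)) k
  have z4 := (twoE_f (f := f) (ρ c.bar * κ c.bar)).conj k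
  have w1 : k * f (ρ c.bar * κ c.bar) * k⁻¹ * f (ν f1) * (k * f (ρ c.bar * κ c.bar) * k⁻¹)⁻¹ =
      f (ν (c' + f1)) := by
    rw [L.c0.hv.add, ← k1, ← k3, ← H23.TC.conj_mul k (f (ν c)), ← z1]; group
  have w2 : k * f (ρ c.bar * κ c.bar) * k⁻¹ * f (ν c') * (k * f (ρ c.bar * κ c.bar) * k⁻¹)⁻¹ =
      f (ν c') := by
    rw [← k3]; nth_rw 2 [← z2]; group
  have c1 : c' ≠ f0 := by
    rintro rfl
    exact H23.TC.conj_ne (L.c0.hv.ne c0) k (k3.trans L.c0.hv.zero)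
  have c2 : c' ≠ f1 := by
    rintro rfl
    have := H23.TC.conj_inj' (k1.trans k3.symm)
    rw [← L.iq', ← L.ou', L.eq' s1 L.ok0] at this
    exact absurd (congrArg M.s this) (show fw ≠ f0 by decide)
  generalize k * f (ρ c.bar * κ c.bar) * k⁻¹ = w at z3 z4 w1 w2
  have w3 : w ∈ N[L.c0.hv.sub] := mem_N_of_finite (by
    rintro _ ⟨d, rfl⟩
    beta_reduce
    rcases (by revert c1 c2; clear_aux_decl; clear * -; decide +revert : d = f0 ∨ d = f1 ∨ d = c' ∨ d = f1 + c') with rfl | rfl | rfl | rfl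
    · rw [L.c0.hv.zero, mul_one, mul_inv_cancel]; exact one_mem _
    · exact ⟨_, w1.symm⟩
    · exact ⟨_, w2.symm⟩
    · rw [L.c0.hv.add, H23.TC.conj_mul, w1, w2]; exact mul_mem ⟨_, rfl⟩ ⟨_, rfl⟩)
  obtain ⟨m, m1, m2⟩ := conj_into (hS.of_le (L := X ⊓ N[L.c0.hv.sub])
    (le_inf hS.le (SC.trans (C_le_N _))) inf_le_left) ⟨z3, w3⟩ z4
  have w4 := cC (inv_mem m1.2) (SC m2)
  rw [show m⁻¹ * (m * w * m⁻¹) * m⁻¹⁻¹ = w by group] at w4
  rw [conj_eq_of_mem_C w4 (L.c0.hv.mem f1), L.eq] at w1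
  revert w1 c1; clear_aux_decl; clear * -; decide +revert

end PE

end H20.SB
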