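import Mathlib
import Cfsg.Agent.H12.TF7
import Cfsg.Agent.H12.WS
import Cfsg.Agent.H23.PComp
import Cfsg.Agent.H2.ZDefs
import Cfsg.Prelude.Def_Sz

/-!
# Stellmacher's characteristic subgroup: vocabulary
-/

set_option autoImplicit false

namespace H20.SF

open Cfsg Subgroup H12
open H22 (cj SylIn)

universe u

/-- no element of order three is inverted -/
def S3F (X : Type*) [Group X] : Prop := ∀ x t : X, x ^ 3 = 1 → t * x * t⁻¹ = x⁻¹ → x = 1

/-- the Sylow `2`-subgroups are four-groups, and the centralisers of their involutions generate -/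
structure E4T (L : Type*) [Group L] : Prop where
  card : ∀ P : Sylow 2 L, Nat.card (P : Subgroup L) = 4
  sq : ∀ P : Sylow 2 L, ∀ x ∈ (P : Subgroup L), x * x = 1
  gen : ∀ (P : Sylow 2 L) (H : Subgroup L),
    (∀ e ∈ (P : Subgroup L), e ≠ 1 → centralizer ({e} : Set L) ≤ H) → H = ⊤

/-- Suzuki groups -/
def SzT (L : Type*) [Group L] : Prop := SzLike L ∧ Lie.IsoSuzuki L

/-- the induction hypothesis on simple groups -/
def Ctx3 (n : ℕ) : Prop :=
  ∀ (L : Type u) [Group L] [Finite L], IsSimpleGroup L → ¬ IsMulCommutative L → S3F L →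
    Nat.card L < n → SzT L ∨ E4T L

/-- the class of groups with known simple sections -/
structure KS (n : ℕ) (X : Type u) [Group X] : Prop where
  ctx : Ctx3.{u} n
  lt : Nat.card X < n
  s3 : S3F X

section Amb

variable {X : Type*} [Group X] {V : Type*} [Group V]

/-- exponent at most two -/
def Sq (A : Subgroup X) : Prop := ∀ a ∈ A, a * a = 1

theorem Sq.mono {A B : Subgroup X} (h : Sq A) (hB : B ≤ A) : Sq B := fun b hb => h b (hB hb)
theorem Sq.comm {A : Subgroup X} (h : Sq A) {a b : X} (ha : a ∈ A) (hb : b ∈ A) :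
    a * b = b * a := comm_of_sq h ha hb
theorem Sq.inv {A : Subgroup X} (h : Sq A) {a : X} (ha : a ∈ A) : a⁻¹ = a :=
  inv_eq_of_mul_eq_one_right (h a ha)
theorem Sq.pg {A : Subgroup X} (h : Sq A) : IsPGroup 2 A := isPGroup_of_sq h
theorem Sq.le_cent {A B : Subgroup X} (h : Sq A) (hB : B ≤ A) : A ≤ centralizer (B : Set X) :=
  fun _ ha _ hb => h.comm (hB hb) ha
theorem Sq.cj {A : Subgroup X} (h : Sq A) (g : X) : Sq (cj g A) := by
  rintro _ ⟨a, ha, rfl⟩
  rw [← map_mul, h a ha, map_one]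

/-- `O²(P)` in the ambient group -/
def ok (P : Subgroup X) : Subgroup X := closure {x | x ∈ P ∧ Odd (orderOf x)}

theorem ok_le (P : Subgroup X) : ok P ≤ P := (closure_le P).2 fun _ h => h.1
theorem mem_ok {P : Subgroup X} {x : X} (h : x ∈ P) (ho : Odd (orderOf x)) : x ∈ ok P :=
  subset_closure ⟨h, ho⟩
theorem ok_le_iff {P W : Subgroup X} : ok P ≤ W ↔ ∀ x ∈ P, Odd (orderOf x) → x ∈ W :=
  ⟨fun h _ hx ho => h (mem_ok hx ho), fun h => (closure_le W).2 fun x hx => h x hx.1 hx.2⟩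

/-- `T` is a Sylow `2`-subgroup of the group `P` without inverted elements of order three -/
structure Par (T P : Subgroup X) : Prop where
  syl : SylIn 2 T P
  s3 : S3F P

/-- the property of minimal parabolic subgroups that is used -/
def MP (T P : Subgroup X) : Prop :=
  ∀ N ≤ P, P ≤ normalizer (N : Set X) → T ⊓ N ≤ H23.op 2 P ∨ ok P ≤ N

/-- `O²(P)` centralises `O₂(P)` -/
def NT (P : Subgroup X) : Prop := ok P ≤ centralizer (H23.op 2 P : Set X)

/-- what the induction hypothesis gives on `Y = W(T)` -/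
structure YD (T Y : Subgroup X) : Prop where
  le : Y ≤ T
  sq : Sq Y
  om : ∀ z ∈ T, z ∈ centralizer (T : Set X) → z * z = 1 → z ∈ Y
  nm : T ≤ normalizer (Y : Set X)
  two : TwoF Y T
  nrm : ∀ P, Par T P → T ⊓ centralizer (H23.op 2 P : Set X) ≤ H23.op 2 P →
    P ≤ normalizer ((Y ⊔ H23.opp 2 P : Subgroup X) : Set X)

/-- the measure `|B|² |C_V(B)|` -/
noncomputable def ff (φ : X →* MulAut V) (B : Subgroup X) : ℕ :=
  Nat.card B ^ 2 * Nat.card (fx φ B)

/-- odd primes modulo which `2` has order at least `4 n - 1` -/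
def BigP (p n : ℕ) : Prop :=
  p.Prime ∧ p ≠ 2 ∧ ∀ k, 0 < k → 2 ^ k ≡ 1 [MOD p] → 4 * n ≤ k + 1

/-- `h` inverts an element of `H` whose order is a big prime -/
def InvIn (H : Subgroup X) (n : ℕ) (h : X) : Prop :=
  ∃ p, BigP p n ∧ ∃ y ∈ H, y ≠ 1 ∧ y ^ p = 1 ∧ h * y * h⁻¹ = y⁻¹

/-- a good block `e` for the pair `A`, `E` -/
structure Blk (A E e : Subgroup X) (n : ℕ) : Prop where
  le : e ≤ E
  pos : 1 ≤ n
  idx : e.relIndex (A ⊓ E) ≤ 2 ^ n
  inv : ∀ h ∈ A ⊓ E, h ∉ e → InvIn (centralizer (e : Set X)) n h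
  cls : ∀ B, A ⊓ E ≤ B → B ≤ A → (∀ y ∈ E, ∃ w ∈ e, w * y ∈ centralizer (B : Set X)) ∨
    ∀ h ∈ A ⊓ E, h ∉ e → ∃ B', A ⊓ E ≤ B' ∧ B' < B ∧ B'.relIndex B ≤ 2 ∧
      ∃ w, (∀ γ ∈ B', w ∈ cj γ e) ∧ ∃ β ∈ B, w * h ∈ cj β e

/-- the intersection of the `B`-conjugates of `e` -/
def core (B e : Subgroup X) : Subgroup X := ⨅ γ : B, cj (γ : X) e

theorem mem_core {B e : Subgroup X} {x : X} : x ∈ core B e ↔ ∀ γ ∈ B, x ∈ cj γ e := by
  simp only [core, mem_iInf, Subtype.forall]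

/-- coordinates in the Suzuki `2`-group `C ⊓ L`, and the facts on `L` that are used -/
structure SzC {F : Type} [Field F] [Fintype F] (K : H2.SZ.FD F) (C L : Subgroup X) where
  u : F → F → X
  u_mul : ∀ a b c d, u a b * u c d = u (a + c) (b + d + K.σ a * c)
  u_inj : ∀ {a b c d}, u a b = u c d → a = c ∧ b = d
  mem : ∀ g, g ∈ C ⊓ L ↔ ∃ a b, g = u a b
  cent : ∀ g ∈ C ⊓ L, g ∈ centralizer (L : Set X) → g = 1
  perm : ∀ c ∈ C, cj c L = L ∨ cj c L ≤ centralizer (L : Set X)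
  aut : ∀ c ∈ C, cj c L = L → ∃ a b, ∃ k ∈ centralizer (L : Set X), c = u a b * k
  inv : ∀ b, b ≠ 0 → InvIn L (2 * K.m + 1) (u 0 b)

/-- a quasisimple group `L` of Suzuki type with Sylow `2`-subgroup `S` -/
structure SzQ {F : Type} [Field F] [Fintype F] (K : H2.SZ.FD F) (L S : Subgroup X) where
  D : H2.SZ.SzD K (⊤ : Subgroup (L ⧸ center L))
  qs : IsQuasisimple L
  syl : SylIn 2 S L
  img : D.S = (S.subgroupOf L).map (QuotientGroup.mk' (center L))
  inv : ∀ b, b ≠ 0 → InvIn ⊤ (2 * K.m + 1) (D.u 0 b)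
  aut : ∀ g ∈ normalizer (L : Set X), g ∈ normalizer (S : Set X) → (∃ k : ℕ, g ^ 2 ^ k = 1) →
    ∃ s ∈ S, s⁻¹ * g ∈ centralizer (L : Set X)

/-- the preimage of `Z(S̄)` in `S` is central in `S` -/
def SzQ.Zc {F : Type} [Field F] [Fintype F] {K : H2.SZ.FD F} {L S : Subgroup X}
    (Q : SzQ K L S) : Prop :=
  ∀ z : L, (z : X) ∈ S → (z : L ⧸ center L) ∈ Q.D.Z → (z : X) ∈ centralizer (S : Set X)

/-- `C ⊓ L` is a Suzuki `2`-group as above -/
def SzB (C L : Subgroup X) : Prop :=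
  ∃ (F : Type) (_ : Field F) (_ : Fintype F) (K : H2.SZ.FD F), Nonempty (SzC K C L)

/-- `Ω₁(C ⊓ L)` -/
def ZL (C L : Subgroup X) : Subgroup X := closure {x | x ∈ C ⊓ L ∧ x * x = 1}

/-- the subgroup generated by all `ZL C L` -/
def YS (C : Subgroup X) : Subgroup X := ⨆ L : {L // SzB C L}, ZL C L.1

end Amb

/-- embeddings as a Sylow subgroup with normal Thompson subgroup -/
structure Emb {S G : Type u} [Group S] [Group G] (τ : S →* G) : Prop where
  inj : Function.Injective τ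
  syl : SylIn 2 τ.range ⊤
  s3 : S3F G
  nJ : ((thompsonSubgroup 2 S).map τ).Normal

/-- Stellmacher's subgroup -/
def WS (S : Type u) [Group S] : Subgroup S :=
  sInf {W : Subgroup S | omegaOne 2 (center S) ≤ W ∧
    ∀ (G : Type u) [Group G] [Finite G] (τ : S →* G), Emb τ → (W.map τ).Normal}

/-- `W(T)` in the ambient group -/
abbrev WT {G : Type u} [Group G] (T : Subgroup G) : Subgroup G := (WS T).map T.subtype

end H20.SF
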