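import Mathlib
import Cfsg.Agent.H20.SF0

set_option autoImplicit false
set_option linter.unusedVariables false
set_option linter.unusedSectionVars false
set_option linter.style.haveILetI false

namespace H20.SF

open Cfsg Subgroup H12
open H22 (cj SylIn)

universe u

/-! ### SFA -/
section SFA
variable {X : Type*} [Group X] {Y : Type*} [Group Y]

theorem S3F.of_inj (h : S3F X) {f : Y →* X} (hf : Function.Injective f) : S3F Y :=
  fun x t h3 hi => hf (by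
    rw [map_one]
    exact h (f x) (f t) (by rw [← map_pow, h3, map_one])
      (by rw [← map_inv, ← map_mul, ← map_mul, hi, map_inv]))
theorem S3F.sub (h : S3F X) (L : Subgroup X) : S3F L := h.of_inj L.subtype_injective
theorem S3F.of_le {P Q : Subgroup X} (h : S3F P) (hQ : Q ≤ P) : S3F Q :=
  h.of_inj (inclusion_injective hQ)
theorem S3F.cj {P : Subgroup X} (h : S3F P) (g : X) : S3F (cj g P) :=
  h.of_inj (f := (H22.cjEquiv g P).symm.toMonoidHom) (H22.cjEquiv g P).symm.injective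
theorem S3F.amb {P : Subgroup X} (h : S3F P) {x t : X} (hx : x ∈ P) (ht : t ∈ P) (h3 : x ^ 3 = 1)
    (hi : t * x * t⁻¹ = x⁻¹) : x = 1 :=
  congrArg Subtype.val (h ⟨x, hx⟩ ⟨t, ht⟩ (Subtype.ext h3) (Subtype.ext hi))

theorem sfa_odd_pow {t x : X} (h : t * x * t⁻¹ = x⁻¹) {m : ℕ} (hm : Odd m) :
    t ^ m * x * (t ^ m)⁻¹ = x⁻¹ := by
  obtain ⟨k, rfl⟩ := hm
  have h2 : t * x⁻¹ * t⁻¹ = x := by
    have := congrArg (·⁻¹) h
    simpa [mul_assoc] using this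
  have h3 : Commute (t ^ 2) x := by
    change t ^ 2 * x = x * t ^ 2
    rw [← mul_inv_eq_iff_eq_mul]
    calc t ^ 2 * x * (t ^ 2)⁻¹ = t * (t * x * t⁻¹) * t⁻¹ := by rw [pow_two]; group
      _ = x := by rw [h, h2]
  have h4 := (h3.pow_left k).eq
  rw [pow_succ', pow_mul]
  calc t * (t ^ 2) ^ k * x * (t * (t ^ 2) ^ k)⁻¹
      = t * ((t ^ 2) ^ k * x) * ((t ^ 2) ^ k)⁻¹ * t⁻¹ := by group
    _ = x⁻¹ := by rw [h4, ← h]; group

theorem sfa_two_part [Finite X] (t : X) : ∃ m k : ℕ, Odd m ∧ (t ^ m) ^ 2 ^ k = 1 := by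
  obtain ⟨k, m, hm, e⟩ := Nat.exists_eq_two_pow_mul_odd (orderOf_pos t).ne'
  exact ⟨m, k, hm, by rw [← pow_mul, mul_comm, ← e, pow_orderOf_eq_one]⟩

theorem sfa_prime [Finite X] {r t : X} (h1 : r ≠ 1) (hi : t * r * t⁻¹ = r⁻¹) :
    ∃ p k : ℕ, p.Prime ∧ p ∣ orderOf r ∧ r ^ k ≠ 1 ∧ (r ^ k) ^ p = 1 ∧
      t * r ^ k * t⁻¹ = (r ^ k)⁻¹ := by
  have hm1 : orderOf r ≠ 1 := mt orderOf_eq_one_iff.1 h1
  have hp := Nat.minFac_prime hm1
  have ho := orderOf_pow_orderOf_div (orderOf_pos r).ne' (Nat.minFac_dvd (orderOf r))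
  refine ⟨_, orderOf r / (orderOf r).minFac, hp, Nat.minFac_dvd _, fun h => ?_, ?_,
    H22.conj_pow_of_inverts hi _⟩
  · rw [h, orderOf_one] at ho
    exact hp.one_lt.ne ho
  · exact orderOf_dvd_iff_pow_eq_one.1 ho.dvd

theorem S3F.of_surj [Finite X] (h : S3F X) {f : X →* Y} (hf : Function.Surjective f) : S3F Y := by
  intro y s h3 hi
  by_contra hy
  haveI : Fact (Nat.Prime 3) := ⟨Nat.prime_three⟩
  obtain ⟨t₀, rfl⟩ := hf s
  obtain ⟨x₁, rfl⟩ := hf y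
  obtain ⟨P, hP, -⟩ := H22.exists_sylIn (p := 3) (bot_le : ⊥ ≤ (zpowers (f x₁)).comap f)
    IsPGroup.of_bot
  have hn : zpowers t₀ ≤ normalizer (((zpowers (f x₁)).comap f : Subgroup X) : Set X) := by
    rw [zpowers_le]
    refine H22.mem_normalizer_of_conj_mem fun a ha => ?_
    obtain ⟨j, hj⟩ := mem_zpowers_iff.1 ha
    change f _ ∈ zpowers _
    rw [map_mul, map_mul, map_inv, ← hj, ← conj_zpow, hi]
    exact zpow_mem (inv_mem (mem_zpowers _)) j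
  obtain ⟨c, hc, hct⟩ := hP.frattini hn (mem_zpowers t₀)
  obtain ⟨j, hj⟩ := mem_zpowers_iff.1 hc
  have hi1 : f (c * t₀) * f x₁ * (f (c * t₀))⁻¹ = (f x₁)⁻¹ := by
    rw [map_mul, ← hj]
    calc f x₁ ^ j * f t₀ * f x₁ * (f x₁ ^ j * f t₀)⁻¹
        = f x₁ ^ j * (f t₀ * f x₁ * (f t₀)⁻¹) * (f x₁ ^ j)⁻¹ := by group
      _ = _ := by rw [hi]; group
  obtain ⟨m, l, hm, hl⟩ := sfa_two_part (c * t₀)
  have hi2 := sfa_odd_pow hi1 hm
  rw [← map_pow] at hi2
  have htP := pow_mem hct m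
  generalize (c * t₀) ^ m = t at hl hi2 htP
  obtain ⟨x₀, hx₀, e₀⟩ : ∃ x₀ ∈ P, f x₀ = f x₁ := by
    obtain ⟨q, hq, u, hu, e⟩ := hP.exists_mul_of_coprime_mem (K := f.ker)
      (fun g hg => by rw [mem_comap, MonoidHom.mem_ker.1 hg]; exact one_mem _)
      le_normalizer_of_normal (fun g hg ho => by
        obtain ⟨i, hi⟩ := mem_zpowers_iff.1 hg
        exact H13.eq_one_of_pow_eq_one_of_coprime (p := 3) (k := 1)
          (by rw [pow_one, ← hi, ← zpow_natCast, ← zpow_mul, mul_comm, zpow_mul, zpow_natCast, h3,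
            one_zpow]) (Nat.Coprime.coprime_dvd_left (orderOf_map_dvd f g) ho))
      (show x₁ ∈ (zpowers (f x₁)).comap f from mem_zpowers _)
    exact ⟨q, hq, by rw [e, map_mul, MonoidHom.mem_ker.1 hu, mul_one]⟩
  classical
  let Ω := {x : X // x ∈ P ∧ f x = f x₁}
  haveI : Fintype Ω := Fintype.ofFinite Ω
  have hi3 : f t * (f x₁)⁻¹ * (f t)⁻¹ = f x₁ := by
    have := congrArg (·⁻¹) hi2
    simpa [mul_assoc] using this
  let σ : Equiv.Perm Ω :=
    { toFun := fun x => ⟨t * x.1⁻¹ * t⁻¹, H22.conj_mem_of_mem_normalizer htP (inv_mem x.2.1), by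
        rw [map_mul, map_mul, map_inv, map_inv, x.2.2, hi3]⟩
      invFun := fun x => ⟨t⁻¹ * x.1⁻¹ * t, H22.conj_mem_of_mem_normalizer' htP (inv_mem x.2.1), by
        rw [map_mul, map_mul, map_inv, map_inv, x.2.2, ← hi2]; group⟩
      left_inv := fun x => Subtype.ext (by simp [mul_assoc])
      right_inv := fun x => Subtype.ext (by simp [mul_assoc]) }
  have hσ : ∀ (n : ℕ) (x : Ω), (((σ ^ 2) ^ n) x).1 = (t ^ 2) ^ n * x.1 * ((t ^ 2) ^ n)⁻¹ := by
    intro n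
    induction n with
    | zero => simp
    | succ n ih =>
      intro x
      rw [pow_succ', Equiv.Perm.mul_apply, pow_two, Equiv.Perm.mul_apply, ← pow_two]
      change t * (t * (((σ ^ 2) ^ n) x).1⁻¹ * t⁻¹)⁻¹ * t⁻¹ = _
      rw [ih, pow_succ' (t ^ 2)]
      generalize (t ^ 2) ^ n = w
      rw [pow_two]
      group
  have hc2 : ¬ 2 ∣ Fintype.card Ω := by
    have e : Ω ≃ ↥(P ⊓ f.ker) :=
      { toFun := fun x => ⟨x₀⁻¹ * x.1, P.mul_mem (P.inv_mem hx₀) x.2.1, by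
          change f _ = 1
          rw [map_mul, map_inv, e₀, x.2.2, inv_mul_cancel]⟩
        invFun := fun u => ⟨x₀ * u.1, P.mul_mem hx₀ u.2.1, by
          rw [map_mul, e₀, MonoidHom.mem_ker.1 u.2.2, mul_one]⟩
        left_inv := fun x => Subtype.ext (by simp)
        right_inv := fun x => Subtype.ext (by simp) }
    obtain ⟨i, hi⟩ := (hP.isPGroup.to_le (inf_le_left : P ⊓ f.ker ≤ P)).exists_card_eq
    rw [← Nat.card_eq_fintype_card, Nat.card_congr e, hi]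
    exact fun h => absurd (Nat.prime_two.dvd_of_dvd_pow h) (by norm_num)
  obtain ⟨x, hx⟩ := Equiv.Perm.exists_fixed_point_of_prime (p := 2) (n := l + 1) hc2 (σ := σ) (by
    ext x
    rw [pow_succ', pow_mul, hσ, ← pow_mul, mul_comm 2, pow_mul, hl]
    simp)
  have hx1 : t * x.1⁻¹ * t⁻¹ = x.1 := congrArg Subtype.val hx
  have hx2 : t * x.1 * t⁻¹ = x.1⁻¹ := by
    have := congrArg (·⁻¹) hx1
    simpa [mul_assoc] using this
  obtain ⟨p, i, hp, hd, h1, h2, h4⟩ := sfa_prime (fun e => hy (by rw [← x.2.2, e, map_one])) hx2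
  obtain ⟨a, ha⟩ := H22.isPGroup_iff_forall_mem.1 hP.isPGroup _ x.2.1
  obtain rfl : p = 3 := (Nat.prime_dvd_prime_iff_eq hp Nat.prime_three).1
    (hp.dvd_of_dvd_pow (hd.trans (orderOf_dvd_of_pow_eq_one ha)))
  exact h1 (h _ t h2 h4)

theorem S3F.quo [Finite X] (h : S3F X) (N : Subgroup X) [N.Normal] : S3F (X ⧸ N) :=
  h.of_surj (QuotientGroup.mk'_surjective N)
theorem S3F.map [Finite X] {P : Subgroup X} (h : S3F P) (f : X →* Y) : S3F (P.map f) :=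
  h.of_surj (f.subgroupMap_surjective P)
theorem bigP_one {p : ℕ} (hp : p.Prime) (h2 : p ≠ 2) (h3 : p ≠ 3) : BigP p 1 := by
  refine ⟨hp, h2, fun k hk h => ?_⟩
  have h5 : 5 ≤ p := hp.five_le_of_ne_two_of_ne_three h2 h3
  by_contra hlt
  obtain rfl | rfl : k = 1 ∨ k = 2 := by omega
  · exact absurd (Nat.ModEq.eq_of_lt_of_lt h (by omega) (by omega)) (by norm_num)
  · exact absurd (Nat.ModEq.eq_of_lt_of_lt h (by omega) (by omega)) (by norm_num)
theorem S3F.invIn [Finite X] {P H : Subgroup X} (h : S3F P) {r t : X} (hr : r ∈ P) (ht : t ∈ P)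
    (hH : r ∈ H) (ho : Odd (orderOf r)) (h1 : r ≠ 1) (hi : t * r * t⁻¹ = r⁻¹) : InvIn H 1 t := by
  obtain ⟨p, k, hp, hd, h2, h3, h4⟩ := sfa_prime h1 hi
  refine ⟨p, bigP_one hp ?_ ?_, _, pow_mem hH k, h2, h3, h4⟩
  · rintro rfl
    exact absurd (ho.of_dvd_nat hd) (by decide)
  · rintro rfl
    exact h2 (h.amb (pow_mem hr k) ht h3 h4)
theorem InvIn.mono {H H' : Subgroup X} {n : ℕ} {t : X} (h : InvIn H n t) (hH : H ≤ H') :
    InvIn H' n t := by
  obtain ⟨p, hp, y, hy, h⟩ := h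
  exact ⟨p, hp, y, hH hy, h⟩
theorem InvIn.cj {H : Subgroup X} {n : ℕ} {t : X} (h : InvIn H n t) (g : X) :
    InvIn (cj g H) n (g * t * g⁻¹) := by
  obtain ⟨p, hp, y, hy, h1, h2, h3⟩ := h
  refine ⟨p, hp, g * y * g⁻¹, H22.conj_mem_cj hy, by simpa using h1, by rw [conj_pow, h2]; simp, ?_⟩
  calc _ = g * (t * y * t⁻¹) * g⁻¹ := by group
    _ = _ := by rw [h3]; group
theorem InvIn.mul {H : Subgroup X} {n : ℕ} {t k : X} (h : InvIn H n t)
    (hk : k ∈ centralizer (H : Set X)) : InvIn H n (t * k) := by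
  obtain ⟨p, hp, y, hy, h1, h2, h3⟩ := h
  refine ⟨p, hp, y, hy, h1, h2, ?_⟩
  calc _ = t * (k * y) * k⁻¹ * t⁻¹ := by group
    _ = _ := by rw [← hk y hy, ← h3]; group
theorem KS.sub {n : ℕ} {X : Type u} [Group X] [Finite X] (h : KS n X) (L : Subgroup X) : KS n L :=
  ⟨h.ctx, (card_le_card_group L).trans_lt h.lt, h.s3.sub L⟩
theorem KS.quo {n : ℕ} {X : Type u} [Group X] [Finite X] (h : KS n X) (N : Subgroup X) [N.Normal] :
    KS n (X ⧸ N) :=
  ⟨h.ctx, (Nat.le_of_dvd Nat.card_pos (card_quotient_dvd_card N)).trans_lt h.lt, h.s3.quo N⟩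
end SFA


end H20.SF
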