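import Mathlib
import Cfsg.Agent.H20.SF0
import Cfsg.Agent.H18.SFE1

set_option autoImplicit false
set_option linter.unusedVariables false
set_option linter.unusedSectionVars false

namespace H20.SF

open Cfsg Subgroup H12
open H22 (cj SylIn)

universe u

/-! ### SFE -/
theorem not_e8 {G : Type u} [Group G] [Finite G] [IsSimpleGroup G] (hna : ¬ IsMulCommutative G)
    (S : Sylow 2 G) (hab : IsMulCommutative (S : Subgroup G)) (h8 : Nat.card (S : Subgroup G) = 8)
    (hse : ¬ ∃ H : Subgroup G, IsStronglyEmbedded H) : ¬ S3F G :=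
  H18.SFE.not_e8 hna S hab h8 hse


end H20.SF
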