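import Mathlib
import Cfsg.Agent.H20.SF0
import Cfsg.Agent.H20.SFA
import Cfsg.Agent.H3.PNil

set_option autoImplicit false
set_option linter.unusedVariables false
set_option linter.unusedSectionVars false

namespace H20.SF

open Cfsg Subgroup H12
open H22 (cj SylIn)

universe u

namespace SFO

open Equiv

set_option synthInstance.maxSize 2000 in
theorem perm4 {α : Type*} (h : Nat.card α = 4) (o : α) (ρ σ : Perm α) (h1 : ρ o = o) :
    (σ o = o → ρ ^ 2 ≠ 1 → σ ^ 3 ≠ 1 → ρ ^ 3 = 1 ∧ σ * ρ * σ⁻¹ = ρ⁻¹) ∧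
      ∀ e, e ≠ o → ρ e = e → ρ ^ 2 = 1 := by
  have : Finite α := Nat.finite_of_card_ne_zero (by omega)
  let e : α ≃ Fin 4 := Finite.equivFinOfCardEq h
  let f : Perm α ≃* Perm (Fin 4) := e.permCongrHom
  have k : ∀ ρ : Perm α, ∀ a, ρ a = a → f ρ (e a) = e a := fun ρ a h => by simp [f, h]
  obtain ⟨a, b⟩ := (by decide +kernel : ∀ (o : Fin 4) (ρ : Perm (Fin 4)), ρ o = o →
    (∀ σ : Perm (Fin 4), σ o = o → ρ ^ 2 ≠ 1 → σ ^ 3 ≠ 1 → ρ ^ 3 = 1 ∧ σ * ρ * σ⁻¹ = ρ⁻¹) ∧
      ∀ e, e ≠ o → ρ e = e → ρ ^ 2 = 1) (e o) (f ρ) (k _ _ h1)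
  refine ⟨fun h2 h3 h4 => ?_, fun c c1 c2 => ?_⟩
  · have := a (f σ) (k _ _ h2) (by rwa [← map_pow, f.map_ne_one_iff]) (by rwa [← map_pow, f.map_ne_one_iff])
    rwa [← map_pow, f.map_eq_one_iff, ← map_inv, ← map_inv, ← map_mul, ← map_mul, f.apply_eq_iff_eq] at this
  · have := b (e c) (e.injective.ne c1) (k _ _ c2)
    rwa [← map_pow, f.map_eq_one_iff] at this

theorem npc_of_central {G H : Type*} [Group G] [Finite G] [Group H] [Finite H] (f : G →* H)
    (hf : f.ker ≤ center G) (h : HasNormalPComplement 2 H) : HasNormalPComplement 2 G := by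
  refine H3.hasNPC_of_pResidual_le (K := (pResidual 2 H).comap f)
    (map_le_iff_le_comap.1 (H3.map_pResidual_le 2 f)) ?_
  obtain ⟨P⟩ : Nonempty (Sylow 2 ((pResidual 2 H).comap f)) := inferInstance
  refine H3.hasNPC_of_normalizer_le_centralizer P fun g _ x hx => Subtype.ext (mem_center_iff.1 (hf ?_) _).symm
  exact H3.eq_one_of_mem_of_coprime (P.isPGroup'.map (f.comp (Subgroup.subtype _))) (mem_map_of_mem _ hx)
    (H3.hasNPC_iff_forall_orderOf.1 h _ x.2)

theorem cent_of_sq {G : Type*} [Group G] [Finite G] (V : Sylow 2 G) (hV : Sq (V : Subgroup G)) {n : G}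
    (hn : n ∈ normalizer (V : Set G)) (h : n ^ 2 ∈ centralizer (V : Set G)) : n ∈ centralizer (V : Set G) := by
  obtain ⟨k, hk⟩ : Odd ((V : Subgroup G).relIndex (normalizer (V : Set G))) :=
    Nat.not_even_iff_odd.1 fun e => V.not_dvd_index (e.two_dvd.trans (relIndex_dvd_index_of_le le_normalizer))
  have : ((V : Subgroup G).subgroupOf (normalizer (V : Set G))).Normal := normal_in_normalizer
  have a : n ^ (2 * k + 1) ∈ (V : Subgroup G) :=
    hk ▸ pow_index_mem ((V : Subgroup G).subgroupOf (normalizer (V : Set G))) ⟨n, hn⟩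
  have b := hV.le_cent le_rfl a
  rw [pow_succ, pow_mul] at b
  exact (mul_mem_cancel_left (pow_mem h k)).1 b

theorem main {K M : Type*} [Group K] [Finite K] [Group M] [Finite M] (hq : IsQuasisimple K)
    (h4 : E4T (K ⧸ center K)) (φ : M →* MulAut K) (h3 : S3F M) (inn : ∀ y, ∃ m, φ m = MulAut.conj y)
    {T : Subgroup M} (h2 : IsPGroup 2 T) (V : Sylow 2 (K ⧸ center K))
    (hV : ∀ s ∈ T, ∀ v ∈ (V : Subgroup (K ⧸ center K)), quo φ (inv_center φ) s v ∈ (V : Subgroup _))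
    {t : M} (ht : t ∈ T) : (∃ R : Subgroup K, Odd (Nat.card R) ∧ (∀ s ∈ T, ∀ r ∈ R, φ s r ∈ R) ∧
      ∃ r ∈ R, φ t r ≠ r) ∨ ∀ y, quo φ (inv_center φ) t y = y := by
  set ψ := quo φ (inv_center φ) with hψ
  have sq : Sq (V : Subgroup (K ⧸ center K)) := h4.sq V
  let M' : Subgroup M :=
    { carrier := {m | ∀ v, v ∈ (V : Subgroup (K ⧸ center K)) ↔ ψ m v ∈ (V : Subgroup _)}
      one_mem' := fun v => by simp
      mul_mem' := fun {a b} ha hb v => by rw [mul_apply', ← ha, ← hb]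
      inv_mem' := fun {a} ha v => by rw [ha (ψ a⁻¹ v), apply_inv_apply] }
  have iv : Inv (ψ.comp M'.subtype) (V : Subgroup (K ⧸ center K)) := fun m v hv => (m.2 v).1 hv
  let θ : M' →* Perm (V : Subgroup (K ⧸ center K)) := (MulAut.toPerm _).comp (res _ iv)
  have hθ : ∀ m v, ((θ m v : (V : Subgroup (K ⧸ center K))) : K ⧸ center K) = ψ m v := fun _ _ => rfl
  have θ1 : ∀ m, θ m 1 = 1 := fun m => Subtype.ext (map_one (ψ m))
  have nm : ∀ n ∈ normalizer (V : Set (K ⧸ center K)), ∃ m : M', (∀ v, ψ m v = n * v * n⁻¹) ∧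
      (θ m ^ 2 = 1 → n ∈ centralizer (V : Set (K ⧸ center K))) := fun n hn => by
    induction n using QuotientGroup.induction_on with | _ y => ?_
    obtain ⟨m, hm⟩ := inn y
    have a : ∀ v, ψ m v = y * v * (y : K ⧸ center K)⁻¹ := fun v => by
      induction v using QuotientGroup.induction_on with | _ v => ?_
      rw [hψ, quo_mk, hm]; rfl
    refine ⟨⟨m, fun v => by rw [a]; exact mem_normalizer_iff.1 hn v⟩, a, fun e => cent_of_sq V sq hn fun v hv => ?_⟩
    have := congrArg Subtype.val (congrArg (fun ρ : Perm (V : Subgroup (K ⧸ center K)) => ρ ⟨v, hv⟩) e)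
    simp only [pow_two, Perm.mul_apply, hθ, a, Perm.one_apply] at this
    generalize (y : K ⧸ center K) = z at this ⊢
    rw [pow_two, ← mul_inv_eq_iff_eq_mul.1 (show z * z * v * (z * z)⁻¹ = v from Eq.trans (by group) this)]
  have fix : ∀ s ∈ T, ∀ v ∈ (V : Subgroup (K ⧸ center K)), ψ s v = v := fun s hs v hv => by
    obtain ⟨n, hn, n1⟩ : ∃ n ∈ normalizer (V : Set (K ⧸ center K)), n ∉ centralizer (V : Set (K ⧸ center K)) := by
      by_contra! e
      have a := (H3.hasNPC_iff_inf_eq_bot V).1 (H3.hasNPC_of_normalizer_le_centralizer V e)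
      have := hq.1
      have b := H3.commutator_le_pResidual_of_abelian (H3.sylow_index_coprime V) ⟨⟨fun a b => Subtype.ext (sq.comm a.2 b.2)⟩⟩
      rw [Group.IsPerfect.commutator_eq_top, top_le_iff] at b
      rw [b, top_inf_eq] at a
      have c := h4.card V
      rw [a, card_bot] at c
      omega
    obtain ⟨m, -, m1⟩ := nm n hn
    have sM : s ∈ M' := fun v => ⟨hV s hs v, fun a => by simpa [inv_apply_apply] using hV _ (inv_mem hs) _ a⟩
    obtain ⟨k, hk⟩ := h2 ⟨s, hs⟩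
    have a : θ ⟨s, sM⟩ ^ 2 ^ k = 1 := by
      rw [← map_pow, show (⟨s, sM⟩ : M') ^ 2 ^ k = 1 from Subtype.ext (by simpa using congrArg Subtype.val hk), map_one]
    have b : θ ⟨s, sM⟩ ^ 3 = 1 := by
      by_contra b
      obtain ⟨c1, c2⟩ := (perm4 (h4.card V) 1 (θ m) (θ ⟨s, sM⟩) (θ1 m)).1 (θ1 _) (mt m1 n1) b
      have := (h3.sub M').of_surj θ.rangeRestrict_surjective (θ.rangeRestrict m) (θ.rangeRestrict ⟨s, sM⟩)
        (Subtype.ext c1) (Subtype.ext c2)
      exact n1 (m1 (by rw [show θ m = 1 from congrArg Subtype.val this, one_pow]))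
    exact (hθ ⟨s, sM⟩ ⟨v, hv⟩).symm.trans (by
      rw [H3.eq_one_of_pow_eq_one_of_coprime a b (Nat.Coprime.pow_left _ (by decide))]; rfl)
  by_contra! hh
  obtain ⟨hR, y, hy⟩ := hh
  refine hy (mem_fx_zpowers.1 ((h4.gen V (fx ψ (zpowers t)) fun e he e1 => ?_).ge (mem_top y)))
  set C := centralizer ({e} : Set (K ⧸ center K)) with hC
  have VC : (V : Subgroup (K ⧸ center K)) ≤ C := fun v hv => mem_centralizer_singleton_iff.2 (sq.comm hv he)
  have npc : HasNormalPComplement 2 C := by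
    refine H3.hasNPC_of_normalizer_le_centralizer (V.subtype VC) fun n hn x hx => Subtype.ext ?_
    have n0 : (n : K ⧸ center K) ∈ normalizer (V : Set (K ⧸ center K)) :=
      H22.mem_normalizer_of_conj_mem fun v hv => (mem_normalizer_iff.1 hn ⟨v, VC hv⟩).1 hv
    obtain ⟨m, m0, m1⟩ := nm n n0
    exact m1 ((perm4 (h4.card V) 1 (θ m) 1 (θ1 m)).2 ⟨e, he⟩ (fun a => e1 (congrArg Subtype.val a))
      (Subtype.ext (by rw [hθ, m0, mem_centralizer_singleton_iff.1 n.2, mul_inv_cancel_right]))) x hx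
  set D := C.comap (QuotientGroup.mk' (center K)) with hD
  have npd : HasNormalPComplement 2 D := npc_of_central
    (((QuotientGroup.mk' (center K)).comp D.subtype).codRestrict C fun x => x.2) (fun x hx =>
      mem_center_iff.2 fun z => Subtype.ext (mem_center_iff.1
        ((QuotientGroup.eq_one_iff _).1 (congrArg Subtype.val hx)) _)) npc
  have k := hR ((pResidual 2 D).map D.subtype) (coprime_two_iff.1 (H3.hasNPC_subgroup_iff.1 npd)) fun s hs => by
    rw [H3.map_subtype_pResidual_eq_closure]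
    intro r hr
    refine (closure_le (K := Subgroup.comap (φ s : K →* K) (closure {g | g ∈ D ∧ (orderOf g).Coprime 2}))).2
      (fun r hr => Subgroup.subset_closure (show φ s r ∈ D ∧ (orderOf (φ s r)).Coprime 2 from ⟨?_, ?_⟩)) hr
    · have := congrArg (ψ s) (mem_centralizer_singleton_iff.1 hr.1)
      rw [map_mul, map_mul, fix s hs e he] at this
      exact mem_centralizer_singleton_iff.2 this
    · exact (MulEquiv.orderOf_eq (φ s) r).symm ▸ hr.2
  intro c hc
  have : (⊤ : Subgroup C) ≤ (fx ψ (zpowers t)).subgroupOf C := by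
    rw [← H3.pResidual_sup_sylow (V.subtype VC)]
    refine sup_le (H3.pResidual_le_iff.2 fun g hg => mem_fx_zpowers.2 ?_) fun v hv => mem_fx_zpowers.2 (fix t ht _ hv)
    obtain ⟨z, hz⟩ := QuotientGroup.mk_surjective (g : K ⧸ center K)
    obtain ⟨a, ⟨i, rfl⟩, b, -, ⟨j, a2⟩, b1, e2⟩ := H3.exists_decomp 2 z
    have a1 : ((z ^ i : K) : K ⧸ center K) = 1 := H3.eq_one_of_pow_eq_one_of_coprime (m := 2 ^ j)
      (n := orderOf g) (by rw [← QuotientGroup.mk_pow, a2]; rfl) (by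
        rw [QuotientGroup.mk_zpow, hz, ← zpow_natCast, zpow_comm, zpow_natCast, ← orderOf_coe, pow_orderOf_eq_one,
          one_zpow]) (Nat.Coprime.pow_left _ hg.symm)
    have e3 : (g : K ⧸ center K) = b := by rw [← hz, e2, QuotientGroup.mk_mul, a1, one_mul]
    show ψ t g = g
    rw [e3, hψ, quo_mk, k b (H3.mem_map_subtype_pResidual (show (b : K ⧸ center K) ∈ C from e3 ▸ g.2) b1)]
  exact this (mem_top (⟨c, hc⟩ : C))

end SFO

/-! ### SFO -/
theorem otl {X : Type*} [Group X] [Finite X] {P L T : Subgroup X} (hP : S3F P) (hL : L ≤ P)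
    (hT : T ≤ P) (hq : IsQuasisimple L) (h4 : E4T (L ⧸ center L)) (h2 : IsPGroup 2 T)
    (hn : T ≤ normalizer (L : Set X)) (hs : SylIn 2 (T ⊓ L) L) {t : X} (ht : t ∈ T)
    (hc : t ∉ centralizer (L : Set X)) :
    ∃ R ≤ L, Odd (Nat.card R) ∧ T ≤ normalizer (R : Set X) ∧ t ∉ centralizer (R : Set X) := by
  let M := P ⊓ normalizer (L : Set X)
  let φ : M →* MulAut L := L.normalizerMonoidHom.comp (inclusion inf_le_right)
  have hφ : ∀ m y, ((φ m y : L) : X) = m * y * (m : X)⁻¹ := fun _ _ => rfl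
  rcases SFO.main hq h4 φ (hP.of_le inf_le_left) (fun y => ⟨⟨y, hL y.2, le_normalizer y.2⟩, by ext; rfl⟩)
    (T := T.subgroupOf M) h2.comap_subtype (hs.toSylow.mapSurjective (QuotientGroup.mk'_surjective _)) (by
      rintro s hs' _ ⟨v, hv, rfl⟩
      exact ⟨φ s v, ⟨T.mul_mem (T.mul_mem hs' hv.1) (T.inv_mem hs'), (φ s v).2⟩, rfl⟩)
    (t := ⟨t, hT ht, hn ht⟩) ht with ⟨R, h1, h2, r, hr, h3⟩ | h
  · refine ⟨R.map L.subtype, map_subtype_le _, by rwa [card_map_of_injective L.subtype_injective],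
      fun s hs' => H22.mem_normalizer_of_conj_mem ?_, fun a => h3 (Subtype.ext ?_)⟩
    · rintro _ ⟨y, hy, rfl⟩
      exact ⟨_, h2 ⟨s, hT hs', hn hs'⟩ hs' y hy, rfl⟩
    · rw [hφ, ← a r ⟨r, hr, rfl⟩, mul_inv_cancel_right]
  · refine absurd (comm_of_perfect (H23.IsQuasisimple.perfect hq) (fun y hy w hw => ?_) (hn ht)) hc
    have := h (⟨y, hy⟩ : L)
    rw [quo_mk, eq_comm, QuotientGroup.eq_iff_div_mem] at this
    have := congrArg Subtype.val (mem_center_iff.1 (inv_mem this) ⟨w, hw⟩)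
    simpa [hφ, div_eq_mul_inv] using this

end H20.SF
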