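import Mathlib
import Cfsg.Agent.H20.SF0
import Cfsg.Agent.H20.SFO

set_option autoImplicit false
set_option linter.unusedVariables false
set_option linter.unusedSectionVars false

namespace H20.SF

open Cfsg Subgroup H12
open H22 (cj SylIn)

universe u

open scoped commutatorElement

namespace SFG

theorem cls {n : ℕ} {L : Type u} [Group L] [Finite L] (h : KS n L) (hL : IsQuasisimple L) :
    SzT (L ⧸ center L) ∨ E4T (L ⧸ center L) := by
  refine h.ctx _ hL.2 (fun h => ?_) (h.quo _).s3 (h.quo _).lt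
  haveI := hL.2.toNontrivial
  exact H23.IsQuasisimple.not_isSolvable
    (H23.IsQuasisimple.of_surjective hL (QuotientGroup.mk'_surjective (center L)))
    (H2.isSolvable_of_isMulCommutative _)

theorem sz_equiv {L M : Type*} [Group L] [Group M] [Finite M] (h : SzLike L) (e : M ≃* L) :
    SzLike M := by
  have hs : Function.Surjective (e : M →* L) := e.surjective
  have hi : Function.Injective (e : M →* L) := e.injective
  refine ⟨fun P P' ne => ?_, fun P a ha b hb a2 b2 => hi ?_, fun P A hA h2 => ?_, fun α hα => ?_⟩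
  · have := h.ti (P.mapSurjective hs) (P'.mapSurjective hs) fun k =>
      ne (Sylow.ext (map_injective hi (congrArg Sylow.toSubgroup k)))
    rwa [Sylow.coe_mapSurjective, Sylow.coe_mapSurjective, ← map_inf _ _ _ hi,
      map_eq_bot_iff_of_injective _ hi] at this
  · rw [map_mul, map_mul]
    exact h.comm (P.mapSurjective hs) _ ⟨a, ha, rfl⟩ _ ⟨b, hb, rfl⟩
      (by rw [← map_mul, a2, map_one]) (by rw [← map_mul, b2, map_one])
  · have := h.sq_le (P.mapSurjective hs) (A.map e) (map_mono hA) (by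
      rintro _ ⟨a, ha, rfl⟩; rw [← map_mul, h2 a ha, map_one])
    rwa [Sylow.coe_mapSurjective, card_map_of_injective hi, card_map_of_injective hi] at this
  · obtain ⟨g, hg⟩ := h.inner ((e.symm.trans α).trans e) (by
      ext x
      have := DFunLike.congr_fun hα (e.symm x)
      simp only [MulAut.mul_apply, MulAut.one_apply] at this
      simp [this])
    refine ⟨e.symm g, MulEquiv.ext fun x => e.injective ?_⟩
    simpa using DFunLike.congr_fun hg (e x)

variable {X : Type u} [Group X] [Finite X] {V : Type u} [Group V] [Finite V]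

theorem four_le_index (hV : IsPGroup 2 V) (h3 : S3F X) (ψ : X →* MulAut V) {a r : X}
    (hr : Odd (orderOf r)) (hinv : a * r * a⁻¹ = r⁻¹) (hne : ψ r ≠ 1) :
    4 ≤ (fx ψ (zpowers a)).index := by
  obtain ⟨k, hk⟩ := hV.exists_card_eq
  by_contra hlt
  push Not at hlt
  have hi := pow_two_lt_four (hk ▸ index_dvd_card _) hlt
  -- replace `ψ r` by a power of prime order
  set m := orderOf (ψ r) with hm
  have hm1 : m ≠ 1 := fun h => hne (orderOf_eq_one_iff.mp h)
  have hm0 : m ≠ 0 := (orderOf_pos _).ne'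
  set p := m.minFac with hp
  have hpp : p.Prime := Nat.minFac_prime hm1
  have hmr : m ∣ orderOf r := orderOf_map_dvd ψ r
  have hpo : Odd p := hr.of_dvd_nat ((Nat.minFac_dvd m).trans hmr)
  set ρ := ψ r ^ (m / p) with hρ
  have hρo : orderOf ρ = p := orderOf_pow_orderOf_div hm0 (Nat.minFac_dvd m)
  set α := ψ a with hα
  have hinv' : α * ρ * α⁻¹ = ρ⁻¹ := by
    rw [hρ]
    apply H22.conj_pow_of_inverts
    rw [hα, ← map_inv, ← map_mul, ← map_mul, hinv, map_inv]
  have hp3 : p ≠ 3 := fun h => by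
    have := ((h3.sub ⊤).map ψ).amb (x := ρ) (t := α) (pow_mem (mem_map_of_mem ψ (mem_top r)) _)
      (mem_map_of_mem ψ (mem_top a)) (by rw [← h, ← hρo, pow_orderOf_eq_one]) hinv'
    rw [this, orderOf_one] at hρo
    exact hpp.one_lt.ne hρo
  set ι := MonoidHom.id (MulAut V)
  have e0 : fx ψ (zpowers a) = fx ι (zpowers α) := by
    ext v; rw [mem_fx_zpowers, mem_fx_zpowers]; rfl
  rw [e0] at hi
  have e1 : fx ι (zpowers (ρ * α * ρ⁻¹)) = (fx ι (zpowers α)).map (ρ : V →* V) := by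
    ext v
    rw [mem_fx_zpowers]
    constructor
    · intro h
      refine ⟨ρ⁻¹ v, mem_fx_zpowers.mpr ?_, by simp⟩
      have := congrArg (ρ⁻¹ : MulAut V) h
      simpa [ι] using this
    · rintro ⟨w, hw, rfl⟩
      have := mem_fx_zpowers.mp hw
      simp only [ι, MonoidHom.id_apply] at this
      simp [ι, this]
  have hi' : (fx ι (zpowers (ρ * α * ρ⁻¹))).index ≤ 2 := by
    rw [e1]
    have := index_map_equiv (H := fx ι (zpowers α)) (ρ : V ≃* V)
    exact this ▸ hi
  have hle : fx ι (zpowers α) ⊓ fx ι (zpowers (ρ * α * ρ⁻¹)) ≤ fx ι (zpowers ρ) := by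
    rw [← fx_sup]
    apply fx_anti
    have h1 : ρ ^ 2 ∈ zpowers α ⊔ zpowers (ρ * α * ρ⁻¹) := by
      have : ρ ^ 2 = (ρ * α * ρ⁻¹) * α⁻¹ := by
        have h2 : α * ρ⁻¹ * α⁻¹ = ρ := by
          have := congrArg (·⁻¹) hinv'
          simpa [mul_assoc] using this
        calc ρ ^ 2 = ρ * (α * ρ⁻¹ * α⁻¹) := by rw [h2, pow_two]
          _ = _ := by group
      rw [this]
      exact mul_mem (mem_sup_right (mem_zpowers _)) (inv_mem (mem_sup_left (mem_zpowers _)))
    rw [zpowers_le]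
    obtain ⟨j, hj⟩ := hpo
    have : ρ = (ρ ^ 2) ^ (j + 1) := by
      rw [← pow_mul, show 2 * (j + 1) = p + 1 by omega, pow_succ, ← hρo, pow_orderOf_eq_one, one_mul]
    have h9 := pow_mem h1 (j + 1)
    rwa [← this] at h9
  have h4 : (fx ι (zpowers ρ)).index ≤ 4 :=
    ((Nat.le_of_dvd (Nat.pos_of_ne_zero index_ne_zero_of_finite) (index_dvd_of_le hle)).trans
      index_inf_le).trans (Nat.mul_le_mul hi hi')
  have h5 := index_fx_modEq ι hpp (hρo ▸ pow_orderOf_eq_one ρ) (by
    rw [hk]; intro h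
    have := (Nat.prime_dvd_prime_iff_eq hpp Nat.prime_two).mp (hpp.dvd_of_dvd_pow h)
    rw [this] at hpo; exact absurd hpo (by decide))
  have h6 : 5 ≤ p := by
    have := hpp.two_le
    obtain ⟨j, hj⟩ := hpo
    omega
  have h7 : 0 < (fx ι (zpowers ρ)).index := Nat.pos_of_ne_zero index_ne_zero_of_finite
  have h8 : (fx ι (zpowers ρ)).index = 1 := Nat.ModEq.eq_of_lt_of_lt h5 (by omega) (by omega)
  rw [index_eq_one] at h8
  have : ρ = 1 := by
    ext v
    exact mem_fx_zpowers.mp (h8 ▸ mem_top v : v ∈ fx ι (zpowers ρ))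
  rw [this, orderOf_one] at hρo
  exact hpp.one_lt.ne hρo

variable {φ : X →* MulAut V} {A : Subgroup X}

theorem core_dih (hV : IsPGroup 2 V) (hφ : Function.Injective φ) (h3 : S3F X)
    (hA : ∀ a ∈ A, a * a = 1)
    (ihA : ∀ B : Subgroup X, B < A → Nat.card B ^ 2 ≤ (fx φ B).index)
    {B : Subgroup X} (hBA : B ≤ A) {a r : X} (ha : a ∈ A) (hle : A ≤ B ⊔ zpowers a)
    (hr : Odd (orderOf r)) (hr1 : r ≠ 1) (hinv : a * r * a⁻¹ = r⁻¹)
    (hc : ∀ b ∈ B, b * r = r * b) : Nat.card A ^ 2 ≤ (fx φ A).index := by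
  have haB : a ∉ B := by
    intro h
    rw [hc a h, mul_inv_cancel_right] at hinv
    apply hr1
    refine H13.eq_one_of_pow_eq_one_of_coprime (p := 2) (k := 1) ?_ (coprime_two_iff.mpr hr)
    rw [pow_one, pow_two]
    nth_rewrite 1 [hinv]
    exact inv_mul_cancel r
  have hlt : B < A := lt_of_le_of_ne hBA fun h => haB (h ▸ ha)
  set L := centralizer (B : Set X) with hL
  have haL : a ∈ L := fun b hb => comm_of_sq hA (hBA hb) ha
  have hrL : r ∈ L := fun b hb => hc b hb
  set ψ := res _ (inv_fx_of_comm (φ := φ) (le_refl L)) with hψ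
  have h1 := four_le_index (hV.to_subgroup _)
    (h3.sub L) ψ (a := ⟨a, haL⟩) (r := ⟨r, hrL⟩)
    (by rwa [← Subgroup.orderOf_coe]) (Subtype.ext hinv) (fun h => hr1 (hφ (by
      rw [map_one]
      refine pq_action hV φ (B := B) (pow_of_sq fun a ha => hA a (hBA ha)) hr hc fun v hv => ?_
      exact congrArg (fun f : MulAut (fx φ B) => ((f ⟨v, hv⟩ : fx φ B) : V)) h)))
  have e1 : zpowers (⟨a, haL⟩ : L) = (zpowers a).subgroupOf L := by
    rw [← map_subtype_inj, MonoidHom.map_zpowers, map_subgroupOf_eq_of_le (zpowers_le.mpr haL)]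
    rfl
  rw [e1, hψ, index_fx_res_sub le_rfl (zpowers_le.mpr haL)] at h1
  have e2 : A = B ⊔ zpowers a := le_antisymm hle (sup_le hBA (zpowers_le.mpr ha))
  have e3 : (fx φ A).relIndex (fx φ B) = (fx φ (zpowers a)).relIndex (fx φ B) := by
    rw [e2, fx_sup, inf_relIndex_left]
  have h2 : Nat.card A ≤ 2 * Nat.card B := by
    have hn : B ≤ normalizer (zpowers a : Set X) := H13.le_normalizer_of_le_centralizer (by
      rw [centralizer_zpowers]
      exact fun b hb => mem_centralizer_singleton_iff.mpr (comm_of_sq hA (hBA hb) ha))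
    have h4 := Nat.le_of_dvd (Nat.mul_pos Nat.card_pos Nat.card_pos)
      (H2.card_sup_dvd_of_le_normalizer hn)
    rw [← e2, Nat.card_zpowers] at h4
    have h5 : orderOf a ≤ 2 := Nat.le_of_dvd (by norm_num)
      (orderOf_dvd_of_pow_eq_one (by rw [pow_two, hA a ha]))
    nlinarith
  rw [index_fx_eq_mul hBA, e3]
  calc Nat.card A ^ 2 ≤ (2 * Nat.card B) ^ 2 := Nat.pow_le_pow_left h2 2
    _ = 4 * Nat.card B ^ 2 := by ring
    _ ≤ _ := Nat.mul_le_mul h1 (ihA B hlt)

theorem core_odd (hV : IsPGroup 2 V) (hφ : Function.Injective φ) (h3 : S3F X)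
    (hA : ∀ a ∈ A, a * a = 1)
    (ihA : ∀ B : Subgroup X, B < A → Nat.card B ^ 2 ≤ (fx φ B).index)
    (hne : ¬ Nat.card A ^ 2 ≤ (fx φ A).index) {R : Subgroup X} (hR : (Nat.card R).Coprime 2)
    (hAR : A ≤ normalizer (R : Set X)) : R ≤ centralizer (A : Set X) := by
  haveI : IsMulCommutative A :=
    H13.isMulCommutative_iff_forall_mem.mpr fun x hx y hy => comm_of_sq hA hx hy
  refine H1.le_of_centralizer_cocyclic_le A R _ hAR
    (H1.card_coprime_of_isPGroup (isPGroup_of_sq hA) hR).symm ?_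
  rintro B hBA ⟨a, ha, hle⟩ x ⟨hxR, hxB⟩
  by_cases hxa : a * x = x * a
  · refine H13.centralizer_anti hle ?_
    rw [centralizer_sup']
    exact ⟨hxB, by rw [centralizer_zpowers]; exact mem_centralizer_singleton_iff.mpr hxa.symm⟩
  exfalso
  have haa : a⁻¹ = a := inv_eq_of_mul_eq_one_right (hA a ha)
  refine hne (core_dih hV hφ h3 hA ihA hBA ha hle (r := x⁻¹ * (a * x * a⁻¹)) ?_ ?_ ?_ ?_)
  · exact coprime_two_iff.mp (H13.orderOf_coprime_of_mem hR
      (mul_mem (inv_mem hxR) (H13.conj_mem_of_mem_normalizer (hAR ha) hxR)))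
  · intro h
    rw [inv_mul_eq_one, eq_mul_inv_iff_mul_eq] at h
    exact hxa h.symm
  · calc a * (x⁻¹ * (a * x * a⁻¹)) * a⁻¹ = a * x⁻¹ * a * x * (a * a)⁻¹ := by group
      _ = a * x⁻¹ * a⁻¹ * x := by rw [hA a ha, haa, inv_one, mul_one]
      _ = _ := by group
  · intro b hb
    have h1 : Commute b x := hxB b hb
    have h2 : Commute b a := comm_of_sq hA (hBA hb) ha
    exact (h1.inv_right.mul_right ((h2.mul_right h1).mul_right h2.inv_right)).eq

theorem core_move (hV : IsPGroup 2 V) (hφ : Function.Injective φ) (h3 : S3F X)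
    (hO : pCore 2 X = ⊥) (ih : ∀ L : Subgroup X, L ≠ ⊤ → G2F L) (hA : ∀ a ∈ A, a * a = 1)
    (ihA : ∀ B : Subgroup X, B < A → Nat.card B ^ 2 ≤ (fx φ B).index)
    {L : Subgroup X} (hL : IsComponent L) {a : X} (ha : a ∈ A) (hne : cj a L ≠ L) :
    Nat.card A ^ 2 ≤ (fx φ A).index := by
  have hcomp : ∀ g : X, IsComponent (cj g L) := fun g => H23.IsComponent.conj hL g
  have hc : ⁅cj a L, L⁆ = ⊥ := (H23.IsComponent.eq_or_comm (hcomp a) hL).resolve_left hne
  have hc' : ∀ x ∈ L, ∀ y ∈ L, Commute (a * x * a⁻¹) y := fun x hx y hy =>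
    H23.comm_bot_iff.mp hc _ (H22.conj_mem_cj hx) y hy
  have haa : a⁻¹ = a := inv_eq_of_mul_eq_one_right (hA a ha)
  have ha1 : a ≠ 1 := by rintro rfl; exact hne (H22.cj_one L)
  have hLab : ¬ L ≤ centralizer (L : Set X) := fun h =>
    H23.IsQuasisimple.comm_ne_bot hL.2 (H23.comm_bot_of_le_centralizer h)
  let δ : L →* X :=
    { toFun := fun x => x * (a * x * a⁻¹)
      map_one' := by simp
      map_mul' := fun x y => by
        have := (hc' x x.2 y y.2).eq
        simp only [coe_mul]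
        calc (x : X) * y * (a * (x * y) * a⁻¹) = x * (y * (a * x * a⁻¹)) * (a * y * a⁻¹) := by group
          _ = _ := by rw [← this]; group }
  have hδ : ∀ x : L, δ x = x * (a * x * a⁻¹) := fun _ => rfl
  set D := δ.range with hD
  have hσ : ∀ y : X, a * (a * y * a⁻¹) * a⁻¹ = y := fun y => by
    calc a * (a * y * a⁻¹) * a⁻¹ = (a * a) * y * (a * a)⁻¹ := by group
      _ = y := by rw [hA a ha]; group
  have hDa : ∀ d ∈ D, a * d = d * a := by
    rintro _ ⟨x, rfl⟩
    rw [← mul_inv_eq_iff_eq_mul, hδ, ← (hc' x x.2 x x.2).eq]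
    calc a * (a * x * a⁻¹ * x) * a⁻¹ = a * (a * x * a⁻¹) * a⁻¹ * (a * x * a⁻¹) := by group
      _ = _ := by rw [hσ, (hc' x x.2 x x.2).eq]
  have hDne : Nontrivial D := by
    by_contra h
    rw [not_nontrivial_iff_subsingleton] at h
    refine hLab fun x hx y hy => ?_
    have h1 : δ ⟨x, hx⟩ = 1 :=
      congrArg Subtype.val (Subsingleton.elim (⟨δ ⟨x, hx⟩, ⟨_, rfl⟩⟩ : D) 1)
    rw [hδ, mul_eq_one_iff_eq_inv] at h1
    have := (hc' x hx y hy).inv_left
    rw [← h1] at this
    exact this.eq.symm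
  have hDq : IsQuasisimple D := H23.IsQuasisimple.of_surjective hL.2 δ.rangeRestrict_surjective
  have hDp := H23.IsQuasisimple.perfect hDq
  have hDE : D ≤ layer X := by
    rintro _ ⟨x, rfl⟩
    exact mul_mem (H23.le_layer hL x.2) (H23.le_layer (hcomp a) (H22.conj_mem_cj x.2))
  have hED : ∀ g ∈ layer X, a * g = g * a → g ∈ normalizer (D : Set X) := by
    intro g hg hag
    refine H13.mem_normalizer_of_finite ?_
    rintro _ ⟨x, rfl⟩
    refine ⟨⟨g * x * g⁻¹, H13.conj_mem_of_mem_normalizer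
      (H23.layer_le_normalizer_of_isSubnormal hL.1 hg) x.2⟩, ?_⟩
    rw [hδ, hδ]
    have h1 : a * g⁻¹ = g⁻¹ * a := (show Commute a g from hag).inv_right.eq
    have h2 : g⁻¹ * a⁻¹ = a⁻¹ * g⁻¹ := (show Commute a g from hag).inv_inv.eq.symm
    calc g * x * g⁻¹ * (a * (g * x * g⁻¹) * a⁻¹) = g * x * g⁻¹ * (a * g) * x * (g⁻¹ * a⁻¹) := by
          group
      _ = _ := by rw [hag, h2]; group
  set B := A ⊓ centralizer (D : Set X) with hB
  have haB : a ∈ B := ⟨ha, fun d hd => (hDa d hd).symm⟩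
  by_cases hBA : B = A
  swap
  · refine core_red hV hφ hA inf_le_left (ihA B (lt_of_le_of_ne inf_le_left hBA))
      (ih (centralizer (B : Set X)) fun h => ha1 ?_)
      (fun x hx b hb => comm_of_sq hA hb.1 hx) le_rfl fun N hN1 hN2 hN3 => ?_
    · have hn : (zpowers a).Normal := ⟨fun y hy g => by
        have : g ∈ centralizer (B : Set X) := h ▸ mem_top g
        rw [← this y (zpowers_le.mpr haB hy), mul_inv_cancel_right]; exact hy⟩
      have := H2.le_pCore hn (H13.isPGroup_zpowers (p := 2) (k := 1)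
        (by rw [pow_one, pow_two, hA a ha]))
      rw [hO, le_bot_iff, zpowers_eq_bot] at this
      exact this
    · have hDL : D ≤ centralizer (B : Set X) := le_centralizer_symm inf_le_right
      have h1 : ⁅N, D⁆ ≤ N ⊓ layer X :=
        le_inf (H23.commutator_le_left_of (hDL.trans hN2))
          ((commutator_mono le_top hDE).trans (commutator_le_right _ _))
      have h2 : N ⊓ layer X ≤ normalizer (D : Set X) := fun g hg =>
        hED g hg.2 (hN1 hg.1 a haB)
      have h4 : ⁅N ⊓ layer X, D⁆ ≤ N ⊓ D :=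
        le_inf ((commutator_mono inf_le_left le_rfl).trans (h1.trans inf_le_left))
          (H23.commutator_le_right_of h2)
      have h5 : ⁅N ⊓ D, D⁆ = ⊥ := by
        refine (H23.IsQuasisimple.eq_or_comm hDq inf_le_right
          (H13.le_normalizer_inf (hDL.trans hN2) le_normalizer)).resolve_left fun h => ?_
        exact H23.IsQuasisimple.not_le_of_solvable hDq (H23.solv_of_isPGroup hN3)
          (h ▸ inf_le_left)
      have h6 := H23.comm_bot_of_comm_comm_bot hDp (H23.comm_bot_mono h5 h4 le_rfl)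
      have h7 := H23.comm_bot_of_comm_comm_bot hDp (H23.comm_bot_mono h6 h1 le_rfl)
      exact inf_le_inf_left _ (H23.le_centralizer_of_comm_bot h7)
  have hAD : ∀ b ∈ A, ∀ x ∈ L, b * (x * (a * x * a⁻¹)) * b⁻¹ = x * (a * x * a⁻¹) := by
    intro b hb x hx
    have h1 : b ∈ B := hBA ▸ hb
    have h2 : x * (a * x * a⁻¹) * b = b * (x * (a * x * a⁻¹)) := h1.2 _ ⟨⟨x, hx⟩, rfl⟩
    rw [← h2, mul_inv_cancel_right]
  have hLa : ∀ x ∈ L, a * x * a⁻¹ ∈ centralizer (L : Set X) := fun x hx y hy =>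
    (hc' x hx y hy).eq.symm
  have hsplit : ∀ c ∈ A, ∀ y : X, c * (y * (a * y * a⁻¹)) * c⁻¹ =
      (c * y * c⁻¹) * (a * (c * y * c⁻¹) * a⁻¹) := by
    intro c hc y
    have hca : c * a = a * c := comm_of_sq hA hc ha
    have h3 : a⁻¹ * c⁻¹ = c⁻¹ * a⁻¹ := (show Commute c a from hca).inv_inv.eq.symm
    calc c * (y * (a * y * a⁻¹)) * c⁻¹ = c * y * c⁻¹ * (c * a) * y * (a⁻¹ * c⁻¹) := by group
      _ = _ := by rw [hca, h3]; group
  have hfix : ∀ c ∈ A, cj c L = L → c ∈ centralizer (L : Set X) := by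
    intro c hc hcL
    have hcn := H22.cj_eq_iff.mp hcL
    refine comm_of_perfect (H23.IsComponent.perfect hL) (fun y hy => ?_) hcn
    have h1 := hAD c hc y hy
    rw [hsplit c hc] at h1
    have h2 : y⁻¹ * (c * y * c⁻¹) = (a * y * a⁻¹) * (a * (c * y * c⁻¹) * a⁻¹)⁻¹ := by
      rw [eq_mul_inv_iff_mul_eq, mul_assoc, h1, inv_mul_cancel_left]
    have h3 : y⁻¹ * (c * y * c⁻¹) ∈ centralizer (L : Set X) := h2 ▸ mul_mem (hLa y hy)
      (inv_mem (hLa _ (H13.conj_mem_of_mem_normalizer hcn hy)))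
    have h4 := H13.conj_mem_of_mem_normalizer
      (H13.normalizer_le_normalizer_centralizer L (le_normalizer hy)) h3
    rwa [mul_inv_cancel_left] at h4
  have hcases : ∀ b ∈ A, b ∈ centralizer (L : Set X) ∨ a * b ∈ centralizer (L : Set X) := by
    intro b hb
    by_cases h1 : cj b L = L
    · exact Or.inl (hfix b hb h1)
    by_cases h2 : cj (a * b) L = L
    · exact Or.inr (hfix _ (mul_mem ha hb) h2)
    exfalso
    have k1 := H23.le_centralizer_of_comm_bot
      ((H23.IsComponent.eq_or_comm (hcomp b) hL).resolve_left h1)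
    have k2 := H23.le_centralizer_of_comm_bot
      ((H23.IsComponent.eq_or_comm (hcomp (a * b)) hL).resolve_left h2)
    refine hLab fun x hx => ?_
    have h3 := hAD b hb x hx
    rw [hsplit b hb] at h3
    have h4 : x = (b * x * b⁻¹) * (a * b * x * (a * b)⁻¹) * (a * x * a⁻¹)⁻¹ := by
      rw [eq_mul_inv_iff_mul_eq, ← h3]; group
    rw [h4]
    exact mul_mem (mul_mem (k1 (H22.conj_mem_cj hx)) (k2 (H22.conj_mem_cj hx)))
      (inv_mem (hLa x hx))
  obtain ⟨x, hx, hxo, hxc⟩ : ∃ x ∈ L, (orderOf x).Coprime 2 ∧ x ∉ centralizer (L : Set X) := by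
    by_contra h
    push Not at h
    have h1 := H23.le_of_pPrime_mem_of_perfect_mod 2 (X := (⊤ : Subgroup L)) (C := center L)
      (fun x _ hx => mem_center_iff.mpr fun y => Subtype.ext
        (h x x.2 (by rwa [Subgroup.orderOf_coe]) y y.2))
      (by
        have := (H23.isQuasisimple_iff.mp hL.2).1
        rw [← commutator_def, this]; exact le_sup_left)
    exact hLab fun x hx y hy => congrArg Subtype.val (mem_center_iff.mp (h1 (mem_top ⟨x, hx⟩)) ⟨y, hy⟩)
  have hcx : Commute x⁻¹ (a * x * a⁻¹) := (hc' x hx x hx).symm.inv_left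
  refine core_dih hV hφ h3 hA ihA (B := A ⊓ centralizer (L : Set X)) inf_le_left ha
    (r := x⁻¹ * (a * x * a⁻¹)) (fun b hb => ?_) ?_ ?_ ?_ ?_
  · rcases hcases b hb with h | h
    · exact mem_sup_left ⟨hb, h⟩
    · have := mul_mem (mem_sup_right (inv_mem (mem_zpowers a)))
        (mem_sup_left (show a * b ∈ A ⊓ centralizer (L : Set X) from ⟨mul_mem ha hb, h⟩))
      rwa [inv_mul_cancel_left] at this
  · refine (coprime_two_iff.mp hxo).of_dvd_nat (orderOf_dvd_of_pow_eq_one ?_)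
    rw [hcx.mul_pow, inv_pow, conj_pow, pow_orderOf_eq_one]
    simp
  · intro h
    rw [inv_mul_eq_one] at h
    exact hxc (h ▸ hLa x hx)
  · calc a * (x⁻¹ * (a * x * a⁻¹)) * a⁻¹ = (a * x * a⁻¹)⁻¹ * (a * (a * x * a⁻¹) * a⁻¹) := by group
      _ = _ := by rw [hσ]; group
  · intro b hb
    have h1 : Commute b x := (hb.2 x hx).symm
    have h2 : Commute b a := comm_of_sq hA hb.1 ha
    exact (h1.inv_right.mul_right ((h2.mul_right h1).mul_right h2.inv_right)).eq

theorem core_norm (hV : IsPGroup 2 V) (hφ : Function.Injective φ)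
    (hO : pCore 2 X = ⊥) (ih : ∀ L : Subgroup X, L ≠ ⊤ → G2F L) (hA : ∀ a ∈ A, a * a = 1)
    (ihA : ∀ B : Subgroup X, B < A → Nat.card B ^ 2 ≤ (fx φ B).index)
    (hne : ¬ Nat.card A ^ 2 ≤ (fx φ A).index)
    {L : Subgroup X} (hL : IsComponent L) (hAL : A ≤ normalizer (L : Set X))
    (hc : ¬ A ≤ centralizer (L : Set X)) (hsz : SzLike (L ⧸ center L)) : L = ⊤ := by
  have hp := H23.IsComponent.perfect hL
  have h1 : L ⊔ A = ⊤ := by
    by_contra h
    refine hne (core_red hV hφ hA (B := A ⊓ centralizer (L : Set X)) inf_le_left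
      (ihA _ (lt_of_le_of_ne inf_le_left fun h => hc (h ▸ inf_le_right))) (ih _ h) le_sup_right
      (sup_le (le_centralizer_symm inf_le_right) fun x hx b hb => comm_of_sq hA hb.1 hx)
      fun N _ hN2 hN3 => inf_le_inf_left _ ?_)
    exact H23.le_centralizer_of_comm_bot (H23.comm_bot_symm
      (H23.IsComponent.comm_of_solvable hL (H23.solv_of_isPGroup hN3) (le_sup_left.trans hN2)))
  haveI hLn : L.Normal := by
    rw [← normalizer_eq_top_iff, eq_top_iff, ← h1]
    exact sup_le le_normalizer hAL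
  set Z := centralizer (L : Set X) with hZ
  have h2 : A ≤ L ⊔ Z := by
    intro a ha
    let e : MulAut L := MulAut.conjNormal a
    have he : (center L).map (e : L →* L) = center L :=
      characteristic_iff_map_eq.mp inferInstance e
    let α : MulAut (L ⧸ center L) := QuotientGroup.congr _ _ e he
    have hα : ∀ y : L, α (y : L ⧸ center L) = (e y : L ⧸ center L) := fun _ => rfl
    obtain ⟨g, hg⟩ := hsz.inner α (by
      ext y
      induction y using QuotientGroup.induction_on with | _ y => ?_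
      rw [MulAut.mul_apply, hα, hα, ← MulAut.mul_apply, ← map_mul, hA a ha, map_one]
      rfl)
    induction g using QuotientGroup.induction_on with | _ g => ?_
    have h4 : (g : X)⁻¹ * a ∈ Z := by
      refine comm_of_perfect hp (fun y hy => ?_) (le_normalizer_of_normal (mem_top _))
      have h5 := hα ⟨y, hy⟩
      rw [hg, MulAut.conj_apply, ← QuotientGroup.mk_mul, ← QuotientGroup.mk_inv,
        ← QuotientGroup.mk_mul, QuotientGroup.eq] at h5
      have h6 : (g * y * (g : X)⁻¹)⁻¹ * (a * y * a⁻¹) ∈ Z := fun w hw =>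
        congrArg Subtype.val (mem_center_iff.mp h5 ⟨w, hw⟩)
      have h7 := (inferInstance : Z.Normal).conj_mem _ h6 (y * (g : X)⁻¹)
      convert h7 using 1
      group
    have := mul_mem (mem_sup_left g.2) (mem_sup_right (S := L) h4)
    rwa [mul_inv_cancel_left] at this
  have h3 : L ⊔ Z = ⊤ := top_le_iff.mp (h1 ▸ sup_le le_sup_left h2)
  obtain ⟨P, hP, -⟩ := H22.exists_sylIn (p := 2) (bot_le : ⊥ ≤ Z) IsPGroup.of_bot
  have h4 : ∀ g : X, (orderOf g).Coprime 2 → g ∈ L := fun g hg =>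
    mem_of_coprime_of_mem_sup hAL (isPGroup_of_sq hA) (by rw [sup_comm, h1]; exact mem_top g) hg
  have h5 : ∀ z ∈ Z, ∃ q ∈ P, ∃ k ∈ Z ⊓ L, z = q * k := fun z hz =>
    hP.exists_mul_of_coprime_mem inf_le_left le_normalizer_of_normal
      (fun g hg ho => ⟨hg, h4 g ho⟩) hz
  have h6 : P.Normal := by
    have hLP : L ≤ normalizer (P : Set X) :=
      H13.le_normalizer_of_le_centralizer (le_centralizer_symm hP.le)
    rw [← normalizer_eq_top_iff, eq_top_iff, ← h3]
    refine sup_le hLP fun z hz => ?_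
    obtain ⟨q, hq, k, hk, rfl⟩ := h5 z hz
    exact mul_mem (le_normalizer hq) (hLP hk.2)
  have h7 := H2.le_pCore h6 hP.isPGroup
  rw [hO, le_bot_iff] at h7
  rw [eq_top_iff, ← h3]
  refine sup_le le_rfl fun z hz => ?_
  obtain ⟨q, hq, k, hk, rfl⟩ := h5 z hz
  rw [h7, mem_bot] at hq
  rw [hq, one_mul]
  exact hk.2

theorem core2F {n : ℕ} (hK : KS n X)
    (ih : ∀ L : Subgroup X, L ≠ ⊤ → G2F L) : Core2F X := by
  intro V _ _ hV φ hφ hO hirr A
  have h3 := hK.s3
  induction hm : Nat.card A using Nat.strong_induction_on generalizing A with | _ m ihm => ?_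
  intro hA
  have ihA : ∀ B : Subgroup X, B < A → Nat.card B ^ 2 ≤ (fx φ B).index := fun B hB =>
    ihm _ (hm ▸ H2.card_lt_of_lt hB) B rfl fun a ha => hA a (hB.le ha)
  rw [← hm]
  by_contra hne
  have hF : fittingSubgroup X ≤ pPrimeCore 2 X := by
    have := H2.fitting_le_pCore_sup_pPrimeCore (G := X) 2
    rwa [hO, bot_sup_eq] at this
  have h1 := core_odd hV hφ h3 hA ihA hne (H2.pPrimeCore_coprime 2 X) le_normalizer_of_normal
  obtain ⟨L, hL, hc⟩ : ∃ L : Subgroup X, IsComponent L ∧ ¬ A ≤ centralizer (L : Set X) := by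
    by_contra h
    push Not at h
    have h2 : A ≤ fittingSubgroup X := H23.le_fitting_of_comm
      (H23.comm_bot_symm (H23.layer_comm fun L hL =>
        H23.comm_bot_symm (H23.comm_bot_of_le_centralizer (h L hL))))
      (H23.comm_bot_symm (H23.comm_bot_of_le_centralizer (hF.trans h1)))
    have h4 := H2.le_pCore_of_le_fitting (isPGroup_of_sq hA) h2
    rw [hO, le_bot_iff] at h4
    subst h4
    exact hne card_bot_sq_le
  have hAL : A ≤ normalizer (L : Set X) := fun a ha => by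
    by_contra h
    exact hne (core_move hV hφ h3 hO ih hA ihA hL ha (mt H22.cj_eq_iff.mp h))
  rcases cls (hK.sub L) hL.2 with hsz | h4
  · have h2 := core_norm hV hφ hO ih hA ihA hne hL hAL hc hsz.1
    subst h2
    exact hne (core_quasi hV hφ hirr hO ih hA
      (sz_equiv hsz.1 (QuotientGroup.congr _ _ topEquiv.symm (by
        ext x
        refine ⟨?_, fun h => ⟨x, mem_center_iff.mpr fun g =>
          congrArg Subtype.val (mem_center_iff.mp h ⟨g, mem_top g⟩), rfl⟩⟩
        rintro ⟨y, hy, rfl⟩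
        exact mem_center_iff.mpr fun g => Subtype.ext (mem_center_iff.mp hy g)))))
  · obtain ⟨T, hT, hAT⟩ := H22.exists_sylIn (p := 2) (le_sup_right : A ≤ L ⊔ A) (isPGroup_of_sq hA)
    have hn : L ⊔ A ≤ normalizer (L : Set X) := sup_le le_normalizer hAL
    obtain ⟨a, ha, hac⟩ := SetLike.not_le_iff_exists.mp hc
    obtain ⟨R, -, hR, hTR, haR⟩ := otl (h3.sub ⊤) le_top le_top hL.2 h4 hT.isPGroup (hT.le.trans hn)
      (hT.inf_normal le_sup_left hn) (hAT ha) hac
    exact haR (le_centralizer_symm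
      (core_odd hV hφ h3 hA ihA hne (coprime_two_iff.mpr hR) (hAT.trans hTR)) ha)

end SFG

/-! ### SFG -/
theorem KS.g2f {n : ℕ} {X : Type u} [Group X] [Finite X] (h : KS n X) : G2F X := by
  induction hm : Nat.card X using Nat.strong_induction_on generalizing X with | _ m ih => ?_
  refine g2f_of_core fun N _ => ?_
  have h1 : Nat.card (X ⧸ N) ≤ Nat.card X := Nat.le_of_dvd Nat.card_pos (card_quotient_dvd_card N)
  refine SFG.core2F (h.quo N) fun L hL => ?_
  have h4 := H2.card_lt_of_ne_top hL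
  exact ih _ (by omega) ((h.quo N).sub L) rfl
theorem KS.p1 {n : ℕ} {X : Type u} [Group X] [Finite X] (h : KS n X) {N P : Subgroup X}
    (hN : H2.IsMinNormal N) (hP : IsPGroup 2 P) {a b : X} (ha : a ∈ N) (hb : b ∈ N) (haP : a ∈ P)
    (hbP : b ∈ P) (ha2 : a * a = 1) (hb2 : b * b = 1) : a * b = b * a := by
  haveI := hN.1
  haveI : Nontrivial N := (nontrivial_iff_ne_bot N).mpr hN.2.1
  obtain ⟨M, hM, hs⟩ := exists_simple_quotient N
  have h1 : (M.map N.subtype).normalCore = ⊥ := by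
    refine (hN.2.2 _ inferInstance ((normalCore_le _).trans (map_subtype_le M))).resolve_right
      fun h => ?_
    have h2 : N ≤ M.map N.subtype := h.ge.trans (normalCore_le _)
    have h3 : M = ⊤ := eq_top_iff.mpr fun x _ => by
      obtain ⟨y, hy, hyx⟩ := h2 x.2
      rwa [← Subtype.ext hyx]
    exact QuotientGroup.nontrivial_iff.mp hs.toNontrivial h3
  rw [← mul_inv_eq_one, ← mem_bot, ← h1]
  intro x
  set a' : N := ⟨x * a * x⁻¹, hN.1.conj_mem a ha x⟩
  set b' : N := ⟨x * b * x⁻¹, hN.1.conj_mem b hb x⟩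
  have key : (a' : N ⧸ M) * b' = b' * a' := by
    by_cases hc : IsMulCommutative (N ⧸ M)
    · exact mul_comm' _ _
    have hsz := h.ctx (N ⧸ M) hs hc ((h.sub N).quo M).s3 ((h.sub N).quo M).lt
    obtain ⟨T, hT⟩ := (((H22.isPGroup_cj hP x).comap_subtype (K := N)).map
      (QuotientGroup.mk' M)).exists_le_sylow
    have hcm : ∀ a ∈ T, ∀ b ∈ T, a * a = 1 → b * b = 1 → a * b = b * a :=
      hsz.elim (fun h => h.1.comm T) fun h a ha b hb _ _ => comm_of_sq (h.sq T) ha hb
    refine hcm _ (hT ⟨a', H22.conj_mem_cj haP, rfl⟩) _ (hT ⟨b', H22.conj_mem_cj hbP, rfl⟩)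
      ?_ ?_
    · rw [← map_mul, show a' * a' = 1 from Subtype.ext (by
        change x * a * x⁻¹ * (x * a * x⁻¹) = 1
        rw [show x * a * x⁻¹ * (x * a * x⁻¹) = x * (a * a) * x⁻¹ by group, ha2]; group)]
      rfl
    · rw [← QuotientGroup.mk_mul, show b' * b' = 1 from Subtype.ext (by
        change x * b * x⁻¹ * (x * b * x⁻¹) = 1
        rw [show x * b * x⁻¹ * (x * b * x⁻¹) = x * (b * b) * x⁻¹ by group, hb2]; group)]
      rfl
  refine ⟨a' * b' * (b' * a')⁻¹, ?_, ?_⟩
  · change _ ∈ M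
    rw [← QuotientGroup.eq_one_iff, QuotientGroup.mk_mul, QuotientGroup.mk_inv,
      QuotientGroup.mk_mul, QuotientGroup.mk_mul, key, mul_inv_cancel]
  · change x * a * x⁻¹ * (x * b * x⁻¹) * (x * b * x⁻¹ * (x * a * x⁻¹))⁻¹ = _
    group

end H20.SF
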