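import Mathlib
import Cfsg.Agent.H20.SF0
import Cfsg.Agent.H20.SFG
import Cfsg.Agent.H12.TF9

set_option autoImplicit false
set_option linter.unusedVariables false
set_option linter.unusedSectionVars false
set_option linter.style.haveILetI false

namespace H20.SF

open Cfsg Subgroup H12
open H22 (cj SylIn)
open H13 (Good)
open scoped commutatorElement

universe u

/-! ### SFL -/
theorem KS.of_le {n : ℕ} {X : Type u} [Group X] [Finite X] {P Q : Subgroup X} (h : KS n P)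
    (hQ : Q ≤ P) : KS n Q := ⟨h.ctx, (card_le_of_le hQ).trans_lt h.lt, h.s3.of_le hQ⟩

section
variable {n : ℕ} {X : Type u} [Group X] [Finite X]

theorem uniq_conj3 (hK : KS n X) {S J Y B : Subgroup X} (hS : SylIn 2 S ⊤) (hJS : J ≤ S)
    (hSB : S ≤ B) (hmax : ∀ L : Subgroup X, J ≤ L → L ≠ ⊤ → L ≤ B)
    (hcore : ∀ W : Subgroup X, W.Normal → W ≤ B → W = ⊥) (hY1 : Y ≠ ⊥) (hYS : Y ≤ S)
    (hY2 : ∀ y ∈ Y, y * y = 1) (hJY : J ≤ centralizer (Y : Set X))
    (hBY : B ≤ normalizer (Y : Set X)) {g : X} (hg : cj g Y ≤ B) : g ∈ B := by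
  have hnorm : ∀ W : Subgroup X, W ≠ ⊥ → W ≤ B → J ≤ normalizer (W : Set X) →
      normalizer (W : Set X) ≤ B := fun W h1 h2 h3 =>
    hmax _ h3 fun h => h1 (hcore W (normalizer_eq_top_iff.mp h) h2)
  have hcent : ∀ y ∈ Y, y ≠ 1 → centralizer ({y} : Set X) ≤ B := by
    intro y hy h1
    rw [← centralizer_zpowers]
    have h2 : zpowers y ≤ Y := zpowers_le.mpr hy
    exact (centralizer_le_normalizer _).trans (hnorm _ (by simpa) (h2.trans (hYS.trans hSB))
      ((hJY.trans (H13.centralizer_anti h2)).trans (centralizer_le_normalizer _)))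
  have hSB' := hS.mono hSB le_top
  obtain ⟨b, hb, hbg⟩ := hSB'.exists_cj_le hg (H22.isPGroup_cj (isPGroup_of_sq hY2) g)
  rw [← H22.cj_mul] at hbg
  rw [← B.mul_mem_cancel_left hb]
  generalize b * g = g at hbg
  haveI : Nontrivial X := by
    obtain ⟨y, hy⟩ := ne_bot_iff_exists_ne_one.mp hY1
    exact ⟨y, 1, fun h => hy (Subtype.ext h)⟩
  obtain ⟨N, hN⟩ := H2.exists_isMinNormal X
  haveI := hN.1
  have hNS : S ⊔ N = ⊤ := by
    by_contra h
    exact hN.2.1 (hcore N hN.1 (le_sup_right.trans (hmax _ (hJS.trans le_sup_left) h)))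
  have hcomm : ∀ a ∈ S ⊓ N, ∀ b ∈ S ⊓ N, a * a = 1 → b * b = 1 → a * b = b * a :=
    fun a ha b hb => hK.p1 hN hS.isPGroup ha.2 hb.2 ha.1 hb.1
  let Z : Subgroup X :=
    { carrier := {t | t ∈ S ⊓ N ∧ t * t = 1}
      one_mem' := ⟨one_mem _, mul_one _⟩
      mul_mem' := fun {a b} ha hb => ⟨mul_mem ha.1 hb.1, by
        calc a * b * (a * b) = a * (b * a) * b := by group
          _ = (a * a) * (b * b) := by rw [← hcomm a ha.1 b hb.1 ha.2 hb.2]; group
          _ = 1 := by rw [ha.2, hb.2, mul_one]⟩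
      inv_mem' := fun {a} ha => ⟨inv_mem ha.1, by rw [← mul_inv_rev, ha.2, inv_one]⟩ }
  have hsq : ∀ h a : X, a * a = 1 → h * a * h⁻¹ * (h * a * h⁻¹) = 1 := fun h a ha => by
    calc _ = h * (a * a) * h⁻¹ := by group
      _ = 1 := by rw [ha]; group
  have hZS : ∀ h : X, cj h Z ≤ S → h ∈ normalizer (Z : Set X) := fun h hh =>
    H22.mem_normalizer_of_conj_mem fun z hz =>
      ⟨⟨hh (H22.conj_mem_cj hz), hN.1.conj_mem _ hz.1.2 h⟩, hsq h z hz.2⟩
  have hZle : Z ≤ S := fun z hz => hz.1.1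
  have Zlem : Z ≠ ⊥ → ∀ y ∈ Y, y ≠ 1 → ∀ g : X, Z ≤ centralizer ({g * y * g⁻¹} : Set X) →
      g ∈ B := by
    intro hZ y hy h1 g hg
    rw [← H22.cj_centralizer_singleton, ← H22.cj_inv_cj g⁻¹ Z, inv_inv, H22.cj_le_cj_iff] at hg
    obtain ⟨b, hb, hbg⟩ := hSB'.exists_cj_le (hg.trans (hcent y hy h1))
      (H22.isPGroup_cj (hS.isPGroup.to_le hZle) _)
    rw [← H22.cj_mul] at hbg
    have := hnorm Z hZ (hZle.trans hSB) (fun j hj => hZS j
      ((H22.cj_mono hZle).trans (H22.cj_eq_of_mem (hJS hj)).le)) (hZS _ hbg)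
    rwa [B.mul_mem_cancel_left hb, inv_mem_iff] at this
  by_cases hYN : Y ⊓ N = ⊥
  swap
  · obtain ⟨⟨y, hy⟩, hy1⟩ := ne_bot_iff_exists_ne_one.mp hYN
    have hy1' : y ≠ 1 := fun h => hy1 (Subtype.ext h)
    have hyZ : y ∈ Z := ⟨⟨hYS hy.1, hy.2⟩, hY2 y hy.1⟩
    refine Zlem (fun h => hy1' (by rwa [h, mem_bot] at hyZ)) y hy.1 hy1' g fun z hz => ?_
    rw [mem_centralizer_singleton_iff]
    exact hcomm _ hz.1 _ ⟨hbg (H22.conj_mem_cj hy.1), hN.1.conj_mem _ hy.2 g⟩ hz.2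
      (hsq g y (hY2 y hy.1))
  obtain ⟨⟨y, hy⟩, hy1⟩ := ne_bot_iff_exists_ne_one.mp hY1
  have hy1' : y ≠ 1 := fun h => hy1 (Subtype.ext h)
  obtain ⟨s, hs, m, hm, rfl⟩ := (H22.mem_sup_of_le_normalizer le_normalizer_of_normal).mp
    (hNS ▸ mem_top g)
  refine mul_mem (hSB hs) ?_
  have h1 : m * y * m⁻¹ ∈ S := by
    have := mul_mem (mul_mem (inv_mem hs) (hbg (H22.conj_mem_cj hy))) hs
    convert this using 1
    group
  have hyc : ∀ t ∈ S ⊓ N, t * y = y * t := by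
    intro t ht
    have : t * y * t⁻¹ * y⁻¹ ∈ Y ⊓ N := mem_inf.mpr
      ⟨mul_mem (H22.conj_mem_of_mem_normalizer (hBY (hSB ht.1)) hy) (inv_mem hy), by
        have := N.mul_mem ht.2 (hN.1.conj_mem _ (N.inv_mem ht.2) y)
        convert this using 1
        group⟩
    rw [hYN, mem_bot, mul_inv_eq_one, mul_inv_eq_iff_eq_mul] at this
    exact this
  have ht : m * y * m⁻¹ * y⁻¹ ∈ S ⊓ N := mem_inf.mpr ⟨mul_mem h1 (S.inv_mem (hYS hy)), by
    have := mul_mem hm (hN.1.conj_mem _ (inv_mem hm) y)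
    convert this using 1
    group⟩
  obtain ⟨t, htd⟩ : ∃ t, t = m * y * m⁻¹ * y⁻¹ := ⟨_, rfl⟩
  rw [← htd] at ht
  have e : m * y * m⁻¹ = t * y := by rw [htd]; group
  have ht2 : t * t = 1 := by
    calc t * t = t * t * (y * y) := by rw [hY2 y hy, mul_one]
      _ = t * (t * y) * y := by group
      _ = t * (y * t) * y := by rw [hyc t ht]
      _ = t * y * (t * y) := by group
      _ = 1 := by rw [← e]; exact hsq m y (hY2 y hy)
  by_cases ht1 : t = 1
  · refine hcent y hy hy1' ?_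
    rw [ht1, one_mul, mul_inv_eq_iff_eq_mul] at e
    exact mem_centralizer_singleton_iff.mpr e
  refine Zlem (fun h => ht1 (by rw [← mem_bot, ← h]; exact ⟨ht, ht2⟩)) y hy hy1' m fun z hz => ?_
  rw [mem_centralizer_singleton_iff, e, ← mul_assoc, hcomm z hz.1 t ht hz.2 ht2, mul_assoc,
    hyc z hz.1, mul_assoc]

theorem caseI3 (hK : KS n X) {S Y : Subgroup X} (h : SetA S Y)
    (hc : centralizer (pCore 2 X : Set X) ≤ pCore 2 X)
    (hu : ∀ g, cj g Y ≤ normalizer (Y : Set X) → g ∈ normalizer (Y : Set X)) : Y.Normal := by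
  rw [← normalizer_eq_top_iff, eq_top_iff]
  intro x _
  by_contra hx
  have h2 : ∀ P : Subgroup X, IsPGroup 2 P → Y ≤ P → P ≤ normalizer (Y : Set X) := by
    intro P hP hYP
    obtain ⟨g, -, hg⟩ := h.syl.exists_cj_le le_top hP
    have := hu g ((H22.cj_mono hYP).trans (hg.trans h.le_norm))
    rw [← H22.cj_le_cj_iff (g := g), H22.cj_eq_of_mem this]
    exact hg.trans h.le_norm
  have h2' : ∀ P : Subgroup X, IsPGroup 2 P → cj x Y ≤ P → P ≤ normalizer (cj x Y : Set X) := by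
    intro P hP hYP
    rw [← H22.cj_normalizer, ← H22.cj_le_cj_iff (g := x⁻¹), H22.cj_inv_cj]
    exact h2 _ (H22.isPGroup_cj hP _) (H22.cj_le_iff_le_cj_inv.mp hYP)
  have hsq : ∀ y ∈ cj x Y, y * y = 1 := by
    rintro _ ⟨y, hy, rfl⟩
    rw [← map_mul, h.sq y hy, map_one]
  obtain ⟨L, hL⟩ : ∃ L, L = Y ⊔ cj x Y ⊔ pCore 2 X := ⟨_, rfl⟩
  have hOp := H23.op_isPGroup 2 L
  have hLO : L ≤ normalizer (H23.op 2 L : Set X) := H23.le_normalizer_op 2 le_normalizer
  have hO1 : H23.op 2 L ≤ normalizer (Y : Set X) := le_sup_right.trans (h2 _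
    (H22.isPGroup_sup_of_le_normalizer (isPGroup_of_sq h.sq) hOp
      ((hL ▸ le_sup_left.trans le_sup_left : Y ≤ L).trans hLO)) le_sup_left)
  have hO2 : H23.op 2 L ≤ normalizer (cj x Y : Set X) := le_sup_right.trans (h2' _
    (H22.isPGroup_sup_of_le_normalizer (isPGroup_of_sq hsq) hOp
      ((hL ▸ le_sup_right.trans le_sup_left : cj x Y ≤ L).trans hLO)) le_sup_left)
  have ht2 : TwoF (cj x Y) (H23.op 2 L) := by
    have h3 : cj x⁻¹ (H23.op 2 L) ≤ normalizer (Y : Set X) := by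
      rwa [H22.cj_le_iff_le_cj_inv, inv_inv, H22.cj_normalizer]
    have h4 := H22.isPGroup_sup_of_le_normalizer (H22.isPGroup_cj hOp x⁻¹)
      (isPGroup_of_sq h.sq) h3
    refine ((h.two' h4 (sup_le h3 le_normalizer)).cj le_sup_right x).mono ?_
    rw [H22.cj_sup, H22.cj_cj_inv]
    exact le_sup_left
  obtain ⟨a1, a2⟩ := caseI_half (hK.sub L).g2f (H2.pCore_isPGroup 2 X) hc hL h.sq hO1 hO2 hsq
    (h.two' hOp hO1)
  obtain ⟨b1, b2⟩ := caseI_half (hK.sub L).g2f (H2.pCore_isPGroup 2 X) hc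
    (hL.trans (by rw [sup_comm Y])) hsq hO2 hO1 h.sq ht2
  have q1 := two_le_relIndex (O := H23.op 2 L) (A := Y) fun h3 => hx (by
    have h4 := h3.trans hO2
    rw [← H22.cj_normalizer, ← H22.cj_le_cj_iff (g := x⁻¹), H22.cj_inv_cj] at h4
    exact inv_mem_iff.mp (hu _ h4))
  have q2 := two_le_relIndex (O := H23.op 2 L) (A := cj x Y) fun h3 => hx (hu _ (h3.trans hO1))
  generalize (H23.op 2 L).relIndex Y = p at *
  generalize (H23.op 2 L).relIndex (cj x Y) = q at *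
  generalize (centralizer (Y : Set X)).relIndex (cj x Y ⊓ H23.op 2 L) = u at *
  generalize (centralizer (cj x Y : Set X)).relIndex (Y ⊓ H23.op 2 L) = v at *
  rcases le_total u v with huv | huv
  · have : v ≤ q := by
      by_contra hh
      push Not at hh
      nlinarith
    nlinarith
  · have : u ≤ p := by
      by_contra hh
      push Not at hh
      nlinarith
    nlinarith

theorem lemA_aux3 (k : ℕ) : ∀ (X : Type u) [Group X] [Finite X], Nat.card X = k → KS n X →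
    centralizer (pCore 2 X : Set X) ≤ pCore 2 X → ∀ S Y : Subgroup X, SetA S Y → Y.Normal := by
  induction k using Nat.strong_induction_on with | _ k ih => ?_
  intro X _ _ hk hK hc S Y h
  by_contra hne
  have hB : normalizer (Y : Set X) ≠ ⊤ := mt normalizer_eq_top_iff.mp hne
  have hQ := H2.pCore_isPGroup 2 X
  have hQS : pCore 2 X ≤ S := by
    obtain ⟨P, rfl⟩ := h.syl.exists_sylow
    exact H2.pCore_le_sylow P
  have hmax : ∀ L : Subgroup X, thompsonSubgroupOf 2 S ≤ L → pCore 2 X ≤ L → L ≠ ⊤ →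
      L ≤ normalizer (Y : Set X) := by
    intro L h1 h2 h3
    obtain ⟨S', hS'⟩ := h.sub h1
    have h4 : (pCore 2 X).subgroupOf L ≤ pCore 2 L := H2.le_pCore inferInstance hQ.comap_subtype
    refine (normal_subgroupOf_iff_le_normalizer (h.le.trans h1)).mp
      (ih _ (hk ▸ H2.card_lt_of_ne_top h3) L rfl (hK.sub L) ?_ _ _ hS')
    refine (H13.centralizer_anti h4).trans (le_trans ?_ h4)
    rw [centralizer_subgroupOf_eq h2]
    exact comap_mono hc
  have hmaxS : ∀ L : Subgroup X, S ≤ L → L ≠ ⊤ → L ≤ normalizer (Y : Set X) :=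
    fun L h1 => hmax L ((J_le S).trans h1) (hQS.trans h1)
  have hcore : ∀ D : Subgroup X, D.Normal → D ≤ normalizer (Y : Set X) → D ⊓ S ≤ pCore 2 X := by
    intro D hD hDB
    have hT := h.syl.inf_normal (K := D) le_top le_normalizer_of_normal
    rw [inf_comm]
    refine H2.le_pCore (normalizer_eq_top_iff.mp ?_) hT.isPGroup
    by_contra h1
    refine hB (eq_top_iff.mpr fun g hg => ?_)
    obtain ⟨d, hd, hdg⟩ := hT.frattini le_normalizer_of_normal hg
    exact (mul_mem_cancel_left (hDB hd)).mp (hmaxS _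
      (H13.le_normalizer_inf le_normalizer le_normalizer_of_normal) h1 hdg)
  by_cases hYQ : Y ≤ pCore 2 X
  · refine hne (caseIII hK.g2f h hQS (fun D hD => ?_) (fun hJ => hB ?_) hYQ)
    · by_cases h1 : S ⊔ D = ⊤
      · exact Or.inr (oddK_le_of_sup_eq_top h.syl.isPGroup h1)
      · exact Or.inl (hcore D hD (le_sup_right.trans (hmaxS _ le_sup_left h1)))
    · rw [eq_top_iff]
      refine le_trans ?_ h.norm
      rw [← J_eq_of_sylIn h.syl hQ hJ]
      exact le_normalizer_of_normal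
  refine hne (caseI3 hK h hc fun g hg => ?_)
  obtain ⟨H₀, hH₀⟩ : ∃ H₀, H₀ = (normalizer (Y : Set X)).normalCore := ⟨_, rfl⟩
  haveI : H₀.Normal := hH₀ ▸ inferInstance
  have h1 : H₀ ≤ normalizer (Y : Set X) := hH₀ ▸ normalCore_le _
  have h2 : ∀ D : Subgroup X, D.Normal → D ≤ normalizer (Y : Set X) → D ≤ H₀ :=
    fun D _ hD => hH₀ ▸ normal_le_normalCore.mpr hD
  have hf := QuotientGroup.mk'_surjective H₀
  have h3 : ((normalizer (Y : Set X)).map (QuotientGroup.mk' H₀)).comap (QuotientGroup.mk' H₀) =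
      normalizer (Y : Set X) := by rw [H2.comap_map_mk', sup_of_le_left h1]
  rw [← h3]
  refine uniq_conj3 (hK.quo H₀) (S := S.map (QuotientGroup.mk' H₀))
    (J := (thompsonSubgroupOf 2 S).map (QuotientGroup.mk' H₀)) (Y := Y.map (QuotientGroup.mk' H₀))
    ?_ (map_mono (J_le S)) (map_mono h.le_norm) (fun L hL hL1 => ?_) (fun W hW hWB => ?_) ?_
    (map_mono h.leS) ?_ ((map_mono h.cent).trans (H13.map_centralizer_le _ Y))
    (le_normalizer_map _) ?_
  · obtain ⟨P, rfl⟩ := h.syl.exists_sylow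
    exact H22.sylIn_top (P.mapSurjective hf)
  · rw [← H2.map_comap_mk' H₀ L]
    refine map_mono (hmax _ (map_le_iff_le_comap.mp hL)
      ((h2 _ inferInstance (hQS.trans h.le_norm)).trans (H2.le_comap_mk' _ _)) fun h4 => hL1 ?_)
    rw [← H2.map_comap_mk' H₀ L, h4, map_top_of_surjective _ hf]
  · rw [← H2.map_comap_mk' H₀ W, H2.map_mk'_eq_bot_iff]
    exact h2 _ (hW.comap _) (h3 ▸ comap_mono hWB)
  · rw [Ne, H2.map_mk'_eq_bot_iff]
    exact fun h4 => hYQ ((le_inf h4 h.leS).trans (hcore _ inferInstance h1))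
  · rintro _ ⟨y, hy, rfl⟩
    rw [← map_mul, h.sq y hy, map_one]
  · rw [← map_cj]
    exact map_mono hg

theorem lemA3 (hK : KS n X) (hc : centralizer (pCore 2 X : Set X) ≤ pCore 2 X) {S Y : Subgroup X}
    (h : SetA S Y) : Y.Normal :=
  lemA_aux3 _ X rfl hK hc S Y h

end

section
variable {n : ℕ}

theorem cfus_aux3 (k : ℕ) : ∀ (X : Type u) [Group X] [Finite X], Nat.card X = k →
    KS n X → ∀ T : Sylow 2 X, ∃ T₀ ≤ (T : Subgroup X),
      (T : Subgroup X) ⊓ centralizer (T₀ : Set X) ≤ T₀ ∧ (T : Subgroup X) ≤ normalizer (T₀ : Set X) ∧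
      ∀ A ≤ (T : Subgroup X), ∀ g : X, cj g A ≤ T → Good (normalizer (T₀ : Set X)) A g := by
  induction k using Nat.strong_induction_on with | _ k ih => ?_
  intro X _ _ hk hK T
  by_cases hc : (T : Subgroup X) ⊓ centralizer (pCore 2 X : Set X) ≤ pCore 2 X
  · exact ⟨_, H2.pCore_le_sylow T, hc, le_normalizer_of_normal,
      fun A _ g _ => H13.good_of_mem (le_normalizer_of_normal (mem_top g)) A⟩
  by_cases hO : pPrimeCore 2 X = ⊥
  swap
  · have hf := QuotientGroup.mk'_surjective (pPrimeCore 2 X)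
    have hker := H13.coprime_card_ker_mk'_pPrimeCore (G := X) 2
    obtain ⟨T₀, h1, h2, h3, h4⟩ := ih _ (hk ▸ H2.card_quotient_lt hO) _ rfl (hK.quo _)
      (T.mapSurjective hf)
    rw [Sylow.coe_mapSurjective] at h1 h2 h3 h4
    set f := QuotientGroup.mk' (pPrimeCore 2 X)
    have hT := H13.inf_eq_bot_of_isPGroup_of_coprime T.isPGroup' hker
    have e := map_inf_comap_eq h1
    have h5 : (T : Subgroup X) ≤ normalizer (((T : Subgroup X) ⊓ T₀.comap f : Subgroup X) : Set X) :=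
      H13.le_normalizer_inf le_normalizer
        ((le_comap_map f _).trans (H23.comap_le_normalizer_comap h3 f))
    refine ⟨T ⊓ T₀.comap f, inf_le_left, fun x hx => ⟨hx.1, h2 ⟨⟨x, hx.1, rfl⟩, ?_⟩⟩, h5,
      fun A hA g hg => H13.good_of_good_map hker (T.isPGroup'.to_le hA) (hA.trans h5)
        (hg.trans h5) ?_⟩
    · rw [← e]
      exact (map_mem_centralizer_iff hT inf_le_left hx.1).mpr hx.2
    · rw [← H13.normalizer_map_of_coprime_ker hf hker T.isPGroup'.to_inf_left, e]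
      exact h4 _ (map_mono hA) _ (map_cj f g A ▸ map_mono hg)
  obtain ⟨Q, hQ⟩ : ∃ Q, Q = pCore 2 X := ⟨_, rfl⟩
  rw [← hQ] at hc
  haveI : Q.Normal := hQ ▸ inferInstance
  have hQp : IsPGroup 2 Q := hQ ▸ H2.pCore_isPGroup 2 X
  have hf := QuotientGroup.mk'_surjective Q
  set f := QuotientGroup.mk' Q with hfd
  have hker : ∀ x, f x = 1 ↔ x ∈ Q := fun x => QuotientGroup.eq_one_iff x
  obtain ⟨L, hL, hLC⟩ := H2.exists_isMinNormal_le (Normal.map inferInstance f hf :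
    ((centralizer (Q : Set X)).map f).Normal)
    (mt H2.map_mk'_eq_bot_iff.mp fun h => hc (inf_le_right.trans h))
  haveI := hL.1
  have h1 : ¬ (T : Subgroup X) ⊓ (L.comap f ⊓ centralizer (Q : Set X)) ≤ Q := by
    intro h
    have h2 : ¬ 2 ∣ Q.relIndex (L.comap f ⊓ centralizer (Q : Set X)) := by
      intro hd
      apply H13.not_dvd_relIndex_sylow_normal T (L.comap f ⊓ centralizer (Q : Set X))
      rw [← inf_relIndex_right]
      exact hd.trans (relIndex_dvd_of_le_left _ h)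
    have h3 := H13.le_sup_pPrimeCore_of_central hQp inf_le_right
      ((Nat.prime_two.coprime_iff_not_dvd.mpr h2).symm)
    rw [hO, sup_bot_eq] at h3
    refine hL.2.1 (eq_bot_iff.mpr fun l hl => ?_)
    obtain ⟨c, hc, rfl⟩ := hLC hl
    exact (hker c).mpr (h3 ⟨hl, hc⟩)
  have hcomm : ∀ a ∈ (T : Subgroup X) ⊓ (L.comap f ⊓ centralizer (Q : Set X)),
      ∀ b ∈ (T : Subgroup X) ⊓ (L.comap f ⊓ centralizer (Q : Set X)), a * a ∈ Q → b * b ∈ Q →
      f a * f b = f b * f a := fun a ha b hb ha2 hb2 =>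
    (hK.quo Q).p1 hL (T.isPGroup'.map f) ha.2.1 hb.2.1 ⟨a, ha.1, rfl⟩ ⟨b, hb.1, rfl⟩
      (by rw [← map_mul, hker]; exact ha2) (by rw [← map_mul, hker]; exact hb2)
  let E : Subgroup X :=
    { carrier := {t | t ∈ (T : Subgroup X) ⊓ (L.comap f ⊓ centralizer (Q : Set X)) ∧ t * t ∈ Q}
      one_mem' := ⟨one_mem _, by simp⟩
      mul_mem' := fun {a b} ha hb => ⟨mul_mem ha.1 hb.1, by
        rw [← hker]
        calc f (a * b * (a * b)) = f a * (f b * f a) * f b := by simp only [map_mul]; group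
          _ = f (a * a) * f (b * b) := by
            rw [← hcomm a ha.1 b hb.1 ha.2 hb.2]; simp only [map_mul]; group
          _ = 1 := by rw [(hker _).mpr ha.2, (hker _).mpr hb.2, mul_one]⟩
      inv_mem' := fun {a} ha => ⟨inv_mem ha.1, by rw [← mul_inv_rev]; exact inv_mem ha.2⟩ }
  have hET : E ≤ T := fun x hx => hx.1.1
  have hEQ : ¬ E ≤ Q := by
    intro h
    refine omega_ne_bot (T.isPGroup'.to_inf_left.map f) (mt H2.map_mk'_eq_bot_iff.mp h1)
      (eq_bot_iff.mpr (omega_le_iff.mpr ?_))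
    rintro _ ⟨x, hx, rfl⟩ h2
    rw [pow_two, ← map_mul, hker] at h2
    exact (hker x).mpr (h ⟨hx, h2⟩)
  have hsc : ∀ x ∈ E, ∀ g : X, g * x * g⁻¹ ∈ T → g * x * g⁻¹ ∈ E := fun x hx g hg =>
    ⟨⟨hg, Normal.conj_mem inferInstance _ hx.1.2 g⟩, by
      have := Normal.conj_mem inferInstance _ hx.2 g
      convert this using 1
      group⟩
  have hgood := good_of_sc T (Z := Q ⊓ centralizer (Q : Set X)) hET hsc
    (fun a ha b hb => ⟨by
      change _ ∈ Q
      rw [← hker, map_mul, map_mul, map_mul, hcomm a ha.1 b hb.1 ha.2 hb.2, map_inv, map_inv]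
      group, mul_mem (mul_mem (mul_mem ha.1.2.2 hb.1.2.2) (Subgroup.inv_mem _ ha.1.2.2))
        (Subgroup.inv_mem _ hb.1.2.2)⟩)
    fun x hx => H13.centralizer_anti inf_le_left hx.1.2.2
  have hTE : (T : Subgroup X) ≤ normalizer (E : Set X) := fun t ht =>
    H22.mem_normalizer_of_conj_mem fun x hx =>
      hsc x hx t (mul_mem (mul_mem ht (hET hx)) (inv_mem ht))
  have hN : normalizer (E : Set X) ≠ ⊤ := fun h =>
    hEQ (hQ ▸ H2.le_pCore (normalizer_eq_top_iff.mp h) (T.isPGroup'.to_le hET))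
  generalize normalizer (E : Set X) = N at *
  obtain ⟨T₀, h2, h3, h4, h5⟩ := ih _ (hk ▸ H2.card_lt_of_ne_top hN) N rfl (hK.sub N)
    (H22.sylIn_of_sylow_le T hTE).toSylow
  rw [SylIn.coe_toSylow] at h2 h3 h4 h5
  refine ⟨T₀.map N.subtype, map_le_iff_le_comap.mpr h2, fun x hx => ?_, fun x hx => ?_,
    fun A hA g hg => ?_⟩
  · refine ⟨⟨x, hTE hx.1⟩, h3 ⟨hx.1, fun t ht => Subtype.ext (hx.2 _ ⟨t, ht, rfl⟩)⟩, rfl⟩
  · exact le_normalizer_map N.subtype ⟨⟨x, hTE hx⟩, h4 hx, rfl⟩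
  · obtain ⟨m, hm, hmg⟩ := hgood A hA g hg
    obtain ⟨m', hm', hmg'⟩ := h5 (A.subgroupOf N) (comap_mono hA) ⟨m, hm⟩
      (H22.cj_le_iff.mpr fun a ha => by
        change m * a * m⁻¹ ∈ T
        rw [hmg (a : X) ha]
        exact hg (H22.conj_mem_cj ha))
    exact ⟨m', le_normalizer_map N.subtype ⟨m', hm', rfl⟩, fun a ha =>
      (congrArg Subtype.val (hmg' ⟨a, hTE (hA ha)⟩ ha)).trans (hmg a ha)⟩

theorem cfus3 {G : Type u} [Group G] [Finite G] {L R : Subgroup G} (hK : KS n L)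
    (hR : SylIn 2 R L) : ∃ T₀ ≤ R, R ⊓ centralizer (T₀ : Set G) ≤ T₀ ∧
      R ≤ normalizer (T₀ : Set G) ∧
      ∀ A ≤ R, ∀ g ∈ L, cj g A ≤ R → Good (L ⊓ normalizer (T₀ : Set G)) A g := by
  obtain ⟨T₀, h2, h3, h4, h5⟩ := cfus_aux3 _ L rfl hK hR.toSylow
  rw [SylIn.coe_toSylow] at h2 h3 h4 h5
  refine ⟨T₀.map L.subtype, map_le_iff_le_comap.mpr h2, fun x hx => ?_, fun x hx => ?_,
    fun A hA g hg hgA => ?_⟩
  · refine ⟨⟨x, hR.le hx.1⟩, h3 ⟨hx.1, fun t ht => Subtype.ext (hx.2 _ ⟨t, ht, rfl⟩)⟩, rfl⟩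
  · exact le_normalizer_map L.subtype ⟨⟨x, hR.le hx⟩, h4 hx, rfl⟩
  · obtain ⟨m', hm', hmg'⟩ := h5 (A.subgroupOf L) (comap_mono hA) ⟨g, hg⟩
      (H22.cj_le_iff.mpr fun a ha => hgA (H22.conj_mem_cj ha))
    exact ⟨m', ⟨m'.2, le_normalizer_map L.subtype ⟨m', hm', rfl⟩⟩, fun a ha =>
      congrArg Subtype.val (hmg' ⟨a, hR.le (hA ha)⟩ ha)⟩

end

section
variable {n : ℕ} {G : Type u} [Group G] [Finite G]

theorem good_of_setA3 (hK : KS n G) {S Y T₀ R : Subgroup G} (h : SetA S Y) [T₀.Normal]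
    (hR : SylIn 2 R ⊤) (h1 : T₀ ≤ R) (h2 : R ⊓ centralizer (T₀ : Set G) ≤ T₀) {A : Subgroup G}
    (hA : IsPGroup 2 A) (hAN : A ≤ normalizer (Y : Set G)) {g : G}
    (hg : cj g A ≤ normalizer (Y : Set G)) : Good (normalizer (Y : Set G)) A g := by
  have hf := QuotientGroup.mk'_surjective (pPrimeCore 2 G)
  have hker := H13.coprime_card_ker_mk'_pPrimeCore (G := G) 2
  obtain ⟨P, rfl⟩ := hR.exists_sylow
  have hT := H13.inf_eq_bot_of_isPGroup_of_coprime P.isPGroup' hker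
  have h3 := H2.le_pCore (Normal.map ‹T₀.Normal› _ hf) ((P.isPGroup'.to_le h1).map _)
  have hn := lemA3 (hK.quo _) (H13.centralizer_pCore_le_of_sylow
    (H2.pPrimeCore_quotient_pPrimeCore 2 G) (P.mapSurjective hf) (by
      rintro _ ⟨⟨x, hx, rfl⟩, hx'⟩
      exact h3 ⟨x, h2 ⟨hx, (map_mem_centralizer_iff hT h1 hx).mp
        (H13.centralizer_anti h3 hx')⟩, rfl⟩)) (h.map hf hker)
  refine H13.good_of_good_map hker hA hAN hg (H13.good_of_mem ?_ _)
  rw [← H13.normalizer_map_of_coprime_ker hf hker (isPGroup_of_sq h.sq)]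
  exact le_normalizer_of_normal (mem_top _)

theorem good_of_setB3 {S Y T₀ L : Subgroup G} (hK : KS n L) (h : SetA S Y) (hSL : S ≤ L)
    (hL : L ≤ normalizer (T₀ : Set G)) (h1 : T₀ ≤ S) (h2 : S ⊓ centralizer (T₀ : Set G) ≤ T₀)
    {A : Subgroup G} (hA : A ≤ S) {g : G} (hgL : g ∈ L) (hg : cj g A ≤ S) :
    Good (normalizer (Y : Set G)) A g := by
  obtain ⟨S', hS'⟩ := h.sub ((J_le S).trans hSL)
  haveI := (normal_subgroupOf_iff_le_normalizer (h1.trans hSL)).mpr hL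
  have e := subgroupOf_normalizer_eq (h.leS.trans hSL)
  obtain ⟨m, hm, hmg⟩ := good_of_setA3 hK hS' (T₀ := T₀.subgroupOf L)
    (sylIn_subgroupOf (h.syl.mono hSL le_top)) (comap_mono h1) (by
      rw [centralizer_subgroupOf_eq (h1.trans hSL)]
      exact fun x hx => h2 hx) (A := A.subgroupOf L) (h.syl.isPGroup.to_le hA).comap_subtype
    (e ▸ comap_mono (hA.trans h.le_norm)) (g := ⟨g, hgL⟩) (by
      rw [← e, H22.cj_le_iff]
      exact fun a ha => h.le_norm (hg (H22.conj_mem_cj ha)))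
  rw [← e] at hm
  exact ⟨m, hm, fun a ha => congrArg Subtype.val (hmg ⟨a, hSL (hA ha)⟩ ha)⟩

theorem setA_good3 (P : Sylow 2 G) {Y : Subgroup G} (h : SetA (P : Subgroup G) Y)
    (hK : ∀ W : Subgroup G, W ≠ ⊥ → IsPGroup 2 W → KS n (normalizer (W : Set G)))
    (A : Subgroup G) (hA : A ≤ P)
    (g : G) (hg : cj g A ≤ P) : Good (normalizer (Y : Set G)) A g := by
  set N := normalizer (Y : Set G) with hN
  refine H13.alperin_good P h.le_norm (fun X hXP hXs IH g hg => ?_) A hA g hg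
  have C2 : ∀ k : ℕ, ∀ R : Subgroup G, Nat.card G - Nat.card R = k → R ≤ P →
      ∀ X' W : Subgroup G, W ≠ ⊥ → W ≤ R → SylIn 2 R (normalizer (W : Set G)) → X' ≤ R →
        Nat.card X' = Nat.card X → ∀ g ∈ normalizer (W : Set G), cj g X' ≤ R → Good N X' g := by
    intro k
    induction k using Nat.strong_induction_on with | _ k ihk => ?_
    intro R hk hRP X' W hW1 hWR hs hX' hc g hg hgX
    obtain ⟨T₀, h1, h2, h3, h4⟩ := cfus3 (hK W hW1 (hs.isPGroup.to_le hWR)) hs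
    obtain ⟨m, hm, hmg⟩ := h4 X' hX' g hg hgX
    have hmX : cj m X' ≤ R := (H13.cj_eq_of_agree hmg).trans_le hgX
    have hKL : KS n ↥(normalizer (W : Set G) ⊓ normalizer (T₀ : Set G)) :=
      (hK W hW1 (hs.isPGroup.to_le hWR)).of_le inf_le_left
    refine Good.congr ?_ hmg
    rcases hRP.eq_or_lt with rfl | hlt0
    · exact good_of_setB3 hKL h (le_inf hs.le h3) inf_le_right h1 h2 hX' hm hmX
    have hR1 : R ≠ ⊥ := fun h => hW1 (le_bot_iff.mp (h ▸ hWR))
    have step : ∀ W : Subgroup G, W ≠ ⊥ → W ≤ R →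
        normalizer (R : Set G) ≤ normalizer (W : Set G) → ∀ X' ≤ R, Nat.card X' = Nat.card X →
        ∀ m ∈ normalizer (W : Set G), cj m X' ≤ R → Good N X' m := by
      intro W hW hWR hRW X' hX' hc m hm hmX
      have hlt : R < (P : Subgroup G) ⊓ normalizer (W : Set G) :=
        (H22.lt_inf_normalizer P.isPGroup' hlt0).trans_le (inf_le_inf_left _ hRW)
      obtain ⟨h, hh1, hh2⟩ := H22.exists_cj_fullyNormalized P W
      have hlt' := H2.card_lt_of_lt hlt
      have g1 : Good N R h := (IH _ inf_le_left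
        (lt_of_le_of_lt (hc ▸ card_le_of_le hX') hlt') h hh1).res hlt.le
      have hle : cj h ((P : Subgroup G) ⊓ normalizer (W : Set G)) ≤
          (P : Subgroup G) ⊓ normalizer (cj h W : Set G) :=
        le_inf hh1 (H22.cj_normalizer h W ▸ H22.cj_mono inf_le_right)
      have hRle : cj h R ≤ (P : Subgroup G) ⊓ normalizer (cj h W : Set G) :=
        (H22.cj_mono hlt.le).trans hle
      have hc2 := card_le_of_le hle
      rw [H22.card_cj] at hc2
      have hc3 := card_le_card_group ((P : Subgroup G) ⊓ normalizer (cj h W : Set G))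
      have hW1 : cj h W ≠ ⊥ := by rwa [← H22.cj_bot h, Ne, (H22.cj_injective h).eq_iff]
      have g2 := ihk _ (by omega) _ rfl inf_le_left (cj h X') (cj h W) hW1
        ((H22.cj_mono hWR).trans hRle) hh2
        ((H22.cj_mono hX').trans hRle) (by rw [H22.card_cj, hc]) (h * m * h⁻¹)
        (H22.cj_normalizer h W ▸ H22.conj_mem_cj hm)
        (by rw [← H22.cj_mul, inv_mul_cancel_right, H22.cj_mul]; exact (H22.cj_mono hmX).trans hRle)
      have g3 := (g1.res hX').mul g2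
      rw [inv_mul_cancel_right] at g3
      have g4 := (g1.res hmX).inv
      rw [← H22.cj_mul] at g4
      have g5 := g3.mul g4
      rwa [inv_mul_cancel_left] at g5
    obtain ⟨x, hx, y, hy, rfl, hxX⟩ := thompson_fact hKL.g2f (hs.mono (le_inf hs.le h3) inf_le_left)
      inf_le_right h1 h2 hX' hm hmX
    exact (step _ (omega_center_ne_bot hs.isPGroup hR1) ((omega_le _).trans inf_le_left)
      (normalizer_le_normalizer_omega_center R) X' hX' hc x hx hxX).mul
      (step _ (J_ne_bot hs.isPGroup hR1) (J_le R) (normalizer_le_normalizer_J R) _ hxX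
        (by rw [H22.card_cj, hc]) y hy (by rwa [← H22.cj_mul]))
  by_cases hX1 : X = ⊥
  · exact ⟨1, one_mem _, fun a ha => by rw [hX1, mem_bot] at ha; simp [ha]⟩
  · exact C2 _ _ rfl inf_le_left X X hX1 (le_inf hXP le_normalizer) hXs
      (le_inf hXP le_normalizer) rfl g hg
      ((H22.cj_eq_iff.mpr hg).trans_le (le_inf hXP le_normalizer))

theorem sc3 (P : Sylow 2 G) (hP : (P : Subgroup G) ≠ ⊥)
    (hK : ∀ W : Subgroup G, W ≠ ⊥ → IsPGroup 2 W → KS n (normalizer (W : Set G))) :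
    ∃ Y : Subgroup G, Y ≠ ⊥ ∧ IsMulCommutative Y ∧ IsStronglyClosed Y P := by
  have hJ := J_ne_bot P.isPGroup' hP
  have hZ1 := omega_center_ne_bot P.isPGroup' hP
  have hZ := le_centralizer_omega_center (p := 2) (P : Subgroup G)
  have hZJ := omega_center_le_omega_center_J (p := 2) (P : Subgroup G)
  generalize omegaOne 2 ((P : Subgroup G) ⊓ centralizer ((P : Subgroup G) : Set G)) = Z at *
  have hV := ncl_le hZJ (normalizer_le_normalizer_omega_center _)
  have hVea := ea_of_le (ea_omega_center _) hV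
  have h : SetA (P : Subgroup G) (ncl (normalizer (thompsonSubgroupOf 2 (P : Subgroup G) : Set G)) Z) :=
    ⟨H22.sylIn_top P, sq_of_ea hVea, hV.trans ((omega_le _).trans inf_le_left),
      le_centralizer_symm (hV.trans ((omega_le _).trans inf_le_right)), le_normalizer_ncl _ _,
      (twoF_ncl (hK _ hJ (P.isPGroup'.to_le (J_le _))).g2f (H22.sylIn_of_sylow_le P (le_normalizer_J _))
        (le_centralizer_symm hZ) (sq_of_ea hVea)).mono (le_normalizer_J _)⟩
  refine ⟨_, fun h0 => hZ1 (le_bot_iff.mp (h0 ▸ le_ncl _ Z)), hVea.1, h.leS, fun x hx g hg => ?_⟩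
  obtain ⟨m, hm, hmg⟩ := setA_good3 P h hK (zpowers x) (zpowers_le.mpr (h.leS hx)) g
    (by rwa [H22.cj_zpowers, zpowers_le])
  rw [← hmg x (mem_zpowers x)]
  exact H22.conj_mem_of_mem_normalizer hm hx

end

end H20.SF
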