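import Mathlib
import Cfsg.Agent.H20.SF0
import Cfsg.Agent.H20.SFL
import Cfsg.Agent.H20.SFE
import Cfsg.Agent.H12.TF11
import Cfsg.Agent.H12.TFB

set_option autoImplicit false
set_option linter.unusedVariables false
set_option linter.unusedSectionVars false
set_option linter.style.haveILetI false

namespace H20.SF

open Cfsg Subgroup H12
open H22 (cj SylIn)

universe u

/-! ### SFC -/
theorem sfc_bender {G : Type u} [Group G] [Finite G] [IsSimpleGroup G] {H : Subgroup G}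
    (hH : IsStronglyEmbedded H) (h : S3F G) : SzT G := by
  obtain ⟨t, Q, s, r, hG⟩ := H3.B71.bender_simple hH
  have key : r * r ≠ 1 := fun hr => by
    have h3 := (hG.r_eq_s hr).2
    have := h (s * t) t (h3 ▸ pow_orderOf_eq_one _)
      (H22.inverts_mul_of_mul_self' hG.s_sq hG.tt)
    rw [this, orderOf_one] at h3
    omega
  rcases hG.cases with h1 | h1 | h1
  · exact absurd (h1 r hG.r_mem) key
  swap
  · exact absurd (hG.r_sq h1.1) key
  obtain ⟨F, _, _, m, hm, hF, ⟨e⟩⟩ := hG.iso_sz hG.struct'.two h1.1 h1.2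
  have hi : Lie.IsoSuzuki G := ⟨F, inferInstance, inferInstance, m, hm, hF,
    ⟨(topEquiv.symm.trans (MulEquiv.subgroupCongr hG.LL_eq_top.symm)).trans e⟩⟩
  refine ⟨szLike_of_hyp hG ?_, hi⟩
  obtain ⟨-, k, -, hk⟩ := H8.Suz.isSuzuki_of_iso hi
  have h2 : 2 ^ (2 * k + 1) % 3 = 2 := by
    rw [pow_succ, pow_mul, Nat.mul_mod, Nat.pow_mod]; norm_num
  rw [hk]
  generalize 2 ^ (2 * k + 1) = q at h2
  obtain ⟨j, rfl⟩ : ∃ j, q = 3 * j + 2 := ⟨q / 3, by omega⟩
  intro hd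
  rcases (Nat.Prime.dvd_mul Nat.prime_three).1 hd with hd | hd
  · rcases (Nat.Prime.dvd_mul Nat.prime_three).1 hd with hd | hd
    · have := Nat.prime_three.dvd_of_dvd_pow hd
      omega
    · rw [show (3 * j + 2) ^ 2 + 1 = 3 * (3 * j ^ 2 + 4 * j + 1) + 2 by ring] at hd
      omega
  · omega

theorem sfc_e4 {G : Type u} [Group G] [Finite G] [IsSimpleGroup G]
    (hse : ¬ ∃ H : Subgroup G, IsStronglyEmbedded H) (S : Sylow 2 G)
    (h4 : Nat.card (S : Subgroup G) = 4) (h2 : ∀ x ∈ (S : Subgroup G), x * x = 1) : E4T G := by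
  have hsq : ∀ P : Sylow 2 G, Sq (P : Subgroup G) := fun P => by
    obtain ⟨g, rfl⟩ := MulAction.exists_smul_eq G S P
    rw [H22.coe_smul_sylow]
    exact Sq.cj h2 g
  have hcard : ∀ P : Sylow 2 G, Nat.card (P : Subgroup G) = 4 := fun P => by
    obtain ⟨g, rfl⟩ := MulAction.exists_smul_eq G S P
    rw [H22.coe_smul_sylow, H22.card_cj, h4]
  refine ⟨hcard, hsq, fun P H hH => ?_⟩
  by_contra hne
  obtain ⟨H₀, hH₀⟩ : ∃ H₀ : Subgroup G,
    H₀ = ⨆ e : {e : G // e ∈ (P : Subgroup G) ∧ e ≠ 1}, centralizer ({e.1} : Set G) := ⟨_, rfl⟩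
  have h1 : ∀ e ∈ (P : Subgroup G), e ≠ 1 → centralizer ({e} : Set G) ≤ H₀ := fun e he h1 =>
    hH₀ ▸ le_iSup (fun e : {e : G // e ∈ (P : Subgroup G) ∧ e ≠ 1} =>
      centralizer ({e.1} : Set G)) ⟨e, he, h1⟩
  have h3 : H₀ ≤ H := hH₀ ▸ iSup_le fun e => hH e.1 e.2.1 e.2.2
  have hPc : ∀ e ∈ (P : Subgroup G), (P : Subgroup G) ≤ centralizer ({e} : Set G) :=
    fun e he x hx => mem_centralizer_singleton_iff.2 ((hsq P).comm hx he)
  obtain ⟨⟨e₀, he₀⟩, he1⟩ := ne_bot_iff_exists_ne_one.1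
    ((one_lt_card_iff_ne_bot (P : Subgroup G)).1 (by rw [hcard]; norm_num))
  have hP0 : (P : Subgroup G) ≤ H₀ := (hPc e₀ he₀).trans (h1 e₀ he₀ fun h => he1 (Subtype.ext h))
  have hN : normalizer ((P : Subgroup G) : Set G) ≤ normalizer (H₀ : Set G) := fun g hg => by
    rw [← H22.cj_eq_iff]
    apply H22.cj_eq_of_le
    rw [H22.cj_le_iff_le_cj_inv]
    conv_lhs => rw [hH₀]
    refine iSup_le fun e => ?_
    rw [← H22.cj_le_iff_le_cj_inv, H22.cj_centralizer_singleton]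
    exact h1 _ (H22.conj_mem_of_mem_normalizer hg e.2.1) (by simpa using e.2.2)
  have hPM : (P : Subgroup G) ≤ normalizer (H₀ : Set G) := hP0.trans le_normalizer
  refine hse ⟨normalizer (H₀ : Set G), fun h => ?_, ?_, fun g hg => ?_⟩
  · rcases (normalizer_eq_top_iff.1 h).eq_bot_or_eq_top with h | h
    · exact he1 (Subtype.ext (mem_bot.1 (h ▸ hP0 he₀)))
    · exact hne (top_le_iff.1 (h ▸ h3))
  · exact even_iff_two_dvd.2 ((by rw [hcard]; norm_num : 2 ∣ Nat.card (P : Subgroup G)).trans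
      (card_dvd_of_le hPM))
  by_contra ho
  rw [Nat.not_odd_iff_even, even_iff_two_dvd] at ho
  obtain ⟨⟨v, hv⟩, hv2⟩ := exists_prime_orderOf_dvd_card' 2 ho
  rw [← Subgroup.orderOf_coe] at hv2
  change orderOf v = 2 at hv2
  have hs := H22.sylIn_of_sylow_le P hPM
  have hz : IsPGroup 2 (zpowers v) := H23.isPGroup_zpowers_of_orderOf hv2
  obtain ⟨m, hm, hmv⟩ := hs.exists_cj_le (zpowers_le.2 hv.1) hz
  obtain ⟨m', hm', hmv'⟩ := hs.exists_cj_le (H22.cj_le_iff_le_cj_inv.2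
    (show zpowers v ≤ cj g⁻¹⁻¹ _ by rw [inv_inv]; exact zpowers_le.2 hv.2)) (H22.isPGroup_cj hz g⁻¹)
  have e1 := hmv (H22.conj_mem_cj (mem_zpowers v))
  have e2 := hmv' (H22.conj_mem_cj (H22.conj_mem_cj (mem_zpowers v)))
  have v1 : v ≠ 1 := fun h => by rw [h, orderOf_one] at hv2; omega
  obtain ⟨c, hc, hce⟩ := (H22.sylIn_of_sylow_le P (hPc _ e2)).exists_cj_le
    (R := cj (m' * g⁻¹ * m⁻¹) P) (by
      have := H22.cj_mono (g := m' * g⁻¹ * m⁻¹) (hPc _ e1)
      rw [H22.cj_centralizer_singleton] at this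
      convert this using 3
      group) (H22.isPGroup_cj P.isPGroup' _)
  rw [← H22.cj_mul] at hce
  have h5 := hN (H22.cj_eq_iff.1 (H22.cj_eq_of_le hce))
  have h6 := le_normalizer (h1 _ e2 (by rwa [Ne, conj_eq_one_iff, conj_eq_one_iff]) hc)
  rw [mul_mem_cancel_left h6, mul_mem_cancel_right (inv_mem hm), mul_mem_cancel_left hm',
    inv_mem_iff] at h5
  exact hg h5

theorem sfc_aux (n : ℕ) : Ctx3.{u} n := by
  induction n with
  | zero => exact fun _ _ _ _ _ _ h => absurd h (Nat.not_lt_zero _)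
  | succ n ih => ?_
  intro G _ _ _ hna h3 hn
  rcases (Nat.lt_succ_iff.1 hn).lt_or_eq with hn | hn
  · exact ih G ‹_› hna h3 hn
  by_cases hse : ∃ H : Subgroup G, IsStronglyEmbedded H
  · obtain ⟨H, hH⟩ := hse
    exact Or.inl (sfc_bender hH h3)
  have hK : ∀ L : Subgroup G, L ≠ ⊤ → KS n L := fun L hL =>
    ⟨ih, hn ▸ H2.card_lt_of_ne_top hL, h3.sub L⟩
  obtain ⟨P⟩ : Nonempty (Sylow 2 G) := inferInstance
  have hP := sylow_ne_bot_of_perfect (not_isSolvable_of_simple hna) P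
  obtain ⟨Y, hY1, hYc, hsc⟩ := sc3 (n := n) P hP fun W hW hW2 => hK _ fun h => by
    rcases (normalizer_eq_top_iff.mp h).eq_bot_or_eq_top with h | h
    · exact hW h
    · haveI := (h ▸ hW2 : IsPGroup 2 (⊤ : Subgroup G)).of_equiv topEquiv |>.isNilpotent
      exact not_isSolvable_of_simple hna inferInstance
  have hab := (goldHyp G P Y hY1 hYc hsc).resolve_right hse
  rcases (H26.Gold.abelian_sylow hna (H24.syl_top_of_sylow Nat.prime_two P) hab).resolve_left hse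
    with h | h
  · exact Or.inr (sfc_e4 hse P h.2 (sq_of_ea h.1))
  · exact absurd h3 (not_e8 hna P hab h.2.1 hse)

theorem classify {L : Type u} [Group L] [Finite L] (hs : IsSimpleGroup L)
    (hna : ¬ IsMulCommutative L) (h : S3F L) : SzT L ∨ E4T L :=
  sfc_aux _ L hs hna h (Nat.lt_succ_self _)
theorem S3F.ks {X : Type u} [Group X] [Finite X] (h : S3F X) : KS (Nat.card X + 1) X :=
  ⟨sfc_aux _, Nat.lt_succ_self _, h⟩
theorem classify_qs {X : Type u} [Group X] [Finite X] {L : Subgroup X} (hq : IsQuasisimple L)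
    (h : S3F L) : SzT (L ⧸ center L) ∨ E4T (L ⧸ center L) := by
  refine classify hq.2 (fun hc => ?_) (h.quo _)
  haveI := hq.2.toNontrivial
  exact H23.IsQuasisimple.not_isSolvable
    (H23.IsQuasisimple.of_surjective hq (QuotientGroup.mk'_surjective (center L)))
    (H2.isSolvable_of_isMulCommutative _)

end H20.SF
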