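import Mathlib
import Cfsg.Agent.H20.SF0
import Cfsg.Agent.H2.ZM

set_option autoImplicit false
set_option linter.unusedVariables false
set_option linter.unusedSectionVars false

namespace H20.SF

open Cfsg Subgroup H12
open H22 (cj SylIn)

universe u

namespace SFP

open Polynomial in
theorem exists_prim {M : ℕ} (hM : 1 < M) :
    ∃ p, p.Prime ∧ ¬ p ∣ M ∧ p ≠ 2 ∧ IsPrimitiveRoot (4 : ZMod p) M := by
  obtain ⟨c, hc⟩ : ∃ c, c = ((cyclotomic M ℤ).eval ((4 : ℕ) : ℤ)).natAbs := ⟨_, rfl⟩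
  have h1 : 3 ^ M.totient < c := hc ▸ sub_one_pow_totient_lt_natAbs_cyclotomic_eval hM (q := 4) (by norm_num)
  have rt : ∀ p, p.Prime → p ∣ c → (cyclotomic M (ZMod p)).IsRoot 4 ∧ p ≠ 2 := fun p hp h => by
    have h2 : (((cyclotomic M ℤ).eval ((4 : ℕ) : ℤ) : ℤ) : ZMod p) = 0 :=
      (ZMod.intCast_zmod_eq_zero_iff_dvd _ _).2 (Int.natCast_dvd.2 (hc ▸ h))
    have h3 : (cyclotomic M (ZMod p)).IsRoot 4 := by
      rw [IsRoot, ← map_cyclotomic_int, show (4 : ZMod p) = Int.castRingHom (ZMod p) ((4 : ℕ) : ℤ) by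
        simp, eval_map, eval₂_at_apply]
      exact h2
    refine ⟨h3, ?_⟩
    rintro rfl
    have := h3.dvd (cyclotomic.dvd_X_pow_sub_one M (ZMod 2))
    rw [IsRoot, eval_sub, eval_pow, eval_X, eval_one, show (4 : ZMod 2) = 0 from rfl,
      zero_pow (by omega)] at this
    exact absurd this (by decide)
  by_contra hn
  push Not at hn
  have dv : ∀ p, p.Prime → p ∣ c → p ∣ M := fun p hp h => by
    by_contra h2
    haveI := Fact.mk hp
    haveI : NeZero (M : ZMod p) := ⟨fun e => h2 ((ZMod.natCast_eq_zero_iff _ _).1 e)⟩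
    exact hn p hp h2 (rt p hp h).2 (isRoot_cyclotomic_iff.1 (rt p hp h).1)
  have pr : ∀ p, p.Prime → p ∣ c → ∃ a m, M = p ^ (a + 1) * m ∧ m < p ∧
      (4 : ZMod p) ^ m = 1 := fun p hp h => by
    haveI := Fact.mk hp
    obtain ⟨a, m, h2, h3⟩ := Nat.exists_eq_pow_mul_and_not_dvd (n := M) (by omega) p hp.one_lt.ne'
    haveI : NeZero (m : ZMod p) := ⟨fun e => h2 ((ZMod.natCast_eq_zero_iff _ _).1 e)⟩
    have h4 : IsPrimitiveRoot (4 : ZMod p) m :=
      isRoot_cyclotomic_prime_pow_mul_iff_of_charP.1 (h3 ▸ (rt p hp h).1)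
    have h5 : (4 : ZMod p) ≠ 0 := h4.ne_zero (NeZero.of_neZero_natCast (ZMod p)).out
    have h6 := Nat.le_of_dvd (by have := hp.two_le; omega)
      (h4.dvd_of_pow_eq_one _ (ZMod.pow_card_sub_one_eq_one h5))
    obtain _ | a := a
    · exact absurd (by simpa [h3] using dv p hp h) h2
    · exact ⟨a, m, h3, by have := hp.two_le; omega, h4.pow_eq_one⟩
  have c1 : 1 < c := lt_of_le_of_lt (Nat.one_le_pow _ _ (by norm_num)) h1
  obtain ⟨p, hp, hpc⟩ := Nat.exists_prime_and_dvd c1.ne'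
  have lt : ∀ p r, p.Prime → r.Prime → p ∣ c → r ∣ c → r ≠ p → r < p := fun p r hp hr h h' ne => by
    obtain ⟨a, m, e, h2, -⟩ := pr p hp h
    have := dv r hr h'
    rw [e] at this
    have h3 := ((hr.dvd_mul).1 this).resolve_left fun h =>
      ne ((Nat.prime_dvd_prime_iff_eq hr hp).1 (hr.dvd_of_dvd_pow h))
    exact (Nat.le_of_dvd (Nat.pos_of_ne_zero (by rintro rfl; omega)) h3).trans_lt h2
  have e := Nat.eq_prime_pow_of_unique_prime_dvd (n := c) (by omega) (p := p) fun {r} hr h => by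
    by_contra ne
    exact lt_asymm (lt p r hp hr hpc h ne) (lt r p hr hp h hpc (Ne.symm ne))
  obtain ⟨a, m, e1, -, e2⟩ := pr p hp hpc
  have d1 : ¬ (p : ℤ) ^ 2 ∣ (cyclotomic M ℤ).eval ((4 : ℕ) : ℤ) := fun h => by
    have m0 : 0 < p ^ a * m := Nat.pos_of_ne_zero fun h0 => by
      rw [pow_succ, mul_right_comm, h0] at e1; omega
    have e3 : M = p ^ a * m * p := by rw [e1]; ring
    have k := eval_dvd (x := ((4 : ℕ) : ℤ))
      (X_pow_sub_one_mul_cyclotomic_dvd_X_pow_sub_one_of_dvd ℤ (d := p ^ a * m) (n := M)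
        (Nat.mem_properDivisors.2 ⟨⟨p, e3⟩, by have := hp.two_le; nlinarith⟩))
    simp only [eval_mul, eval_sub, eval_pow, eval_X, eval_one] at k
    have k2 : (((4 : ℕ) : ℤ) ^ (p ^ a * m) - 1) ≠ 0 :=
      sub_ne_zero.2 (one_lt_pow₀ (by norm_num) m0.ne').ne'
    have k4 : (p : ℤ) ∣ ((4 : ℕ) : ℤ) ^ (p ^ a * m) - 1 := by
      rw [← ZMod.intCast_zmod_eq_zero_iff_dvd]
      push_cast
      rw [mul_comm, pow_mul, e2, one_pow, sub_self]
    conv at k => rhs; rw [e3, pow_mul, ← mul_geom_sum]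
    generalize ((4 : ℕ) : ℤ) ^ (p ^ a * m) = x at k k2 k4
    have k5 := emultiplicity_geom_sum₂_eq_one (x := x) (y := 1) (Nat.prime_iff_prime_int.1 hp)
      (hp.odd_of_ne_two (rt p hp hpc).2) k4 fun h => by
        have := (dvd_sub_right h).1 k4
        exact (Nat.prime_iff_prime_int.1 hp).not_dvd_one (by simpa using (dvd_sub h k4))
    simp only [one_pow, mul_one] at k5
    have := le_emultiplicity_of_pow_dvd (h.trans ((mul_dvd_mul_iff_left k2).1 k))
    rw [k5] at this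
    exact absurd this (by decide)
  have d2 : c ≤ p := by
    generalize c.primeFactorsList.length = j at e
    have : j ≤ 1 := not_lt.1 fun h => d1 (by
      rw [← Int.natAbs_dvd_natAbs, ← hc, e, Int.natAbs_pow, Int.natAbs_natCast]
      exact pow_dvd_pow p h)
    rw [e]
    simpa using Nat.pow_le_pow_right hp.pos this
  have d3 : p - 1 ≤ M.totient := Nat.le_of_dvd (Nat.totient_pos.2 (by omega))
    (Nat.totient_prime hp ▸ Nat.totient_dvd_of_dvd (dv p hp hpc))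
  have d4 := Nat.pow_le_pow_right (n := 3) (by norm_num) d3
  have d5 := Nat.lt_pow_self (n := p - 1) (a := 3) (by norm_num)
  omega

end SFP

/-! ### SFP -/
theorem exists_bigP {m : ℕ} (hm : 1 ≤ m) :
    ∃ p, BigP p (2 * m + 1) ∧ p ∣ (2 ^ (2 * m + 1)) ^ 2 + 1 := by
  obtain ⟨p, hp, -, h2, h3⟩ := SFP.exists_prim (M := 2 * (2 * m + 1)) (by omega)
  have n0 : 0 < 2 * m + 1 := by omega
  generalize 2 * m + 1 = n at h3 n0 ⊢
  haveI := Fact.mk hp
  have h4 : (4 : ZMod p) ^ n = -1 :=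
    (h3.pow (by omega) (mul_comm 2 n)).eq_neg_one_of_two_right
  refine ⟨p, ⟨hp, h2, fun k k0 hk => ?_⟩, ?_⟩
  · have h5 : (2 : ZMod p) ^ k = 1 := by exact_mod_cast (ZMod.natCast_eq_natCast_iff _ _ _).2 hk
    obtain ⟨j, rfl⟩ := h3.dvd_of_pow_eq_one k (by
      rw [show (4 : ZMod p) = 2 ^ 2 by norm_num, ← pow_mul, mul_comm, pow_mul, h5, one_pow])
    obtain _ | _ | j := j
    · omega
    · rw [zero_add, mul_one, pow_mul, show (2 : ZMod p) ^ 2 = 4 by norm_num, h4] at h5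
      haveI : Fact (2 < p) := ⟨lt_of_le_of_ne hp.two_le h2.symm⟩
      exact absurd h5 ZMod.neg_one_ne_one
    · nlinarith
  · rw [← ZMod.natCast_eq_zero_iff]
    push_cast
    rw [← pow_mul, mul_comm, pow_mul, show (2 : ZMod p) ^ 2 = 4 by norm_num, h4, neg_add_cancel]

namespace SFP

open H2.SZ H24

theorem key {G : Type*} [Group G] [Finite G] {A : Subgroup G} [IsCyclic A] {p n : ℕ} (hp : BigP p n)
    (hA : ∀ c ∈ A, c ≠ 1 → centralizer ({c} : Set G) = A)
    (h1 : 2 ∣ Nat.card (normalizer (A : Set G))) (h2 : ¬ 2 ∣ Nat.card A) (h3 : p ∣ Nat.card A) :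
    ∃ t : G, t ≠ 1 ∧ t * t = 1 ∧ InvIn ⊤ n t := by
  haveI := Fact.mk hp.1
  obtain ⟨⟨y, hy⟩, y1⟩ := exists_prime_orderOf_dvd_card' p h3
  obtain ⟨⟨t, ht⟩, t1⟩ := exists_prime_orderOf_dvd_card' 2 h1
  rw [← Subgroup.orderOf_coe] at y1 t1
  simp only at y1 t1
  have tt : t * t = 1 := by rw [← pow_two, ← t1, pow_orderOf_eq_one]
  have h4 := H22.conj_mem_of_mem_normalizer ht hy
  refine ⟨t, fun e => by simp [e] at t1, tt, p, hp, y, mem_top _, fun e => by
    rw [e, orderOf_one] at y1; exact hp.1.one_lt.ne y1, by rw [← y1, pow_orderOf_eq_one], ?_⟩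
  by_contra hn
  have cm : t * y * t⁻¹ * y = y * (t * y * t⁻¹) :=
    congrArg Subtype.val (mul_comm' (⟨_, h4⟩ : A) ⟨_, hy⟩)
  have h5 := hA _ (mul_mem h4 hy) fun e => hn (eq_inv_of_mul_eq_one_left e)
  refine h2 (t1 ▸ Subgroup.orderOf_dvd_natCard _ ?_)
  rw [← h5, mem_centralizer_singleton_iff, ← mul_inv_eq_iff_eq_mul, cm]
  have ti : t⁻¹ = t := inv_eq_of_mul_eq_one_right tt
  calc _ = t * y * (t * y * (t * t)⁻¹) := by group
    _ = _ := by rw [tt, inv_one, mul_one, ← cm, ti]; simp only [mul_assoc]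

theorem exists_inv {F : Type} [Field F] [Fintype F] {m : ℕ} (hm : 1 ≤ m)
    (hF : Fintype.card F = 2 ^ (2 * m + 1)) :
    ∃ t : Cfsg.Sz F m, t ≠ 1 ∧ t * t = 1 ∧ InvIn ⊤ (2 * m + 1) t := by
  obtain ⟨T⟩ := H8.Sz.nonempty_ctx (F := F) hm hF
  obtain ⟨p, hp, hd⟩ := exists_bigP hm
  rw [← Nat.card_eq_fintype_card] at hF
  rw [← hF] at hd
  obtain ⟨g, g', hg, hg', h1, h2, -, h3, -⟩ := T.exists_tori (H8.Sz.not_three_dvd T hF) (by
    rw [hF]; exact Nat.pow_le_pow_right (n := 2) (i := 2) two_pos (by omega))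
  have odd : ¬ 2 ∣ Nat.card F ^ 2 + 1 := by
    have : Even (Nat.card F ^ 2) := Nat.even_pow.mpr ⟨T.even_card, by norm_num⟩
    rw [← even_iff_two_dvd, Nat.even_add_one]
    exact not_not.2 this
  rw [← h3] at hd odd
  rcases (hp.1.dvd_mul).1 hd with h | h
  · haveI := T.isCyclic_centralizer_of_fpf hg
    exact key hp (fun c => T.centralizer_eq_of_fpf hg) (by rw [h1]; omega)
      (fun h => odd (h.mul_right _)) h
  · haveI := T.isCyclic_centralizer_of_fpf hg'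
    exact key hp (fun c => T.centralizer_eq_of_fpf hg') (by rw [h2]; omega)
      (fun h => odd (h.mul_left _)) h

variable {F : Type} [Field F] [Fintype F] {K : FD F} {M : Type*} [Group M] [Finite M]

theorem InvIn.top_map {N : Type*} [Group N] (e : N ≃* M) {n : ℕ} {t : N} (h : InvIn ⊤ n t) :
    InvIn ⊤ n (e t) := by
  obtain ⟨p, hp, y, -, y1, y2, y3⟩ := h
  exact ⟨p, hp, e y, mem_top _, by simpa using y1, by rw [← map_pow, y2, map_one], by
    rw [← map_inv, ← map_mul, ← map_mul, y3, map_inv]⟩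

/-- Conjugate coordinates. -/
def cjD (X : SzD K (⊤ : Subgroup M)) (g : M) : SzD K (⊤ : Subgroup M) where
  u a b := g * X.u a b * g⁻¹
  h := (MulAut.conj g).toMonoidHom.comp X.h
  u_mem _ _ := mem_top _
  h_mem _ := mem_top _
  u_mul a b c d := by rw [conj_mul, X.u_mul]
  u_inj h := X.u_inj (by simpa using h)
  h_u k a b := by rw [← X.h_u]; simp [mul_assoc]
  card := X.card
  simple := X.simple
  ti x _ a b c d h1 h2 := by
    obtain ⟨a', b', k, e⟩ := X.ti (g⁻¹ * x * g) (mem_top _) a b c d (by simpa using h1) (by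
      rw [← mul_left_cancel_iff (a := g), ← mul_right_cancel_iff (a := g⁻¹), ← h2]; group)
    refine ⟨a', b', k, ?_⟩
    change x = g * _ * g⁻¹ * (g * X.h k * g⁻¹)
    rw [conj_mul, ← e]; group
  autZ x _ h := by
    have := X.cent_z (g := g⁻¹ * x * g) (mem_top _) one_ne_zero (by
      rw [← mul_left_cancel_iff (a := g), ← mul_right_cancel_iff (a := g⁻¹)]
      calc _ = x * (g * X.u 0 1 * g⁻¹) := by unfold SzD.z; group
        _ = _ := by rw [h]; unfold SzD.z; group)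
    obtain ⟨a, b, e⟩ := this
    exact ⟨a, b, 1, one_mem _, by rw [← e]; group⟩
  aut2 x _ _ := ⟨x, mem_top _, 1, one_mem _, (mul_one x).symm⟩
  tor := X.tor

theorem exists_D {m : ℕ} (hm : 1 ≤ m) (hF : Fintype.card F = 2 ^ (2 * m + 1))
    (e : M ≃* Lie.Sz F (2 ^ (m + 1))) (P : Sylow 2 M) :
    ∃ (K : FD F) (D : SzD K (⊤ : Subgroup M)), D.S = P ∧
      (∀ b, b ≠ 0 → InvIn ⊤ (2 * K.m + 1) (D.u 0 b)) ∧
      ∀ α : MulAut M, (∀ x ∈ D.S, α x ∈ D.S) → ∀ n : ℕ, α ^ 2 ^ n = 1 →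
        ∃ s ∈ D.S, ∀ x, α x = s * x * s⁻¹ := by
  obtain ⟨K, rfl⟩ := exists_fd hm hF
  obtain ⟨X, w, h⟩ := ZM.exists_wy K e
  obtain ⟨Q, hQ⟩ := X.syl_S.exists_sylow_top Nat.prime_two
  obtain ⟨g, rfl⟩ := MulAction.exists_smul_eq M Q P
  have hS : ∀ x, x ∈ (cjD X g).S ↔ g⁻¹ * x * g ∈ X.S := fun x =>
    exists₂_congr fun a b => by
      change x = g * _ * g⁻¹ ↔ _
      constructor <;> intro h
      · rw [h]; group
      · rw [← h]; group
  refine ⟨K, cjD X g, ?_, fun b hb => ?_, fun α h1 n h2 => ?_⟩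
  · ext x
    rw [hS, H22.coe_smul_sylow, H22.mem_cj, hQ]
  · obtain ⟨T⟩ := H8.Sz.nonempty_ctx (F := F) hm hF
    obtain ⟨t, t1, t2, t3⟩ := exists_inv hm hF
    let ψ : Cfsg.Sz F K.m ≃* M := T.lieEquiv.trans e.symm
    obtain ⟨l, -, l1⟩ := (cjD X g).inv_conj (s := ψ t) (mem_top _) (by simpa using t1)
      (by rw [← map_mul, t2, map_one])
    obtain ⟨k, hk⟩ := K.exists_nm one_ne_zero hb
    have := InvIn.top_map (MulAut.conj ((cjD X g).h k)) (InvIn.top_map (MulAut.conj l)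
      (InvIn.top_map ψ t3))
    rwa [MulAut.conj_apply, MulAut.conj_apply, l1, SzD.h_z, hk] at this
  · let β : MulAut M := (MulAut.conj g)⁻¹ * α * MulAut.conj g
    have hβ : ∀ x, β x = g⁻¹ * α (g * x * g⁻¹) * g := fun x => rfl
    obtain ⟨a, b, h3⟩ := h.autZ (ZM.aut2 (X := X) (α := β)
      (fun x hx => (hS _).1 (h1 _ ((hS _).2 (by simpa [mul_assoc] using hx)))) (n := n) (by
        rw [show β = (MulAut.conj g)⁻¹ * α * (MulAut.conj g)⁻¹⁻¹ by rw [inv_inv], conj_pow, h2]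
        simp))
    refine ⟨_, ⟨a, b, rfl⟩, fun x => ?_⟩
    have := h3 (g⁻¹ * x * g)
    rw [hβ, show g * (g⁻¹ * x * g) * g⁻¹ = x by group] at this
    change α x = g * _ * g⁻¹ * x * (g * _ * g⁻¹)⁻¹
    rw [← mul_left_cancel_iff (a := g⁻¹), ← mul_right_cancel_iff (a := g), this]
    group

end SFP

theorem exists_szQ {X : Type*} [Group X] [Finite X] {L S : Subgroup X} (hq : IsQuasisimple L)
    (hs : Lie.IsoSuzuki (L ⧸ center L)) (hS : SylIn 2 S L) :
    ∃ (F : Type) (_ : Field F) (_ : Fintype F) (K : H2.SZ.FD F), Nonempty (SzQ K L S) := by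
  obtain ⟨F, _, _, m, hm, hF, ⟨e⟩⟩ := hs
  obtain ⟨K, D, h1, h2, h3⟩ := SFP.exists_D hm hF e
    (hS.toSylow.mapSurjective (QuotientGroup.mk'_surjective (center L)))
  have img : D.S = (S.subgroupOf L).map (QuotientGroup.mk' (center L)) := h1
  refine ⟨F, _, _, K, ⟨⟨D, hq, hS, img, h2, fun g g1 g2 ⟨k, hk⟩ => ?_⟩⟩⟩
  let ε : MulAut L := L.normalizerMonoidHom ⟨g, g1⟩
  have he : ∀ ε : MulAut L, (center L).map (ε : L →* L) = center L := fun ε =>
    characteristic_iff_map_eq.mp inferInstance ε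
  let α : MulAut (L ⧸ center L) := QuotientGroup.congr _ _ ε (he ε)
  have hα : ∀ y : L, α (y : L ⧸ center L) = (ε y : L ⧸ center L) := fun _ => rfl
  have hp : ∀ (n : ℕ) (y : L), (α ^ n) (y : L ⧸ center L) = ((ε ^ n) y : L ⧸ center L) := fun n => by
    induction n with
    | zero => exact fun _ => rfl
    | succ n ih => intro y; rw [pow_succ, pow_succ, MulAut.mul_apply, hα, ih, MulAut.mul_apply]
  obtain ⟨s, s1, s2⟩ := h3 α (by
      rw [img]
      rintro _ ⟨x, hx, rfl⟩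
      exact ⟨ε x, H22.conj_mem_of_mem_normalizer g2 hx, rfl⟩) k (by
      ext y
      induction y using QuotientGroup.induction_on with | _ y => ?_
      rw [hp, ← map_pow, show (⟨g, g1⟩ : normalizer (L : Set X)) ^ 2 ^ k = 1 from Subtype.ext hk,
        map_one]
      rfl)
  rw [img] at s1
  obtain ⟨s, s1, rfl⟩ := s1
  have n1 : (s : X)⁻¹ * g ∈ normalizer (L : Set X) := mul_mem (le_normalizer (inv_mem s.2)) g1
  refine ⟨s, s1, comm_of_perfect (H23.IsQuasisimple.perfect hq) (fun y hy => ?_) n1⟩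
  have h5 := hα ⟨y, hy⟩
  rw [s2, QuotientGroup.mk'_apply, ← QuotientGroup.mk_mul, ← QuotientGroup.mk_inv,
    ← QuotientGroup.mk_mul, QuotientGroup.eq] at h5
  have h6 : (s * y * (s : X)⁻¹)⁻¹ * (g * y * g⁻¹) ∈ centralizer (L : Set X) := fun w hw =>
    congrArg Subtype.val (mem_center_iff.mp h5 ⟨w, hw⟩)
  have h7 := H22.conj_mem_of_mem_normalizer (H22.normalizer_le_normalizer_centralizer L
    (le_normalizer (mul_mem hy (inv_mem s.2)))) h6
  convert h7 using 1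
  group

end H20.SF
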