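import Mathlib
import Cfsg.Agent.H20.SF0

set_option autoImplicit false
set_option linter.unusedVariables false
set_option linter.unusedSectionVars false

namespace H20.SF

open Cfsg Subgroup H12
open H22 (cj SylIn)
open scoped commutatorElement

universe u

/-! ### SFZa -/

theorem SFZa_cnt {A B : Type*} [Group A] [Group B] [Finite A] [Finite B] (β : A → B →* ℂ)
    (M : Subgroup A) (N : Subgroup B) (h1 : ∀ a a', β a = β a' → a⁻¹ * a' ∈ M)
    (h2 : ∀ a, ∀ n ∈ N, β a n = 1) : M.index ≤ N.index := by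
  have := Fintype.ofFinite (A ⧸ M)
  have := Fintype.ofFinite (B ⧸ N)
  have h := (linearIndependent_monoidHom B ℂ).comp (fun q : A ⧸ M => β q.out) fun q q' e => by
    rw [← q.out_eq, ← q'.out_eq]
    exact QuotientGroup.eq.2 (h1 _ _ e)
  have e : ((fun f : B →* ℂ => (f : B → ℂ)) ∘ fun q : A ⧸ M => β q.out) = LinearMap.funLeft ℂ ℂ (QuotientGroup.mk : B → B ⧸ N) ∘
      fun (q : A ⧸ M) (r : B ⧸ N) => β q.out r.out := by
    ext q b
    obtain ⟨n, e⟩ := QuotientGroup.mk_out_eq_mul N b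
    simp [e, h2 _ _ n.2]
  rw [e] at h
  have k := (LinearIndependent.of_comp _ h).fintype_card_le_finrank
  rwa [Module.finrank_fintype_fun_eq_card, ← Nat.card_eq_fintype_card, ← Nat.card_eq_fintype_card] at k

theorem SFZa_cm {L : Type*} [Group L] {a a' b b' : L} (h : (a : L ⧸ center L) = a')
    (h' : (b : L ⧸ center L) = b') : ⁅a, b⁆ = ⁅a', b'⁆ := by
  have e := mem_center_iff.1 (QuotientGroup.eq.1 h)
  have e' := mem_center_iff.1 (QuotientGroup.eq.1 h')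
  rw [← mul_inv_cancel_left a a', ← mul_inv_cancel_left b b']
  generalize a⁻¹ * a' = c at e
  generalize b⁻¹ * b' = d at e'
  rw [commutatorElement_def, commutatorElement_def, mul_assoc a c, ← e, mul_inv_rev, mul_inv_rev,
    ← mul_assoc, ← mul_assoc, ← mul_assoc, mul_inv_cancel_right, ← mul_assoc, mul_assoc _ d, ← e', ← mul_assoc,
    mul_inv_cancel_right]

section
variable {X : Type*} [Group X] {F : Type} [Field F] [Fintype F] {K : H2.SZ.FD F} {L S : Subgroup X}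

/-- `y` acts on `L` as a lift of `z b` -/
def SzQ.Rp (Q : SzQ K L S) (y : X) (b : F) : Prop :=
  ∃ s : L, (s : X) ∈ S ∧ (s : L ⧸ center L) = Q.D.z b ∧ (s : X)⁻¹ * y ∈ centralizer (L : Set X)

theorem SFZa_ker (s : L) : (s : L ⧸ center L) = 1 ↔ (s : X) ∈ centralizer (L : Set X) := by
  rw [QuotientGroup.eq_one_iff, mem_center_iff]
  exact ⟨fun h g hg => congrArg Subtype.val (h ⟨g, hg⟩), fun h g => Subtype.ext (h g g.2)⟩

theorem SFZa_eq {s y t : X} (h : s⁻¹ * y ∈ centralizer (L : Set X)) (ht : t ∈ L) : ⁅y, t⁆ = ⁅s, t⁆ := by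
  rw [← mul_inv_cancel_left s y, commutatorElement_def, mul_assoc s, ← h t ht, commutatorElement_def]
  group

variable {Q : SzQ K L S} {y y' t : X} {b b' : F}

theorem SzQ.mS (Q : SzQ K L S) {g : L ⧸ center L} :
    (∃ a b, g = Q.D.u a b) ↔ ∃ s : L, (s : X) ∈ S ∧ (s : L ⧸ center L) = g := by
  rw [← Q.D.mem_S, Q.img]
  exact Iff.rfl

theorem SzQ.Rp.zero (h : Q.Rp y 0) : y ∈ centralizer (L : Set X) := by
  obtain ⟨s, -, h1, h2⟩ := h
  simpa using mul_mem ((SFZa_ker s).1 (h1.trans Q.D.z_zero)) h2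

theorem SzQ.Rp.cm (h : Q.Rp y b) (ht : t ∈ S) : ⁅y, t⁆ ∈ centralizer (L : Set X) := by
  obtain ⟨s, -, h1, h2⟩ := h
  obtain ⟨a, c, e⟩ := Q.mS.2 ⟨⟨t, Q.syl.le ht⟩, ht, rfl⟩
  rw [SFZa_eq h2 (Q.syl.le ht)]
  refine (SFZa_ker ⁅s, ⟨t, Q.syl.le ht⟩⁆).1 ?_
  rw [← QuotientGroup.mk'_apply, map_commutatorElement, commutatorElement_eq_one_iff_mul_comm,
    QuotientGroup.mk'_apply, QuotientGroup.mk'_apply, h1, e, Q.D.z_u]

theorem SzQ.Rp.tr (h : Q.Rp y b) (h' : Q.Rp y' b') (hb : b ≠ 0) (hb' : b' ≠ 0) (ht : t ∈ S) :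
    ∃ t' ∈ S, ⁅y', t'⁆ = ⁅y, t⁆ := by
  have hc := h.cm ht
  obtain ⟨s, -, h1, h2⟩ := h
  obtain ⟨s', -, h1', h2'⟩ := h'
  obtain ⟨a, c, e⟩ := Q.mS.2 ⟨⟨t, Q.syl.le ht⟩, ht, rfl⟩
  obtain ⟨k, hk⟩ := K.exists_nm hb hb'
  obtain ⟨n, hn⟩ := QuotientGroup.mk_surjective (Q.D.h k)
  obtain ⟨t', m, e'⟩ := Q.mS.1 ⟨_, _, Q.D.h_u k a c⟩
  refine ⟨t', m, ?_⟩
  have := congrArg Subtype.val (SFZa_cm (a := s') (a' := n * s * n⁻¹) (b := t')
    (b' := n * ⟨t, Q.syl.le ht⟩ * n⁻¹) (by simp only [QuotientGroup.mk_mul, QuotientGroup.mk_inv, hn, h1, h1',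
      Q.D.h_z, hk]) (by simp only [QuotientGroup.mk_mul, QuotientGroup.mk_inv, hn, e, e']))
  rw [← conjugate_commutatorElement] at this
  rw [SFZa_eq h2' t'.2]
  refine this.trans ?_
  rw [SFZa_eq h2 (Q.syl.le ht)] at hc ⊢
  exact (congrArg (· * (n : X)⁻¹) (hc n n.2)).trans (mul_inv_cancel_right _ _)

theorem SzQ.exists_rp (Q : SzQ K L S) (h1 : y ∈ normalizer (L : Set X)) (h2 : y ∈ normalizer (S : Set X))
    (h : y * y = 1) : ∃ b, Q.Rp y b := by
  obtain ⟨s, hs, hc⟩ := Q.aut y h1 h2 ⟨1, by rw [pow_one, sq, h]⟩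
  obtain ⟨a, c, e⟩ := Q.mS.2 ⟨⟨s, Q.syl.le hs⟩, hs, rfl⟩
  obtain rfl : a = 0 := by
    rw [← K.nm_eq_zero, ← Q.D.z_eq_one, ← Q.D.u_sq a c, ← e, ← QuotientGroup.mk_mul, SFZa_ker]
    have := inv_mem (mul_mem hc hc)
    rwa [mul_assoc, ← mul_assoc y, ← mul_inv_cancel_left s y, mul_assoc s, ← hc _ (inv_mem (Q.syl.le hs)),
      mul_inv_cancel_left, mul_inv_cancel_left, mul_assoc, h, mul_one, mul_inv_rev, inv_inv] at this
  exact ⟨c, _, hs, e, hc⟩

end

theorem SzQ.za {X : Type*} [Group X] [Finite X] {F : Type} [Field F] [Fintype F] {K : H2.SZ.FD F}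
    {L S Y : Subgroup X} (Q : SzQ K L S) (hY : Sq Y) (hn : S ≤ normalizer (Y : Set X))
    (ht : TwoF Y S) (hYL : Y ≤ normalizer (L : Set X)) (hYS : Y ≤ normalizer (S : Set X))
    (hc : ¬ Y ≤ centralizer (L : Set X)) : S ≤ centralizer (Y : Set X) ∧ Q.Zc := by
  have ex := fun y hy => Q.exists_rp (hYL hy) (hYS hy) (hY y hy)
  have mY : ∀ y ∈ Y, ∀ t ∈ S, ⁅y, t⁆ ∈ Y := fun y hy t ht => by
    simpa only [commutatorElement_def, mul_assoc] using
      mul_mem hy (H22.conj_mem_of_mem_normalizer (hn ht) (inv_mem hy))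
  have ml : ∀ y ∈ Y, ∀ t ∈ S, ∀ t' ∈ S, ⁅y, t * t'⁆ = ⁅y, t⁆ * ⁅y, t'⁆ := fun y hy t ht t' ht' => by
    obtain ⟨b, h⟩ := ex y hy
    rw [← mul_inv_cancel_right ⁅y, t'⁆ t, ← h.cm ht' t (Q.syl.le ht)]
    simp only [commutatorElement_def]
    group
  have h1 : S ≤ centralizer (Y : Set X) := fun t0 m0 y0 hy0 => by
    by_contra h0
    rw [← commutatorElement_eq_one_iff_mul_comm] at h0
    let _ : CommGroup Y := { mul_comm := fun a b => Subtype.ext (hY.comm a.2 b.2) }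
    obtain ⟨ξ, hξ⟩ := CommGroup.exists_apply_ne_one_of_hasEnoughRootsOfUnity Y ℂ
      (a := ⟨_, mY y0 hy0 t0 m0⟩) fun e => h0 (congrArg Subtype.val e)
    obtain ⟨b0, r0⟩ := ex y0 hy0
    have k1 := SFZa_cnt (A := Y) (B := S) (fun y => (Units.coeHom ℂ).comp (ξ.comp (MonoidHom.mk'
      (fun t => ⟨_, mY y y.2 t t.2⟩) fun t t' => Subtype.ext (ml y y.2 t t.2 t' t'.2))))
      ((centralizer (S : Set X)).subgroupOf Y) ((centralizer (Y : Set X)).subgroupOf S)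
      (fun y y' e => ?_) fun y n hn => ?_
    · have k2 := (ht S le_rfl fun e he y hy => by
        rw [← commutatorElement_eq_one_iff_mul_comm, ml y hy e he e he, hY _ (mY y hy e he)]).1.trans k1
      have k3 : (centralizer (Y : Set X)).relIndex S ≠ 0 := index_ne_zero_of_finite
      refine h0 (commutatorElement_eq_one_iff_mul_comm.2 ((relIndex_eq_one (H := centralizer (Y : Set X))).1 ?_ m0 y0 hy0))
      change _ ≤ relIndex _ _ at k2
      generalize relIndex _ S = k at k2 k3 ⊢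
      have := Nat.pos_of_ne_zero k3
      nlinarith
    · obtain ⟨b, r⟩ := ex _ (y⁻¹ * y').2
      by_cases hb : b = 0
      · exact centralizer_le Q.syl.le (hb ▸ r).zero
      obtain ⟨t, m, e1⟩ := r0.tr r (fun k => h0 (commutatorElement_eq_one_iff_mul_comm.2
        ((k ▸ r0).zero t0 (Q.syl.le m0)).symm)) hb m0
      refine absurd ?_ hξ
      have e2 : ξ ⟨_, mY y y.2 t m⟩ = ξ ⟨_, mY y' y'.2 t m⟩ := by
        have := DFunLike.congr_fun e ⟨t, m⟩
        exact Units.ext this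
      rw [← inv_mul_cancel (ξ ⟨_, mY y y.2 t m⟩)]
      conv_rhs => enter [2]; rw [e2]
      rw [← map_inv, ← map_mul]
      refine congrArg ξ (Subtype.ext ?_)
      change _ = ⁅(y : X), t⁆⁻¹ * ⁅(y' : X), t⁆
      rw [hY.comm (inv_mem (mY y y.2 t m)) (mY y' y'.2 t m), ← inv_mul_cancel_left (y : X) (_ * _), ← mul_assoc (y : X),
        hY.comm y.2 (mY y' y'.2 t m), mul_assoc _ (y : X), hY.comm y.2 (inv_mem (mY y y.2 t m))]
      refine e1.symm.trans ?_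
      simp only [commutatorElement_def, coe_mul, coe_inv]
      group
    · change ((ξ _ : ℂˣ) : ℂ) = 1
      rw [Units.val_eq_one, ← map_one ξ]
      exact congrArg ξ (Subtype.ext (commutatorElement_eq_one_iff_mul_comm.2 (hn y y.2)))
  refine ⟨h1, fun z m ⟨b, e⟩ t mt => ?_⟩
  have r : Q.Rp z b := ⟨z, m, e, by rw [inv_mul_cancel]; exact one_mem _⟩
  by_cases hb : b = 0
  · exact (hb ▸ r).zero t (Q.syl.le mt)
  obtain ⟨y0, hy0, h0⟩ := SetLike.not_le_iff_exists.1 hc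
  obtain ⟨b0, r0⟩ := ex y0 hy0
  obtain ⟨t', m', e1⟩ := r.tr r0 hb (fun k => h0 (k ▸ r0).zero) mt
  rw [eq_comm, ← commutatorElement_eq_one_iff_mul_comm, ← e1, commutatorElement_eq_one_iff_mul_comm]
  exact h1 m' y0 hy0

end H20.SF
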