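import Mathlib
import Cfsg.Agent.H20.SF0
import Cfsg.Agent.H2.ZA1

set_option autoImplicit false
set_option linter.unusedVariables false
set_option linter.unusedSectionVars false

namespace H20.SF

open Cfsg Subgroup H12
open H22 (cj SylIn)
open scoped commutatorElement IsMulCommutative

universe u

namespace Zb

variable {G : Type*} [Group G] [Finite G] {F : Type} [Field F] [Fintype F] {K : H2.SZ.FD F}

theorem mem_syl (P : Sylow 2 G) {c : G} (hc : c ∈ center G) {k : ℕ} (h : c ^ 2 ^ k = 1) :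
    c ∈ (P : Subgroup G) := by
  haveI : (zpowers c).Normal := ⟨fun x hx g => by
    rwa [mem_center_iff.mp (zpowers_le.mpr hc hx) g, mul_inv_cancel_right]⟩
  exact (H22.isPGroup_zpowers h).le_sylow_of_normal P (mem_zpowers c)

theorem mem_of_img (P : Sylow 2 G) {x : G} {k : ℕ} (h : x ^ 2 ^ k = 1)
    (hx : (x : G ⧸ center G) ∈ (P : Subgroup G).map (QuotientGroup.mk' (center G))) :
    x ∈ (P : Subgroup G) := by
  obtain ⟨s, hs, e⟩ := hx
  have hc : s⁻¹ * x ∈ center G := QuotientGroup.eq.mp e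
  obtain ⟨j, hj⟩ := H22.isPGroup_iff_forall_mem.mp P.isPGroup' s hs
  have h1 : Commute s⁻¹ x := by
    have : s * (s⁻¹ * x) = (s⁻¹ * x) * s := mem_center_iff.mp hc s
    rw [mul_inv_cancel_left] at this
    change s⁻¹ * x = x * s⁻¹
    conv_rhs => rw [this]
    group
  have h2 : (s⁻¹ * x) ^ 2 ^ (j + k) = 1 := by
    rw [h1.mul_pow, inv_pow, pow_add, pow_mul, hj, one_pow, mul_comm (2 ^ j), pow_mul, h, one_pow,
      inv_one, one_mul]
  have := mul_mem hs (mem_syl P hc h2)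
  rwa [mul_inv_cancel_left] at this

theorem main (hp : commutator G = ⊤) (P : Sylow 2 G)
    (D : H2.SZ.SzD K (⊤ : Subgroup (G ⧸ center G)))
    (img : D.S = (P : Subgroup G).map (QuotientGroup.mk' (center G)))
    (hz : ∀ z ∈ (P : Subgroup G), (z : G ⧸ center G) ∈ D.Z →
      z ∈ centralizer ((P : Subgroup G) : Set G)) {g : G} (hg : g ∈ (P : Subgroup G))
    (hc : g ∈ center G) : g = 1 := by
  classical
  set π := QuotientGroup.mk' (center G) with hπ
  set Z : Subgroup G := (P : Subgroup G) ⊓ D.Z.comap π with hZ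
  have hZc : ∀ z ∈ Z, ∀ s ∈ (P : Subgroup G), s * z = z * s := fun z h s hs => hz z h.1 h.2 s hs
  haveI : IsMulCommutative Z :=
    H13.isMulCommutative_iff_forall_mem.mpr fun x hx y hy => hZc y hy x hx.1
  choose n hn using fun k : Fˣ => QuotientGroup.mk'_surjective (center G) (D.h k)
  have hl0 : ∀ a, ∃ s ∈ (P : Subgroup G), π s = D.u a 0 := fun a => by
    have := D.u_mem_S a 0
    rw [img] at this
    exact this
  choose l hlP hl using hl0
  have hS : ∀ s ∈ (P : Subgroup G), ∃ a b, π s = D.u a b := fun s hs => by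
    have : π s ∈ D.S := img ▸ mem_map_of_mem π hs
    exact this
  have hnP : ∀ k, ∀ s ∈ (P : Subgroup G), n k * s * (n k)⁻¹ ∈ (P : Subgroup G) := fun k s hs => by
    obtain ⟨j, hj⟩ := H22.isPGroup_iff_forall_mem.mp P.isPGroup' s hs
    obtain ⟨a, b, e⟩ := hS s hs
    refine mem_of_img P (k := j) (by rw [conj_pow, hj, mul_one, mul_inv_cancel]) ?_
    rw [← img]
    change π _ ∈ _
    rw [map_mul, map_mul, map_inv, hn, e, D.h_u]
    exact D.u_mem_S _ _
  have hnZ : ∀ k, ∀ z ∈ Z, n k * z * (n k)⁻¹ ∈ Z := fun k z h => by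
    refine mem_inf.mpr ⟨hnP k z h.1, mem_comap.mpr ?_⟩
    obtain ⟨b, e⟩ : ∃ b, π z = D.z b := h.2
    rw [map_mul, map_mul, map_inv, hn, e, D.h_z]
    exact D.z_mem_Z _
  let c : Fˣ → Z →* Z := fun k =>
    { toFun := fun z => ⟨n k * z * (n k)⁻¹, hnZ k z z.2⟩
      map_one' := Subtype.ext (by simp)
      map_mul' := fun x y => Subtype.ext (by simp only [Subgroup.coe_mul]; group) }
  have hcc : ∀ k j z, c k (c j z) = c (k * j) z := fun k j z => Subtype.ext (by
    have h1 : (n (k * j))⁻¹ * (n k * n j) ∈ center G := QuotientGroup.eq.mp (by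
      change π _ = π _
      rw [map_mul, hn, hn, hn, map_mul])
    have h2 := mem_center_iff.mp h1 (z : G)
    change n k * (n j * z * (n j)⁻¹) * (n k)⁻¹ = n (k * j) * z * (n (k * j))⁻¹
    calc _ = n (k * j) * ((n (k * j))⁻¹ * (n k * n j) * z) * (n k * n j)⁻¹ := by group
      _ = _ := by rw [← h2]; group)
  let ρ : Z →* Z := ∏ k, c k
  have hρ : ∀ z, ρ z = ∏ k, c k z := fun z => MonoidHom.finsetProd_apply _ _ _
  have hρc : ∀ j z, ρ (c j z) = ρ z := fun j z => by
    rw [hρ, hρ]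
    simp only [hcc]
    exact Equiv.prod_comp (Equiv.mulRight j) fun k => c k z
  have hcm : ∀ s ∈ (P : Subgroup G), ∀ t ∈ (P : Subgroup G), ⁅s, t⁆ ∈ Z := fun s hs t ht => by
    refine mem_inf.mpr ⟨mul_mem (mul_mem (mul_mem hs ht) (inv_mem hs)) (inv_mem ht),
      mem_comap.mpr ?_⟩
    obtain ⟨a, b, e⟩ := hS s hs
    obtain ⟨a', b', e'⟩ := hS t ht
    rw [commutatorElement_def, map_mul, map_mul, map_mul, map_inv, map_inv, e, e', D.u_conj,
      ← D.z_u, mul_inv_cancel_right]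
    exact D.z_mem_Z _
  have hdec : ∀ s ∈ (P : Subgroup G), ∀ a b, π s = D.u a b → ∃ z ∈ Z, s = l a * z :=
    fun s hs a b e => ⟨(l a)⁻¹ * s, mem_inf.mpr ⟨mul_mem (inv_mem (hlP a)) hs, mem_comap.mpr (by
      rw [map_mul, map_inv, hl, e, D.u_eq a b, inv_mul_cancel_left]
      exact D.z_mem_Z _)⟩, by rw [mul_inv_cancel_left]⟩
  have dep : ∀ s ∈ (P : Subgroup G), ∀ t ∈ (P : Subgroup G), ∀ a b a' b', π s = D.u a b →
      π t = D.u a' b' → ⁅s, t⁆ = ⁅l a, l a'⁆ := fun s hs t ht a b a' b' e e' => by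
    obtain ⟨z, h1, rfl⟩ := hdec s hs a b e
    obtain ⟨z', h2, e2⟩ := hdec t ht a' b' e'
    have k1 := hZc z h1 t ht
    have k2 := hZc z' h2 (l a)⁻¹ (inv_mem (hlP a))
    calc ⁅l a * z, t⁆ = l a * (z * t) * z⁻¹ * (l a)⁻¹ * t⁻¹ := by
          rw [commutatorElement_def]; group
      _ = l a * t * (l a)⁻¹ * t⁻¹ := by rw [← k1]; group
      _ = l a * l a' * (z' * (l a)⁻¹) * z'⁻¹ * (l a')⁻¹ := by rw [e2]; group
      _ = _ := by rw [← k2, commutatorElement_def]; group
  have mulL : ∀ s ∈ (P : Subgroup G), ∀ s' ∈ (P : Subgroup G), ∀ t ∈ (P : Subgroup G),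
      ⁅s * s', t⁆ = ⁅s, t⁆ * ⁅s', t⁆ := fun s hs s' hs' t ht => by
    have k1 := hZc _ (hcm s' hs' t ht) s hs
    have k2 := hZc _ (hcm s' hs' t ht) _ (hcm s hs t ht).1
    calc ⁅s * s', t⁆ = (s * ⁅s', t⁆) * s⁻¹ * ⁅s, t⁆ := by simp only [commutatorElement_def]; group
      _ = _ := by rw [k1, k2]; group
  have mulR : ∀ s ∈ (P : Subgroup G), ∀ t ∈ (P : Subgroup G), ∀ t' ∈ (P : Subgroup G),
      ⁅s, t * t'⁆ = ⁅s, t⁆ * ⁅s, t'⁆ := fun s hs t ht t' ht' => by
    have k1 := hZc _ (hcm s hs t' ht') t ht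
    calc ⁅s, t * t'⁆ = ⁅s, t⁆ * (t * ⁅s, t'⁆) * t⁻¹ := by simp only [commutatorElement_def]; group
      _ = _ := by rw [k1]; group
  have hβ := K.alt0 (fun a a' => ρ ⟨⁅l a, l a'⁆, hcm _ (hlP a) _ (hlP a')⟩)
    (fun x x' y => by
      rw [← map_mul]
      congr 1
      apply Subtype.ext
      change ⁅l (x + x'), l y⁆ = ⁅l x, l y⁆ * ⁅l x', l y⁆
      rw [← mulL _ (hlP x) _ (hlP x') _ (hlP y)]
      exact (dep _ (mul_mem (hlP x) (hlP x')) _ (hlP y) _ _ _ _
        (by rw [map_mul, hl, hl, D.u_mul]) (hl y)).symm)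
    (fun x y y' => by
      rw [← map_mul]
      congr 1
      apply Subtype.ext
      change ⁅l x, l (y + y')⁆ = ⁅l x, l y⁆ * ⁅l x, l y'⁆
      rw [← mulR _ (hlP x) _ (hlP y) _ (hlP y')]
      exact (dep _ (hlP x) _ (mul_mem (hlP y) (hlP y')) _ _ _ _ (hl x)
        (by rw [map_mul, hl, hl, D.u_mul])).symm)
    (fun x => by
      rw [← map_one ρ]
      congr 1
      exact Subtype.ext (commutatorElement_self _))
    (fun k x y => by
      rw [← hρc k ⟨⁅l x, l y⁆, _⟩]
      congr 1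
      apply Subtype.ext
      change ⁅l (k * x), l (k * y)⁆ = n k * ⁅l x, l y⁆ * (n k)⁻¹
      rw [← dep _ (hnP k _ (hlP x)) _ (hnP k _ (hlP y)) _ _ _ _
        (by rw [map_mul, map_mul, map_inv, hn, hl, D.h_u])
        (by rw [map_mul, map_mul, map_inv, hn, hl, D.h_u])]
      simp only [commutatorElement_def]
      group)
  have hker : commutator (P : Subgroup G) ≤ (ρ.ker.map Z.subtype).subgroupOf P := by
    rw [_root_.commutator_def, commutator_le]
    intro s _ t _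
    obtain ⟨a, b, e⟩ := hS s s.2
    obtain ⟨a', b', e'⟩ := hS t t.2
    exact ⟨_, hβ a a', (dep _ s.2 _ t.2 _ _ _ _ e e').symm⟩
  have hgk : ∀ (k : ℕ) (g₀ : G), g₀⁻¹ * g ^ k * g₀ ∈ (P : Subgroup G) →
      g₀⁻¹ * g ^ k * g₀ = g ^ k := fun k g₀ _ => by
    rw [mem_center_iff.mp (pow_mem hc k) g₀⁻¹, inv_mul_cancel_right]
  have ht := MonoidHom.transfer_eq_pow (Abelianization.of (G := (P : Subgroup G))) g hgk
  have h1 : MonoidHom.transfer (Abelianization.of (G := (P : Subgroup G))) g = 1 :=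
    Abelianization.commutator_subset_ker _ (hp ▸ mem_top g)
  rw [h1] at ht
  have ht' := MonoidHom.mem_ker.mpr ht.symm
  rw [Abelianization.ker_of] at ht'
  obtain ⟨z, hz1, hz2⟩ := hker ht'
  have hz3 : (z : G) = g ^ (P : Subgroup G).index := hz2
  have h2 : ∀ k, c k z = z := fun k => Subtype.ext (by
    change n k * z * (n k)⁻¹ = z
    rw [hz3, mem_center_iff.mp (pow_mem hc _) (n k), mul_inv_cancel_right])
  have h3 : ρ z = 1 := hz1
  rw [hρ] at h3
  simp only [h2, Finset.prod_const, Finset.card_univ] at h3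
  have h4 : g ^ ((P : Subgroup G).index * Fintype.card Fˣ) = 1 := by
    rw [pow_mul, ← hz3]
    exact congrArg Subtype.val h3
  refine H13.eq_one_of_mem_isPGroup_of_coprime P.isPGroup' hg
    (Nat.Coprime.coprime_dvd_left (orderOf_dvd_of_pow_eq_one h4) (Nat.Coprime.mul_left ?_ ?_))
  · exact ((Nat.Prime.coprime_iff_not_dvd Nat.prime_two).mpr P.not_dvd_index).symm
  · rw [Fintype.card_units, K.card, Nat.coprime_two_right]
    exact Nat.Even.sub_odd Nat.one_le_two_pow ((Nat.even_pow' (by omega)).mpr even_two) odd_one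

end Zb

/-! ### SFZb -/
theorem SzQ.zb {X : Type*} [Group X] [Finite X] {F : Type} [Field F] [Fintype F] {K : H2.SZ.FD F}
    {L S : Subgroup X} (Q : SzQ K L S) (h : Q.Zc) :
    ∀ g ∈ S, g ∈ centralizer (L : Set X) → g = 1 := by
  intro g hg hc
  have := Zb.main (G := L) Q.qs.1.commutator_eq_top Q.syl.toSylow Q.D Q.img
    (fun z hz hz' s hs => Subtype.ext (h z hz hz' s hs)) (g := ⟨g, Q.syl.le hg⟩) hg
    (mem_center_iff.mpr fun x => Subtype.ext (hc x x.2))
  exact congrArg Subtype.val this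

end H20.SF
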