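import Mathlib
import Cfsg.Agent.H20.SF0
import Cfsg.Agent.H20.SFA
import Cfsg.Agent.H20.SFP
import Cfsg.Agent.H20.SFZa
import Cfsg.Agent.H20.SFZb

set_option autoImplicit false
set_option linter.unusedVariables false
set_option linter.unusedSectionVars false

namespace H20.SF

open Cfsg Subgroup H12
open H22 (cj SylIn)

universe u

/-! ### SFZc -/
theorem sylIn_comp {X : Type*} [Group X] [Finite X] {T P L : Subgroup X} (hT : SylIn 2 T P)
    (hL : H23.IsCompOf L P) : SylIn 2 (T ⊓ L) L := by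
  have h1 := hT.inf_normal (K := H23.lay P) (map_subtype_le _) (H24.nml_map_subtype _).norm
  have h2 := h1.inf_normal hL.le_lay (by
    refine (map_mono (H23.layer_le_normalizer_of_isSubnormal hL.2.1)).trans ((le_normalizer_map _).trans ?_)
    rw [map_subgroupOf_eq_of_le hL.1])
  rwa [inf_assoc, inf_eq_right.2 hL.le_lay] at h2

theorem comp_perm {X : Type*} [Group X] {P L : Subgroup X} (hL : H23.IsCompOf L P) {g : X}
    (hg : g ∈ P) : cj g L = L ∨ cj g L ≤ centralizer (L : Set X) := by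
  have h : H23.IsCompOf (cj g L) (cj g P) := hL.conj g
  rw [H22.cj_eq_of_mem hg] at h
  exact (h.eq_or_comm hL).imp_right commutator_eq_bot_iff_le_centralizer.1

theorem SFZc_lift {L : Type*} [Group L] {n : ℕ} {z : L} (hz : z * z = 1)
    (h : InvIn ⊤ n (z : L ⧸ center L)) : InvIn ⊤ n z := by
  obtain ⟨p, hp, y, -, h1, h2, h3⟩ := h
  obtain ⟨y, rfl⟩ := QuotientGroup.mk_surjective y
  have e1 : z * (y⁻¹ * z * y * z⁻¹) * z⁻¹ = (y⁻¹ * z * y * z⁻¹)⁻¹ := by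
    rw [inv_eq_of_mul_eq_one_right hz, mul_assoc z, mul_assoc _ z z, hz, mul_one, mul_inv_rev, mul_inv_rev,
      mul_inv_rev, inv_eq_of_mul_eq_one_right hz, inv_inv, mul_assoc]
  have e2 : ((y⁻¹ * z * y * z⁻¹ : L) : L ⧸ center L) = ((y : L ⧸ center L) ^ 2)⁻¹ := by
    rw [mul_assoc y⁻¹, mul_assoc y⁻¹, QuotientGroup.mk_mul, QuotientGroup.mk_mul, QuotientGroup.mk_mul,
      QuotientGroup.mk_inv, QuotientGroup.mk_inv, h3, sq, mul_inv_rev]
  generalize y⁻¹ * z * y * z⁻¹ = w at e1 e2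
  have e3 : w ^ p ∈ center L := (QuotientGroup.eq_one_iff _).1 (by
    rw [QuotientGroup.mk_pow, e2, inv_pow, ← pow_mul, mul_comm, pow_mul, h2, one_pow, inv_one])
  refine ⟨p, hp, w ^ 2, mem_top _, fun e => h1 ?_, ?_, by rw [← conj_pow, e1, inv_pow]⟩
  · have := congrArg (QuotientGroup.mk (s := center L)) e
    rw [QuotientGroup.mk_pow, e2, inv_pow, ← pow_mul, QuotientGroup.mk_one, inv_eq_one] at this
    exact (pow_eq_one_iff_of_coprime ((Nat.coprime_primes Nat.prime_two hp.1).2 hp.2.1.symm |>.pow_left 2)).1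
      ⟨this, h2⟩
  · have : z * w ^ p * z⁻¹ = (w ^ p)⁻¹ := by rw [← conj_pow, e1, inv_pow]
    rw [mem_center_iff.1 e3 z, mul_inv_cancel_right] at this
    rw [← pow_mul, mul_comm, pow_mul, sq]
    exact mul_eq_one_iff_eq_inv.2 this

theorem szB {X : Type*} [Group X] [Finite X] {T P L Y : Subgroup X} (hT : SylIn 2 T P)
    (hL : H23.IsCompOf L P) (hs : SzT (L ⧸ center L)) (hYT : Y ≤ T)
    (hn : T ≤ normalizer (Y : Set X)) (hY : Sq Y) (ht : TwoF Y T)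
    (hc : ¬ Y ≤ centralizer (L : Set X)) : SzB (T ⊓ centralizer (Y : Set X)) L := by
  obtain ⟨F, _, _, K, ⟨Q⟩⟩ := exists_szQ hL.quasisimple hs.2 (sylIn_comp hT hL)
  have mS : ∀ g, g ∈ Q.D.S ↔ ∃ s : L, (s : X) ∈ T ∧ (s : L ⧸ center L) = g := fun g => by
    rw [Q.img]
    exact ⟨fun ⟨s, a, b⟩ => ⟨s, a.1, b⟩, fun ⟨s, a, b⟩ => ⟨s, ⟨a, s.2⟩, b⟩⟩
  choose u hu pu using fun a b => (mS _).1 (Q.D.u_mem_S a b)
  have ker : ∀ s : L, (s : L ⧸ center L) = 1 ↔ (s : X) ∈ centralizer (L : Set X) := fun s => by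
    rw [QuotientGroup.eq_one_iff, mem_center_iff]
    exact ⟨fun h g hg => congrArg Subtype.val (h ⟨g, hg⟩), fun h g => Subtype.ext (h g g.2)⟩
  have nL : Y ≤ normalizer (L : Set X) := fun y hy => by
    refine H22.cj_eq_iff.1 ((comp_perm hL (hT.le (hYT hy))).resolve_right fun h => Q.D.z1 ?_)
    have h1 := h (H22.conj_mem_cj (g := y) (u 1 0).2)
    have h2 := hY _ (mul_mem (H22.conj_mem_of_mem_normalizer' (hn (hu 1 0)) hy) (inv_mem hy))
    have h3 := h1 _ (u 1 0).2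
    rw [← K.nm_one, ← Q.D.u_sq 1 0, ← pu, ← QuotientGroup.mk_mul, ker, coe_mul]
    generalize (u 1 0 : X) = s at *
    rw [show s⁻¹ * y * s * y⁻¹ = s⁻¹ * (y * s * y⁻¹) by group] at h2
    generalize y * s * y⁻¹ = t at *
    rw [show s * s = t * t by
      rw [← mul_one (s * s), ← h2, mul_assoc s, mul_assoc s⁻¹, mul_inv_cancel_left, ← mul_assoc, h3, mul_assoc,
        mul_inv_cancel_left]]
    exact mul_mem h1 h1
  have nS : ∀ g ∈ T, g ∈ normalizer (L : Set X) → g ∈ normalizer ((T ⊓ L : Subgroup X) : Set X) :=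
    fun g a b => H22.mem_normalizer_inf (le_normalizer a) b
  obtain ⟨h1, h2⟩ := Q.za hY (inf_le_left.trans hn) (ht.mono inf_le_left) nL
    (fun y hy => nS y (hYT hy) (nL hy)) hc
  have zb := Q.zb h2
  have inj : ∀ s t : L, (s : X) ∈ T → (t : X) ∈ T → (s : L ⧸ center L) = t → s = t := fun s t a b e =>
    inv_mul_eq_one.1 (Subtype.ext (zb _ (mem_inf.2 ⟨mul_mem (inv_mem a) b, (s⁻¹ * t).2⟩) ((ker (s⁻¹ * t)).1 (by
      rw [QuotientGroup.mk_mul, QuotientGroup.mk_inv, e, inv_mul_cancel]))))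
  have mem : ∀ g ∈ T ⊓ L, ∃ a b, g = u a b := fun g m => by
    obtain ⟨a, b, e⟩ := Q.D.mem_S.1 ((mS _).2 ⟨⟨g, m.2⟩, m.1, rfl⟩)
    exact ⟨a, b, congrArg Subtype.val (inj ⟨g, m.2⟩ _ m.1 (hu a b) (e.trans (pu a b).symm))⟩
  refine ⟨F, _, _, K, ⟨fun a b => u a b, fun a b c d => congrArg Subtype.val (inj (u a b * u c d) _
    (mul_mem (hu _ _) (hu _ _)) (hu _ _) (by rw [QuotientGroup.mk_mul, pu, pu, pu, Q.D.u_mul])),
    fun e => Q.D.u_inj (by rw [← pu, ← pu, Subtype.ext e]), fun g => ⟨fun m => mem g ⟨m.1.1, m.2⟩, ?_⟩,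
    fun g m => zb g ⟨m.1.1, m.2⟩, fun c m => comp_perm hL (hT.le m.1), fun c m e => ?_, fun b hb => ?_⟩⟩
  · rintro ⟨a, b, rfl⟩
    exact ⟨⟨hu a b, h1 ⟨hu a b, (u a b).2⟩⟩, (u a b).2⟩
  · obtain ⟨s, m1, m2⟩ := Q.aut c (H22.cj_eq_iff.1 e) (nS c m.1 (H22.cj_eq_iff.1 e))
      (H22.isPGroup_iff_forall_mem.1 hT.isPGroup c m.1)
    obtain ⟨a, b, rfl⟩ := mem s m1
    exact ⟨a, b, _, m2, (mul_inv_cancel_left _ _).symm⟩
  · obtain ⟨p, hp, y, -, y1, y2, y3⟩ := SFZc_lift (z := u 0 b) (inj _ _ (mul_mem (hu _ _) (hu _ _)) (one_mem _) (by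
      rw [QuotientGroup.mk_mul, pu]; exact Q.D.z_sq b)) (by rw [pu]; exact Q.inv b hb)
    exact ⟨p, hp, y, y.2, fun e => y1 (Subtype.ext e), congrArg Subtype.val y2, congrArg Subtype.val y3⟩

end H20.SF
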