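import Mathlib
import Cfsg.Agent.H20.SF0
import Cfsg.Agent.H20.SFC
import Cfsg.Agent.H20.SFZc

set_option autoImplicit false
set_option linter.unusedVariables false
set_option linter.unusedSectionVars false

namespace H20.SF

open Cfsg Subgroup H12
open H22 (cj SylIn)

universe u

/-! ### SFH -/
theorem hb {X : Type*} [Group X] [Finite X] {P R E A : Subgroup X} (hP : S3F P) (hR : R ≤ P)
    (hE : E ≤ P) (ho : Odd (Nat.card R)) (h2 : Sq E) (hn : E ≤ normalizer (R : Set X)) (hA : Sq A)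
    {h : X} (hh : h ∈ A ⊓ E) (hc : h ∉ centralizer (R : Set X)) : ∃ e, Blk A E e 1 ∧ h ∉ e := by
  haveI : IsMulCommutative E := H13.isMulCommutative_iff_forall_mem.2 fun x hx y hy => h2.comm hx hy
  have co := H23.cop_two_iff_odd.2 ho
  have := mt (H1.le_of_centralizer_cocyclic_le E R (centralizer {h}) hn (H23.cop_card_of_isPGroup h2.pg co))
    fun k => hc fun r m => (mem_centralizer_singleton_iff.1 (k m))
  simp only [not_forall] at this
  obtain ⟨B, hB, ⟨a, ha, le⟩, k⟩ := this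
  obtain ⟨x, xR, xh⟩ := SetLike.not_le_iff_exists.1 k
  obtain ⟨xR, xB⟩ := mem_inf.1 xR
  have nB : h ∉ B := fun m => xh (mem_centralizer_singleton_iff.2 (xB h m).symm)
  have two : ∀ y ∈ E, y ∈ B ∨ y * a ∈ B := fun y m => by
    obtain ⟨b, mb, c, mc, rfl⟩ := H23.mem_sup_of_le_normalizer_left
      ((zpowers_le.2 ha).trans ((h2.le_cent hB).trans (centralizer_le_normalizer _))) (le m)
    obtain ⟨k, rfl⟩ := mem_zpowers_iff.1 mc
    have a2 : a ^ (2 : ℤ) = 1 := by rw [zpow_two, h2 a ha]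
    rcases Int.emod_two_eq_zero_or_one k with e | e <;> rw [zpow_eq_zpow_emod k a2, e]
    · simpa using .inl mb
    · right; rwa [zpow_one, mul_assoc, h2 a ha, mul_one]
  have two' : ∀ y ∈ E, y ∉ B → y * h ∈ B := fun y m n => by
    have := mul_mem ((two y m).resolve_left n) (inv_mem ((two h hh.2).resolve_left nB))
    rwa [mul_inv_rev, mul_assoc, mul_inv_cancel_left, h2.inv hh.2] at this
  have rR := mul_mem (inv_mem xR) (H22.conj_mem_of_mem_normalizer (hn hh.2) xR)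
  have rB : x⁻¹ * (h * x * h⁻¹) ∈ centralizer (B : Set X) :=
    mul_mem (inv_mem xB) (mul_mem (mul_mem (h2.le_cent hB hh.2) xB) (inv_mem (h2.le_cent hB hh.2)))
  have ri : h * (x⁻¹ * (h * x * h⁻¹)) * h⁻¹ = (x⁻¹ * (h * x * h⁻¹))⁻¹ := by
    calc _ = h * x⁻¹ * h * x * (h * h)⁻¹ := by group
      _ = h * x⁻¹ * h⁻¹ * x := by rw [h2 h hh.2, h2.inv hh.2, inv_one, mul_one]
      _ = _ := by group
  have r1 : x⁻¹ * (h * x * h⁻¹) ≠ 1 := fun e =>
    xh (mem_centralizer_singleton_iff.2 (eq_mul_inv_iff_mul_eq.1 (inv_mul_eq_one.1 e)))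
  generalize x⁻¹ * (h * x * h⁻¹) = r at rR rB ri r1
  refine ⟨B, ⟨hB, le_rfl, (index_eq_two_iff.2 ⟨⟨h, hh⟩, fun b => ?_⟩).le, fun t m n => ?_,
    fun C _ l => .inl fun y m => ?_⟩, nB⟩
  · by_cases k : (b : X) ∈ B
    · exact .inr ⟨k, fun e => nB ((B.mul_mem_cancel_left k).1 e)⟩
    · exact .inl ⟨two' b b.2.2 k, k⟩
  · refine hP.invIn (hR rR) (hE m.2) rB (H23.cop_two_iff_odd.1 (H13.orderOf_coprime_of_mem co rR)) r1 ?_
    calc _ = t * h⁻¹ * (h * r * h⁻¹) * (t * h⁻¹)⁻¹ := by group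
      _ = _ := by rw [ri, h2.inv hh.2, inv_mem rB _ (two' t m.2 n), mul_inv_cancel_right]
  · by_cases k : y ∈ B
    · exact ⟨y, k, by rw [h2 y m]; exact one_mem _⟩
    · exact ⟨_, two' y m k, by
        rw [h2.comm m hh.2, mul_assoc, h2 y m, mul_one]; exact hA.le_cent l hh.1⟩

theorem SFH_e4 {X : Type u} [Group X] [Finite X] {T P L : Subgroup X} (h : Par T P)
    (hL : H23.IsCompOf L P) (h4 : E4T (L ⧸ center L)) {t : X} (ht : t ∈ T)
    (hc : t ∉ centralizer (L : Set X)) :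
    ∃ R ≤ P, Odd (Nat.card R) ∧ T ≤ normalizer (R : Set X) ∧ t ∉ centralizer (R : Set X) := by
  have hs := sylIn_comp h.syl hL
  have e0 : T ⊓ normalizer (L : Set X) ⊓ L = T ⊓ L := by rw [inf_assoc, inf_eq_right.2 le_normalizer]
  have o := fun t m c => otl h.s3 hL.1 (inf_le_left.trans h.syl.le) hL.quasisimple h4
    (h.syl.isPGroup.to_le inf_le_left) inf_le_right (e0 ▸ hs) (t := t) m c
  have pm : ∀ s ∈ T, s ∈ T ⊓ normalizer (L : Set X) ∨ cj s L ≤ centralizer (L : Set X) := fun s m =>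
    (comp_perm hL (h.syl.le m)).imp_left fun e => ⟨m, H22.cj_eq_iff.1 e⟩
  obtain ⟨R, h1, h2, h3, h5⟩ : ∃ R ≤ L, Odd (Nat.card R) ∧ T ⊓ normalizer (L : Set X) ≤ normalizer (R : Set X) ∧
      t ∉ centralizer (R : Set X) := by
    rcases pm t ht with m | m
    · exact o t m hc
    obtain ⟨s, ms, cs⟩ : ∃ s ∈ T ⊓ L, s ∉ centralizer (L : Set X) := by
      by_contra! k
      have := h4.card (hs.toSylow.mapSurjective (QuotientGroup.mk'_surjective (center L)))
      rw [Sylow.coe_mapSurjective, hs.coe_toSylow, (Subgroup.map_eq_bot_iff _).2 (by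
        rw [QuotientGroup.ker_mk']
        exact fun s m => mem_center_iff.2 fun g => Subtype.ext (k s m g g.2)), card_bot] at this
      omega
    obtain ⟨R, h1, h2, h3, h5⟩ := o s ⟨ms.1, le_normalizer ms.2⟩ cs
    refine ⟨R, h1, h2, h3, fun k => h5 fun r mr => (m ?_ s ms.2).symm⟩
    rw [H22.mem_cj, mul_assoc, k r mr, inv_mul_cancel_left]
    exact h1 mr
  have n1 : ∀ s ∈ T, cj s R ≤ normalizer (R : Set X) := fun s m => by
    rcases pm s m with m | m
    · rw [H22.cj_eq_iff.2 (h3 m)]; exact le_normalizer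
    · exact ((H22.cj_mono h1).trans (m.trans (centralizer_le h1))).trans (centralizer_le_normalizer _)
  have n2 : ∀ s' : T, (⨆ s : T, cj (s : X) R) ≤ normalizer (cj (s' : X) R : Set X) := fun s' => iSup_le fun s => by
    rw [← H22.cj_normalizer, ← H22.cj_cj_inv (s' : X) (cj (s : X) R), H22.cj_le_cj_iff, ← H22.cj_mul]
    exact n1 _ (mul_mem (inv_mem s'.2) s.2)
  refine ⟨⨆ s : T, cj (s : X) R, iSup_le fun s => ?_, H23.cop_two_iff_odd.1 (H23.cop_of_le
    (H23.opp_cop 2 (⨆ s : T, cj (s : X) R)) (iSup_le fun s => H23.le_opp (le_iSup (fun s : T => cj (s : X) R) s) (n2 s) ?_)),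
    fun g m => H22.cj_eq_iff.1 (H22.cj_eq_of_le ?_), fun k => h5 (centralizer_le ?_ k)⟩
  · exact (H22.cj_mono (h1.trans hL.1)).trans (H22.cj_eq_of_mem (h.syl.le s.2)).le
  · rw [H22.card_cj]; exact H23.cop_two_iff_odd.2 h2
  · rw [H22.cj_le_iff_le_cj_inv]
    refine iSup_le fun s => H22.cj_le_iff_le_cj_inv.1 ?_
    rw [← H22.cj_mul]
    exact le_iSup (fun s : T => cj (s : X) R) ⟨g * s, mul_mem m s.2⟩
  · exact (H22.cj_one R).ge.trans (le_iSup (fun s : T => cj (s : X) R) 1)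

theorem otk {X : Type u} [Group X] [Finite X] {T P : Subgroup X} (h : Par T P) (hn : NT P) {t : X}
    (ht : t ∈ T) (hc : t ∉ centralizer (ok P : Set X)) :
    (∃ R ≤ P, Odd (Nat.card R) ∧ T ≤ normalizer (R : Set X) ∧ t ∉ centralizer (R : Set X)) ∨
      ∃ L, H23.IsCompOf L P ∧ SzT (L ⧸ center L) ∧ t ∉ centralizer (L : Set X) := by
  have nO : P ≤ normalizer (H23.opp 2 P : Set X) := H23.le_normalizer_opp 2 le_normalizer
  by_cases c1 : t ∈ centralizer (H23.opp 2 P : Set X)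
  swap
  · exact .inl ⟨_, H23.opp_le 2 P, H23.cop_two_iff_odd.1 (H23.opp_cop 2 P), h.syl.le.trans nO, c1⟩
  by_cases c2 : ∃ L, H23.IsCompOf L P ∧ t ∉ centralizer (L : Set X)
  · obtain ⟨L, hL, c⟩ := c2
    rcases classify_qs hL.quasisimple (h.s3.of_le hL.1) with k | k
    exacts [.inr ⟨L, hL, k, c⟩, .inl (SFH_e4 h hL k ht c)]
  push Not at c2
  have c3 : t ∈ centralizer (H23.lay P : Set X) := fun g m => (mem_centralizer_singleton_iff.1
    (H23.lay_le_of (X := centralizer {t}) (fun L hL g m => mem_centralizer_singleton_iff.2 (c2 L hL g m)) m))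
  obtain ⟨D, hD⟩ : ∃ D, D = P ⊓ (centralizer (H23.lay P : Set X) ⊓ centralizer (H23.opp 2 P : Set X)) := ⟨_, rfl⟩
  have DP : D ≤ P := hD ▸ inf_le_left
  have nD : P ≤ normalizer (D : Set X) := hD ▸ H23.le_normalizer_inf le_normalizer (H23.le_normalizer_inf
    (H23.le_normalizer_centralizer (H23.le_normalizer_map_subtype_of_normal _)) (H23.le_normalizer_centralizer nO))
  have od : ∀ d ∈ D, (orderOf d).Coprime 2 → d ∈ D ⊓ H23.opp 2 P := fun d m o => by
    have m' := hD ▸ m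
    have cm : ∀ K : Subgroup P, d ∈ centralizer (K.map P.subtype : Set X) → ⁅zpowers (⟨d, m'.1⟩ : P), K⁆ = ⊥ :=
      fun K k => H23.comm_bot_of_le_centralizer (zpowers_le.2 fun g mg => Subtype.ext (k g ⟨g, mg, rfl⟩))
    exact ⟨m, _, H2.le_pPrimeCore_of_le_fitting (by rwa [Nat.card_zpowers, ← orderOf_coe])
      (H23.le_fitting_of_comm (cm _ m'.2.1) (H23.comm_bot_mono (H23.comm_bot_symm (H23.comm_sup_bot
        (H23.comm_bot_symm (cm _ (hn (mem_ok m'.1 (H23.cop_two_iff_odd.1 o))))) (H23.comm_bot_symm (cm _ m'.2.2))))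
        le_rfl (H2.fitting_le_pCore_sup_pPrimeCore 2))) (mem_zpowers _), rfl⟩
  have hS := h.syl.inf_normal DP nD
  have nS : D ≤ normalizer ((T ⊓ D : Subgroup X) : Set X) := fun g m => by
    obtain ⟨q, mq, k, mk, rfl⟩ := hS.exists_mul_of_coprime_mem inf_le_left
      (H23.le_normalizer_inf le_normalizer (DP.trans nO)) od m
    exact mul_mem (le_normalizer mq) (centralizer_le_normalizer _ fun s ms => ((hD ▸ ms.2 :).2.2 k mk.2).symm)
  exact (hc (le_centralizer_iff.1 hn (H23.op_mono DP nD (H23.le_op hS.le nS hS.isPGroup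
    ⟨ht, hD ▸ ⟨h.syl.le ht, c3, c1⟩⟩)))).elim

end H20.SF
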