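import Mathlib
import Cfsg.Agent.H20.SF0
import Cfsg.Agent.H20.SFA

set_option autoImplicit false
set_option linter.unusedVariables false
set_option linter.unusedSectionVars false

namespace H20.SF

open Cfsg Subgroup H12
open H22 (cj SylIn)

universe u

namespace X0

variable {X : Type*} [Group X] {V : Type*} [Group V]

theorem comm_V (hV : ∀ v : V, v * v = 1) (a b : V) : a * b = b * a :=
  comm_of_sq (A := (⊤ : Subgroup V)) (fun a _ => hV a) (mem_top a) (mem_top b)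

theorem pg_V (hV : ∀ v : V, v * v = 1) : IsPGroup 2 V := fun v => ⟨1, by
  rw [pow_one, pow_two, hV]⟩

theorem fx_cj (φ : X →* MulAut V) (g : X) (B : Subgroup X) :
    fx φ (cj g B) = (fx φ B).map (φ g : V →* V) := by
  ext v
  constructor
  · intro hv
    refine ⟨φ g⁻¹ v, fun b hb => ?_, apply_inv_apply φ g v⟩
    have := hv _ (H22.conj_mem_cj (g := g) hb)
    rw [mul_apply', mul_apply'] at this
    have h2 := congrArg (φ g⁻¹) this
    rwa [inv_apply_apply] at h2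
  · rintro ⟨w, hw, rfl⟩ a ha
    have := hw _ (H22.mem_cj.mp ha)
    rw [mul_apply', mul_apply'] at this
    have h2 := congrArg (φ g) this
    rwa [apply_inv_apply] at h2

theorem index_fx_cj (φ : X →* MulAut V) (g : X) (B : Subgroup X) :
    (fx φ (cj g B)).index = (fx φ B).index := by
  rw [fx_cj]
  exact index_map_equiv (H := fx φ B) (φ g : V ≃* V)

theorem card_fx_cj (φ : X →* MulAut V) (g : X) (B : Subgroup X) :
    Nat.card (fx φ (cj g B)) = Nat.card (fx φ B) := by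
  rw [fx_cj]
  exact (Nat.card_congr ((fx φ B).equivMapOfInjective _ (φ g).injective).toEquiv).symm

theorem odd_ord {p n : ℕ} (hp : BigP p n) {y : X} (hy : y ^ p = 1) : Odd (orderOf y) :=
  (hp.1.odd_of_ne_two hp.2.1).of_dvd_nat (orderOf_dvd_of_pow_eq_one hy)

theorem g00 [Finite V] (hV : IsPGroup 2 V) (ψ : X →* MulAut V) {p n : ℕ} (hp : BigP p n)
    {y h : X} (hy : y ^ p = 1) (hne : ψ y ≠ 1) (hi : h * y * h⁻¹ = y⁻¹) :
    4 ^ n ≤ (fx ψ (zpowers h)).index := by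
  obtain ⟨m, hm⟩ := hV.exists_card_eq
  have hpV : ¬ p ∣ Nat.card V := fun hd => by
    rw [hm] at hd
    exact hp.2.1 ((Nat.prime_dvd_prime_iff_eq hp.1 Nat.prime_two).mp (hp.1.dvd_of_dvd_pow hd))
  have h1 := index_fx_modEq ψ hp.1 hy hpV
  obtain ⟨k, -, hk⟩ := (Nat.dvd_prime_pow Nat.prime_two).mp
    (hm ▸ index_dvd_card (fx ψ (zpowers y)))
  obtain ⟨j, -, hj⟩ := (Nat.dvd_prime_pow Nat.prime_two).mp
    (hm ▸ index_dvd_card (fx ψ (zpowers h)))
  have hk0 : 0 < k := by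
    refine Nat.pos_of_ne_zero fun h0 => hne ?_
    rw [h0, pow_zero, index_eq_one] at hk
    ext v
    exact mem_fx_zpowers.mp (hk ▸ mem_top v)
  have h2 := hp.2.2 k hk0 (hk ▸ h1)
  have hle : fx ψ (zpowers h) ⊓ fx ψ (cj y (zpowers h)) ≤ fx ψ (zpowers y) := by
    rw [← fx_sup]
    apply fx_anti
    have h3 : y ^ 2 ∈ zpowers h ⊔ cj y (zpowers h) := by
      have : y ^ 2 = (y * h * y⁻¹) * h⁻¹ := by
        have h4 : h * y⁻¹ * h⁻¹ = y := by
          have := congrArg (·⁻¹) hi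
          simpa [mul_assoc] using this
        calc y ^ 2 = y * (h * y⁻¹ * h⁻¹) := by rw [h4, pow_two]
          _ = _ := by group
      rw [this]
      exact mul_mem (mem_sup_right (H22.conj_mem_cj (mem_zpowers h)))
        (inv_mem (mem_sup_left (mem_zpowers h)))
    obtain ⟨r, hr⟩ := hp.1.odd_of_ne_two hp.2.1
    rw [zpowers_le]
    have : y = (y ^ 2) ^ (r + 1) := by
      rw [← pow_mul, show 2 * (r + 1) = p + 1 by omega, pow_succ, hy, one_mul]
    rw [this]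
    exact pow_mem (this ▸ h3) _
  have h5 : (fx ψ (zpowers y)).index ≤ 2 ^ j * 2 ^ j := by
    refine (Nat.le_of_dvd (Nat.pos_of_ne_zero index_ne_zero_of_finite)
      (index_dvd_of_le hle)).trans (index_inf_le.trans ?_)
    rw [index_fx_cj, hj]
  rw [hk, ← pow_add] at h5
  have h6 := (Nat.pow_le_pow_iff_right (by norm_num : 1 < 2)).mp h5
  rw [hj, show (4 : ℕ) = 2 ^ 2 from rfl, ← pow_mul]
  exact Nat.pow_le_pow_right (by norm_num) (by omega)

theorem inv_fx {φ : X →* MulAut V} {L B : Subgroup X} (h : L ≤ centralizer (B : Set X)) :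
    Inv (φ.comp L.subtype) (fx φ B) := by
  intro x w hw b hb
  change φ b (φ x w) = φ x w
  rw [← mul_apply', h x.2 b hb, mul_apply', hw b hb]

theorem res_ne_one [Finite X] [Finite V] {φ : X →* MulAut V} (hV : ∀ v : V, v * v = 1)
    (hφ : Function.Injective φ) {L F : Subgroup X} (hF : Sq F) (hL : L ≤ centralizer (F : Set X))
    {y : X} (hy : y ∈ L) (ho : Odd (orderOf y)) (h1 : y ≠ 1) :
    res _ (inv_fx (φ := φ) hL) ⟨y, hy⟩ ≠ 1 := fun h => h1 (hφ (by
  rw [map_one]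
  refine pq_action (pg_V hV) φ (B := F)
    (fun a ha => ⟨1, by rw [pow_one, pow_two, ← map_mul, hF a ha, map_one]⟩) ho
    (fun b hb => hL hy b hb) fun v hv => ?_
  exact congrArg (fun f : MulAut (fx φ F) => ((f ⟨v, hv⟩ : fx φ F) : V)) h))

/-- the commutator space of a central involution -/
def cs (hV : ∀ v : V, v * v = 1) (α : MulAut V) : Subgroup V where
  carrier := {u | ∃ v, u = v⁻¹ * α v}
  one_mem' := ⟨1, by simp⟩
  mul_mem' := by
    rintro _ _ ⟨v, rfl⟩ ⟨w, rfl⟩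
    refine ⟨v * w, ?_⟩
    rw [map_mul, comm_V hV v w, mul_inv_rev, mul_assoc, mul_assoc, ← mul_assoc (α v),
      comm_V hV (α v) w⁻¹, mul_assoc]
  inv_mem' := by
    rintro _ ⟨v, rfl⟩
    exact ⟨v, inv_eq_of_mul_eq_one_right (hV _)⟩

theorem g2a [Finite V] (hV : ∀ v : V, v * v = 1) (ψ : X →* MulAut V) {p n : ℕ} (hp : BigP p n)
    {t y h : X} (ht : ∀ x, x * t = t * x) (ht2 : t * t = 1) (hy : y ^ p = 1) (hne : ψ y ≠ 1)
    (hi : h * y * h⁻¹ = y⁻¹) :
    ∃ M : Subgroup V, 4 ^ n ≤ M.index ∧ ∀ v, (ψ h v = v ∨ ψ h v = ψ t v) → v ∈ M := by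
  set N := cs hV (ψ t) with hN
  haveI : N.Normal := ⟨fun w hw g => by rwa [comm_V hV g w, mul_inv_cancel_right]⟩
  have hc : ∀ x v, ψ x (ψ t v) = ψ t (ψ x v) := fun x v => by
    rw [← mul_apply', ht, mul_apply']
  have hI : Inv ψ N := by
    rintro x _ ⟨v, rfl⟩
    exact ⟨ψ x v, by rw [map_mul, map_inv, hc]⟩
  have hq : quo ψ hI y ≠ 1 := fun h0 => hne (by
    have h2 : ∀ v, v⁻¹ * ψ y v ∈ N := fun v => by
      have := congrArg (fun f : MulAut (V ⧸ N) => f (v : V ⧸ N)) h0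
      simp only [quo_mk, MulAut.one_apply] at this
      exact QuotientGroup.eq.mp this.symm
    refine eq_one_of_stab ((pg_V hV).to_subgroup N) (odd_orderOf_map ψ (odd_ord hp hy)) ?_ h2
    rintro _ ⟨v, rfl⟩
    obtain ⟨v', hv'⟩ := h2 v
    have h3 : ψ y v = v * (v'⁻¹ * ψ t v') := by rw [← hv', mul_inv_cancel_left]
    have h4 : ψ t (v'⁻¹ * ψ t v') = v'⁻¹ * ψ t v' := by
      rw [map_mul, ← mul_apply', ht2, map_one, MulAut.one_apply, map_inv,
        inv_eq_of_mul_eq_one_right (hV (ψ t v')), inv_eq_of_mul_eq_one_right (hV v'),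
        comm_V hV]
    rw [map_mul, map_inv, hc, h3, map_mul, h4, mul_inv_rev, comm_V hV (ψ t v),
      mul_assoc, comm_V hV v⁻¹ (_ * _), ← mul_assoc, inv_mul_cancel_left, comm_V hV])
  have h1 := g00 ((pg_V hV).to_quotient N) (quo ψ hI) hp hy hq hi
  refine ⟨(fx (quo ψ hI) (zpowers h)).comap (QuotientGroup.mk' N), ?_, fun v hv => ?_⟩
  · rwa [index_comap_of_surjective _ (QuotientGroup.mk'_surjective N)]
  · rw [mem_comap, mem_fx_zpowers, QuotientGroup.mk'_apply, quo_mk]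
    rcases hv with hv | hv
    · rw [hv]
    · rw [hv]
      exact (QuotientGroup.eq.mpr (show v⁻¹ * ψ t v ∈ N from ⟨v, rfl⟩)).symm

end X0

/-! ### SFX0 -/
section SFX0
variable {X : Type*} [Group X] [Finite X] {V : Type*} [Group V] [Finite V] {φ : X →* MulAut V}
  {n : ℕ}

theorem g0 (hV : ∀ v : V, v * v = 1) (hφ : Function.Injective φ) {F : Subgroup X} (hF : Sq F)
    {h : X} (hh : h ∈ centralizer (F : Set X)) (hi : InvIn (centralizer (F : Set X)) n h) :
    4 ^ n ≤ (fx φ (zpowers h)).relIndex (fx φ F) := by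
  obtain ⟨p, hp, y, hy, h1, hyp, hinv⟩ := hi
  have h2 := X0.g00 ((X0.pg_V hV).to_subgroup _) _ hp (y := ⟨y, hy⟩) (h := ⟨h, hh⟩)
    (Subtype.ext hyp) (X0.res_ne_one hV hφ hF le_rfl hy (X0.odd_ord hp hyp) h1) (Subtype.ext hinv)
  rw [index_fx_res] at h2
  convert h2 using 2
  ext v
  rw [mem_fx_zpowers, mem_fx_zpowers]
  rfl

theorem g2 (hV : ∀ v : V, v * v = 1) (hφ : Function.Injective φ) {E F F' D : Subgroup X}
    (hE : Sq E) (hF : F ≤ F') (hF' : F' ≤ E) {w h : X} (hw : w ∈ F') (hh : h ∈ E) (hD : h ∈ D)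
    (hi : InvIn (centralizer ((F ⊔ zpowers (w * h) : Subgroup X) : Set X)) n h) :
    4 ^ n * (fx φ D).relIndex (fx φ F') ≤ (fx φ D).relIndex (fx φ F) := by
  obtain ⟨p, hp, y, hy, h1, hyp, hinv⟩ := hi
  set L := centralizer ((F ⊔ zpowers (w * h) : Subgroup X) : Set X) with hL
  have htE : w * h ∈ E := mul_mem (hF' hw) hh
  have hEL : E ≤ L := hE.le_cent (sup_le (hF.trans hF') (zpowers_le.mpr htE))
  have hLF : L ≤ centralizer (F : Set X) := centralizer_le (SetLike.coe_subset_coe.mpr le_sup_left)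
  obtain ⟨M, hM, hm⟩ := X0.g2a (V := fx φ F) (fun v => Subtype.ext (hV v))
    (res _ (X0.inv_fx (φ := φ) hLF)) hp (t := ⟨w * h, hEL htE⟩) (y := ⟨y, hy⟩) (h := ⟨h, hEL hh⟩)
    (fun x => Subtype.ext (x.2 _ (mem_sup_right (mem_zpowers _))).symm)
    (Subtype.ext (hE _ htE)) (Subtype.ext hyp)
    (X0.res_ne_one hV hφ (hE.mono (hF.trans hF')) hLF hy (X0.odd_ord hp hyp) h1)
    (Subtype.ext hinv)
  set M' := M.map (fx φ F).subtype with hM'
  have e1 : M'.relIndex (fx φ F) = M.index := by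
    rw [relIndex, subgroupOf, hM', comap_map_eq_self_of_injective (subtype_injective _)]
  have l1 : fx φ D ⊓ fx φ F ≤ M' := fun v hv =>
    ⟨⟨v, hv.2⟩, hm _ (Or.inl (Subtype.ext (hv.1 h hD))), rfl⟩
  have l2 : fx φ F' ≤ M' := fun v hv =>
    ⟨⟨v, fx_anti hF hv⟩, hm _ (Or.inr (Subtype.ext (by
      change φ h v = φ (w * h) v
      rw [hE.comm (hF' hw) hh, mul_apply', hv w hw]))), rfl⟩
  have l3 : M' ≤ fx φ F := map_subtype_le _
  rw [← inf_relIndex_right (fx φ D) (fx φ F), ← relIndex_mul_relIndex _ _ _ l1 l3, e1, mul_comm]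
  refine Nat.mul_le_mul ?_ hM
  calc (fx φ D).relIndex (fx φ F') ≤ (fx φ D ⊓ fx φ F).relIndex (fx φ F') :=
        relIndex_le_of_le_left inf_le_left index_ne_zero_of_finite
    _ ≤ _ := relIndex_le_of_le_right l2 index_ne_zero_of_finite

theorem ff_pos (B : Subgroup X) : 0 < ff φ B :=
  Nat.mul_pos (pow_pos Nat.card_pos 2) Nat.card_pos

theorem ff_cj (g : X) (B : Subgroup X) : ff φ (cj g B) = ff φ B := by
  rw [ff, ff, H22.card_cj, X0.card_fx_cj]

theorem ff_eq {A B : Subgroup X} (h : B ≤ A) :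
    ff φ A * (fx φ A).relIndex (fx φ B) = B.relIndex A ^ 2 * ff φ B := by
  rw [ff, ff, ← H2.card_mul_relIndex h, ← H2.card_mul_relIndex (fx_anti (φ := φ) h)]
  ring

theorem ff_le {A B : Subgroup X} (h : B ≤ A) : ff φ A ≤ B.relIndex A ^ 2 * ff φ B := by
  rw [← ff_eq h]
  exact Nat.le_mul_of_pos_right _ (Nat.pos_of_ne_zero index_ne_zero_of_finite)

theorem ff_super (hV : ∀ v : V, v * v = 1) {A B : Subgroup X} (h : B ≤ centralizer (A : Set X)) :
    ff φ A * ff φ B ≤ ff φ (A ⊔ B) * ff φ (A ⊓ B) := by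
  have h1 := H2.card_sup_mul_card_inf (H := B) (K := A) (H13.le_normalizer_of_le_centralizer h)
  rw [sup_comm, inf_comm] at h1
  have h2 := H2.card_sup_mul_card_inf (H := fx φ A) (K := fx φ B)
    (H13.le_normalizer_of_le_centralizer fun a _ b _ => X0.comm_V hV b a)
  have h3 : Nat.card ↥(fx φ A ⊔ fx φ B) ≤ Nat.card (fx φ (A ⊓ B)) :=
    card_le_of_le (sup_le (fx_anti inf_le_left) (fx_anti inf_le_right))
  simp only [ff, fx_sup]
  calc _ = (Nat.card B * Nat.card A) ^ 2 * (Nat.card (fx φ A) * Nat.card (fx φ B)) := by ring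
    _ = (Nat.card ↥(A ⊔ B) * Nat.card ↥(A ⊓ B)) ^ 2 *
        (Nat.card ↥(fx φ A ⊔ fx φ B) * Nat.card ↥(fx φ A ⊓ fx φ B)) := by rw [h1, h2]
    _ ≤ (Nat.card ↥(A ⊔ B) * Nat.card ↥(A ⊓ B)) ^ 2 *
        (Nat.card (fx φ (A ⊓ B)) * Nat.card ↥(fx φ A ⊓ fx φ B)) := by gcongr
    _ = _ := by ring

theorem sq_le_index {A : Subgroup X} (h : ff φ A ≤ ff φ ⊥) : Nat.card A ^ 2 ≤ (fx φ A).index := by
  have h1 : Nat.card (fx φ ⊥) ≤ Nat.card V := card_le_card_group _
  rw [ff, ff, card_bot, one_pow, one_mul] at h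
  have h2 := h.trans h1
  rw [← (fx φ A).index_mul_card] at h2
  exact Nat.le_of_mul_le_mul_right h2 Nat.card_pos

end SFX0

end H20.SF
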