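import Mathlib
import Cfsg.Agent.H20.SF0
import Cfsg.Agent.H20.SFC
import Cfsg.Agent.H20.SFX0

set_option autoImplicit false
set_option linter.unusedVariables false
set_option linter.unusedSectionVars false

namespace H20.SF

open Cfsg Subgroup H12
open H22 (cj SylIn)

universe u

/-! ### SFM -/
section SFM
variable {X : Type u} [Group X] [Finite X] {T P Y : Subgroup X}

theorem SFM_order (g a : X) : orderOf (g * a * g⁻¹) = orderOf a :=
  (MulAut.conj g).orderOf_eq a

theorem SFM_mem {R A : Subgroup X} (hAR : A ≤ normalizer (R : Set X))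
    (hA : IsPGroup 2 A) {u : X} (hu : u ∈ A ⊔ R) (ho : Odd (orderOf u)) : u ∈ R := by
  obtain ⟨a, ha, r, hr, rfl⟩ := (H22.mem_sup_of_le_normalizer hAR).1 hu
  obtain ⟨k, hk⟩ := H22.isPGroup_iff_forall_mem.1 hA a ha
  have key : ∀ n : ℕ, (a ^ n)⁻¹ * (a * r) ^ n ∈ R := by
    intro n
    induction n with
    | zero => simp
    | succ n ih =>
      have := mul_mem (H22.conj_mem_of_mem_normalizer' (hAR ha) ih) hr
      convert this using 1
      rw [pow_succ, pow_succ]; group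
  have := key (2 ^ k)
  rw [hk, inv_one, one_mul] at this
  exact H23.mem_of_pow_mem_of_coprime ((coprime_two_iff.mpr ho).pow_right k) this

theorem ok_cj (g : X) (P : Subgroup X) : ok (cj g P) = cj g (ok P) := by
  rw [ok, ok, H22.cj_closure]
  congr 1
  ext x
  constructor
  · rintro ⟨h1, h2⟩
    refine ⟨g⁻¹ * x * g, ⟨H22.mem_cj.1 h1, ?_⟩, by group⟩
    have := SFM_order g⁻¹ x
    rw [inv_inv] at this
    rwa [this]
  · rintro ⟨a, ⟨h1, h2⟩, rfl⟩
    exact ⟨H22.conj_mem_cj h1, by rwa [SFM_order]⟩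

theorem norm_ok (P : Subgroup X) : normalizer (P : Set X) ≤ normalizer (ok P : Set X) := by
  intro g hg
  rw [← H22.cj_eq_iff] at hg ⊢
  rw [← ok_cj, hg]

theorem Par.cj (h : Par T P) (g : X) : Par (cj g T) (cj g P) := ⟨h.syl.cj g, h.s3.cj g⟩

theorem NT.cj (h : NT P) (g : X) : NT (cj g P) := by
  have h1 : H23.op 2 (H22.cj g P) ≤ H22.cj g (H23.op 2 P) := by
    rw [← H22.cj_le_cj_iff (g := g⁻¹), H22.cj_inv_cj]
    have := H23.map_op_le 2 (H22.cj g P) (MulAut.conj g⁻¹).toMonoidHom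
    have e := H22.cj_inv_cj g P
    rw [show (H22.cj g P).map (MulAut.conj g⁻¹).toMonoidHom = P from e] at this
    exact this
  unfold NT
  rw [ok_cj]
  refine (H22.cj_mono h).trans ?_
  rw [H22.cj_centralizer]
  exact centralizer_le h1

theorem SFM_dec (h : Par T P) {g : X} (hg : g ∈ P) : ∃ q ∈ T, ∃ k ∈ ok P, g = q * k :=
  h.syl.exists_mul_of_coprime_mem (ok_le P) (le_normalizer.trans (norm_ok P))
    (fun _ hx ho => mem_ok hx (coprime_two_iff.mp ho)) hg

theorem Par.le_sup (h : Par T P) : P ≤ T ⊔ ok P := by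
  intro g hg
  obtain ⟨q, hq, k, hk, rfl⟩ := SFM_dec h hg
  exact mul_mem_sup hq hk

theorem Par.op_le (h : Par T P) : H23.op 2 P ≤ T := by
  have h1 : IsPGroup 2 ↥(T ⊔ H23.op 2 P) :=
    H22.isPGroup_sup_of_le_normalizer h.syl.isPGroup (H23.op_isPGroup 2 P)
      (H23.le_normalizer_op 2 (h.syl.le.trans le_normalizer))
  have h2 := h.syl.2.2 _ (sup_le h.syl.le (H23.op_le 2 P)) h1 le_sup_left
  rw [← h2]
  exact le_sup_right

theorem mp_gen (h : Par T P) {N : Subgroup X} (hN : ∀ Q ≤ P, Par T Q → MP T Q → Q ≤ N) : P ≤ N := by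
  induction hn : Nat.card P using Nat.strong_induction_on generalizing P with | _ n ih => ?_
  set M : Subgroup X := sSup {Q | T ≤ Q ∧ Q < P} with hM
  by_cases hPM : P ≤ M
  · refine hPM.trans (sSup_le ?_)
    rintro Q ⟨h1, h2⟩
    refine ih (Nat.card Q) ?_ ⟨h.syl.mono h1 h2.le, h.s3.of_le h2.le⟩
      (fun R hR => hN R (hR.trans h2.le)) rfl
    rw [← hn]
    refine lt_of_le_of_ne (card_le_of_le h2.le) fun he => h2.ne ?_
    exact eq_of_le_of_card_ge h2.le he.ge
  refine hN P le_rfl h fun K hK hPK => ?_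
  by_cases hs : P ≤ T ⊔ K
  · right
    exact ok_le_iff.2 fun x hx ho => SFM_mem (h.syl.le.trans hPK) h.syl.isPGroup (hs hx) ho
  left
  have hKM : K ≤ M := le_sup_right.trans (le_sSup (s := {Q | T ≤ Q ∧ Q < P}) (a := T ⊔ K)
    ⟨le_sup_left, lt_of_le_of_ne (sup_le h.syl.le hK) fun he => hs he.ge⟩)
  have hT : T ≤ P ⊓ normalizer ((T ⊓ K : Subgroup X) : Set X) := fun t ht =>
    ⟨h.syl.le ht, H22.mem_normalizer_inf (le_normalizer ht) (hPK (h.syl.le ht))⟩
  have hQ : P ≤ normalizer ((T ⊓ K : Subgroup X) : Set X) := by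
    by_contra hc
    have hQM : P ⊓ normalizer ((T ⊓ K : Subgroup X) : Set X) ≤ M :=
      le_sSup (s := {Q | T ≤ Q ∧ Q < P})
        ⟨hT, lt_of_le_of_ne inf_le_left fun he => hc (inf_eq_left.1 he)⟩
    apply hPM
    intro g hg
    obtain ⟨k, hk, hkg⟩ := (h.syl.inf_normal hK hPK).frattini hPK hg
    have := mul_mem (inv_mem (hKM hk)) (hQM ⟨mul_mem (hK hk) hg, hkg⟩)
    rwa [inv_mul_cancel_left] at this
  exact H23.le_op (inf_le_left.trans h.syl.le) hQ (h.syl.isPGroup.to_le inf_le_left)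

theorem ctype (hY : YD T Y) (h : Par T P) (hm : MP T P) (hn : ¬ NT P) :
    P ≤ normalizer (Y : Set X) := by
  have hop : P ≤ normalizer ((H23.op 2 P : Subgroup X) : Set X) :=
    H23.le_normalizer_op 2 le_normalizer
  have hopp : P ≤ normalizer ((H23.opp 2 P : Subgroup X) : Set X) :=
    H23.le_normalizer_opp 2 le_normalizer
  have hYP : Y ≤ P := hY.le.trans h.syl.le
  have h1 : T ⊓ centralizer (H23.op 2 P : Set X) ≤ H23.op 2 P := by
    rcases hm (P ⊓ centralizer (H23.op 2 P : Set X)) inf_le_left (fun g hg =>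
      H22.mem_normalizer_inf (le_normalizer hg)
        (H22.normalizer_le_normalizer_centralizer _ (hop hg))) with h2 | h2
    · exact fun x hx => h2 ⟨hx.1, h.syl.le hx.1, hx.2⟩
    · exact absurd (h2.trans inf_le_right) hn
  have h2 := hY.nrm P h h1
  have h3 : Y ≤ H23.op 2 P := by
    rcases hm _ (sup_le hYP (H23.opp_le 2 P)) h2 with h4 | h4
    · exact fun y hy => h4 ⟨hY.le hy, mem_sup_left hy⟩
    · refine absurd (ok_le_iff.2 fun x hx ho => ?_) hn
      have h5 : x ∈ H23.opp 2 P := SFM_mem (hYP.trans hopp) hY.sq.pg (h4 (mem_ok hx ho)) ho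
      have h6 := commutator_eq_bot_iff_le_centralizer.1 (H23.op_comm_opp 2 P)
      exact fun a ha => (h6 ha x h5).symm
  have h4 : Y = H23.op 2 P ⊓ (Y ⊔ H23.opp 2 P) := by
    refine le_antisymm (le_inf h3 le_sup_left) ?_
    rintro x ⟨hx1, hx2⟩
    obtain ⟨y, hy, o, ho, rfl⟩ := (H22.mem_sup_of_le_normalizer (hYP.trans hopp)).1 hx2
    have h5 : o ∈ H23.op 2 P ⊓ H23.opp 2 P := by
      refine ⟨?_, ho⟩
      have := mul_mem (inv_mem (h3 hy)) hx1
      rwa [inv_mul_cancel_left] at this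
    rw [H23.inf_eq_bot_of_isPGroup_of_cop (H23.op_isPGroup 2 P) (H23.opp_cop 2 P), mem_bot] at h5
    rw [h5, mul_one]
    exact hy
  intro g hg
  rw [h4]
  exact H22.mem_normalizer_inf (hop hg) (h2 hg)

theorem SFM_le_op (h : Par T P) {N : Subgroup X} (hNP : N ≤ P)
    (hk : ok P ≤ normalizer (N : Set X)) (h2 : IsPGroup 2 N) : N ≤ H23.op 2 P := by
  have hT : N ≤ T := by
    obtain ⟨g, hg, hle⟩ := h.syl.exists_cj_le hNP h2
    obtain ⟨q, hq, k, hk', rfl⟩ := SFM_dec h hg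
    rw [H22.cj_mul, H22.cj_eq_iff.2 (hk hk'), H22.cj_le_iff_le_cj_inv,
      H22.cj_eq_of_mem (inv_mem hq)] at hle
    exact hle
  have h1 : N ≤ core P T := by
    intro x hx
    rw [mem_core]
    intro γ hγ
    obtain ⟨q, hq, k, hk', e⟩ := SFM_dec h (inv_mem hγ)
    rw [H22.mem_cj]
    have h3 := H22.conj_mem_of_mem_normalizer (hk hk') hx
    have h4 := mul_mem (mul_mem hq (hT h3)) (inv_mem hq)
    have e2 : γ = (q * k)⁻¹ := by rw [← e, inv_inv]
    rw [e2]
    convert h4 using 1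
    group
  have h3 : core P T ≤ T := fun x hx => by
    have := mem_core.1 hx 1 (one_mem P)
    rwa [H22.cj_one] at this
  refine h1.trans (H23.le_op (h3.trans h.syl.le) (fun g hg => ?_) (h.syl.isPGroup.to_le h3))
  refine H22.mem_normalizer_of_conj_mem fun a ha => mem_core.2 fun γ hγ => ?_
  have := H22.mem_cj.1 (mem_core.1 ha (g⁻¹ * γ) (mul_mem (inv_mem hg) hγ))
  rw [H22.mem_cj]
  convert this using 1
  group

theorem SFM_red {V : Type u} [Group V] [Finite V] {φ : X →* MulAut V} {A : Subgroup X}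
    (hV : IsPGroup 2 V) (hφ : Function.Injective φ) (hA : ∀ a ∈ A, a * a = 1)
    {B L : Subgroup X} (hBA : B ≤ A) (hL : G2F L)
    (hAL : A ≤ L) (hLB : L ≤ centralizer (B : Set X))
    (hN : ∀ N : Subgroup X, N ≤ L → L ≤ normalizer (N : Set X) → IsPGroup 2 N → A ⊓ N ≤ B) :
    B.relIndex A ^ 2 ≤ (fx φ A).relIndex (fx φ B) := by
  set ψ := res _ (inv_fx_of_comm (φ := φ) hLB) with hψ
  have h1 := hL _ (hV.to_subgroup _) ψ (A.subgroupOf L) (fun a ha => by
    have : a * a = 1 := Subtype.ext (hA a ha)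
    rw [this, map_one])
  rw [hψ, index_fx_res_sub hLB hAL, ← hψ] at h1
  have h2 : A ⊓ (OO ψ).map L.subtype ≤ B := by
    refine hN _ (map_subtype_le _) (H23.le_normalizer_map_subtype_of_normal _) ?_
    refine H13.isPGroup_of_forall_coprime_eq_one Nat.prime_two ?_
    rintro _ ⟨g, hg, rfl⟩ ho
    have ho' : Odd (orderOf (g : X)) := coprime_two_iff.mp ho
    apply hφ
    rw [map_one]
    refine pq_action hV φ (B := B) (pow_of_sq fun a ha => hA a (hBA ha)) ho'
      (fun b hb => hLB g.2 b hb) fun v hv => ?_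
    have := OO_odd hg (by rwa [← Subgroup.orderOf_coe])
    exact congrArg (fun f : MulAut (fx φ B) => ((f ⟨v, hv⟩ : fx φ B) : V)) this
  have h3 : B.relIndex A ≤ (OO ψ).relIndex (A.subgroupOf L) := by
    rw [← relIndex_map_map_of_injective _ _ L.subtype_injective, map_subgroupOf_eq_of_le hAL,
      ← inf_relIndex_left A (map L.subtype (OO ψ))]
    exact relIndex_le_of_le_left h2 index_ne_zero_of_finite
  exact (Nat.pow_le_pow_left h3 2).trans h1

theorem ntype {V : Type u} [Group V] [Finite V] {φ : X →* MulAut V} (hV : IsPGroup 2 V)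
    (hφ : Function.Injective φ) (h : Par T P) (hn : NT P) {A : Subgroup X} (hA : A ≤ T)
    (h2 : Sq A) : ff φ A ≤ ff φ (A ⊓ H23.op 2 P) := by
  have hLP : A ⊔ ok P ≤ P := sup_le (hA.trans h.syl.le) (ok_le P)
  have h1 := SFM_red (φ := φ) hV hφ h2 (B := A ⊓ H23.op 2 P) (L := A ⊔ ok P) inf_le_left
    (h.s3.of_le hLP).ks.g2f le_sup_left
    (sup_le (h2.le_cent inf_le_left) (hn.trans (centralizer_le inf_le_right)))
    (fun N h3 h4 h5 => inf_le_inf_left A (SFM_le_op h (h3.trans hLP) (le_sup_right.trans h4) h5))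
  have h3 := ff_eq (φ := φ) (inf_le_left : A ⊓ H23.op 2 P ≤ A)
  have h4 : 0 < (fx φ A).relIndex (fx φ (A ⊓ H23.op 2 P)) :=
    Nat.pos_of_ne_zero index_ne_zero_of_finite
  refine Nat.le_of_mul_le_mul_right ?_ h4
  rw [h3, mul_comm (ff φ (A ⊓ H23.op 2 P))]
  exact Nat.mul_le_mul_right _ h1
end SFM


end H20.SF
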