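import Mathlib
import Cfsg.Agent.H20.SF0
import Cfsg.Agent.H20.SFX0

set_option autoImplicit false
set_option linter.unusedVariables false
set_option linter.unusedSectionVars false

namespace H20.SF

open Cfsg Subgroup H12
open H22 (cj SylIn)
open scoped commutatorElement

universe u

namespace XX

variable {X : Type*} [Group X] [Finite X] {V : Type*} [Group V] [Finite V] {φ : X →* MulAut V}

/-- the potential -/
structure Pot (A E D0 : Subgroup X) (Φ : Subgroup X → ℕ) (c : ℕ) : Prop where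
  le : D0 ≤ A ⊓ E
  a : ∀ B, c ≤ Φ B
  b : ∀ B B', B' ≤ B → Φ B' ≤ Φ B
  c : ∀ B, A ⊓ E ≤ B → B ≤ A → ∀ y ∈ E, (∀ b ∈ B, ⁅y, b⁆ ∈ A ⊓ E) → (∃ b ∈ B, ⁅y, b⁆ ∉ D0) →
    ∃ B', A ⊓ E ≤ B' ∧ B' < B ∧ B'.relIndex B ^ 2 * Φ B' ≤ Φ B

theorem core_le (B e : Subgroup X) : core B e ≤ e := fun x hx => by
  have := mem_core.mp hx 1 (one_mem _)
  rwa [H22.cj_one] at this

theorem core_anti {B B' : Subgroup X} (h : B' ≤ B) (e : Subgroup X) : core B e ≤ core B' e :=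
  fun x hx => mem_core.mpr fun γ hγ => mem_core.mp hx γ (h hγ)

theorem conj_eq {A : Subgroup X} (hA : Sq A) {a b : X} (ha : a ∈ A) (hb : b ∈ A) :
    a * b * a⁻¹ = b := by rw [hA.comm ha hb, mul_inv_cancel_right]

/-- the subgroup that comes from a block -/
theorem blk_sub {A E e : Subgroup X} {n : ℕ} (hA : Sq A) (hE : Sq E) (he : Blk A E e n)
    {B : Subgroup X} (h1 : A ⊓ E ≤ B) (h2 : B ≤ A) {y : X} (hy : y ∈ E)
    (hc : ∀ b ∈ B, ⁅y, b⁆ ∈ A ⊓ E) {b : X} (hb : b ∈ B) (hn : ⁅y, b⁆ ∉ e) :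
    ∃ B', A ⊓ E ≤ B' ∧ B' < B ∧ B'.relIndex B ≤ 2 ^ n ∧
      ∃ w ∈ core B' e, ∃ β ∈ B, w * ⁅y, b⁆ ∈ cj β e := by
  rcases he.cls B h1 h2 with hl | hr
  · obtain ⟨w, hw, hz⟩ := hl y hy
    have hww : w⁻¹ = w := hE.inv (he.le hw)
    have key : ∀ β ∈ B, ⁅y, β⁆ = w * (β * w * β⁻¹) := fun β hβ => by
      have h3 : β * (w * y) = (w * y) * β := hz β hβ
      have h4 : y * β * y⁻¹ = w⁻¹ * β * w := by
        calc y * β * y⁻¹ = w⁻¹ * ((w * y) * β) * y⁻¹ := by group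
          _ = w⁻¹ * β * w := by rw [← h3]; group
      rw [commutatorElement_def, h4, hww]
      group
    let f : B →* X :=
      { toFun := fun β => ⁅y, (β : X)⁆
        map_one' := by simp
        map_mul' := fun β γ => by
          have h3 := conj_eq hA (h2 β.2) (hc γ γ.2).1
          calc ⁅y, ((β * γ : B) : X)⁆ = ⁅y, (β : X)⁆ * (β * ⁅y, (γ : X)⁆ * (β : X)⁻¹) := by
                simp only [commutatorElement_def, Subgroup.coe_mul]; group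
            _ = _ := by rw [h3] }
    have hmem : ∀ β, β ∈ (e.comap f).map B.subtype ↔ β ∈ B ∧ ⁅y, β⁆ ∈ e := fun β =>
      ⟨fun ⟨γ, hγ, h⟩ => h ▸ ⟨γ.2, hγ⟩, fun h => ⟨⟨β, h.1⟩, h.2, rfl⟩⟩
    refine ⟨(e.comap f).map B.subtype, fun d hd => (hmem d).mpr ⟨h1 hd, ?_⟩,
      lt_of_le_of_ne (map_subtype_le _) fun h => hn ((hmem b).mp (h.symm ▸ hb)).2, ?_,
      w, mem_core.mpr fun γ hγ => ?_, b, hb, ?_⟩
    · rw [commutatorElement_eq_one_iff_mul_comm.mpr (hE.comm hy hd.2)]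
      exact one_mem _
    · rw [relIndex, subgroupOf, comap_map_eq_self_of_injective (subtype_injective _), index_comap]
      refine (relIndex_le_of_le_right ?_ index_ne_zero_of_finite).trans he.idx
      rintro _ ⟨β, rfl⟩
      exact hc β β.2
    · obtain ⟨h3, h4⟩ := (hmem _).mp (inv_mem hγ)
      rw [key _ h3, inv_inv] at h4
      exact H22.mem_cj.mpr ((mul_mem_cancel_left hw).mp h4)
    · rw [key b hb, ← mul_assoc, hE w (he.le hw), one_mul]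
      exact H22.conj_mem_cj hw
  · obtain ⟨B', i1, i2, i3, w, hw, β, hβ, h⟩ := hr _ (hc b hb) hn
    refine ⟨B', i1, i2, i3.trans ?_, w, mem_core.mpr hw, β, hβ, h⟩
    calc 2 = 2 ^ 1 := rfl
      _ ≤ _ := Nat.pow_le_pow_right (by norm_num) he.pos

theorem four_pow (n : ℕ) : (2 ^ n) ^ 2 = 4 ^ n := by
  rw [← pow_mul, mul_comm, pow_mul]; norm_num

theorem Pot.step (hV : ∀ v : V, v * v = 1) (hφ : Function.Injective φ) {A E D0 e : Subgroup X}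
    {Φ : Subgroup X → ℕ} {c n : ℕ} (hA : Sq A) (hE : Sq E) (hP : Pot A E D0 Φ c)
    (he : Blk A E e n) {h : X} (hh : h ∈ D0) (hn : h ∉ e) :
    Pot A E (D0 ⊓ e) (fun B => Φ B * (fx φ D0).relIndex (fx φ (core B e))) (c * 4 ^ n) := by
  have mono : ∀ B B' : Subgroup X, B' ≤ B →
      (fx φ D0).relIndex (fx φ (core B' e)) ≤ (fx φ D0).relIndex (fx φ (core B e)) :=
    fun B B' hB => relIndex_le_of_le_right (fx_anti (core_anti hB e)) index_ne_zero_of_finite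
  refine ⟨inf_le_left.trans hP.le, fun B => Nat.mul_le_mul (hP.a B) ?_,
    fun B B' hB => Nat.mul_le_mul (hP.b B B' hB) (mono B B' hB), ?_⟩
  · have l := (core_le B e).trans he.le
    refine (g0 hV hφ (hE.mono l) (hE.le_cent l (hP.le hh).2)
      ((he.inv h (hP.le hh) hn).mono
        (centralizer_le (SetLike.coe_subset_coe.mpr (core_le B e))))).trans ?_
    exact relIndex_le_of_le_left (fx_anti (zpowers_le.mpr hh)) index_ne_zero_of_finite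
  · rintro B h1 h2 y hy hc ⟨b, hb, hbn⟩
    by_cases h0 : ∃ b ∈ B, ⁅y, b⁆ ∉ D0
    · obtain ⟨B', i1, i2, i3⟩ := hP.c B h1 h2 y hy hc h0
      refine ⟨B', i1, i2, ?_⟩
      rw [← mul_assoc]
      exact Nat.mul_le_mul i3 (mono B B' i2.le)
    push Not at h0
    have hne : ⁅y, b⁆ ∉ e := fun h' => hbn ⟨h0 b hb, h'⟩
    obtain ⟨B', i1, i2, i3, w, hw, β, hβ, hwβ⟩ := blk_sub hA hE he h1 h2 hy hc hb hne
    refine ⟨B', i1, i2, ?_⟩
    have hi := (he.inv _ (hc b hb) hne).cj β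
    rw [conj_eq hA (h2 hβ) (hc b hb).1, H22.cj_centralizer] at hi
    have k := g2 hV hφ hE (core_anti i2.le e) ((core_le B' e).trans he.le) hw (hc b hb).2
      (h0 b hb) (hi.mono (centralizer_le (SetLike.coe_subset_coe.mpr
        (sup_le (fun x hx => mem_core.mp hx β hβ) (zpowers_le.mpr hwβ)))))
    calc _ ≤ (2 ^ n) ^ 2 * (Φ B * (fx φ D0).relIndex (fx φ (core B' e))) :=
          Nat.mul_le_mul (Nat.pow_le_pow_left i3 2) (Nat.mul_le_mul_right _ (hP.b B B' i2.le))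
      _ = Φ B * (4 ^ n * (fx φ D0).relIndex (fx φ (core B' e))) := by rw [four_pow]; ring
      _ ≤ _ := Nat.mul_le_mul_left _ k

theorem last {A E D0 e B : Subgroup X} {n : ℕ} (hA : Sq A) (hD : D0 ≤ A ⊓ E) (he : Blk A E e n)
    (hB : B ≤ A) :
    ff φ D0 * (fx φ D0).relIndex (fx φ (core B e)) ≤ ff φ (D0 ⊓ e) * 4 ^ n := by
  have l : D0 ⊓ e ≤ core B e := fun d hd => mem_core.mpr fun γ hγ => by
    rw [← conj_eq hA (hB hγ) (hD hd.1).1]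
    exact H22.conj_mem_cj hd.2
  have h1 : (D0 ⊓ e).relIndex D0 ≤ 2 ^ n := by
    rw [inf_relIndex_left]
    exact (relIndex_le_of_le_right hD index_ne_zero_of_finite).trans he.idx
  calc _ ≤ ff φ D0 * (fx φ D0).relIndex (fx φ (D0 ⊓ e)) :=
        Nat.mul_le_mul_left _ (relIndex_le_of_le_right (fx_anti l) index_ne_zero_of_finite)
    _ = _ := ff_eq inf_le_left
    _ ≤ (2 ^ n) ^ 2 * ff φ (D0 ⊓ e) := Nat.mul_le_mul_right _ (Nat.pow_le_pow_left h1 2)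
    _ = _ := by rw [four_pow, mul_comm]

/-- the Thompson-type replacement step -/
theorem repl (hV : ∀ v : V, v * v = 1) {T A E : Subgroup X} (hT : IsPGroup 2 T)
    (hAT : A ≤ T) (hET : E ≤ T) (hA : Sq A) (hE : Sq E)
    (hmax : ∀ B ≤ T, Sq B → ff φ B ≤ ff φ A) {B Y : Subgroup X} (h2 : B ≤ A) (hY : Y ≤ E)
    (hn : A ≤ normalizer (Y : Set X)) (hc : ¬ B ≤ centralizer (Y : Set X)) :
    ∃ y ∈ Y, y ∉ centralizer (B : Set X) ∧ (∀ b ∈ B, ⁅y, b⁆ ∈ Y) ∧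
      ff φ B ≤ ff φ (B ⊓ cj y⁻¹ A) := by
  haveI : Fact (Nat.Prime 2) := ⟨Nat.prime_two⟩
  obtain ⟨y, hy, hyc, hk⟩ := H13.exists_not_mem_commutator_mem (K := A ⊔ Y) (U := Y)
    (H := centralizer (B : Set X)) (hT.to_le (sup_le hAT (hY.trans hET))).isNilpotent le_sup_right
    (sup_le hn le_normalizer) (fun h => hc (le_centralizer_iff.mp h))
  have hbY : ∀ b ∈ B, ⁅y, b⁆ ∈ Y := fun b hb => (hk b (mem_sup_left (h2 hb))).2
  refine ⟨y, hy, hyc, hbY, ?_⟩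
  have hC : cj y B ≤ centralizer (A : Set X) := by
    refine H22.cj_le_iff.mpr fun b hb a ha => ?_
    obtain ⟨k1, k2⟩ := hk a (mem_sup_left ha)
    have e1 : b * ⁅y, a⁆ = ⁅y, a⁆ * b := k1 b hb
    have e2 : ⁅y, a⁆ * ⁅y, b⁆ = ⁅y, b⁆ * ⁅y, a⁆ := hE.comm (hY k2) (hY (hbY b hb))
    have e3 : a * b = b * a := hA.comm ha (h2 hb)
    have e4 : a * y = ⁅y, a⁆⁻¹ * y * a := by rw [commutatorElement_def]; group
    have e5 : a * y⁻¹ = y⁻¹ * ⁅y, a⁆ * a := by rw [commutatorElement_def]; group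
    have e6 : y * b * y⁻¹ = ⁅y, b⁆ * b := by rw [commutatorElement_def]; group
    calc a * (y * b * y⁻¹) = (a * y) * b * y⁻¹ := by group
      _ = ⁅y, a⁆⁻¹ * y * (a * b) * y⁻¹ := by rw [e4]; group
      _ = ⁅y, a⁆⁻¹ * y * b * (a * y⁻¹) := by rw [e3]; group
      _ = ⁅y, a⁆⁻¹ * (y * b * y⁻¹) * ⁅y, a⁆ * a := by rw [e5]; group
      _ = ⁅y, a⁆⁻¹ * ⁅y, b⁆ * (b * ⁅y, a⁆) * a := by rw [e6]; group
      _ = ⁅y, a⁆⁻¹ * (⁅y, b⁆ * ⁅y, a⁆) * b * a := by rw [e1]; group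
      _ = ⁅y, b⁆ * b * a := by rw [← e2]; group
      _ = _ := by rw [e6]
  have hS : Sq (cj y B ⊔ A) := fun x hx => by
    obtain ⟨b, hb, a, ha, rfl⟩ :=
      (H22.mem_sup_of_le_normalizer (H13.le_normalizer_of_le_centralizer hC)).mp hx
    have e : a * b = b * a := hC hb a ha
    calc b * a * (b * a) = b * (a * b) * a := by group
      _ = (b * b) * (a * a) := by rw [e]; group
      _ = 1 := by rw [(hA.mono h2).cj y b hb, hA a ha, one_mul]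
  rw [sup_comm] at hS
  have hyT : y ∈ T := hET (hY hy)
  have k1 := ff_super (φ := φ) hV hC
  have k2 := hmax _ (sup_le hAT (H22.cj_le_iff.mpr fun b hb =>
    mul_mem (mul_mem hyT (hAT (h2 hb))) (inv_mem hyT))) hS
  have k3 := Nat.le_of_mul_le_mul_left (k1.trans (Nat.mul_le_mul_right _ k2)) (ff_pos A)
  rw [ff_cj] at k3
  rwa [← ff_cj y (B ⊓ cj y⁻¹ A), H22.cj_inf, H22.cj_cj_inv, inf_comm]

theorem claim (hV : ∀ v : V, v * v = 1) (hφ : Function.Injective φ) {T A E : Subgroup X}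
    (hT : IsPGroup 2 T) (hAT : A ≤ T) (hET : E ≤ T) (hA : Sq A) (hE : Sq E)
    (hmax : ∀ B ≤ T, Sq B → ff φ B ≤ ff φ A)
    (hY : ∀ B, A ⊓ E ≤ B → B ≤ A → ¬ B ≤ E → ∃ Y ≤ E, A ≤ normalizer (Y : Set X) ∧
      ¬ B ≤ centralizer (Y : Set X) ∧ ∀ h ∈ Y ⊓ A, h ≠ 1 → ∃ e n, Blk A E e n ∧ h ∉ e)
    (B : Subgroup X) : A ⊓ E ≤ B → B ≤ A → ∀ (D0 : Subgroup X) (Φ : Subgroup X → ℕ) (c : ℕ),
      Pot A E D0 Φ c → ∃ D' ≤ A ⊓ E, ff φ B * ff φ D0 * c ≤ ff φ (A ⊓ E) * ff φ D' * Φ B := by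
  induction B using WellFoundedLT.induction with | _ B ihB => ?_
  intro h1 h2 D0
  induction D0 using WellFoundedLT.induction with | _ D0 ihD => ?_
  intro Φ c hP
  by_cases hBE : B ≤ E
  · have : B = A ⊓ E := le_antisymm (le_inf h2 hBE) h1
    exact ⟨D0, hP.le, by rw [← this]; exact Nat.mul_le_mul_left _ (hP.a B)⟩
  obtain ⟨Y, hYE, hn, hc, hb⟩ := hY B h1 h2 hBE
  obtain ⟨y, hy, hyc, hbY, hff⟩ := repl hV hT hAT hET hA hE hmax h2 hYE hn hc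
  by_cases h3 : B ≤ cj y⁻¹ A
  swap
  · obtain ⟨D', i1, i2⟩ := ihB (B ⊓ cj y⁻¹ A) (inf_lt_left.mpr h3)
      (le_inf h1 fun d hd => by
        rw [← conj_eq hE (inv_mem (hYE hy)) hd.2]; exact H22.conj_mem_cj hd.1)
      (inf_le_left.trans h2) D0 Φ c hP
    refine ⟨D', i1, le_trans ?_ (i2.trans (Nat.mul_le_mul_left _ (hP.b _ _ inf_le_left)))⟩
    exact Nat.mul_le_mul_right _ (Nat.mul_le_mul_right _ hff)
  have hA' : ∀ b ∈ B, ⁅y, b⁆ ∈ A := fun b hb' => by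
    have := H22.mem_cj.mp (h3 hb')
    rw [inv_inv] at this
    exact mul_mem this (inv_mem (h2 hb'))
  by_cases h0 : ∃ b ∈ B, ⁅y, b⁆ ∉ D0
  · obtain ⟨B', i1, i2, i3⟩ := hP.c B h1 h2 y (hYE hy)
      (fun b hb' => ⟨hA' b hb', hYE (hbY b hb')⟩) h0
    obtain ⟨D', j1, j2⟩ := ihB B' i2 i1 (i2.le.trans h2) D0 Φ c hP
    refine ⟨D', j1, ?_⟩
    calc ff φ B * ff φ D0 * c ≤ (B'.relIndex B ^ 2 * ff φ B') * ff φ D0 * c :=
          Nat.mul_le_mul_right _ (Nat.mul_le_mul_right _ (ff_le i2.le))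
      _ = B'.relIndex B ^ 2 * (ff φ B' * ff φ D0 * c) := by ring
      _ ≤ B'.relIndex B ^ 2 * (ff φ (A ⊓ E) * ff φ D' * Φ B') := Nat.mul_le_mul_left _ j2
      _ = ff φ (A ⊓ E) * ff φ D' * (B'.relIndex B ^ 2 * Φ B') := by ring
      _ ≤ _ := Nat.mul_le_mul_left _ i3
  push Not at h0
  obtain ⟨b, hb', hne⟩ : ∃ b ∈ B, ⁅y, b⁆ ≠ 1 := by
    by_contra hcon
    push Not at hcon
    exact hyc fun b hb' => (commutatorElement_eq_one_iff_mul_comm.mp (hcon b hb')).symm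
  obtain ⟨e, n, he, hhe⟩ := hb _ ⟨hbY b hb', hA' b hb'⟩ hne
  obtain ⟨D', j1, j2⟩ := ihD (D0 ⊓ e) (inf_lt_left.mpr fun h => hhe (h (h0 b hb'))) _ _
    (hP.step hV hφ hA hE he (h0 b hb') hhe)
  refine ⟨D', j1, Nat.le_of_mul_le_mul_right (c := (fx φ D0).relIndex (fx φ (core B e))) ?_
    (Nat.pos_of_ne_zero index_ne_zero_of_finite)⟩
  calc _ = ff φ B * c * (ff φ D0 * (fx φ D0).relIndex (fx φ (core B e))) := by ring
    _ ≤ ff φ B * c * (ff φ (D0 ⊓ e) * 4 ^ n) := Nat.mul_le_mul_left _ (last hA hP.le he h2)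
    _ = ff φ B * ff φ (D0 ⊓ e) * (c * 4 ^ n) := by ring
    _ ≤ _ := j2
    _ = _ := by ring

end XX

/-! ### SFX -/
theorem lemX {X : Type*} [Group X] [Finite X] {V : Type*} [Group V] [Finite V] {φ : X →* MulAut V}
    (hV : ∀ v : V, v * v = 1) (hφ : Function.Injective φ) {T A E : Subgroup X} (hT : IsPGroup 2 T)
    (hAT : A ≤ T) (hET : E ≤ T) (hA : Sq A) (hE : Sq E) (hn : A ≤ normalizer (E : Set X))
    (hmax : ∀ B ≤ T, Sq B → ff φ B ≤ ff φ A)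
    (hY : ∀ B, A ⊓ E ≤ B → B ≤ A → ¬ B ≤ E → ∃ Y ≤ E, A ≤ normalizer (Y : Set X) ∧
      ¬ B ≤ centralizer (Y : Set X) ∧ ∀ h ∈ Y ⊓ A, h ≠ 1 → ∃ e n, Blk A E e n ∧ h ∉ e) :
    ∃ D ≤ A ⊓ E, ff φ A ≤ ff φ D := by
  obtain ⟨D, h1, h2⟩ := XX.claim hV hφ hT hAT hET hA hE hmax hY A inf_le_left le_rfl (A ⊓ E)
    (fun _ => 1) 1 ⟨le_rfl, fun _ => le_rfl, fun _ _ _ => le_rfl,
      fun B _ _ y _ hc ⟨b, hb, h⟩ => absurd (hc b hb) h⟩
  refine ⟨D, h1, Nat.le_of_mul_le_mul_left (c := ff φ (A ⊓ E)) ?_ (ff_pos _)⟩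
  rw [mul_one, mul_one, mul_comm] at h2
  exact h2

end H20.SF
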