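import Mathlib
import Cfsg.Agent.H20.SF0
import Cfsg.Agent.H20.SFA
import Cfsg.Agent.H2.ZA2

set_option autoImplicit false
set_option linter.unusedVariables false
set_option linter.unusedSectionVars false

namespace H20.SF

open Cfsg Subgroup H12
open H22 (cj SylIn)

universe u

/-! ### SFZ2 -/
section SFZ2
variable {X : Type*} [Group X] [Finite X] {C L L' : Subgroup X}

namespace SzC
variable {F : Type} [Field F] [Fintype F] {K : H2.SZ.FD F} (Q : SzC K C L)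

theorem z2_zero : Q.u 0 0 = 1 := by
  have := Q.u_mul 0 0 0 0
  simp only [add_zero, mul_zero] at this
  exact mul_left_cancel (this.trans (mul_one _).symm)

theorem z2_mem (a b : F) : Q.u a b ∈ C ⊓ L := (Q.mem _).2 ⟨a, b, rfl⟩

theorem z2_sq (a b : F) : Q.u a b * Q.u a b = Q.u 0 (K.nm a) := by
  rw [Q.u_mul]
  congr 1
  · exact K.add_self a
  · rw [H2.SZ.FD.nm]; linear_combination b * K.two

theorem z2_zz (a b : F) : Q.u 0 a * Q.u 0 b = Q.u 0 (a + b) := by simp [Q.u_mul]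

theorem z2_zu (a b c : F) : Q.u 0 c * Q.u a b = Q.u a b * Q.u 0 c := by simp [Q.u_mul, add_comm]

theorem z2_zsq (b : F) : Q.u 0 b * Q.u 0 b = 1 := by rw [Q.z2_sq, K.nm_zero, Q.z2_zero]

theorem z2_conj (a b c d : F) :
    Q.u a b * Q.u c d * (Q.u a b)⁻¹ * (Q.u c d)⁻¹ = Q.u 0 (K.B a c) := by
  rw [mul_inv_eq_iff_eq_mul, mul_inv_eq_iff_eq_mul, Q.u_mul, Q.u_mul, Q.u_mul]
  congr 1
  · ring
  · rw [H2.SZ.FD.B, map_zero, zero_add]; linear_combination (- K.σ c * a) * K.two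

theorem z2_one {b : F} (h : Q.u 0 b = 1) : b = 0 := (Q.u_inj (h.trans Q.z2_zero.symm)).2

theorem z2_cent {b : F} (h : Q.u 0 b ∈ centralizer (L : Set X)) : b = 0 :=
  Q.z2_one (Q.cent _ (Q.z2_mem 0 b) h)

theorem z2_cm {k : X} (hk : k ∈ centralizer (L : Set X)) (a b : F) : Q.u a b * k = k * Q.u a b :=
  hk _ (Q.z2_mem a b).2

theorem z2_mul {k l : X} (hk : k ∈ centralizer (L : Set X)) (a b c d : F) :
    Q.u a b * k * (Q.u c d * l) = Q.u (a + c) (b + d + K.σ a * c) * (k * l) := by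
  rw [← Q.u_mul, mul_assoc, mul_assoc, ← mul_assoc k, ← Q.z2_cm hk, mul_assoc]

theorem z2_uniq {k l : X} (hk : k ∈ centralizer (L : Set X)) (hl : l ∈ centralizer (L : Set X))
    {a b c d : F} (h : Q.u a b * k = Q.u c d * l) : a = c ∧ b = d := by
  have e : (Q.u c d)⁻¹ * Q.u a b = l * k⁻¹ := by
    rw [inv_mul_eq_iff_eq_mul, ← mul_assoc, ← h, mul_inv_cancel_right]
  exact Q.u_inj (inv_mul_eq_one.1 (Q.cent _ (mul_mem (inv_mem (Q.z2_mem c d)) (Q.z2_mem a b))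
    (e ▸ mul_mem hl (inv_mem hk)))).symm

/-- `S C(L)` -/
def z2M : Subgroup X where
  carrier := {g | ∃ a b, ∃ k ∈ centralizer (L : Set X), g = Q.u a b * k}
  mul_mem' := by
    rintro _ _ ⟨a, b, k, hk, rfl⟩ ⟨c, d, l, hl, rfl⟩
    exact ⟨_, _, _, mul_mem hk hl, Q.z2_mul hk ..⟩
  one_mem' := ⟨0, 0, 1, one_mem _, by rw [Q.z2_zero, mul_one]⟩
  inv_mem' := by
    rintro _ ⟨a, b, k, hk, rfl⟩
    obtain ⟨c, d, e⟩ := (Q.mem _).1 (inv_mem (Q.z2_mem a b))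
    exact ⟨c, d, _, inv_mem hk, by rw [mul_inv_rev, e, Q.z2_cm (inv_mem hk)]⟩

theorem z2_inv {g : X} (h : g ∈ Q.z2M) (h2 : g * g = 1) :
    ∃ b, ∃ k ∈ centralizer (L : Set X), g = Q.u 0 b * k := by
  obtain ⟨a, b, k, hk, rfl⟩ := h
  rw [Q.z2_mul hk, ← Q.u_mul, Q.z2_sq, ← mul_one 1, ← Q.z2_zero, Q.z2_zero] at h2
  have := (Q.z2_uniq (mul_mem hk hk) (one_mem _) (h2.trans (by rw [Q.z2_zero] :
    _ = Q.u 0 0 * 1))).2
  rw [K.nm_eq_zero.1 this]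
  exact ⟨b, k, hk, rfl⟩

theorem z2_ZL {g : X} : g ∈ ZL C L ↔ ∃ b, g = Q.u 0 b := by
  refine ⟨fun h => ?_, fun ⟨b, e⟩ => subset_closure ⟨e ▸ Q.z2_mem 0 b, e ▸ Q.z2_zsq b⟩⟩
  induction h using closure_induction with
  | mem x hx =>
    obtain ⟨a, b, rfl⟩ := (Q.mem x).1 hx.1
    have := hx.2
    rw [Q.z2_sq] at this
    rw [K.nm_eq_zero.1 (Q.z2_one this)]
    exact ⟨b, rfl⟩
  | one => exact ⟨0, Q.z2_zero.symm⟩
  | mul x y _ _ hx hy =>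
    obtain ⟨a, rfl⟩ := hx
    obtain ⟨b, rfl⟩ := hy
    exact ⟨_, Q.z2_zz a b⟩
  | inv x _ hx =>
    obtain ⟨a, rfl⟩ := hx
    exact ⟨a, inv_eq_of_mul_eq_one_right (Q.z2_zsq a)⟩

/-- conjugate coordinates -/
def z2cj {g : X} (hg : g ∈ normalizer (C : Set X)) : SzC K C (cj g L) where
  u a b := g * Q.u a b * g⁻¹
  u_mul a b c d := by rw [← Q.u_mul]; group
  u_inj h := Q.u_inj (by simpa using h)
  mem x := by
    rw [show C ⊓ cj g L = cj g (C ⊓ L) by rw [H22.cj_inf, H22.cj_eq_iff.2 hg], H22.mem_cj, Q.mem]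
    exact exists₂_congr fun a b => ⟨fun e => by rw [← e]; group, fun e => by rw [e]; group⟩
  cent x hx hc := by
    rw [← H22.cj_eq_iff.2 hg, ← H22.cj_inf, H22.mem_cj] at hx
    rw [← H22.cj_centralizer, H22.mem_cj] at hc
    have := Q.cent _ hx hc
    rwa [mul_assoc, inv_mul_eq_one, right_eq_mul] at this
  perm c hc := by
    have e : cj c (cj g L) = cj g (cj (g⁻¹ * c * g) L) := by
      rw [← H22.cj_mul, ← H22.cj_mul]; congr 1; group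
    rw [e, ← H22.cj_centralizer, H22.cj_le_cj_iff]
    exact (Q.perm _ (H22.conj_mem_of_mem_normalizer' hg hc)).imp_left fun h => by rw [h]
  aut c hc h := by
    have e : cj c (cj g L) = cj g (cj (g⁻¹ * c * g) L) := by
      rw [← H22.cj_mul, ← H22.cj_mul]; congr 1; group
    obtain ⟨a, b, k, hk, l⟩ := Q.aut _ (H22.conj_mem_of_mem_normalizer' hg hc)
      (H22.cj_injective g (e.symm.trans h))
    refine ⟨a, b, g * k * g⁻¹, by rw [← H22.cj_centralizer]; exact H22.conj_mem_cj hk, ?_⟩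
    calc c = g * (g⁻¹ * c * g) * g⁻¹ := by group
      _ = _ := by rw [l]; group
  inv b hb := (Q.inv b hb).cj g

variable {F' : Type} [Field F'] [Fintype F'] {K' : H2.SZ.FD F'} (Q' : SzC K' C L')
include Q Q'

theorem z2_s0 : C ⊓ L' ≤ normalizer (L : Set X) := fun s hs => by
  refine H22.cj_eq_iff.1 ((Q.perm s hs.1).resolve_right fun h => ?_)
  have m : ∀ c ∈ C, ∀ r ∈ C ⊓ L', c * r * c⁻¹ ∈ Q'.z2M := fun c hc r hr => by
    rcases Q'.perm c hc with e | e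
    · obtain ⟨a, b, k⟩ := (Q'.mem _).1
        (mem_inf.2 ⟨mul_mem (mul_mem hc hr.1) (inv_mem hc), e ▸ H22.conj_mem_cj (g := c) hr.2⟩)
      exact ⟨a, b, 1, one_mem _, by rw [k, mul_one]⟩
    · exact ⟨0, 0, _, e (H22.conj_mem_cj hr.2), by rw [Q'.z2_zero, one_mul]⟩
  obtain ⟨y, y0, y1, -⟩ := K.exists_ne 0 1 1
  have n : K.B 1 y ≠ 0 := fun e => by
    rcases K.B_eq_zero e with e | e | e
    exacts [one_ne_zero e, y0 e, y1 e.symm]
  have k := Q.z2_conj 1 0 y 0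
  have ha := Q.z2_mem 1 0
  have hb := Q.z2_mem y 0
  generalize Q.u 1 0 = a at k ha
  generalize Q.u y 0 = b at k hb
  have c := h (H22.conj_mem_cj (g := s) (inv_mem ha.2)) b hb.2
  obtain ⟨d, l, hl, e⟩ := Q'.z2_inv (g := Q.u 0 (K.B 1 y)) (by
    rw [← k, show a * b * a⁻¹ * b⁻¹ = a * (s * a⁻¹ * s⁻¹ * b) * (s * a⁻¹ * s⁻¹)⁻¹ * a⁻¹ * b⁻¹ by
      rw [← c]; group, show a * (s * a⁻¹ * s⁻¹ * b) * (s * a⁻¹ * s⁻¹)⁻¹ * a⁻¹ * b⁻¹ =
        a * s * a⁻¹ * (1 * s⁻¹ * 1⁻¹) * (b * s * b⁻¹) * (b * a * s⁻¹ * (b * a)⁻¹) by group]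
    exact mul_mem (mul_mem (mul_mem (m a ha.1 s hs) (m 1 (one_mem _) _ (inv_mem hs))) (m b hb.1 s hs))
      (m _ (mul_mem hb.1 ha.1) _ (inv_mem hs))) (Q.z2_zsq _)
  obtain ⟨p, q, rfl⟩ := (Q'.mem s).1 hs
  have := h (H22.conj_mem_cj (g := Q'.u p q) (Q.z2_mem 0 (K.B 1 y)).2)
  rw [show Q'.u p q * Q.u 0 (K.B 1 y) = Q.u 0 (K.B 1 y) * Q'.u p q by
    rw [e, ← mul_assoc, ← Q'.z2_zu, mul_assoc, Q'.z2_cm hl, mul_assoc], mul_inv_cancel_right] at this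
  exact n (Q.z2_cent this)

theorem z2_le : C ⊓ L' ≤ Q.z2M := fun s hs => Q.aut s hs.1 (H22.cj_eq_iff.2 (Q.z2_s0 Q' hs))

theorem z2_alpha : ∃ α : F' →+ F, ∀ a b, ∃ d, ∃ k ∈ centralizer (L : Set X),
    Q'.u a b = Q.u (α a) d * k := by
  choose α β k hk e using fun a b => Q.z2_le Q' (Q'.z2_mem a b)
  have h0 : ∀ b, α 0 b = 0 := fun b => by
    obtain ⟨d, l, hl, h⟩ := Q.z2_inv (Q.z2_le Q' (Q'.z2_mem 0 b)) (Q'.z2_zsq b)
    exact (Q.z2_uniq (hk 0 b) hl ((e 0 b).symm.trans h)).1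
  have h1 : ∀ a b c d, α (a + c) (b + d + K'.σ a * c) = α a b + α c d := fun a b c d => by
    have := Q'.u_mul a b c d
    rw [e a b, e c d, e (a + c), Q.z2_mul (hk a b)] at this
    exact (Q.z2_uniq (mul_mem (hk a b) (hk c d)) (hk _ _) this).1.symm
  have h2 : ∀ a b, α a b = α a 0 := fun a b => by simpa [h0] using h1 a 0 0 b
  exact ⟨AddMonoidHom.mk' (fun a => α a 0) fun a c => by
    change α (a + c) 0 = α a 0 + α c 0
    rw [← h1, h2 _ (_ + _)], fun a b => ⟨β a b, k a b, hk a b, (e a b).trans (by rw [h2]; rfl)⟩⟩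

end SzC

theorem z2_inj {F F' : Type} [Field F] [Fintype F] [Field F'] [Fintype F'] (K : H2.SZ.FD F)
    (K' : H2.SZ.FD F') (α : F' →+ F) (α' : F →+ F')
    (h : ∀ x a, K.B x (α a) = 0 ↔ K'.B (α' x) a = 0) {a0 : F'} (h0 : α a0 ≠ 0) :
    Function.Injective α' := by
  classical
  refine (injective_iff_map_eq_zero α').2 fun x hx => by_contra fun n => ?_
  have k : ∀ a, α a = 0 ∨ α a = x := fun a => by
    rcases K.B_eq_zero ((h x a).2 (by rw [hx, K'.B_zero_left])) with e | e | e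
    exacts [absurd e n, .inl e, .inr e.symm]
  obtain ⟨t, t0, t1, -⟩ := K.exists_ne 0 x x
  have t2 : α' t ≠ 0 := fun e => by
    have := (h t a0).2 (by rw [e, K'.B_zero_left])
    rw [(k a0).resolve_left h0] at this
    rcases K.B_eq_zero this with e | e | e
    exacts [t0 e, n e, t1 e]
  have k2 : ∀ a, a ≠ 0 → a ≠ α' t → α a = x := fun a a1 a2 => (k a).resolve_left fun e => by
    rcases K'.B_eq_zero ((h t a).1 (by rw [e, K.B_zero_right])) with e | e | e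
    exacts [t2 e, a1 e, a2 e.symm]
  obtain ⟨r, r0, r1, -⟩ := K'.exists_ne 0 (α' t) 0
  obtain ⟨s, hs⟩ : ∃ s, s ∉ ({0, α' t, r, r + α' t} : Finset F') := by
    by_contra! hc
    have := (Finset.card_le_card fun s (_ : s ∈ Finset.univ) => hc s).trans Finset.card_le_four
    have := K'.eight_le
    rw [Finset.card_univ] at *
    omega
  simp only [Finset.mem_insert, Finset.mem_singleton, not_or] at hs
  have := k2 (r + s) (fun e => hs.2.2.1 (K'.eq_of_add e).symm) fun e => hs.2.2.2 (by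
    rw [← e, ← add_assoc, K'.add_self, zero_add])
  rw [map_add, k2 r r0 r1, k2 s hs.1 hs.2.1, K.add_self] at this
  exact n this.symm

theorem SzB.mem_ZL (h : SzB C L) {g : X} : g ∈ ZL C L ↔ g ∈ C ⊓ L ∧ g * g = 1 := by
  obtain ⟨F, _, _, K, ⟨Q⟩⟩ := h
  refine ⟨fun h => ?_, fun h => subset_closure h⟩
  obtain ⟨b, rfl⟩ := Q.z2_ZL.1 h
  exact ⟨Q.z2_mem 0 b, Q.z2_zsq b⟩
theorem ZL_le (C L : Subgroup X) : ZL C L ≤ C ⊓ L := (closure_le _).2 fun _ h => h.1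
theorem cj_ZL {g : X} (hg : g ∈ normalizer (C : Set X)) (L : Subgroup X) :
    cj g (ZL C L) = ZL C (cj g L) := by
  rw [ZL, ZL, H22.cj_closure]
  congr 1
  ext x
  conv_rhs => rw [← H22.cj_eq_iff.2 hg, ← H22.cj_inf]
  constructor
  · rintro ⟨y, hy, rfl⟩
    exact ⟨H22.conj_mem_cj hy.1, by simp [hy.2]⟩
  · rintro ⟨h1, h2⟩
    exact ⟨g⁻¹ * x * g, ⟨H22.mem_cj.1 h1, by simp [mul_assoc, ← mul_assoc x x, h2]⟩, by group⟩
theorem SzB.cj (h : SzB C L) {g : X} (hg : g ∈ normalizer (C : Set X)) : SzB C (cj g L) := by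
  obtain ⟨F, _, _, K, ⟨Q⟩⟩ := h
  exact ⟨F, _, _, K, ⟨Q.z2cj hg⟩⟩
theorem SzB.eq_one (h : SzB C L) {g : X} (hg : g ∈ ZL C L) (hc : g ∈ centralizer (L : Set X)) :
    g = 1 := by
  obtain ⟨F, _, _, K, ⟨Q⟩⟩ := h
  exact Q.cent g (ZL_le C L hg) hc
theorem SzB.data (h : SzB C L) : ∃ n, 1 ≤ n ∧ Nat.card (ZL C L) = 2 ^ n ∧
    ∀ z ∈ ZL C L, z ≠ 1 → InvIn L n z := by
  obtain ⟨F, _, _, K, ⟨Q⟩⟩ := h
  refine ⟨2 * K.m + 1, by omega, ?_, fun z hz n => ?_⟩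
  · rw [← K.card, ← Nat.card_eq_fintype_card]
    refine (Nat.card_eq_of_bijective (fun b => (⟨Q.u 0 b, Q.z2_ZL.2 ⟨b, rfl⟩⟩ : ZL C L))
      ⟨fun a b e => (Q.u_inj (congrArg Subtype.val e)).2, fun z => ?_⟩).symm
    obtain ⟨b, e⟩ := Q.z2_ZL.1 z.2
    exact ⟨b, Subtype.ext e.symm⟩
  · obtain ⟨b, rfl⟩ := Q.z2_ZL.1 hz
    exact Q.inv b fun e => n (e ▸ Q.z2_zero)
theorem SzB.dec (h : SzB C L) {x : X} (hx : x ∈ C) (h2 : x * x = 1)
    (hc : x ∈ centralizer (ZL C L : Set X)) : ∃ z ∈ ZL C L, z * x ∈ centralizer (L : Set X) := by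
  obtain ⟨F, _, _, K, ⟨Q⟩⟩ := h
  obtain ⟨b, k, hk, rfl⟩ := Q.z2_inv (Q.aut x hx ((Q.perm x hx).resolve_right fun h => by
    have := h (H22.conj_mem_cj (g := x) (Q.z2_mem 0 1).2)
    rw [← hc _ (Q.z2_ZL.2 ⟨1, rfl⟩), mul_inv_cancel_right] at this
    exact one_ne_zero (Q.z2_cent this))) h2
  exact ⟨_, Q.z2_ZL.2 ⟨b, rfl⟩, by rwa [← mul_assoc, Q.z2_zsq, one_mul]⟩
theorem SzB.s0 (h : SzB C L) (h' : SzB C L') : C ⊓ L' ≤ normalizer (L : Set X) := by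
  obtain ⟨F, _, _, K, ⟨Q⟩⟩ := h
  obtain ⟨F', _, _, K', ⟨Q'⟩⟩ := h'
  exact Q.z2_s0 Q'
theorem SzB.s1 (h : SzB C L) (h' : SzB C L') :
    ZL C L' = ZL C L ∨ ZL C L' ≤ centralizer (L : Set X) := by
  have m := @h.mem_ZL
  have m' := @h'.mem_ZL
  obtain ⟨F, _, _, K, ⟨Q⟩⟩ := h
  obtain ⟨F', _, _, K', ⟨Q'⟩⟩ := h'
  obtain ⟨α, ha⟩ := Q.z2_alpha Q'
  obtain ⟨α', ha'⟩ := Q'.z2_alpha Q
  refine or_iff_not_imp_right.2 fun n => ?_
  obtain ⟨a0, h0⟩ : ∃ a, α a ≠ 0 := by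
    by_contra! hc
    refine n fun z hz => ?_
    obtain ⟨b, rfl⟩ := Q'.z2_ZL.1 hz
    obtain ⟨a, rfl⟩ := K'.nm_surj b
    obtain ⟨d, k, hk, e⟩ := ha a 0
    rw [← Q'.z2_sq a 0, e, hc, Q.z2_mul hk, ← Q.u_mul, Q.z2_zsq, one_mul]
    exact mul_mem hk hk
  have e : ∀ x a, Q.u 0 (K.B x (α a)) = Q'.u 0 (K'.B (α' x) a) := fun x a => by
    obtain ⟨d, k, hk, e⟩ := ha a 0
    obtain ⟨d', k', hk', e'⟩ := ha' x 0
    rw [← Q.z2_conj x 0 _ d, ← Q'.z2_conj _ d' a 0]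
    calc _ = Q.u x 0 * Q'.u a 0 * (Q.u x 0)⁻¹ * (Q'.u a 0)⁻¹ := by
          rw [e, mul_inv_rev, ← mul_assoc (Q.u x 0), mul_assoc _ k, ← hk _ (inv_mem (Q.z2_mem x 0).2)]
          group
      _ = _ := by
          rw [e', mul_assoc _ k', ← Q'.z2_cm hk']
          group
  have r : ∀ x a, K.B x (α a) = 0 ↔ K'.B (α' x) a = 0 := fun x a =>
    ⟨fun h => Q'.z2_one (by rw [← e, h, Q.z2_zero]), fun h => Q.z2_one (by rw [e, h, Q'.z2_zero])⟩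
  have i1 := z2_inj K K' α α' r h0
  have i2 := z2_inj K' K α' α (fun x a => by rw [K.B_comm, K'.B_comm, r]) (a0 := 1)
    fun h => one_ne_zero (i1 (h.trans (map_zero _).symm))
  have s1 := (Finite.injective_iff_surjective.1 (i1.comp i2)).of_comp
  have s2 := (Finite.injective_iff_surjective.1 (i2.comp i1)).of_comp
  have sB : ∀ {F : Type} [Field F] [Fintype F] (K : H2.SZ.FD F) (w : F), ∃ x y, K.B x y = w :=
    fun K w => by
      by_cases h : w = 0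
      · exact ⟨0, 0, h ▸ K.B_self 0⟩
      obtain ⟨y, y0, y1, -⟩ := K.exists_ne 0 1 1
      obtain ⟨k, hk⟩ := K.exists_nm (a := K.B 1 y) (fun e => by
        rcases K.B_eq_zero e with e | e | e
        exacts [one_ne_zero e, y0 e, y1 e.symm]) h
      exact ⟨_, _, (K.B_mul k 1 y).trans hk⟩
  refine le_antisymm (fun z hz => ?_) fun z hz => ?_
  · obtain ⟨b, rfl⟩ := Q'.z2_ZL.1 hz
    obtain ⟨x, a, rfl⟩ := sB K' b
    obtain ⟨x, rfl⟩ := s1 x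
    exact Q.z2_ZL.2 ⟨_, (e x a).symm⟩
  · obtain ⟨b, rfl⟩ := Q.z2_ZL.1 hz
    obtain ⟨x, a, rfl⟩ := sB K b
    obtain ⟨a, rfl⟩ := s2 a
    exact Q'.z2_ZL.2 ⟨_, e x a⟩
theorem SzB.s2 (h : SzB C L) {g : X} (hg : g ∈ normalizer (C : Set X)) (h2 : g * g = 1)
    (hZ : g ∈ normalizer (ZL C L : Set X)) : g ∈ centralizer (ZL C L : Set X) := by
  obtain ⟨F, _, _, K, ⟨Q⟩⟩ := h
  obtain ⟨α, ha⟩ := Q.z2_alpha (Q.z2cj hg)
  choose β hb using fun b => Q.z2_ZL.1 (H22.conj_mem_of_mem_normalizer hZ (Q.z2_ZL.2 ⟨b, rfl⟩))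
  have k : ∀ a, β (K.nm a) = K.nm (α a) := fun a => by
    obtain ⟨d, k, hk, e⟩ := ha a 0
    have := (Q.z2cj hg).z2_sq a 0
    rw [e, Q.z2_mul hk, ← Q.u_mul, Q.z2_sq] at this
    exact (Q.z2_uniq (mul_mem hk hk) (one_mem _) (this.trans ((hb _).trans (mul_one _).symm))).2.symm
  have bb : ∀ b, β (β b) = b := fun b => (Q.u_inj (by
    rw [← hb, ← hb, inv_eq_of_mul_eq_one_right h2, ← mul_assoc, ← mul_assoc, h2, one_mul, mul_assoc, h2,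
      mul_one])).2
  have := K.two_fix α (AddMonoidHom.mk' β fun a b => (Q.u_inj (by
    rw [← hb, ← Q.z2_zz, ← Q.z2_zz, ← hb, ← hb]; group)).2) k 1 fun a => K.nm_inj (by
      change K.nm (α (α a)) = _
      rw [← k, ← k, bb])
  intro z hz
  obtain ⟨b, rfl⟩ := Q.z2_ZL.1 hz
  obtain ⟨a, rfl⟩ := K.nm_surj b
  rw [eq_comm, ← mul_inv_eq_iff_eq_mul, hb, k, this]
end SFZ2

end H20.SF
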