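import Mathlib
import Cfsg.Agent.H20.SF0
import Cfsg.Agent.H20.SFZ2

/-! The subgroup `YS C` and the blocks of Suzuki type. -/

set_option autoImplicit false
set_option linter.unusedVariables false
set_option linter.unusedSectionVars false

namespace H20.SF

open Cfsg Subgroup H12
open H22 (cj SylIn)

universe u

/-! ### SFZ3 -/
section SFZ3
variable {X : Type*} [Group X] [Finite X] {C L A E : Subgroup X}

theorem z3_cen (C L : Subgroup X) : centralizer (L : Set X) ≤ centralizer (ZL C L : Set X) :=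
  centralizer_le fun _ h => (ZL_le C L h).2
theorem z3_sq (h : SzB C L) : Sq (ZL C L) := fun _ hx => (h.mem_ZL.1 hx).2
theorem z3_le (h : SzB C L) : ZL C L ≤ YS C := le_iSup (fun L : {L // SzB C L} => ZL C L.1) ⟨L, h⟩

theorem z3_two {B B0 : Subgroup X} (hB : Sq B) (h0 : B0 ≤ B) {β : X} (hβ : β ∈ B) (h1 : β ∉ B0) :
    ∃ B', B0 ≤ B' ∧ B' < B ∧ β ∉ B' ∧ B'.relIndex B ≤ 2 := by
  obtain ⟨B', ⟨h2, h3, h4⟩, hm⟩ := exists_maximal_of_wellFoundedGT
    (fun B' : Subgroup X => B0 ≤ B' ∧ B' ≤ B ∧ β ∉ B') ⟨B0, le_rfl, h0, h1⟩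
  refine ⟨B', h2, lt_of_le_of_ne h3 fun e => h4 (e ▸ hβ), h4, le_of_eq
    (relIndex_eq_two_iff.2 ⟨β, hβ, fun γ hγ => ?_⟩)⟩
  by_cases hγ' : γ ∈ B'
  · exact .inr ⟨hγ', fun e => h4 ((mul_mem_cancel_left hγ').1 e)⟩
  refine .inl ⟨?_, hγ'⟩
  have l : zpowers γ ≤ B := zpowers_le.2 hγ
  by_contra hn
  refine hγ' (hm ⟨le_sup_of_le_left h2, sup_le h3 l, fun e => ?_⟩ le_sup_left
    (mem_sup_right (mem_zpowers γ)))
  obtain ⟨b, hb, c, ⟨i, rfl⟩, e⟩ := (H22.mem_sup_of_le_normalizer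
    ((h3.trans (hB.le_cent l)).trans (centralizer_le_normalizer _))).1 e
  have e2 : γ ^ (2 : ℤ) = 1 := by rw [zpow_two, hB γ hγ]
  rcases Int.even_or_odd' i with ⟨j, rfl | rfl⟩
  · simp only [zpow_mul, e2, one_zpow, mul_one] at e
    exact h4 (e ▸ hb)
  · simp only [zpow_add, zpow_mul, e2, one_zpow, one_mul, zpow_one] at e
    exact hn (by rwa [hB.comm hγ hβ, ← e, mul_assoc, hB γ hγ, mul_one])

theorem YS_le (C : Subgroup X) : YS C ≤ C := iSup_le fun L => (ZL_le C L.1).trans inf_le_left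
theorem sq_YS (C : Subgroup X) : Sq (YS C) := by
  have c : YS C ≤ centralizer (YS C : Set X) := iSup_le fun L => le_centralizer_iff.1 <|
    iSup_le fun L' => (L.2.s1 L'.2).elim (fun e => e ▸ (z3_sq L.2).le_cent le_rfl)
      fun e => e.trans (z3_cen C L.1)
  intro x hx
  induction hx using iSup_induction' with
  | hp L x hx => exact z3_sq L.2 x hx
  | h1 => exact mul_one 1
  | hmul x y hx hy h1 h2 =>
    rw [mul_assoc, ← mul_assoc y, c hx y hy, mul_assoc, h2, mul_one, h1]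
theorem norm_YS (C : Subgroup X) : normalizer (C : Set X) ≤ normalizer (YS C : Set X) :=
  fun g hg => H22.cj_eq_iff.1 (H22.cj_eq_of_le (H22.cj_le_iff_le_cj_inv.2 (iSup_le fun L =>
    H22.cj_le_iff_le_cj_inv.1 (by rw [cj_ZL hg]; exact z3_le (L.2.cj hg)))))
theorem YS_sep {h : X} (hh : h ∈ YS C) (h1 : h ≠ 1) :
    ∃ L, SzB C L ∧ h ∉ centralizer (L : Set X) := by
  by_contra hn
  have k : ∀ s : Set (Subgroup X), s.Finite → (∀ Z ∈ s, ∃ L, SzB C L ∧ Z = ZL C L) →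
      h ∉ sSup s := fun s hs => by
    induction s, hs using Set.Finite.induction_on with
    | empty => simpa using h1
    | @insert Z s hZ _ ih =>
      intro H e
      obtain ⟨L, hL, rfl⟩ := H Z (.inl rfl)
      have c : sSup s ≤ centralizer (L : Set X) := sSup_le fun Z hs => by
        obtain ⟨L', hL', rfl⟩ := H Z (.inr hs)
        exact (hL.s1 hL').resolve_left fun e => hZ (e ▸ hs)
      rw [sSup_insert, sup_comm] at e
      obtain ⟨a, ha, z, hz, rfl⟩ := (H22.mem_sup_of_le_normalizer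
        ((c.trans (z3_cen C L)).trans (centralizer_le_normalizer _))).1 e
      refine ih (fun Z hs => H Z (.inr hs)) ?_
      rwa [hL.eq_one hz ((mul_mem_cancel_left (c ha)).1 (not_not.1 fun e => hn ⟨L, hL, e⟩)), mul_one]
  exact k _ (Set.toFinite _) (by rintro _ ⟨L, rfl⟩; exact ⟨L.1, L.2, rfl⟩) hh
theorem SzB.blk (h : SzB C L) (hA : Sq A) (hE : Sq E) (hAC : A ≤ normalizer (C : Set X))
    (hAE : A ≤ normalizer (E : Set X)) (h1 : YS C ≤ E) (h2 : E ≤ C) :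
    ∃ n, Blk A E (E ⊓ centralizer (L : Set X)) n := by
  obtain ⟨n, n1, hc, hi⟩ := h.data
  have hZ : ZL C L ≤ E := (z3_le h).trans h1
  have d : ∀ y ∈ E, ∃ z ∈ ZL C L, z * y ∈ E ⊓ centralizer (L : Set X) := fun y hy => by
    obtain ⟨z, hz, e⟩ := h.dec (h2 hy) (hE y hy) (hE.le_cent hZ hy)
    exact ⟨z, hz, mul_mem (hZ hz) hy, e⟩
  refine ⟨n, inf_le_left, n1, ?_, fun x hx hx' => ?_, fun B hB hB' => ?_⟩
  · refine (relIndex_le_of_le_right inf_le_right FiniteIndex.index_ne_zero).trans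
      (hc ▸ Nat.card_le_card_of_surjective (fun z : ZL C L => ((⟨z, hZ z.2⟩ : E) :
        E ⧸ (E ⊓ centralizer (L : Set X)).subgroupOf E)) fun y => ?_)
    obtain ⟨y, rfl⟩ := QuotientGroup.mk_surjective y
    obtain ⟨z, hz, e⟩ := d y y.2
    exact ⟨⟨z⁻¹, inv_mem hz⟩, QuotientGroup.eq.2 (by simpa [mem_subgroupOf] using e.2)⟩
  · obtain ⟨z, hz, e⟩ := d x hx.2
    have := (hi z hz fun e' => hx' (by rwa [e', one_mul] at e)).mul e.2
    rw [← mul_assoc, hE z (hZ hz), one_mul] at this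
    exact this.mono (le_centralizer_iff.1 inf_le_right)
  by_cases hn : B ≤ normalizer (ZL C L : Set X)
  · refine .inl fun y hy => ?_
    obtain ⟨z, hz, e⟩ := d y hy
    refine ⟨_, e, fun β hβ => ?_⟩
    rw [mul_assoc z, hE y hy, mul_one]
    exact (h.s2 (hAC (hB' hβ)) (hA β (hB' hβ)) (hn hβ) z hz).symm
  obtain ⟨β, hβ, hβ'⟩ := SetLike.not_le_iff_exists.1 hn
  obtain ⟨B', l1, l2, l3, l4⟩ := z3_two (hA.mono hB') (B0 := B ⊓ normalizer (ZL C L : Set X))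
    inf_le_left hβ fun e => hβ' e.2
  refine .inr fun x hx hx' => ?_
  obtain ⟨z, hz, e⟩ := d x hx.2
  refine ⟨B', (le_inf hB (inf_le_right.trans ((hE.le_cent hZ).trans
    (centralizer_le_normalizer _)))).trans l1, l2, l4, β * z * β⁻¹, fun γ hγ => ?_, β, hβ, ?_⟩
  · have m : γ⁻¹ * β ∈ B := mul_mem (inv_mem (l2.le hγ)) hβ
    rw [H22.mem_cj, show γ⁻¹ * (β * z * β⁻¹) * γ = γ⁻¹ * β * z * (γ⁻¹ * β)⁻¹ by group]
    refine ⟨H22.conj_mem_of_mem_normalizer (hAE (hB' m)) (hZ hz), (h.s1 (h.cj (hAC (hB' m)))).resolve_left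
      (fun e => l3 ((mul_mem_cancel_left (inv_mem hγ)).1 (l1 ⟨m, H22.cj_eq_iff.1 ?_⟩))) ?_⟩
    · rw [cj_ZL (hAC (hB' m)), e]
    · rw [← cj_ZL (hAC (hB' m))]; exact H22.conj_mem_cj hz
  · rwa [H22.mem_cj, show β⁻¹ * (β * z * β⁻¹ * x) * β = z * (β⁻¹ * (x * β)) by group,
      hA.comm hx.1 (hB' hβ), inv_mul_cancel_left]
end SFZ3

end H20.SF
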