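import Mathlib
import Cfsg.Agent.H20.SF0
import Cfsg.Agent.H20.SFX
import Cfsg.Agent.H20.SFH
import Cfsg.Agent.H20.SFZc
import Cfsg.Agent.H20.SFZ3
import Cfsg.Agent.H20.SFM

set_option autoImplicit false
set_option linter.unusedVariables false
set_option linter.unusedSectionVars false
set_option linter.style.haveILetI false

namespace H20.SF

open Cfsg Subgroup H12
open H22 (cj SylIn)

universe u

/-! ### SFK -/
section
variable {X V : Type u} [Group X] [Finite X] [Group V] [Finite V] {φ : X →* MulAut V}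
  {T Y A : Subgroup X}

/-- maximal measure, and minimal order among those -/
structure Mx (φ : X →* MulAut V) (T A : Subgroup X) : Prop where
  le : A ≤ T
  sq : Sq A
  mx : ∀ B ≤ T, Sq B → ff φ B ≤ ff φ A
  mn : ∀ B ≤ T, Sq B → ff φ A ≤ ff φ B → Nat.card A ≤ Nat.card B

theorem exists_mx (φ : X →* MulAut V) (T : Subgroup X) : ∃ A, Mx φ T A := by
  obtain ⟨A₀, h₀, h₁⟩ := Set.exists_max_image {B : Subgroup X | B ≤ T ∧ Sq B} (ff φ)
    (Set.toFinite _) ⟨⊥, bot_le, fun a ha => by rw [mem_bot.1 ha, mul_one]⟩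
  obtain ⟨A, h₂, h₃⟩ := Set.exists_min_image {B : Subgroup X | (B ≤ T ∧ Sq B) ∧ ff φ A₀ ≤ ff φ B}
    (fun B => Nat.card B) (Set.toFinite _) ⟨A₀, h₀, le_rfl⟩
  exact ⟨A, h₂.1.1, h₂.1.2, fun B h1 h2 => (h₁ B ⟨h1, h2⟩).trans h₂.2,
    fun B h1 h2 h3 => h₃ B ⟨⟨h1, h2⟩, h₂.2.trans h3⟩⟩

theorem Mx.conj (h : Mx φ T A) {g : X} (hg : cj g A ≤ T) : Mx φ T (cj g A) :=
  ⟨hg, h.sq.cj g, fun B h1 h2 => (ff_cj (φ := φ) g A).symm ▸ h.mx B h1 h2,
    fun B h1 h2 h3 => (H22.card_cj g A).symm ▸ h.mn B h1 h2 (ff_cj (φ := φ) g A ▸ h3)⟩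

theorem Mx.eq (h : Mx φ T A) {D : Subgroup X} (hD : D ≤ A) (hf : ff φ A ≤ ff φ D) : D = A :=
  eq_of_le_of_card_ge hD (h.mn D (hD.trans h.le) (h.sq.mono hD) hf)

theorem Sq.sup {A B : Subgroup X} (hA : Sq A) (hB : Sq B) (h : A ≤ centralizer (B : Set X)) :
    Sq (A ⊔ B) := by
  intro x hx
  obtain ⟨a, ha, b, hb, rfl⟩ :=
    (H22.mem_sup_of_le_normalizer (H13.le_normalizer_of_le_centralizer h)).1 hx
  calc a * b * (a * b) = a * (b * a) * b := by group
    _ = (a * a) * (b * b) := by rw [h ha b hb]; group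
    _ = 1 := by rw [hA a ha, hB b hb, mul_one]

/-- the separation property for `Y` -/
def Sep (T Y : Subgroup X) : Prop :=
  ∀ h ∈ Y, h ≠ 1 → ∃ g ∈ normalizer (Y : Set X),
    g ∈ normalizer ((T ⊓ centralizer (Y : Set X) : Subgroup X) : Set X) ∧
      ∃ Q, Par T Q ∧ NT Q ∧ h ∉ centralizer (ok (cj g Q) : Set X)

theorem YD.nC (hY : YD T Y) :
    T ≤ normalizer ((T ⊓ centralizer (Y : Set X) : Subgroup X) : Set X) :=
  H13.le_normalizer_inf le_normalizer (H13.le_normalizer_centralizer hY.nm)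

theorem Mx.le_cent (hV : ∀ v : V, v * v = 1) (hφ : Function.Injective φ) (hT : IsPGroup 2 T)
    (hY : YD T Y) (hs : Sep T Y) (h : Mx φ T A) : A ≤ centralizer (Y : Set X) := by
  have hTC := hY.nC
  obtain ⟨C, hC⟩ : ∃ C, C = T ⊓ centralizer (Y : Set X) := ⟨_, rfl⟩
  rw [← hC] at hTC
  have hCT : C ≤ T := hC ▸ inf_le_left
  have hCY : C ≤ centralizer (Y : Set X) := hC ▸ inf_le_right
  have hYC : Y ≤ C := hC ▸ le_inf hY.le (hY.sq.le_cent le_rfl)
  have hW : Sq (Y ⊔ YS C) := hY.sq.sup (sq_YS C) (le_centralizer_symm ((YS_le C).trans hCY))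
  have hAW : A ≤ normalizer ((Y ⊔ YS C : Subgroup X) : Set X) :=
    H13.le_normalizer_sup (h.le.trans hY.nm) (h.le.trans (hTC.trans (norm_YS C)))
  obtain ⟨E, hE⟩ : ∃ E, E = A ⊓ centralizer ((Y ⊔ YS C : Subgroup X) : Set X) ⊔ (Y ⊔ YS C) :=
    ⟨_, rfl⟩
  have hE2 : Sq E := hE ▸ (h.sq.mono inf_le_left).sup hW inf_le_right
  have hEC : E ≤ C := hE ▸ sup_le (hC ▸ inf_le_inf h.le (H13.centralizer_anti le_sup_left))
    (sup_le hYC (YS_le C))
  have hYE : Y ≤ E := hE ▸ le_sup_left.trans le_sup_right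
  have hSE : YS C ≤ E := hE ▸ le_sup_right.trans le_sup_right
  have hAE : A ≤ normalizer (E : Set X) := hE ▸ H13.le_normalizer_sup
    (H13.le_normalizer_inf le_normalizer (H13.le_normalizer_centralizer hAW)) hAW
  have hsz : ∀ L, SzB C L → ∀ x : X, x ∉ centralizer (L : Set X) → ∃ e n, Blk A E e n ∧ x ∉ e :=
    fun L hL x hx => by
      obtain ⟨n, hn⟩ := hL.blk h.sq hE2 (h.le.trans hTC) hAE hSE hEC
      exact ⟨_, n, hn, fun hh => hx hh.2⟩
  obtain ⟨D, hD, hf⟩ := lemX hV hφ hT h.le (hEC.trans hCT) h.sq hE2 hAE h.mx (fun B h1 h2 h3 => by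
    by_cases hBY : B ≤ centralizer (Y : Set X)
    · refine ⟨YS C, hSE, h.le.trans (hTC.trans (norm_YS C)), fun hB => h3 ?_, fun x hx h1 => ?_⟩
      · rw [hE]
        refine le_sup_of_le_left (le_inf h2 ?_)
        rw [H23.centralizer_sup]
        exact le_inf hBY hB
      · obtain ⟨L, hL, hxL⟩ := YS_sep hx.1 h1
        exact hsz L hL x hxL
    refine ⟨Y, hYE, h.le.trans hY.nm, hBY, fun x hx h1 => ?_⟩
    obtain ⟨g, hg1, hg2, Q, hQ, hn, hxQ⟩ := hs x hx.1 h1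
    rw [← hC] at hg2
    have e1 := H22.cj_eq_iff.2 hg1
    have e2 := H22.cj_eq_iff.2 hg2
    have hCg : C ≤ cj g T := e2 ▸ H22.cj_mono hCT
    have hQg := hQ.cj g
    rcases otk hQg (hn.cj g) (hCg (hYC hx.1)) hxQ with ⟨R, r1, r2, r3, r4⟩ | ⟨L, l1, l2, l3⟩
    · obtain ⟨e, he⟩ := hb hQg.s3 r1 (hEC.trans (hCg.trans hQg.syl.le)) r2 hE2
        (hEC.trans (hCg.trans r3)) h.sq ⟨hx.2, hYE hx.1⟩ r4
      exact ⟨e, 1, he⟩
    · have := szB hQg.syl l1 l2 (hYC.trans hCg)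
        (by rw [← e1, ← H22.cj_normalizer]; exact H22.cj_mono hY.nm) hY.sq
        (e1 ▸ hY.two.cj hY.le g) fun hh => l3 (hh hx.1)
      rw [← e1, ← H22.cj_centralizer, ← H22.cj_inf, ← hC, e2] at this
      exact hsz L this x l3)
  rw [← h.eq (hD.trans inf_le_left) hf]
  exact hD.trans (inf_le_right.trans (hEC.trans hCY))

theorem Par.c1 (hY : YD T Y) {Q : Subgroup X} (hQ : Par T Q) (hm : MP T Q) (hn : ¬ NT Q) :
    ok Q ≤ centralizer (Y : Set X) ∨
      Q ≤ normalizer ((T ⊓ centralizer (Y : Set X) : Subgroup X) : Set X) := by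
  have h1 := ctype hY hQ hm hn
  rcases hm (Q ⊓ centralizer (Y : Set X)) inf_le_left
    (H13.le_normalizer_inf le_normalizer (H13.le_normalizer_centralizer h1)) with h | h
  · right
    have e : T ⊓ centralizer (Y : Set X) = H23.op 2 Q ⊓ centralizer (Y : Set X) :=
      le_antisymm (le_inf ((le_inf inf_le_left (inf_le_inf_right _ hQ.syl.le)).trans h) inf_le_right)
        (inf_le_inf_right _ hQ.op_le)
    rw [e]
    exact H13.le_normalizer_inf (H23.le_normalizer_op 2 le_normalizer)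
      (H13.le_normalizer_centralizer h1)
  · exact Or.inl (h.trans inf_le_right)

theorem Par.norm_of {Q R : Subgroup X} (hQ : Par T Q) (h1 : T ≤ normalizer (R : Set X))
    (h2 : ok Q ≤ centralizer (R : Set X)) : Q ≤ normalizer (R : Set X) :=
  hQ.le_sup.trans (sup_le h1 (h2.trans (centralizer_le_normalizer _)))

theorem sep_of (hY : YD T Y) (h0 : ∀ R ≤ T, T ≤ normalizer (R : Set X) →
    (∀ Q, Par T Q → MP T Q → Q ≤ normalizer (R : Set X)) → R = ⊥) : Sep T Y := by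
  have hTC := hY.nC
  unfold Sep
  have hc1 := fun Q => Par.c1 (Q := Q) hY
  generalize T ⊓ centralizer (Y : Set X) = C at *
  let R : Subgroup X :=
    { carrier := {h | h ∈ Y ∧ ∀ g ∈ normalizer (Y : Set X), g ∈ normalizer (C : Set X) →
        ∀ Q, Par T Q → NT Q → h ∈ centralizer (ok (cj g Q) : Set X)}
      one_mem' := ⟨one_mem _, fun _ _ _ _ _ _ => one_mem _⟩
      mul_mem' := fun ha hb => ⟨mul_mem ha.1 hb.1, fun g h1 h2 Q h3 h4 =>
        mul_mem (ha.2 g h1 h2 Q h3 h4) (hb.2 g h1 h2 Q h3 h4)⟩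
      inv_mem' := fun ha => ⟨inv_mem ha.1, fun g h1 h2 Q h3 h4 => inv_mem (ha.2 g h1 h2 Q h3 h4)⟩ }
  have hRY : R ≤ Y := fun x hx => hx.1
  have hM : ∀ m ∈ normalizer (Y : Set X), m ∈ normalizer (C : Set X) →
      m ∈ normalizer (R : Set X) := fun m h1 h2 =>
    H22.mem_normalizer_of_conj_mem fun x hx => ⟨H22.conj_mem_of_mem_normalizer h1 hx.1,
      fun g g1 g2 Q h3 h4 => by
        have := H22.conj_mem_cj (g := m)
          (hx.2 (m⁻¹ * g) (mul_mem (inv_mem h1) g1) (mul_mem (inv_mem h2) g2) Q h3 h4)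
        rwa [H22.cj_centralizer, ← ok_cj, ← H22.cj_mul, mul_inv_cancel_left] at this⟩
  have hTR : T ≤ normalizer (R : Set X) := fun t ht => hM t (hY.nm ht) (hTC ht)
  have hR := h0 R (hRY.trans hY.le) hTR fun Q hQ hm => by
    by_cases hn : NT Q
    · refine hQ.norm_of hTR (le_centralizer_symm fun x hx => ?_)
      have := hx.2 1 (one_mem _) (one_mem _) Q hQ hn
      rwa [H22.cj_one] at this
    rcases hc1 Q hQ hm hn with h | h
    · exact hQ.norm_of hTR (h.trans (H13.centralizer_anti hRY))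
    · exact fun q hq => hM q (ctype hY hQ hm hn hq) (h hq)
  intro x hx h1
  by_contra hh
  push Not at hh
  exact h1 (mem_bot.1 (hR ▸ (⟨hx, hh⟩ : x ∈ R)))

end

theorem claimG {X V : Type u} [Group X] [Finite X] [Group V] [Finite V] {φ : X →* MulAut V}
    (hV : ∀ v : V, v * v = 1) (hφ : Function.Injective φ) {T Y : Subgroup X} (hT : IsPGroup 2 T)
    (hY : YD T Y) {PP : Set (Subgroup X)} (hP : ∀ P ∈ PP, Par T P)
    (h0 : ∀ R ≤ T, T ≤ normalizer (R : Set X) → (∀ P ∈ PP, P ≤ normalizer (R : Set X)) → R = ⊥)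
    {A : Subgroup X} (hA : A ≤ T) (h2 : Sq A) : Nat.card A ^ 2 ≤ (fx φ A).index := by
  have h1 : ∀ R ≤ T, T ≤ normalizer (R : Set X) →
      (∀ Q, Par T Q → MP T Q → Q ≤ normalizer (R : Set X)) → R = ⊥ := fun R r1 r2 r3 =>
    h0 R r1 r2 fun P hPP => mp_gen (hP P hPP) fun Q _ => r3 Q
  have hV2 : IsPGroup 2 V := fun v => ⟨1, by rw [pow_one, pow_two, hV]⟩
  have hs := sep_of hY h1
  obtain ⟨J, hJ⟩ : ∃ J : Subgroup X, J = ⨆ B : {B // Mx φ T B}, B.1 := ⟨_, rfl⟩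
  have hJ1 : ∀ B, Mx φ T B → B ≤ J := fun B hB =>
    hJ ▸ le_iSup (fun B : {B // Mx φ T B} => B.1) ⟨B, hB⟩
  have hJ2 : ∀ W, (∀ B, Mx φ T B → B ≤ W) → J ≤ W := fun W hW => hJ ▸ iSup_le fun B => hW B.1 B.2
  have hJT : J ≤ T := hJ2 T fun B hB => hB.le
  have hJN : ∀ W ≤ T, J ≤ W → normalizer (W : Set X) ≤ normalizer (J : Set X) :=
    fun W w1 w2 g hg => H22.cj_eq_iff.1 (H22.cj_eq_of_le (H22.cj_le_iff_le_cj_inv.2
      (hJ2 _ fun B hB => H22.cj_le_iff_le_cj_inv.1 (hJ1 _ (hB.conj (((H22.cj_mono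
        ((hJ1 B hB).trans w2)).trans (H22.cj_eq_iff.2 hg).le).trans w1))))))
  have hTJ : T ≤ normalizer (J : Set X) := le_normalizer.trans (hJN T le_rfl hJT)
  have hJC : J ≤ T ⊓ centralizer (Y : Set X) :=
    le_inf hJT (hJ2 _ fun B hB => hB.le_cent hV hφ hT hY hs)
  have hTR : T ≤ normalizer ((Y ⊓ J : Subgroup X) : Set X) := H13.le_normalizer_inf hY.nm hTJ
  have hR := h1 (Y ⊓ J) (inf_le_left.trans hY.le) hTR fun Q hQ hm => by
    by_cases hn : NT Q
    · refine hQ.norm_of hTR (le_trans hn (H13.centralizer_anti (inf_le_right.trans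
        (hJ2 _ fun B hB => ?_))))
      rw [← hB.eq inf_le_left (ntype hV2 hφ hQ hn hB.le hB.sq)]
      exact inf_le_right
    rcases hQ.c1 hY hm hn with h | h
    · exact hQ.norm_of hTR (h.trans (H13.centralizer_anti inf_le_left))
    · exact H13.le_normalizer_inf (ctype hY hQ hm hn) (h.trans (hJN _ inf_le_left hJC))
  have hJ0 : J = ⊥ := by
    by_contra hne
    refine omega_ne_bot (p := 2) (hT.to_le (inf_le_left.trans hJT))
      (H2.inf_centralizer_ne_bot_of_isPGroup hT (hT.to_le hJT) hTJ hne)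
      (eq_bot_iff.2 (omega_le_iff.2 fun x hx h3 => ?_))
    rw [← hR]
    exact ⟨hY.om x (hJT hx.1) hx.2 (by rwa [pow_two] at h3), hx.1⟩
  obtain ⟨B, hB⟩ := exists_mx φ T
  have := hB.mx A hA h2
  rw [le_bot_iff.1 (show B ≤ ⊥ from hJ0 ▸ hJ1 B hB)] at this
  exact sq_le_index this

end H20.SF
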