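import Mathlib
import Cfsg.Agent.H20.SF0
import Cfsg.Agent.H18.SFS1

set_option autoImplicit false
set_option linter.unusedVariables false
set_option linter.unusedSectionVars false

namespace H20.SF

open Cfsg Subgroup H12
open H22 (cj SylIn)

universe u

/-! ### SFS -/
theorem s3f_of_s4 {G : Type*} [Group G] [Finite G]
    (h : ¬ ∃ (K R : Subgroup G) (hR : (R.subgroupOf K).Normal),
      Nonempty ((K ⧸ R.subgroupOf K) ≃* Equiv.Perm (Fin 4)))
    (hc : centralizer (pCore 2 G : Set G) ≤ pCore 2 G) : S3F G :=
  H18.SFS.s3f (fun e => h e.sec) hc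


end H20.SF
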