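import Mathlib
import Cfsg.Agent.H20.SF0
import Cfsg.Agent.H20.SFC
import Cfsg.Agent.H13.ZJApps

set_option autoImplicit false
set_option linter.unusedVariables false
set_option linter.unusedSectionVars false

namespace H20.SF

open Cfsg Subgroup H12
open H22 (cj SylIn)

universe u

/-! ### SFW1 -/
section SFW1
variable {S : Type u} [Group S]

theorem om_le_WS : omegaOne 2 (center S) ≤ WS S := le_sInf fun _ hW => hW.1
theorem WS_le {W : Subgroup S} (h1 : omegaOne 2 (center S) ≤ W)
    (h2 : ∀ (G : Type u) [Group G] [Finite G] (τ : S →* G), Emb τ → (W.map τ).Normal) :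
    WS S ≤ W := sInf_le ⟨h1, h2⟩

theorem w1_nrm {G : Type u} [Group G] {τ : S →* G} (hτ : Emb τ) :
    ((omegaCenterThompson 2 S).map τ).Normal := by
  have := hτ.nJ
  rw [map_thompsonSubgroup hτ.inj] at this
  rw [map_omegaCenterThompson hτ.inj, ← normalizer_eq_top_iff, eq_top_iff]
  exact (normalizer_eq_top _).ge.trans (normalizer_le_normalizer_omega_center _)

theorem w1_le [Finite S] : WS S ≤ omegaCenterThompson 2 S :=
  WS_le omega_center_le_omegaCenterThompson fun _ _ _ _ hτ => w1_nrm hτ

theorem normal_map_WS [Finite S] {G : Type u} [Group G] [Finite G] {τ : S →* G} (hτ : Emb τ) :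
    ((WS S).map τ).Normal := by
  constructor
  rintro _ ⟨x, hx, rfl⟩ h
  obtain ⟨y, -, hy⟩ := (w1_nrm hτ).conj_mem _ (mem_map_of_mem τ (w1_le hx)) h
  refine ⟨y, mem_sInf.2 fun W hW => ?_, hy⟩
  obtain ⟨z, hz, hz'⟩ := (hW.2 G τ hτ).conj_mem _ (mem_map_of_mem τ (mem_sInf.1 hx W hW)) h
  rwa [← hτ.inj (hz'.trans hy.symm)]

theorem Emb.w1_comp {S' G : Type u} [Group S'] [Group G] {τ : S →* G} (hτ : Emb τ) (η : S' ≃* S) :
    Emb (τ.comp η.toMonoidHom) := by
  have hi : Function.Injective (τ.comp η.toMonoidHom) := hτ.inj.comp η.injective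
  have hr : (τ.comp η.toMonoidHom).range = τ.range := by
    rw [MonoidHom.range_comp, MonoidHom.range_eq_top.2 η.surjective, ← MonoidHom.range_eq_map]
  refine ⟨hi, hr ▸ hτ.syl, hτ.s3, ?_⟩
  rw [map_thompsonSubgroup hi, hr, ← map_thompsonSubgroup hτ.inj]
  exact hτ.nJ

theorem w1_map_le {S' : Type u} [Group S'] (η : S ≃* S') : (WS S).map η.toMonoidHom ≤ WS S' := by
  refine le_sInf fun W' hW' => ?_
  rw [map_le_iff_le_comap, comap_equiv_eq_map_symm']
  refine WS_le ?_ fun H _ _ τ hτ => ?_
  · have := map_omega_center (p := 2) (f := η.symm.toMonoidHom) η.symm.injective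
    rw [MonoidHom.range_eq_top.2 η.symm.surjective, top_inf_centralizer_top] at this
    rw [← this]
    exact map_mono hW'.1
  · rw [map_map]
    exact hW'.2 H _ (hτ.w1_comp η.symm)

theorem map_WS {S' : Type u} [Group S'] (η : S ≃* S') : (WS S).map η.toMonoidHom = WS S' :=
  le_antisymm (w1_map_le η) fun x hx => ⟨η.symm x, w1_map_le η.symm (mem_map_of_mem _ hx), by simp⟩
instance WS_char (S : Type u) [Group S] : (WS S).Characteristic :=
  characteristic_iff_map_eq.2 fun e => map_WS e
theorem sq_WS [Finite S] : Sq (WS S) := fun a ha => by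
  rw [← pow_two]
  exact (ea_omega_center (p := 2) (thompsonSubgroup 2 S)).2 a (w1_le ha)
theorem WS_ne_bot [Finite S] (hS : IsPGroup 2 S) [Nontrivial S] : WS S ≠ ⊥ := fun hb => by
  refine omega_center_ne_bot (p := 2) (H := (⊤ : Subgroup S)) (hS.to_subgroup ⊤) top_ne_bot ?_
  rw [top_inf_centralizer_top]
  exact eq_bot_iff.2 (hb ▸ om_le_WS)
theorem normal_of_two [Finite S] (h : TwoF (WS S) ⊤) {G : Type u} [Group G] [Finite G]
    {τ : S →* G} (hi : Function.Injective τ) (hs : SylIn 2 τ.range ⊤) (h3 : S3F G)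
    (hc : centralizer (pCore 2 G : Set G) ≤ pCore 2 G) : ((WS S).map τ).Normal := by
  have hle := (map_mono (f := τ) (w1_le (S := S))).trans
    ((map_omegaCenterThompson hi).le.trans (omega_le _))
  refine lemA3 h3.ks hc (S := τ.range) ⟨hs, ?_, hle.trans inf_le_left,
    le_centralizer_iff.1 (hle.trans inf_le_right), ?_, ?_⟩
  · rintro _ ⟨y, hy, rfl⟩
    rw [← map_mul, sq_WS y hy, map_one]
  · set M := normalizer (thompsonSubgroupOf 2 τ.range : Set G) with hM
    have hSM : τ.range ≤ M := le_normalizer_J _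
    let σ : S →* M := τ.codRestrict M fun x => hSM ⟨x, rfl⟩
    have e : M.subtype.comp σ = τ := rfl
    have hτ : Emb σ := by
      refine ⟨fun a b k => hi (congrArg Subtype.val k), ?_, h3.sub M, ?_⟩
      · have : σ.range = τ.range.subgroupOf M := by
          apply map_injective M.subtype_injective
          rw [MonoidHom.map_range, e, subgroupOf_map_subtype, inf_eq_left.2 hSM]
        rw [this]
        exact sylIn_subgroupOf (hs.mono hSM le_top)
      · have : (thompsonSubgroup 2 S).map σ = (thompsonSubgroupOf 2 τ.range).subgroupOf M := by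
          apply map_injective M.subtype_injective
          rw [map_map, e, subgroupOf_map_subtype, inf_eq_left.2 le_normalizer, map_thompsonSubgroup hi]
        rw [this]
        exact normal_in_normalizer
    haveI := normal_map_WS hτ
    have := H13.le_normalizer_map_subtype ((WS S).map σ)
    rwa [map_map] at this
  · rw [MonoidHom.range_eq_map]
    exact (twoF_map_iff (inf_ker_eq_bot_of_injective hi _) le_top).2 h
theorem yd_of_two {X : Type u} [Group X] [Finite X] {T : Subgroup X} (h : TwoF (WS T) ⊤) :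
    YD T (WT T) := by
  refine ⟨map_subtype_le _, ?_, fun z hz hc h2 => ?_, H13.le_normalizer_map_subtype _, ?_,
    fun P hP hc => ?_⟩
  · rintro _ ⟨y, hy, rfl⟩
    rw [← map_mul, sq_WS y hy, map_one]
  · exact ⟨⟨z, hz⟩, om_le_WS (mem_omega (mem_center_iff.2 fun g => Subtype.ext (hc g g.2))
      (Subtype.ext ((pow_two z).trans h2))), rfl⟩
  · have := (twoF_map_iff (inf_ker_eq_bot_of_injective T.subtype_injective _) le_top).2 h
    rwa [H23.map_subtype_top] at this
  set f := QuotientGroup.mk' (pPrimeCore 2 P) with hf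
  have hs : Function.Surjective f := QuotientGroup.mk'_surjective _
  have hk : (Nat.card f.ker).Coprime 2 := by
    rw [QuotientGroup.ker_mk']; exact H2.pPrimeCore_coprime 2 P
  have hb := H13.inf_eq_bot_of_isPGroup_of_coprime hP.syl.toSylow.2 hk
  let τ : T →* P ⧸ pPrimeCore 2 P := f.comp (inclusion hP.syl.le)
  have hi : Function.Injective τ := fun a b e => inclusion_injective hP.syl.le
    (eq_of_map_eq_of_inf_ker hb (by exact a.2) (by exact b.2) e)
  have hr : τ.range = (hP.syl.toSylow.mapSurjective hs : Subgroup _) := by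
    rw [Sylow.coe_mapSurjective, MonoidHom.range_comp, inclusion_range]; rfl
  have hO : (pCore 2 P).map f ≤ pCore 2 (P ⧸ pPrimeCore 2 P) :=
    H2.le_pCore (Normal.map inferInstance f hs) ((H2.pCore_isPGroup 2 P).map f)
  haveI := normal_of_two h hi (hr ▸ H22.sylIn_top _) (hP.s3.quo _)
    (H13.centralizer_pCore_le_of_sylow (H2.pPrimeCore_quotient_pPrimeCore 2 P)
      (hP.syl.toSylow.mapSurjective hs) (by
        rintro _ ⟨⟨t, ht, rfl⟩, k⟩
        obtain ⟨a, ha, e⟩ := hc (show (t : X) ∈ T ⊓ centralizer (H23.op 2 P : Set X) from ⟨ht, by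
          rintro _ ⟨a, ha, rfl⟩
          have aT := H2.pCore_le_sylow hP.syl.toSylow ha
          exact congrArg Subtype.val (eq_of_map_eq_of_inf_ker hb (mul_mem aT ht) (mul_mem ht aT) (by
            rw [map_mul, map_mul]; exact k _ (hO ⟨a, ha, rfl⟩)))⟩)
        exact hO ⟨t, Subtype.ext e ▸ ha, rfl⟩))
  have := H13.le_normalizer_map_subtype (((WS T).map τ).comap f)
  rwa [← map_map, comap_map_eq, Subgroup.map_sup, map_map, QuotientGroup.ker_mk'] at this
end SFW1


end H20.SF
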