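import Mathlib
import Cfsg.Agent.H20.SF0
import Cfsg.Agent.H20.SFW1
import Cfsg.Agent.H20.SFK

set_option autoImplicit false
set_option linter.unusedVariables false
set_option linter.unusedSectionVars false
set_option linter.style.haveILetI false

namespace H20.SF

open Cfsg Subgroup H12
open H22 (cj SylIn)

universe u

/-! ### SFW2 -/
theorem sfw_syl {G H : Type*} [Group G] [Finite G] [Group H] [Finite H] {Q : Subgroup G}
    (h : SylIn 2 Q ⊤) (f : G →* H) : SylIn 2 (Q.map f) f.range := by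
  obtain ⟨P, rfl⟩ := h.exists_sylow
  have := H22.sylIn_map_subtype (P.mapSurjective f.rangeRestrict_surjective)
  rwa [Sylow.coe_mapSurjective, map_map] at this

theorem sfw_act {S G : Type u} [Group S] [Finite S] [Group G] [Finite G] {τ : S →* G}
    (hτ : Emb τ) : ∃ ψ : G →* MulAut (WS S), ∀ g w, τ (ψ g w) = g * τ w * g⁻¹ := by
  haveI := normal_map_WS hτ
  let e := (WS S).equivMapOfInjective τ hτ.inj
  refine ⟨(MulAut.congr e).symm.toMonoidHom.comp MulAut.conjNormal, fun g w => ?_⟩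
  have h1 : ∀ v : (WS S).map τ, τ (e.symm v) = v := fun v => by
    conv_rhs => rw [← e.apply_symm_apply v]
    rfl
  exact h1 _

theorem sfw_G {S : Type u} [Group S] [Finite S] (hS : IsPGroup 2 S)
    (ih : TwoF (WS (MulAut.conjNormal : S →* MulAut (WS S)).range) ⊤)
    {V : Type u} [Group V] [Finite V] {φ : MulAut (WS S) →* MulAut V} (hV : ∀ v : V, v * v = 1)
    (hφ : Function.Injective φ) {E : Subgroup S} (hE : ∀ e ∈ E, e * e ∈ centralizer (WS S : Set S)) :
    (centralizer (WS S : Set S)).relIndex E ^ 2 ≤ (fx φ (E.map MulAut.conjNormal)).index := by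
  set c : S →* MulAut (WS S) := MulAut.conjNormal with hc
  have hk : c.ker = centralizer (WS S : Set S) := by
    ext s
    rw [MonoidHom.mem_ker, mem_centralizer_iff, MulEquiv.ext_iff]
    exact ⟨fun h v hv => (mul_inv_eq_iff_eq_mul.1 (congrArg Subtype.val (h ⟨v, hv⟩))).symm,
      fun h v => Subtype.ext (mul_inv_eq_iff_eq_mul.2 (h v v.2).symm)⟩
  rw [← hk, relIndex_ker]
  refine claimG hV hφ (hS.of_surjective _ c.rangeRestrict_surjective) (yd_of_two ih)
    (PP := {P | ∃ (G : Type u) (_ : Group G) (_ : Finite G) (τ : S →* G) (ψ : G →* MulAut (WS S)),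
      Emb τ ∧ (∀ g w, τ (ψ g w) = g * τ w * g⁻¹) ∧ P = ψ.range}) ?_ (fun R r1 _ r3 => ?_)
    (map_le_range c E) ?_
  · rintro _ ⟨G, _, _, τ, ψ, hτ, hψ, rfl⟩
    have e : ψ.comp τ = c := MonoidHom.ext fun s => MulEquiv.ext fun w => Subtype.ext (hτ.inj (by
      rw [MonoidHom.comp_apply, hψ, ← map_inv, ← map_mul, ← map_mul]; rfl))
    refine ⟨?_, hτ.s3.of_surj ψ.rangeRestrict_surjective⟩
    rw [← e, MonoidHom.range_comp]
    exact sfw_syl hτ.syl ψ
  · have key : WS S ≤ (fx (MonoidHom.id _) R).map (WS S).subtype := by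
      refine WS_le (fun z hz => ⟨⟨z, om_le_WS hz⟩, fun r hr => ?_, rfl⟩) fun G _ _ τ hτ => ⟨?_⟩
      · obtain ⟨s, rfl⟩ := r1 hr
        exact Subtype.ext (mul_inv_eq_iff_eq_mul.2 (mem_center_iff.1 (omega_le _ hz) s))
      · rintro _ ⟨_, ⟨w, hw, rfl⟩, rfl⟩ g
        obtain ⟨ψ, hψ⟩ := sfw_act hτ
        refine ⟨_, ⟨ψ g w, fun r hr => ?_, rfl⟩, hψ g w⟩
        have h1 := hw _ (H22.conj_mem_of_mem_normalizer'
          (r3 _ ⟨G, inferInstance, inferInstance, τ, ψ, hτ, hψ, rfl⟩ ⟨g, rfl⟩) hr)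
        have h2 := congrArg (ψ g) h1
        simpa using h2
    refine eq_bot_iff.2 fun r hr => mem_bot.2 (MulEquiv.ext fun w => ?_)
    obtain ⟨v, hv, e⟩ := key w.2
    obtain rfl : v = w := Subtype.ext e
    exact hv r hr
  · rintro _ ⟨e, he, rfl⟩
    rw [← map_mul, ← MonoidHom.mem_ker, hk]
    exact hE e he

theorem sfw_dual {W : Type u} [CommGroup W] [Finite W] (hV : ∀ v : W, v * v = 1)
    {A : Subgroup (MulAut W)} {k : ℕ}
    (h : ∀ (V : Type u) [Group V] [Finite V] (φ : MulAut W →* MulAut V), (∀ v : V, v * v = 1) →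
      Function.Injective φ → k ≤ (fx φ A).index) {U : Subgroup W}
    (hU : ∀ a ∈ A, ∀ v, a v * v⁻¹ ∈ U) : k ≤ Nat.card U := by
  have h3 := CommGroup.card_monoidHom_of_hasEnoughRootsOfUnity W ℂ
  haveI : Finite (W →* ℂˣ) := Nat.finite_of_card_ne_zero (h3 ▸ Nat.card_pos.ne')
  have h1 := index_fx_dualAct_le (MonoidHom.id (MulAut W)) (A := A) (W := U) hU
  have h2 : ∀ χ : W →* ℂˣ, χ * χ = 1 := fun χ => MonoidHom.ext fun v => by
    rw [MonoidHom.mul_apply, ← map_mul, hV, map_one, MonoidHom.one_apply]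
  have h4 : Function.Injective (dualAct (MonoidHom.id (MulAut W))) :=
    (injective_iff_map_eq_one _).2 fun x hx => (dualAct_eq_one_iff (MonoidHom.id (MulAut W)) x).2 hx
  exact (h _ _ h2 h4).trans h1

theorem two_WS (S : Type u) [Group S] [Finite S] (hS : IsPGroup 2 S) : TwoF (WS S) ⊤ := by
  induction hn : Nat.card S using Nat.strong_induction_on generalizing S with | _ n ih => ?_
  rcases subsingleton_or_nontrivial S with hs | hs
  · intro E _ _
    have : centralizer (WS S : Set S) = ⊤ := Subsingleton.elim _ _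
    rw [this, relIndex_top_left, one_pow]
    exact ⟨relIndex_pos' _ _, Nat.card_pos⟩
  let c : S →* MulAut (WS S) := MulAut.conjNormal
  have h2 : Sq (WS S) := sq_WS
  have hlt : Nat.card c.range < n := by
    rw [← hn, ← index_ker, ← c.ker.card_mul_index]
    have h1 : WS S ≤ c.ker := fun w hw => MulEquiv.ext fun v =>
      Subtype.ext (mul_inv_eq_iff_eq_mul.2 (h2.comm hw v.2))
    have h3 := (one_lt_card_iff_ne_bot c.ker).2 fun h => WS_ne_bot hS (le_bot_iff.1 (h ▸ h1))
    have h4 : 0 < c.ker.index := Nat.pos_of_ne_zero index_ne_zero_of_finite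
    nlinarith
  have h0 := ih _ hlt c.range (hS.of_surjective _ c.rangeRestrict_surjective) rfl
  have hV : ∀ v : WS S, v * v = 1 := fun v => Subtype.ext (h2 v v.2)
  intro E _ hE
  refine ⟨(sfw_G hS h0 (φ := MonoidHom.id _) hV (fun _ _ h => h) hE).trans_eq ?_, ?_⟩
  · unfold relIndex
    congr 1
    ext v
    rw [mem_fx, mem_subgroupOf, mem_centralizer_iff]
    constructor
    · intro h a ha
      exact mul_inv_eq_iff_eq_mul.1 (congrArg Subtype.val (h _ ⟨a, ha, rfl⟩))
    · rintro h _ ⟨a, ha, rfl⟩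
      exact Subtype.ext (mul_inv_eq_iff_eq_mul.2 (h a ha))
  letI : CommGroup (WS S) := { (inferInstance : Group (WS S)) with
    mul_comm := fun a b => Subtype.ext (h2.comm a.2 b.2) }
  refine (sfw_dual (W := WS S) hV (fun V _ _ φ h1 h3 => sfw_G hS h0 h1 h3 hE)
    (U := (⁅WS S, E⁆ : Subgroup S).subgroupOf (WS S)) ?_).trans_eq
      (H2.card_subgroupOf_of_le (commutator_le_left _ _))
  rintro _ ⟨a, ha, rfl⟩ v
  exact comm_mem_commutator v.2 ha

end H20.SF
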